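import Mathlib
import Cfsg.Agent.L3S.Model
import Cfsg.Agent.L3S.Mat
import Cfsg.Agent.P4.Pre
import Cfsg.Agent.L4.MB
import Cfsg.Agent.L4A.Model
import Cfsg.Prelude.Def_CaseTheorems
import Cfsg.Prelude.Def_TwoFusion

/-!
A standard subgroup `L = lam.range ≅ SL₃(3)` inside a simple normal subgroup `X` of `G = X ⟨t⟩`.
See `stubs/Cfsg/Agent/L3S/PLAN.md`.
-/

set_option autoImplicit false

namespace Cfsg.Agent.L3S

open Cfsg.Agent.L33 Cfsg.Agent.P4 Cfsg.Agent.Loc.Mss Cfsg.Agent.GW Subgroup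

variable {G Y : Type*} [Group G] [Group Y]

/-- The standing hypothesis. -/
structure Std (X : Subgroup G) (t : G) (lam : SL3 →* G) : Prop where
  nor : X.Normal
  simple : IsSimpleGroup X
  top : ∀ g, g ∈ X ∨ g * t ∈ X
  inj : Function.Injective lam
  le : ∀ g, lam g ∈ X
  ne : lam.range ≠ X
  t2 : orderOf t = 2
  cen : ∀ g, Commute t (lam g)
  nrm : Cen t ≤ 𝐍[lam.range]
  cyc : ∀ P : Subgroup G, P ≤ Cen t → P ≤ 𝐂[lam.range] → IsPGroup 2 P → IsCyclic P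

/-- The frame: `C(t) = L O(C(t)) ⟨t, f⟩`, and `f = 1` or `f` induces the inverse transpose. -/
structure Frm (κ : Bool) (X : Subgroup G) (t : G) (lam : SL3 →* G) (f : G) : Prop extends Std X t lam where
  cfg : Cfg κ t (lam frmA) (lam frmD) f (lam frmS) (lam frmR) (lam.range ⊔ UU t)
  act : κ = true → ∀ g, f * lam g * f⁻¹ = lam (Cl.slInvTranspose (Fin 3) F3 g)
  core : ∀ o ∈ UU t, ∀ g, Commute o (lam g)
  str : ∀ x ∈ Cen t, ∃ g, ∃ o ∈ UU t, x = lam g * o ∨ x = lam g * o * t ∨ x = lam g * o * f ∨ x = lam g * o * (t * f)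
  sol : Group.IsSolvable (Cen t ⊓ Cen (lam frmZ) : Subgroup G)

/-- A Sylow `2`-subgroup of `G` is of type `PGSp₆(3)`, with the letters in standard position. -/
structure Six (X : Subgroup G) (t : G) (lam : SL3 →* G) (ι : M6 →* G) : Prop where
  frm : Frm true X t lam (ι M6.f)
  sy : Sy ι ⊤ ⊤
  mem : ∀ g, ι g ∈ X ↔ g ∈ M6.SX
  ht : ι M6.t = t
  ha : ι M6.a = lam frmA
  hd : ι M6.d = lam frmD

/-- The possible Sylow `2`-subgroups. -/
def Out (X : Subgroup G) (t : G) (lam : SL3 →* G) : Prop :=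
  (∃ S : Sylow 2 X, IsWreathed (S : Subgroup X)) ∨
  (∃ ι : L4A.DW 0 →* X, Sy ι ⊤ ⊤ ∧ (ι (L4A.DW.z 0) : G) = lam frmZ) ∨
  (∃ ι : L4.MB 0 →* X, Sy ι ⊤ ⊤ ∧ (ι (L4.MB.z 0) : G) = lam frmZ) ∨
  (∃ (S : Sylow 2 X) (S₁ S₂ : Subgroup X), IsInternalDirectProduct S₁ S₂ S ∧ IsQuasiDihedral S₁ ∧ IsQuasiDihedral S₂) ∨
  ∃ ι, Six X t lam ι

/-- The conclusion. -/
def Res (X : Type*) [Group X] : Prop :=
  (∃ (K : Type) (_ : Field K) (_ : Fintype K), Fintype.card K = 9 ∧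
    Nonempty (X ≃* Matrix.ProjectiveSpecialLinearGroup (Fin 3) K)) ∨
  Nonempty (X ≃* Matrix.ProjectiveSpecialLinearGroup (Fin 4) F3) ∨ Nonempty (X ≃* PSp 3 F3)

/-- The image `D` in `Y = C(z) / O(C(z))` of the perfect part of the centraliser of `Q₁`. -/
structure Dq (X : Subgroup G) (ι : M6 →* G) (π : G → Y) (D : Subgroup Y) : Prop where
  quo : Quo (ι M6.z) π
  nor : D.Normal
  perf : ⁅D, D⁆ = D
  mem : ∀ g, π (ι g) ∈ D ↔ g ∈ M6.T
  inX : ∀ y ∈ D, ∃ g ∈ X, Commute g (ι M6.z) ∧ π g = y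
  cen : ∀ y ∈ D, ∀ g ∈ M6.Q1, Commute y (π (ι g))

/-- `C_X(z) / O(C(z)) = Sp₄(3) ∘ SL₂(3)`, with `C_L(z)` and `t` in standard position. -/
structure Cz6 (X : Subgroup G) (t : G) (lam : SL3 →* G) (π : G → Y) (ψ : Sp4 →* Y) (χ : SL2 →* Y) : Prop where
  quo : Quo (lam frmZ) π
  ψi : Function.Injective ψ
  χi : Function.Injective χ
  cm : ∀ a b, Commute (ψ a) (χ b)
  χz : χ (-1) = π (lam frmZ)
  cov : ∀ g ∈ X, Commute g (lam frmZ) → ∃ a b, π g = ψ a * χ b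
  inX : ∀ a b, ∃ g ∈ X, Commute g (lam frmZ) ∧ π g = ψ a * χ b
  lv : ∀ g, π (lam (blk g)) = ψ (lev g)
  tψ : ∀ a, π t * ψ a * (π t)⁻¹ = ψ (tau a)
  tχ : ∀ b, ∃ b', π t * χ b * (π t)⁻¹ = χ b'

namespace Six

variable {X : Subgroup G} {t : G} {lam : SL3 →* G} {ι : M6 →* G} (h : Six X t lam ι)
include h

theorem hz : ι M6.z = lam frmZ := by
  rw [← M6.letters.2.2.1, map_pow, h.ha, ← map_pow, frmA_pow_four]

/-- `ι SX` is a Sylow subgroup of `C_X(z)`. -/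
theorem syH [Finite G] : Sy ι M6.SX (X ⊓ Cen (ι M6.z)) := by
  have := h.frm.nor
  have h1 : Sy ι M6.SX X := h.sy.sub le_top le_top (by simp [normalizer_eq_top]) fun a _ => h.mem a
  exact ⟨h1.inj, h1.syl.mono (le_inf h1.syl.le (by
    rintro _ ⟨g, -, rfl⟩
    exact mem_Cen.2 (Commute.map (M6.z_comm g).symm ι))) inf_le_left⟩

end Six

end Cfsg.Agent.L3S
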