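import Mathlib
import Cfsg.Agent.L3S.Defs

/-!
More definitions for the standard subgroup `SL₃(3)`.
-/

set_option autoImplicit false

namespace Cfsg.Agent.L3S

open Cfsg.Agent.L33 Cfsg.Agent.P4 Cfsg.Agent.Loc.Mss Cfsg.Agent.GW Subgroup

variable {G Y : Type*} [Group G] [Group Y]

/-- The inverse transpose. -/
abbrev fA : MulAut SL3 := Cl.slInvTranspose (Fin 3) F3

/-- The automorphism `α` of `Y = X` induced by `t`. -/
structure Au (α : MulAut Y) (lam : SL3 →* Y) : Prop where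
  sq : α * α = 1
  inj : Function.Injective lam
  ns : lam.range ≠ ⊤
  fix : ∀ g, α (lam g) = lam g
  sol : ∀ K : Subgroup Y, (∀ g ∈ K, α g = g) → K ≤ Cen (lam frmZ) → Group.IsSolvable K

/-- `Cz6`, and `t` fixes no element of order three of `SL₂(3)`. -/
structure Cz7 (X : Subgroup G) (t : G) (lam : SL3 →* G) (π : G → Y) (ψ : Sp4 →* Y) (χ : SL2 →* Y) : Prop
    extends Cz6 X t lam π ψ χ where
  t3 : ∀ b, Odd (orderOf b) → Commute (π t) (χ b) → b = 1

/-- `Dq`, and a `5`-element of `D` which normalises `W` and moves `z₂`. -/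
structure Dr (X : Subgroup G) (ι : M6 →* G) (π : G → Y) (D : Subgroup Y) (k : G) : Prop extends Dq X ι π D where
  kX : k ∈ X
  kz : Commute k (ι M6.z)
  kD : π k ∈ D
  kW : k ∈ 𝐍[M6.W.map ι]
  k5 : ∃ n : ℕ, k ^ 5 ^ n = 1
  kU : k * ι M6.z2 * k⁻¹ ∉ M6.U.map ι

end Cfsg.Agent.L3S
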