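import Mathlib
import Cfsg.Agent.L3S.Defs2
import Cfsg.Agent.L2S.IdM

/-! Facts on `SL₃(3)` and its automorphism group. -/

set_option autoImplicit false

namespace Cfsg.Agent.L3S

open Cfsg.Agent.L33 Cfsg.Agent.P4 Cfsg.Agent.Loc.Mss Cfsg.Agent.GW Subgroup
open scoped MatrixGroups commutatorElement

variable {G Y : Type*} [Group G] [Finite G] [Group Y] {X : Subgroup G} {t : G} {lam : SL3 →* G} {ι : M6 →* G}

omit [Finite G]

namespace BM1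

/-- The centre is trivial. -/
noncomputable def eL : SL3 ≃* L3 :=
  MulEquiv.ofBijective (QuotientGroup.mk' (center SL3))
    ⟨by rw [← MonoidHom.ker_eq_bot_iff, QuotientGroup.ker_mk']; exact frm_center,
      QuotientGroup.mk'_surjective _⟩

/-- Square roots of the symmetric matrices of determinant one, in base three. -/
def tab : List ℕ := [
  0, 0, 0, 0, 0, 0, 0, 0, 0, 0, 0, 0, 0, 0, 0, 0, 0, 0, 0, 0, 0, 0, 0, 0, 0, 0, 0, 0, 0, 0, 0, 0, 0, 0, 0, 0, 0,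
  0, 0, 0, 0, 0, 0, 0, 0, 0, 0, 0, 0, 0, 0, 0, 0, 0, 0, 0, 0, 0, 0, 0, 0, 0, 0, 9634, 9621, 9620, 9628, 9615,
  9632, 9626, 9613, 9636, 9683, 9684, 9670, 9689, 9672, 9676, 9691, 9668, 9678, 0, 0, 9876, 0, 0, 9862, 0, 0,
  9866, 0, 0, 9863, 0, 9864, 0, 9877, 0, 0, 0, 0, 9865, 9878, 0, 0, 0, 9861, 0, 0, 0, 9525, 0, 0, 9511, 0, 0,
  9515, 0, 9513, 0, 9526, 0, 0, 0, 0, 9512, 0, 9510, 0, 0, 0, 9514, 9527, 0, 0, 0, 0, 9700, 0, 0, 9704, 0, 0,
  9714, 9709, 0, 0, 0, 0, 9713, 0, 9696, 0, 9718, 0, 0, 0, 9695, 0, 0, 0, 9705, 0, 0, 9941, 0, 0, 9955, 0, 0,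
  9951, 0, 0, 9960, 9950, 0, 0, 0, 9937, 0, 0, 0, 9946, 0, 9942, 0, 9959, 0, 0, 0, 0, 9546, 0, 0, 9536, 0, 0,
  9550, 0, 9534, 0, 0, 0, 9551, 9547, 0, 0, 0, 9549, 0, 9548, 0, 0, 0, 0, 9535, 0, 0, 9590, 0, 0, 9604, 0, 0,
  9600, 9599, 0, 0, 0, 9586, 0, 0, 0, 9609, 9608, 0, 0, 0, 0, 9595, 0, 9591, 0, 0, 0, 0, 0, 0, 0, 0, 0, 0, 0, 0,
  0, 0, 0, 0, 0, 0, 0, 0, 0, 0, 0, 0, 0, 0, 0, 0, 0, 828, 0, 0, 0, 831, 0, 0, 834, 0, 0, 829, 832, 0, 0, 835, 0,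
  0, 0, 0, 830, 833, 0, 0, 836, 0, 0, 0, 0, 1068, 0, 1056, 0, 0, 1071, 0, 1069, 0, 0, 0, 0, 1057, 0, 0, 1072,
  1070, 0, 0, 0, 0, 1058, 0, 0, 1073, 0, 0, 1095, 0, 1083, 0, 0, 1098, 0, 0, 0, 1099, 1096, 0, 0, 0, 0, 1084, 0,
  0, 1085, 0, 0, 1100, 1097, 0, 0, 0, 0, 0, 0, 0, 0, 0, 0, 0, 0, 0, 0, 0, 0, 0, 0, 0, 0, 0, 0, 0, 0, 0, 0, 0, 0,
  0, 0, 855, 0, 0, 0, 858, 0, 0, 861, 862, 0, 0, 0, 0, 856, 859, 0, 0, 860, 0, 0, 863, 0, 0, 0, 0, 857, 0, 0,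
  1122, 0, 1110, 0, 0, 1125, 0, 0, 0, 1111, 0, 0, 1126, 1123, 0, 0, 0, 0, 1127, 1124, 0, 0, 0, 0, 1112, 0, 0, 0,
  0, 0, 0, 0, 0, 0, 0, 0, 0, 0, 0, 0, 0, 0, 0, 0, 0, 0, 0, 0, 0, 0, 0, 0, 0, 882, 0, 0, 0, 885, 0, 0, 888, 886,
  0, 0, 889, 0, 0, 0, 0, 883, 890, 0, 0, 0, 0, 884, 887, 0, 0, 0, 0, 0, 3317, 3303, 3301, 3362, 3366, 3355, 0,
  0, 0, 3311, 3297, 3313, 3374, 3351, 3358, 0, 0, 0, 3307, 3296, 3318, 3370, 3350, 3363, 0, 0, 3166, 3175, 0, 0,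
  3184, 0, 0, 0, 3162, 0, 0, 0, 3171, 0, 0, 3180, 0, 3161, 0, 0, 0, 3170, 0, 0, 3179, 0, 3060, 0, 3067, 0, 0,
  3065, 0, 0, 3068, 0, 0, 0, 0, 3063, 0, 0, 3061, 3064, 0, 0, 0, 0, 3062, 0, 0, 3066, 0, 0, 3382, 3391, 0, 0,
  3400, 0, 0, 0, 0, 3387, 0, 0, 3396, 0, 3378, 0, 0, 0, 3395, 0, 3377, 0, 0, 0, 3386, 0, 2952, 0, 2959, 0, 0,
  2957, 0, 0, 0, 0, 2955, 0, 0, 2953, 2960, 0, 0, 0, 0, 2958, 2956, 0, 0, 0, 0, 2954, 0, 0, 0, 3209, 3195, 3193,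
  3254, 3258, 3247, 3203, 3189, 3205, 3266, 3243, 3250, 0, 0, 0, 3262, 3242, 3255, 0, 0, 0, 3199, 3188, 3210, 0,
  0, 3274, 3283, 0, 0, 3292, 0, 0, 0, 0, 3288, 0, 3270, 0, 0, 0, 3279, 0, 0, 3278, 0, 0, 3287, 0, 3269, 0, 0,
  2988, 0, 2993, 0, 0, 2995, 0, 0, 0, 0, 2991, 2996, 0, 0, 0, 0, 2989, 0, 0, 2994, 0, 0, 2990, 2992, 0, 0, 0, 0,
  0, 3344, 3330, 3328, 3227, 3231, 3220, 3239, 3216, 3223, 0, 0, 0, 3338, 3324, 3340, 3334, 3323, 3345, 3235,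
  3215, 3228, 0, 0, 0]

/-- Decoding. -/
def dec (n : ℕ) : Matrix (Fin 3) (Fin 3) F3 :=
  !![(n : F3), (n / 3 : ℕ), (n / 9 : ℕ); (n / 27 : ℕ), (n / 81 : ℕ), (n / 243 : ℕ);
    (n / 729 : ℕ), (n / 2187 : ℕ), (n / 6561 : ℕ)]

/-- The square root. -/
def rt (a b c d e f : F3) : Matrix (Fin 3) (Fin 3) F3 :=
  dec (tab.getD (a.val + 3 * b.val + 9 * c.val + 27 * d.val + 81 * e.val + 243 * f.val) 0)

/-- The determinant. -/
def dt (m : Matrix (Fin 3) (Fin 3) F3) : F3 :=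
  m 0 0 * m 1 1 * m 2 2 - m 0 0 * m 1 2 * m 2 1 - m 0 1 * m 1 0 * m 2 2 + m 0 1 * m 1 2 * m 2 0 +
    m 0 2 * m 1 0 * m 2 1 - m 0 2 * m 1 1 * m 2 0

theorem rt_spec : ∀ a b c d e f : F3, dt !![a, b, c; b, d, e; c, e, f] = 1 →
    dt (rt a b c d e f) = 1 ∧
      rt a b c d e f * (rt a b c d e f).transpose = !![a, b, c; b, d, e; c, e, f] := by
  decide +kernel

theorem exists_rt (g : SL3) (h : g.1.transpose = g.1) : ∃ m : SL3, m.1 * m.1.transpose = g.1 := by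
  have e : !![g.1 0 0, g.1 0 1, g.1 0 2; g.1 0 1, g.1 1 1, g.1 1 2; g.1 0 2, g.1 1 2, g.1 2 2] = g.1 := by
    have h1 := congrFun (congrFun h 1) 0
    have h2 := congrFun (congrFun h 2) 0
    have h3 := congrFun (congrFun h 2) 1
    rw [Matrix.transpose_apply] at h1 h2 h3
    ext i j; fin_cases i <;> fin_cases j <;> simp [h1, h2, h3]
  have := rt_spec (g.1 0 0) (g.1 0 1) (g.1 0 2) (g.1 1 1) (g.1 1 2) (g.1 2 2)
    (by rw [e]; exact (Matrix.det_fin_three _).symm.trans g.2)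
  rw [e] at this
  exact ⟨⟨_, (Matrix.det_fin_three _).trans this.1⟩, this.2⟩

theorem tv : ∀ (i j : Fin 3) (c : F3), i ≠ j →
    frmZ.1 * Matrix.transvection i j c = Matrix.transvection i j c * frmZ.1 ∨
    frmZ.1 * (frmR.1 * Matrix.transvection i j c * (frmR.1 * frmR.1)) =
      (frmR.1 * Matrix.transvection i j c * (frmR.1 * frmR.1)) * frmZ.1 ∨
    frmZ.1 * (frmR.1 * frmR.1 * Matrix.transvection i j c * frmR.1) =
      (frmR.1 * frmR.1 * Matrix.transvection i j c * frmR.1) * frmZ.1 := by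
  decide +kernel

theorem tr_conj (g x : SL3) : (g * x * g⁻¹).1.trace = x.1.trace := by
  rw [Matrix.SpecialLinearGroup.coe_mul, Matrix.SpecialLinearGroup.coe_mul, Matrix.trace_mul_cycle,
    ← Matrix.SpecialLinearGroup.coe_mul, inv_mul_cancel, Matrix.SpecialLinearGroup.coe_one,
    Matrix.one_mul]

theorem coe_fA_inv (g : SL3) : (fA g⁻¹).1 = g.1.transpose := by
  rw [Cl.coe_slInvTranspose, inv_inv]

theorem fA_sq : fA * fA = 1 := by
  ext1 g; exact Cl.slInvTranspose_slInvTranspose g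

theorem fA_conj (g : SL3) : fA * MulAut.conj g = MulAut.conj (fA g) * fA := by
  rw [← frm_conj, inv_mul_cancel_right]

end BM1

open BM1

theorem card_SL3 : Nat.card SL3 = 5616 := (Nat.card_congr eL.toEquiv).trans model.1

theorem simple_SL3 : IsSimpleGroup SL3 :=
  haveI := model.2.2.1
  eL.isSimpleGroup

theorem blk_inj : Function.Injective blk := fun g h e => by
  have e' : blkM g.1 g.1.det = blkM h.1 h.1.det := congrArg Subtype.val e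
  have e1 := congrFun (congrFun e' 0) 0
  have e2 := congrFun (congrFun e' 0) 1
  have e3 := congrFun (congrFun e' 1) 0
  have e4 := congrFun (congrFun e' 1) 1
  simp [blkM] at e1 e2 e3 e4
  ext i j; fin_cases i <;> fin_cases j <;> simpa

theorem cen_z : Cen frmZ = blk.range := by
  ext x
  rw [mem_Cen]
  refine ⟨fun h => ?_, ?_⟩
  · have e : frmZ.1 * x.1 = x.1 * frmZ.1 := congrArg Subtype.val h.eq
    have k1 : ∀ u : F3, 2 * u = u → u = 0 := by decide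
    have k2 : ∀ u : F3, u = u * 2 → u = 0 := by decide
    have e1 : x.1 0 2 = 0 := k1 _ (by
      simpa [frmZ, Matrix.mul_apply, Fin.sum_univ_succ] using congrFun (congrFun e 0) 2)
    have e2 : x.1 1 2 = 0 := k1 _ (by
      simpa [frmZ, Matrix.mul_apply, Fin.sum_univ_succ] using congrFun (congrFun e 1) 2)
    have e3 : x.1 2 0 = 0 := k2 _ (by
      simpa [frmZ, Matrix.mul_apply, Fin.sum_univ_succ] using congrFun (congrFun e 2) 0)
    have e4 : x.1 2 1 = 0 := k2 _ (by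
      simpa [frmZ, Matrix.mul_apply, Fin.sum_univ_succ] using congrFun (congrFun e 2) 1)
    have e5 : (!![x.1 0 0, x.1 0 1; x.1 1 0, x.1 1 1] : Matrix (Fin 2) (Fin 2) F3).det * x.1 2 2 = 1 := by
      refine Eq.trans ?_ x.2
      rw [Matrix.det_fin_three, Matrix.det_fin_two_of, e1, e2, e3, e4]; ring
    have k3 : ∀ u v : F3, u * v = 1 → u = v := by decide
    refine ⟨Matrix.GeneralLinearGroup.mkOfDetNeZero _ (left_ne_zero_of_mul_eq_one e5), Subtype.ext ?_⟩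
    show blkM !![x.1 0 0, x.1 0 1; x.1 1 0, x.1 1 1]
      (!![x.1 0 0, x.1 0 1; x.1 1 0, x.1 1 1] : Matrix (Fin 2) (Fin 2) F3).det = x.1
    rw [k3 _ _ e5]
    ext i j; fin_cases i <;> fin_cases j <;> simp [blkM, e1, e2, e3, e4]
  · rintro ⟨g, rfl⟩
    rw [← blk_neg_one]
    exact (Commute.neg_one_left g).map blk

theorem gen_L {H : Subgroup SL3} (h : Cen frmZ ≤ H) (hr : frmR ∈ H) : H = ⊤ := by
  have r3 : frmR * frmR * frmR = 1 := by decide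
  refine Cl.sl_eq_top_of_transvection_mem H fun i j hij c => ?_
  set T := Matrix.SpecialLinearGroup.transvection hij c with hT
  rcases tv i j c hij with e | e | e
  · exact h (mem_Cen.2 (Subtype.ext e))
  · have h1 : frmR * T * (frmR * frmR) ∈ H := h (mem_Cen.2 (Subtype.ext e))
    exact (H.mul_mem_cancel_left hr).1 ((H.mul_mem_cancel_right (mul_mem hr hr)).1 h1)
  · have h1 : frmR * frmR * T * frmR ∈ H := h (mem_Cen.2 (Subtype.ext e))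
    exact (H.mul_mem_cancel_left (mul_mem hr hr)).1 ((H.mul_mem_cancel_right hr).1 h1)

theorem inv_conj {x : SL3} (h : x * x = 1) (h1 : x ≠ 1) : ∃ g, g * x * g⁻¹ = frmZ := by
  have hx : orderOf x = 2 := orderOf_eq_prime (by rw [sq, h]) h1
  have hz : orderOf frmZ = 2 := orderOf_eq_prime (by decide) (by decide)
  have := L2S.IdM.psl3_isConj (F := F3) (by rw [ZMod.card]; decide) (s := eL x) (t := eL frmZ)
    (by rw [MulEquiv.orderOf_eq, hx]) (by rw [MulEquiv.orderOf_eq, hz])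
  obtain ⟨g, hg⟩ := isConj_iff.1 this
  obtain ⟨g, rfl⟩ := eL.surjective g
  exact ⟨g, eL.injective (by rw [map_mul, map_mul, map_inv, hg])⟩

theorem conj_inj : Function.Injective (MulAut.conj : SL3 →* MulAut SL3) := by
  refine (injective_iff_map_eq_one _).2 fun g hg => ?_
  rw [← mem_bot, ← frm_center, mem_center_iff]
  intro x
  have := DFunLike.congr_fun hg x
  rw [MulAut.conj_apply, MulAut.one_apply, mul_inv_eq_iff_eq_mul] at this
  exact this.symm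

theorem fA_ne (g : SL3) : fA ≠ MulAut.conj g := fun h => by
  have h1 : fA frmA = frmA ^ 5 := frm_tau frmA (frmA ^ 5) (by decide)
  rw [h, MulAut.conj_apply] at h1
  have h2 := tr_conj g frmA
  rw [h1] at h2
  revert h2
  decide

theorem aut_cases (α : MulAut SL3) : ∃ g, α = MulAut.conj g ∨ α = MulAut.conj g * fA := by
  have h1 : Nat.card (MulAut SL3) = 11232 :=
    (Nat.card_congr (MulAut.congr eL).toEquiv).trans model.2.1
  have h2 : Nat.card (MulAut.conj : SL3 →* MulAut SL3).range = 5616 :=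
    (Nat.card_congr (MonoidHom.ofInjective conj_inj).toEquiv).symm.trans card_SL3
  have h3 : (MulAut.conj : SL3 →* MulAut SL3).range.index = 2 := by
    have := (MulAut.conj : SL3 →* MulAut SL3).range.card_mul_index
    rw [h1, h2] at this
    omega
  by_cases h : α ∈ (MulAut.conj : SL3 →* MulAut SL3).range
  · obtain ⟨g, hg⟩ := h
    exact ⟨g, Or.inl hg.symm⟩
  · obtain ⟨g, hg⟩ : α * fA ∈ (MulAut.conj : SL3 →* MulAut SL3).range :=
      (mul_mem_iff_of_index_two h3).2 (iff_of_false h fun ⟨g, hg⟩ => fA_ne g hg.symm)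
    exact ⟨g, Or.inr (by rw [hg, mul_assoc, fA_sq, mul_one])⟩

theorem outer_conj {α : MulAut SL3} (h : α * α = 1) (hn : ∀ g, α ≠ MulAut.conj g) :
    ∃ g, MulAut.conj g * α * (MulAut.conj g)⁻¹ = fA := by
  obtain ⟨g, e | rfl⟩ := aut_cases α
  · exact absurd e (hn g)
  have h1 : g * fA g = 1 := conj_inj (by
    rw [map_mul, map_one, ← h, mul_assoc, ← mul_assoc fA, fA_conj, mul_assoc _ fA, fA_sq, mul_one])
  have h2 : fA g⁻¹ = g := by rw [map_inv, inv_eq_of_mul_eq_one_left h1]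
  obtain ⟨m, hm⟩ := exists_rt g (by rw [← coe_fA_inv, h2])
  have h3 : g = m * fA m⁻¹ := Subtype.ext (by rw [← hm, ← coe_fA_inv]; rfl)
  refine ⟨m⁻¹, ?_⟩
  rw [← map_inv, inv_inv, mul_assoc, mul_assoc, fA_conj, ← mul_assoc, ← mul_assoc, ← map_mul,
    ← map_mul, h3, inv_mul_cancel_left, ← map_mul, inv_mul_cancel, map_one, map_one, one_mul]

end Cfsg.Agent.L3S
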