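import Mathlib
import Cfsg.Agent.L3S.Defs2
import Cfsg.Agent.G2T.FWInd
import Cfsg.Agent.LyS.L2

/-! Involutory automorphisms permuting components; fixed points on `C(z) / O(C(z))` and on `SL₂(q)`. -/

set_option autoImplicit false
set_option linter.unusedSectionVars false

namespace Cfsg.Agent.L3S

open Cfsg.Agent.L33 Cfsg.Agent.P4 Cfsg.Agent.Loc.Mss Cfsg.Agent.GW Subgroup
open scoped MatrixGroups commutatorElement

variable {G Y : Type*} [Group G] [Finite G] [Group Y] {X : Subgroup G} {t : G} {lam : SL3 →* G} {ι : M6 →* G}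

namespace SwAux

omit [Finite G] in
theorem aa {α : MulAut G} (h2 : α * α = 1) (g : G) : α (α g) = g := by
  rw [← MulAut.mul_apply, h2, MulAut.one_apply]

omit [Finite G] in
/-- A perfect subgroup lies in a subgroup of index at most two. -/
theorem perf_le {N K : Subgroup G} {s : G} (hn : ∀ g, g ∈ N ∨ g * s ∈ N) (hK : ⁅K, K⁆ = K) : K ≤ N := by
  by_cases hs : s ∈ N
  · intro g _
    rcases hn g with h | h
    · exact h
    · simpa using N.mul_mem h (N.inv_mem hs)
  have h2 : N.index = 2 := index_eq_two_iff.2 ⟨s, fun b => by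
    by_cases hb : b ∈ N
    · exact Or.inr ⟨hb, fun h => hs (by simpa using N.mul_mem (N.inv_mem hb) h)⟩
    · exact Or.inl ⟨(hn b).resolve_left hb, hb⟩⟩
  rw [← hK, commutator_le]
  intro a _ b _
  rw [commutatorElement_def, mul_mem_iff_of_index_two h2, mul_mem_iff_of_index_two h2,
    mul_mem_iff_of_index_two h2, inv_mem_iff, inv_mem_iff]
  tauto

omit [Finite G] in
theorem perf_map {J : Subgroup G} (hp : ⁅J, J⁆ = J) (γ : MulAut G) :
    ⁅J.map γ.toMonoidHom, J.map γ.toMonoidHom⁆ = J.map γ.toMonoidHom := by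
  rw [← map_commutator, hp]

theorem comp_one {J : Subgroup G} {s : G} (hp : ⁅J, J⁆ = J)
    (hq : ∀ N ≤ J, J ≤ 𝐍[N] → N ≤ 𝐂[J] ∨ N = J) (hn : ∀ g, g ∈ 𝐍[J] ∨ g * s ∈ 𝐍[J]) (γ : MulAut G) :
    J.map γ.toMonoidHom = J ∨ J.map γ.toMonoidHom ≤ 𝐂[J] := by
  have h1 : J.map γ.toMonoidHom ≤ 𝐍[J] := perf_le hn (perf_map hp γ)
  have h2 : J ≤ 𝐍[J.map γ.toMonoidHom] := by
    have h3 : J.map γ⁻¹.toMonoidHom ≤ 𝐍[J] := perf_le hn (perf_map hp γ⁻¹)
    intro g hg
    have h5 : γ⁻¹ g ∈ 𝐍[J] := h3 ⟨g, hg, rfl⟩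
    have h6 := le_normalizer_map (H := J) γ.toMonoidHom ⟨γ⁻¹ g, h5, rfl⟩
    simpa using h6
  rcases hq (J ⊓ J.map γ.toMonoidHom) inf_le_left (norm_inf le_normalizer h2) with h | h
  · right
    have h3 : ⁅J, J.map γ.toMonoidHom⁆ ≤ 𝐂[J] :=
      (le_inf (comm_le_left h1) (comm_le_right h2)).trans h
    have h4 : ⁅⁅J, J.map γ.toMonoidHom⁆, J⁆ = ⊥ := comm_eq_bot_iff.2 h3
    have h5 : ⁅⁅J.map γ.toMonoidHom, J⁆, J⁆ = ⊥ := by rwa [commutator_comm (J.map γ.toMonoidHom) J]
    have h6 := commutator_commutator_eq_bot_of_rotate h4 h5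
    rw [hp] at h6
    exact comm_eq_bot_iff'.1 h6
  · left
    have h3 : J ≤ J.map γ.toMonoidHom := inf_eq_left.1 h
    exact (eq_of_le_of_card_ge h3 (card_map_of_injective γ.injective).le).symm

omit [Finite G] in
theorem uu_map {z : G} (α : MulAut G) (hz : α z = z) {g : G} (hg : g ∈ UU z) : α g ∈ UU z := by
  have e : (Cen z).map α.toMonoidHom = Cen z := by
    ext x
    constructor
    · rintro ⟨y, hy, rfl⟩
      have := (mem_Cen.1 hy).map α
      rw [hz] at this
      exact mem_Cen.2 this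
    · intro hx
      refine ⟨α⁻¹ x, mem_Cen.2 ?_, by simp⟩
      have := (mem_Cen.1 hx).map α⁻¹
      rwa [show α⁻¹ z = z by rw [MulAut.inv_apply, MulEquiv.symm_apply_eq, hz]] at this
  have h := GT.map_pPrimeCoreOf_le (p := 2) (Cen z) α.toMonoidHom
  rw [e] at h
  exact h ⟨g, hg, rfl⟩

theorem uu_odd {z g : G} (hg : g ∈ UU z) : Odd (orderOf g) := by
  have h1 : Odd (Nat.card (UU z)) := by
    rw [GT.card_pPrimeCoreOf]
    exact GT.odd_card_oddCore
  exact h1.of_dvd_nat (orderOf_dvd_natCard _ hg)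

section SL

variable {F : Type*} [Field F] {σ : SL(2, F) →* G}

/-- `g` acts on the image of `σ` as `σ x`. -/
def R (σ : SL(2, F) →* G) (g : G) (x : SL(2, F)) : Prop := ∀ s, g * σ s * g⁻¹ = σ (x * s * x⁻¹)

omit [Finite G] in
theorem R.mul {g g' : G} {x x' : SL(2, F)} (h : R σ g x) (h' : R σ g' x') : R σ (g * g') (x * x') := fun s => by
  have e : x * x' * s * (x * x')⁻¹ = x * (x' * s * x'⁻¹) * x⁻¹ := by group
  rw [e, ← h, ← h']; group

omit [Finite G] in
theorem R.uniq (hσ : Function.Injective σ) {g : G} {x x' : SL(2, F)} (h : R σ g x) (h' : R σ g x') :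
    (x : Matrix.ProjectiveSpecialLinearGroup (Fin 2) F) = x' := by
  rw [QuotientGroup.eq, mem_center_iff]
  intro s
  have e := hσ ((h s).symm.trans (h' s))
  calc s * (x⁻¹ * x') = x⁻¹ * (x * s * x⁻¹) * x' := by group
    _ = x⁻¹ * x' * s := by rw [e]; group

omit [Finite G] in
theorem R.aut {γ : MulAut G} {γ₀ : MulAut SL(2, F)} (e : ∀ s, σ (γ₀ s) = γ (σ s)) {g : G} {x : SL(2, F)}
    (h : R σ g x) : R σ (γ g) (γ₀ x) := fun s => by
  obtain ⟨s, rfl⟩ := γ₀.surjective s
  rw [e, ← map_inv, ← map_mul, ← map_mul, h, ← map_inv, ← map_mul, ← map_mul, e]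

omit [Finite G] in
theorem R.of_ind {g : G} {M : GL (Fin 2) F} (h : G2T.Ind σ g M) (hs : IsSquare (M : Matrix (Fin 2) (Fin 2) F).det) :
    ∃ x, R σ g x := by
  obtain ⟨c, x, rfl⟩ := G2T.exists_scal_mul hs
  refine ⟨x, fun s => ?_⟩
  have := h.of_scal_mul (Cl.GL2.isScal_scalGL c) s
  rwa [G2T.cjM_tG] at this

omit [Finite G] in
theorem exists_res (hσ : Function.Injective σ) (γ : MulAut G) (hγ : σ.range.map γ.toMonoidHom = σ.range) :
    ∃ γ₀ : MulAut SL(2, F), ∀ s, σ (γ₀ s) = γ (σ s) := by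
  let e := MonoidHom.ofInjective hσ
  refine ⟨e.trans ((γ.subgroupMap σ.range).trans ((MulEquiv.subgroupCongr hγ).trans e.symm)), fun s => ?_⟩
  exact MonoidHom.apply_ofInjective_symm hσ (MulEquiv.subgroupCongr hγ (γ.subgroupMap σ.range (e s)))

end SL

end SwAux

open SwAux

theorem swap_ns (α : MulAut G) (h2 : α * α = 1) {J : Subgroup G} (hJ : ¬ Group.IsSolvable J)
    (hc : ∀ a ∈ J, ∀ b ∈ J, Commute a (α b)) : ∃ K : Subgroup G, (∀ g ∈ K, α g = g) ∧ ¬ Group.IsSolvable K := by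
  let f : J →* G := MonoidHom.mk' (fun a => (a : G) * α a) fun a b => by
    have e := (hc b b.2 a a.2).eq
    simp only [coe_mul, map_mul]
    calc (a : G) * b * (α a * α b) = a * (b * α a) * α b := by group
      _ = _ := by rw [e]; group
  have hf : ∀ a : J, f a = (a : G) * α a := fun _ => rfl
  refine ⟨f.range, ?_, fun hK => hJ ?_⟩
  · rintro _ ⟨a, rfl⟩
    rw [hf, map_mul, aa h2, (hc a a.2 a a.2).eq]
  · have hk : Group.IsSolvable f.ker := Group.isSolvable_of_comm fun a b => by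
      have ha : ((a : J) : G) * α ((a : J) : G) = 1 := a.2
      have e := hc _ (b : J).2 _ (a : J).2
      rw [← inv_eq_of_mul_eq_one_right ha, Commute.inv_right_iff] at e
      exact Subtype.ext (Subtype.ext e.symm.eq)
    exact Group.isSolvable_of_ker_le_range f.ker.subtype f.rangeRestrict (by simp)

theorem comp_perm {J : Subgroup G} {s : G} (hp : ⁅J, J⁆ = J) (h1 : J ≠ ⊥)
    (hq : ∀ N ≤ J, J ≤ 𝐍[N] → N ≤ 𝐂[J] ∨ N = J) (hn : ∀ g, g ∈ 𝐍[J] ∨ g * s ∈ 𝐍[J])
    (hc : Group.IsSolvable (𝐂[J] ⊓ 𝐂[cj(s, J)] : Subgroup G)) (α : MulAut G) :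
    J.map α.toMonoidHom = J ∨ J.map α.toMonoidHom = cj(s, J) := by
  have e : J.map (MulAut.conj s⁻¹ * α).toMonoidHom = cj(s⁻¹, J.map α.toMonoidHom) := by
    rw [map_map]; rfl
  rcases comp_one hp hq hn α with h | h
  · exact Or.inl h
  rcases comp_one hp hq hn (MulAut.conj s⁻¹ * α) with h' | h'
  · right
    rw [e] at h'
    rw [← cj_cj_inv (J.map α.toMonoidHom) s, h']
  exfalso
  rw [e, ← le_cj_iff_inv_le, cj_cent] at h'
  have h3 : Group.IsSolvable (J.map α.toMonoidHom) := Cl.L2.isSolvable_of_le (le_inf h h') hc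
  have h4 : Group.IsSolvable J := Cl.L2.isSolvable_of_equiv (α.subgroupMap J) h3
  have h5 : Nontrivial J := (nontrivial_iff_ne_bot J).2 h1
  have h6 := Group.IsSolvable.commutator_lt_top_of_nontrivial J
  apply h6.ne
  apply map_injective J.subtype_injective
  rw [commutator_def, map_commutator, ← MonoidHom.range_eq_map, range_subtype, hp]

theorem quo_aut {z : G} {π : G → Y} (h : Quo z π) (α : MulAut G) (hz : α z = z) (h2 : α * α = 1) :
    ∃ β : MulAut Y, β * β = 1 ∧ (∀ g, Commute g z → β (π g) = π (α g)) ∧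
      (∀ y, β y = y → ∃ g, Commute g z ∧ α g = g ∧ π g = y) ∧
      ((∀ K : Subgroup G, (∀ g ∈ K, α g = g) → K ≤ Cen z → Group.IsSolvable K) →
        ∀ K : Subgroup Y, (∀ y ∈ K, β y = y) → Group.IsSolvable K) := by
  choose r hr er using h.surj
  have ca : ∀ {g}, Commute g z → Commute (α g) z := fun hg => by
    have := hg.map α
    rwa [hz] at this
  have key : ∀ g, Commute g z → π (α (r (π g))) = π (α g) := fun g hg => by
    rw [h.eq_iff (ca (hr _)) (ca hg), ← map_inv, ← map_mul]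
    exact uu_map α hz ((h.eq_iff (hr _) hg).1 (er _))
  have bb : ∀ y, π (α (r (π (α (r y))))) = y := fun y => by rw [key _ (ca (hr y)), aa h2, er]
  let β : MulAut Y :=
    { toFun := fun y => π (α (r y))
      invFun := fun y => π (α (r y))
      left_inv := bb
      right_inv := bb
      map_mul' := fun x y => by
        rw [← h.mul _ _ (ca (hr x)) (ca (hr y)), ← map_mul, ← key _ ((hr x).mul_left (hr y)),
          h.mul _ _ (hr x) (hr y), er, er] }
  have hβ : ∀ g, Commute g z → β (π g) = π (α g) := key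
  have fx : ∀ y, β y = y → ∃ g, Commute g z ∧ α g = g ∧ π g = y := fun y hy => by
    have hg := hr y
    have e1 : π (r y) = π (α (r y)) := by rw [← hβ _ hg, er, hy]
    have hx := (h.eq_iff hg (ca hg)).1 e1
    set g := r y with hgd
    set x := g⁻¹ * α g with hxd
    have ax : α x = x⁻¹ := by rw [hxd, map_mul, map_inv, aa h2]; group
    obtain ⟨k, hk⟩ := uu_odd hx
    have hu : x ^ (k + 1) ∈ UU z := pow_mem hx _
    have cu : Commute (x ^ (k + 1)) z := (mem_Cen.1 (GT.pPrimeCoreOf_le _ hu)).symm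
    have e2 : x ^ (k + 1) * x ^ (k + 1) = x := by
      rw [← pow_add, show k + 1 + (k + 1) = (2 * k + 1) + 1 by ring, ← hk, pow_succ, pow_orderOf_eq_one, one_mul]
    refine ⟨g * x ^ (k + 1), hg.mul_left cu, ?_, ?_⟩
    · rw [map_mul, map_pow, ax, inv_pow, show α g = g * x by rw [hxd]; group, mul_inv_eq_iff_eq_mul, mul_assoc, e2]
    · rw [h.mul _ _ hg cu, (h.ker _ cu).2 hu, mul_one, er]
  refine ⟨β, MulEquiv.ext bb, hβ, fx, fun hs K hK => ?_⟩
  let K₁ : Subgroup G := α.toMonoidHom.eqLocus (MonoidHom.id G) ⊓ Cen z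
  have s1 : Group.IsSolvable K₁ := hs K₁ (fun g hg => hg.1) inf_le_right
  have s2 : Group.IsSolvable (K₁.subgroupOf (Cen z)) :=
    Cl.L2.isSolvable_of_equiv (subgroupOfEquivOfLe (inf_le_right : K₁ ≤ Cen z)) s1
  have s3 : Group.IsSolvable (h.im K₁) := Group.isSolvable_of_surjective (MonoidHom.subgroupMap_surjective _ _)
  refine Cl.L2.isSolvable_of_le (fun y hy => ?_) s3
  obtain ⟨g, hg, ag, rfl⟩ := fx y (hK y hy)
  exact h.mem_im.2 ⟨g, ⟨ag, mem_Cen.2 hg.symm⟩, hg, rfl⟩

theorem a4_fix {F : Type*} [Field F] [Fintype F] (hF : Odd (Fintype.card F))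
    {α β : MulAut (Matrix.ProjectiveSpecialLinearGroup (Fin 2) F)} (h2 : α * α = 1) (hc : α * β = β * α)
    {x y : Matrix.ProjectiveSpecialLinearGroup (Fin 2) F} (hx : x * x = 1) (h1 : x ≠ 1) (hxy : x ≠ y) (bx : β x = y)
    (hb : β y = x * y) (ax : α x = x) (hs : ∀ K : Subgroup (Matrix.ProjectiveSpecialLinearGroup (Fin 2) F),
      (∀ g ∈ K, α g = g) → Group.IsSolvable K) : Fintype.card F = 3 ∨ Fintype.card F = 9 := by
  by_cases h3 : Fintype.card F = 3
  · exact Or.inl h3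
  right
  have h4 : 4 ≤ Nat.card F := by
    have := Fintype.one_lt_card (α := F)
    rw [Nat.card_eq_fintype_card]
    obtain ⟨k, hk⟩ := hF
    omega
  have two : (2 : F) ≠ 0 := fun e => by
    have h1 : ringChar F = 2 := CharP.ringChar_of_prime_eq_zero Nat.prime_two (by exact_mod_cast e)
    have h3 := FiniteField.even_card_of_char_two h1
    rw [Nat.odd_iff] at hF
    omega
  have ab : ∀ g, α (β g) = β (α g) := fun g => by rw [← MulAut.mul_apply, hc, MulAut.mul_apply]
  have hy : y * y = 1 := by rw [← bx, ← map_mul, hx, map_one]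
  have y1 : y ≠ 1 := fun e => h1 (β.injective (by rw [bx, e, map_one]))
  have ay : α y = y := by rw [← bx, ab, ax]
  have hxy2 : x * y * (x * y) = 1 := by rw [← hb, ← map_mul, hy, map_one]
  have cxy : x * y = y * x := by
    rw [← inv_eq_of_mul_eq_one_right hxy2, mul_inv_rev, inv_eq_of_mul_eq_one_right hx,
      inv_eq_of_mul_eq_one_right hy]
  rcases LyS.l2_case (by rwa [Nat.card_eq_fintype_card]) α h2 hx hy cxy h1 y1 hxy ax ay hs with ⟨c, hcc⟩ | h9
  swap
  · rw [← Nat.card_eq_fintype_card]; exact h9.1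
  exfalso
  have hS := Cl.L2.isSimpleGroup_PSL h4
  have hZ : center (Matrix.ProjectiveSpecialLinearGroup (Fin 2) F) = ⊥ := by
    rcases hS.eq_bot_or_eq_top_of_normal (center _) inferInstance with e | e
    · exact e
    · obtain ⟨a, b, hab⟩ := Cl.L2.exists_not_comm_PSL (F := F)
      exact absurd (mem_center_iff.1 (e ▸ mem_top b) a) hab
  have bc : β c = c := by
    have : c⁻¹ * β c ∈ center (Matrix.ProjectiveSpecialLinearGroup (Fin 2) F) := by
      rw [mem_center_iff]
      intro g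
      obtain ⟨g, rfl⟩ := β.surjective g
      have e := ab g
      rw [hcc, hcc, map_mul, map_mul, map_inv] at e
      calc β g * (c⁻¹ * β c) = c⁻¹ * (c * β g * c⁻¹) * β c := by group
        _ = c⁻¹ * β c * β g := by rw [e]; group
    rw [hZ, mem_bot, inv_mul_eq_one] at this
    exact this.symm
  have o2 : ∀ {t : PSL(2, F)}, t * t = 1 → t ≠ 1 → orderOf (Cl.L2.emb t) = 2 := fun h h1 => by
    rw [orderOf_injective _ Cl.L2.emb_injective]
    exact orderOf_eq_prime (by rw [sq, h]) h1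
  have hV := Inv.isKleinFour_closure_pair (o2 hx h1) (o2 hy y1) (fun e => hxy (Cl.L2.emb_injective e))
    (show Cl.L2.emb x * Cl.L2.emb y = Cl.L2.emb y * Cl.L2.emb x by rw [← map_mul, cxy, map_mul])
  have hm : Cl.L2.emb c ∈ closure {Cl.L2.emb x, Cl.L2.emb y} := by
    rw [← Cl.L2.centralizer_klein two hV, centralizer_closure, mem_centralizer_iff]
    rintro t (rfl | rfl)
    · have := hcc x
      rw [ax, eq_mul_inv_iff_mul_eq] at this
      rw [← map_mul, this, map_mul]
    · have := hcc y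
      rw [ay, eq_mul_inv_iff_mul_eq] at this
      rw [← map_mul, this, map_mul]
  have hm' : c ∈ closure {x, y} := by
    have e : closure {Cl.L2.emb x, Cl.L2.emb y} = (closure {x, y}).map Cl.L2.emb := by
      rw [MonoidHom.map_closure, Set.image_pair]
    rw [e] at hm
    obtain ⟨c', hc', e'⟩ := hm
    rwa [← Cl.L2.emb_injective e']
  have hcase : c = 1 ∨ c = x ∨ c = y ∨ c = x * y := by
    clear hm bc hcc
    induction hm' using closure_induction_left with
    | one => exact Or.inl rfl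
    | mul_left a ha b _ ih =>
      rcases ha with rfl | rfl <;> rcases ih with rfl | rfl | rfl | rfl
      · simp
      · simp [hx]
      · simp
      · simp [← mul_assoc, hx]
      · simp
      · simp [cxy]
      · simp [hy]
      · right; left; rw [cxy, ← mul_assoc, hy, one_mul]
    | inv_mul_cancel a ha b _ ih =>
      rcases ha with rfl | rfl
      · rw [inv_eq_of_mul_eq_one_right hx]
        rcases ih with rfl | rfl | rfl | rfl
        · simp
        · simp [hx]
        · simp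
        · simp [← mul_assoc, hx]
      · rw [inv_eq_of_mul_eq_one_right hy]
        rcases ih with rfl | rfl | rfl | rfl
        · simp
        · simp [cxy]
        · simp [hy]
        · right; left; rw [cxy, ← mul_assoc, hy, one_mul]
  rcases hcase with rfl | rfl | rfl | rfl
  · have hT := hs ⊤ fun g _ => by simpa using hcc g
    exact Cl.L2.not_isSolvable_PSL h4 (Cl.L2.isSolvable_of_equiv topEquiv.symm hT)
  · exact hxy (bc.symm.trans bx)
  · rw [bc] at hb
    exact h1 (by simpa using hb)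
  · rw [map_mul, bx, hb, cxy, ← mul_assoc, hy, one_mul] at bc
    exact y1 (by simpa using bc)

/-- The form in which `a4_fix` is used: `α` and conjugation by `b` normalise a copy of `SL₂(F)`, on which
`i, j = b i b⁻¹` act, not both trivially, as elements of `GL₂(F)`. -/
theorem sl2_fix {F : Type*} [Field F] [Fintype F] (hF : Odd (Fintype.card F)) {σ : SL(2, F) →* G}
    (hσ : Function.Injective σ) {α : MulAut G} (h2 : α * α = 1) (hα : σ.range.map α.toMonoidHom = σ.range)
    (hs : ∀ K ≤ σ.range, (∀ g ∈ K, α g = g) → Group.IsSolvable K) {i j b : G} (ai : α i = i)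
    (ab : α b = b) (hb : b ∈ 𝐍[σ.range]) (bi : b * i * b⁻¹ = j) (bj : b * j * b⁻¹ = i * j) (hi : i * i = σ (-1))
    (hn : i ∉ 𝐂[σ.range]) (gi : ∃ M : GL (Fin 2) F, G2T.Ind σ i M) (gj : ∃ M : GL (Fin 2) F, G2T.Ind σ j M) :
    Fintype.card F = 3 ∨ Fintype.card F = 9 := by
  obtain ⟨α₀, hα₀⟩ := exists_res hσ α hα
  obtain ⟨β₀, hβ₀⟩ := exists_res hσ (MulAut.conj b) (cj_of_norm hb)
  have hβ₁ : ∀ s, σ (β₀⁻¹ s) = (MulAut.conj b)⁻¹ (σ s) := fun s => by
    rw [MulAut.inv_apply, MulAut.inv_apply, eq_comm, MulEquiv.symm_apply_eq, ← hβ₀, MulEquiv.apply_symm_apply]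
  have ib : (MulAut.conj b)⁻¹ j = i := by
    rw [MulAut.inv_apply, MulEquiv.symm_apply_eq, MulAut.conj_apply, bi]
  have jb : (MulAut.conj b)⁻¹ (i * j) = j := by
    rw [MulAut.inv_apply, MulEquiv.symm_apply_eq, MulAut.conj_apply, bj]
  obtain ⟨x, hx⟩ : ∃ x, R σ i x := by
    by_contra hni
    have hnj : ¬ ∃ x, R σ j x := fun ⟨x, hx⟩ => hni ⟨_, ib ▸ hx.aut hβ₁⟩
    have hnk : ¬ ∃ x, R σ (i * j) x := fun ⟨x, hx⟩ => hnj ⟨_, jb ▸ hx.aut hβ₁⟩
    obtain ⟨M, hM⟩ := gi
    obtain ⟨N, hN⟩ := gj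
    refine hnk (R.of_ind (hM.mul hN) ?_)
    rw [Units.val_mul, Matrix.det_mul]
    exact Cl.L2.isSquare_mul_of_not (fun e => hni (R.of_ind hM e)) fun e => hnj (R.of_ind hN e)
  have hy : R σ j (β₀ x) := by
    have := hx.aut hβ₀
    rwa [MulAut.conj_apply, bi] at this
  have hk : R σ (i * j) (β₀ (β₀ x)) := by
    have := hy.aut hβ₀
    rwa [MulAut.conj_apply, bj] at this
  have e1 : ((x : SL(2, F)) : PSL(2, F)) ≠ 1 := fun e => hn (by
    rw [QuotientGroup.eq_one_iff, mem_center_iff] at e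
    rw [mem_cent]
    rintro _ ⟨s, rfl⟩
    have := hx s
    rw [← e s, mul_inv_cancel_right, mul_inv_eq_iff_eq_mul] at this
    exact this.symm)
  have e2 : Cl.centerQuotCongr β₀ ((β₀ x : SL(2, F)) : PSL(2, F)) = (x : PSL(2, F)) * (β₀ x : SL(2, F)) := by
    rw [Cl.centerQuotCongr_mk, ← QuotientGroup.mk_mul]
    exact hk.uniq hσ (hx.mul hy)
  have a0 : ∀ s, α₀ (α₀ s) = s := fun s => hσ (by rw [hα₀, hα₀, aa h2])
  refine a4_fix hF (α := Cl.centerQuotCongr α₀) (β := Cl.centerQuotCongr β₀) (x := x) (y := (β₀ x : SL(2, F)))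
    ?_ ?_ ?_ e1 ?_ (Cl.centerQuotCongr_mk _ _) e2 ?_ ?_
  · ext g
    obtain ⟨g, rfl⟩ := QuotientGroup.mk_surjective g
    rw [MulAut.mul_apply, Cl.centerQuotCongr_mk, Cl.centerQuotCongr_mk, a0, MulAut.one_apply]
  · ext g
    obtain ⟨g, rfl⟩ := QuotientGroup.mk_surjective g
    rw [MulAut.mul_apply, MulAut.mul_apply, Cl.centerQuotCongr_mk, Cl.centerQuotCongr_mk, Cl.centerQuotCongr_mk,
      Cl.centerQuotCongr_mk]
    congr 1
    apply hσ
    rw [hα₀, hβ₀, hβ₀, hα₀, MulAut.conj_apply, MulAut.conj_apply, map_mul, map_mul, map_inv, ab]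
  · rw [← QuotientGroup.mk_mul, ← QuotientGroup.mk_one]
    refine (hx.mul hx).uniq hσ fun s => ?_
    rw [hi, ← map_inv, ← map_mul, ← map_mul]
    simp
  · intro e
    rw [← e, Cl.centerQuotCongr_mk, ← e] at e2
    exact e1 (by simpa using e2)
  · rw [Cl.centerQuotCongr_mk]
    have := hx.aut hα₀
    rw [ai] at this
    exact this.uniq hσ hx
  · intro K hK
    let N : Subgroup SL(2, F) := α₀.toMonoidHom.eqLocus (MonoidHom.id _)
    have s1 : Group.IsSolvable (N.map σ) := hs _ (map_le_range _ _) (by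
      rintro _ ⟨s, hs, rfl⟩
      rw [← hα₀, show α₀ s = s from hs])
    have s2 : Group.IsSolvable N := Cl.L2.isSolvable_of_equiv (N.equivMapOfInjective σ hσ) s1
    have cen : ∀ a ∈ K.comap (QuotientGroup.mk' (center SL(2, F))), ∃ c ∈ center SL(2, F), α₀ a = a * c :=
      fun a ha => by
        have := hK _ ha
        rw [QuotientGroup.mk'_apply, Cl.centerQuotCongr_mk, eq_comm, QuotientGroup.eq] at this
        exact ⟨_, this, by group⟩
    have s3 : Group.IsSolvable (K.comap (QuotientGroup.mk' (center SL(2, F)))) :=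
      Cl.L2.isSolvable_of_commutator_mem s2 fun a ha b hb => by
        obtain ⟨c, hc, ec⟩ := cen a ha
        obtain ⟨d, hd, ed⟩ := cen b hb
        change α₀ (a * b * a⁻¹ * b⁻¹) = a * b * a⁻¹ * b⁻¹
        rw [map_mul, map_mul, map_mul, map_inv, map_inv, ec, ed]
        have c1 := mem_center_iff.1 hc (b * d)
        have d1 := mem_center_iff.1 hd a⁻¹
        calc a * c * (b * d) * (a * c)⁻¹ * (b * d)⁻¹ = a * (c * (b * d)) * c⁻¹ * a⁻¹ * d⁻¹ * b⁻¹ := by group
          _ = a * b * (d * a⁻¹) * d⁻¹ * b⁻¹ := by rw [← c1]; group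
          _ = _ := by rw [← d1]; group
    have s4 : Group.IsSolvable ((K.comap (QuotientGroup.mk' (center SL(2, F)))).map
        (QuotientGroup.mk' (center SL(2, F)))) :=
      Group.isSolvable_of_surjective (MonoidHom.subgroupMap_surjective _ _)
    rwa [map_comap_eq_self_of_surjective (QuotientGroup.mk'_surjective _)] at s4

end Cfsg.Agent.L3S
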