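import Mathlib
import Cfsg.Agent.L3S.Defs2
import Cfsg.Agent.L3S.Sw
import Cfsg.Agent.L4.Defs
import Cfsg.Agent.L4.BasicA
import Cfsg.Agent.Cl.CharGL2Card

set_option autoImplicit false
set_option linter.unusedSectionVars false

namespace Cfsg.Agent.L3S

open Cfsg.Agent.L33 Cfsg.Agent.P4 Cfsg.Agent.Loc.Mss Cfsg.Agent.GW Subgroup
open scoped MatrixGroups commutatorElement

namespace C4Aux

variable {Y : Type*} [Group Y] [Finite Y] {F : Type} [Field F] [Fintype F] {σ : SL(2, F) →* Y} {s : Y}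

theorem perf (c : L4.Cz σ s) : ⁅σ.range, σ.range⁆ = σ.range := by
  have := sl_perfect c.big
  rw [MonoidHom.range_eq_map, ← map_commutator]
  exact congrArg _ (Group.IsPerfect.commutator_eq_top (G := SL(2, F)))

theorem not_solv (c : L4.Cz σ s) : ¬ Group.IsSolvable σ.range := fun hs => by
  have := sl_perfect c.big
  have h1 : Group.IsSolvable SL(2, F) :=
    Group.isSolvable_of_isSolvable_injective (f := σ.rangeRestrict) (MonoidHom.rangeRestrict_injective_iff.2 c.inj)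
  have : Nontrivial SL(2, F) := ⟨⟨-1, 1, Inv.SLF.neg_one_ne_one c.two_ne⟩⟩
  exact Group.IsPerfect.not_isSolvable SL(2, F) h1

theorem keeps (c : L4.Cz σ s) (all : ∀ y, Commute y (σ (-1))) (z2 : IsPGroup 2 (L4.Zt σ s)) {β : MulAut Y}
    (h2 : β * β = 1) (hs : ∀ K : Subgroup Y, (∀ y ∈ K, β y = y) → Group.IsSolvable K) :
    σ.range.map β.toMonoidHom = σ.range := by
  have hq : ∀ N ≤ σ.range, σ.range ≤ 𝐍[N] → N ≤ 𝐂[σ.range] ∨ N = σ.range := fun N hN hn => by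
    have : (N.comap σ).Normal := ⟨fun a ha g => by
      rw [mem_comap, map_mul, map_mul, map_inv]
      exact (mem_normalizer_iff.1 (hn ⟨g, rfl⟩) _).1 ha⟩
    rcases sl_normal c.big (N.comap σ) with e | e
    · refine Or.inl fun x hx => ?_
      obtain ⟨a, rfl⟩ := hN hx
      rintro _ ⟨b, rfl⟩
      rw [← map_mul, ← map_mul, mem_center_iff.1 (e hx) b]
    · refine Or.inr (le_antisymm hN ?_)
      rintro _ ⟨a, rfl⟩
      exact (e ▸ mem_top a : a ∈ N.comap σ)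
  have hc : Group.IsSolvable (𝐂[σ.range] ⊓ 𝐂[cj(s, σ.range)] : Subgroup Y) := by
    rw [← c.range_tw]
    have := IsPGroup.isNilpotent z2
    exact (inferInstance : Group.IsSolvable (L4.Zt σ s))
  have h1 : σ.range ≠ ⊥ := fun e => c.z_ne (mem_bot.1 (e ▸ (⟨_, rfl⟩ : σ (-1) ∈ σ.range)))
  refine (comp_perm (perf c) h1 hq (fun g => c.nrm g (all g)) hc β).resolve_right fun e => ?_
  obtain ⟨K, hK, n⟩ := swap_ns β h2 (not_solv c) fun a ha b hb => by
    obtain ⟨a, rfl⟩ := ha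
    have : β b ∈ (tw σ s).range := by
      rw [c.range_tw, ← e]
      exact mem_map_of_mem _ hb
    obtain ⟨b', e'⟩ := this
    exact e' ▸ c.comm a b'
  exact n (hs K hK)

theorem dvd_card (c : L4.Cz σ s) (all : ∀ y, Commute y (σ (-1))) (h9 : Fintype.card F = 9) :
    2 ^ 8 ∣ Nat.card Y := by
  let f : SL(2, F) × SL(2, F) →* Y := σ.noncommCoprod (tw σ s) c.comm
  have hk : f.ker ≤ zpowers ((-1, -1) : SL(2, F) × SL(2, F)) := by
    rintro ⟨a, b⟩ hab
    rcases c.eq_one_iff.1 (show σ a * tw σ s b = 1 from hab) with ⟨rfl, rfl⟩ | ⟨rfl, rfl⟩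
    exacts [one_mem _, mem_zpowers _]
  have hk2 : Nat.card f.ker ∣ 2 := (card_dvd_of_le hk).trans (by
    rw [Nat.card_zpowers]
    exact orderOf_dvd_of_pow_eq_one (by simp [pow_two]))
  have h1 : Nat.card f.ker * Nat.card f.range = 720 * 720 := by
    rw [← index_ker, card_mul_index, Nat.card_prod, Cl.GL2.card_SL2, h9]
  have h7 : 2 ^ 7 ∣ Nat.card f.range := by
    have : 2 * 2 ^ 7 ∣ 2 * Nat.card f.range :=
      (show 2 * 2 ^ 7 ∣ Nat.card f.ker * Nat.card f.range by rw [h1]; norm_num).trans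
        (Nat.mul_dvd_mul_right hk2 _)
    exact Nat.dvd_of_mul_dvd_mul_left two_pos this
  have hle : f.range ≤ 𝐍[σ.range] := by
    rintro _ ⟨⟨a, b⟩, rfl⟩
    exact c.K_norm a b
  have hi : (𝐍[σ.range] : Subgroup Y).index = 2 := index_eq_two_iff.2 ⟨s, fun g => by
    by_cases hg : g ∈ 𝐍[σ.range]
    · exact Or.inr ⟨hg, fun e => (c.not_norm_iff (all g)).2 e hg⟩
    · exact Or.inl ⟨(c.not_norm_iff (all g)).1 hg, hg⟩⟩
  rw [← card_mul_index (𝐍[σ.range] : Subgroup Y), hi, pow_succ]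
  exact Nat.mul_dvd_mul_right (h7.trans (card_dvd_of_le hle)) 2

theorem core (c : L4.Cz σ s) (all : ∀ y, Commute y (σ (-1))) (z2 : IsPGroup 2 (L4.Zt σ s)) {β : MulAut Y}
    (h2 : β * β = 1) (hs : ∀ K : Subgroup Y, (∀ y ∈ K, β y = y) → Group.IsSolvable K) {i j b : Y}
    (ai : β i = i) (ab : β b = b) (b3 : b * b * (b * b) = b) (bi : b * i * b⁻¹ = j) (bj : b * j * b⁻¹ = i * j)
    (hi : i * i = σ (-1)) (ij : i * j = σ (-1) * (j * i)) : 2 ^ 8 ∣ Nat.card Y := by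
  have hb : b ∈ 𝐍[σ.range] := by
    by_contra n
    have := c.mul_norm (all b) (all b) n n
    exact n (b3 ▸ mul_mem this this)
  have hi' : i ∈ 𝐍[σ.range] := by
    by_contra n
    have nj : j ∉ 𝐍[σ.range] := fun e => n (by
      rw [← bi] at e
      exact (mul_mem_cancel_left hb).1 ((mul_mem_cancel_right (inv_mem hb)).1 e))
    have := c.mul_norm (all i) (all j) n nj
    rw [← bj] at this
    exact nj ((mul_mem_cancel_left hb).1 ((mul_mem_cancel_right (inv_mem hb)).1 this))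
  have hj' : j ∈ 𝐍[σ.range] := bi ▸ mul_mem (mul_mem hb hi') (inv_mem hb)
  have i4 : i ^ 2 ^ 2 = 1 := by
    rw [show i ^ 2 ^ 2 = i * i * (i * i) by simp [pow_succ, mul_assoc], hi, c.zz]
  have j4 : j ^ 2 ^ 2 = 1 := by rw [← bi, conj_pow, i4]; simp
  obtain ⟨M, N, e1, e2, -⟩ := c.ind2 hi' ⟨2, i4⟩
  obtain ⟨M', N', e1', e2', -⟩ := c.ind2 hj' ⟨2, j4⟩
  refine dvd_card c all (Or.resolve_left ?_ c.big.ne')
  by_cases n1 : i ∈ 𝐂[σ.range]
  · by_cases n2 : i ∈ 𝐂[(tw σ s).range]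
    · have z1 : i ∈ L4.Zt σ s := ⟨n1, n2⟩
      have z2 : j ∈ L4.Zt σ s := bi ▸ (mem_normalizer_iff.1 (c.norm_Zt (all b)) i).1 z1
      rw [(c.Zt_comm z1 z2).eq] at ij
      exact absurd (by simpa using ij) c.z_ne
    · exact sl2_fix c.odd c.tw_inj h2
        (keeps c.symm (fun y => c.tw_z ▸ all y) (c.Zt_symm ▸ z2) h2 hs) (fun K _ hK => hs K hK) ai ab
        (c.norm_tw.2 hb) bi bj (c.tw_z ▸ hi) n2 ⟨N, e2⟩ ⟨N', e2'⟩
  · exact sl2_fix c.odd c.inj h2 (keeps c all z2 h2 hs) (fun K _ hK => hs K hK) ai ab hb bi bj hi n1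
      ⟨M, e1⟩ ⟨M', e1'⟩

end C4Aux

variable {G Y : Type*} [Group G] [Finite G] [Group Y] {X : Subgroup G} {t : G} {lam : SL3 →* G} {ι : M6 →* G}

theorem Au.no_gen {α : MulAut G} (h : Au α lam) {F : Type} [Field F] [Fintype F] {s t' : G} {π : G → Y}
    {σ : SL(2, F) →* Y} (hg : L4.Gen (lam frmZ) s t' π σ) (h8 : ¬ 2 ^ 8 ∣ Nat.card G) : False := by
  have := hg.quo.finite
  obtain ⟨β, h2, hβ, -, hs⟩ := quo_aut hg.quo α (h.fix _) h.sq
  have cm : ∀ g : SL3, g * frmZ = frmZ * g → Commute (lam g) (lam frmZ) := fun g e => Commute.map e lam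
  have ci := cm (frmA ^ 2) (by decide)
  have cj' := cm (frmA * frmD) (by decide)
  have cb := cm frmS (by decide)
  have cz := cm frmZ rfl
  have q := hg.quo
  refine h8 ((C4Aux.core hg.cz (fun y => hg.hz ▸ q.central y) hg.z2 h2 (hs h.sol)
    (i := π (lam (frmA ^ 2))) (j := π (lam (frmA * frmD))) (b := π (lam frmS))
    (by rw [hβ _ ci, h.fix]) (by rw [hβ _ cb, h.fix]) ?_ ?_ ?_ ?_ ?_).trans
    ((card_dvd_of_surjective _ q.hom_surj).trans (card_subgroup_dvd_card _)))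
  · rw [← q.mul _ _ cb cb, ← q.mul _ _ (cb.mul_left cb) (cb.mul_left cb), ← map_mul, ← map_mul]
    exact congrArg (fun g => π (lam g)) (by decide)
  · rw [← q.conj cb ci, ← map_inv, ← map_mul, ← map_mul]
    exact congrArg (fun g => π (lam g)) (mul_inv_eq_iff_eq_mul.2 (by decide))
  · rw [← q.conj cb cj', ← q.mul _ _ ci cj', ← map_inv, ← map_mul, ← map_mul, ← map_mul]
    exact congrArg (fun g => π (lam g)) (mul_inv_eq_iff_eq_mul.2 (by decide))
  · rw [← hg.hz, ← q.mul _ _ ci ci, ← map_mul]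
    exact congrArg (fun g => π (lam g)) (by decide)
  · rw [← hg.hz, ← q.mul _ _ ci cj', ← q.mul _ _ cj' ci, ← q.mul _ _ cz (cj'.mul_left ci), ← map_mul, ← map_mul,
      ← map_mul]
    exact congrArg (fun g => π (lam g)) (by decide)

end Cfsg.Agent.L3S
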