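import Mathlib
import Cfsg.Agent.L3S.Defs2

/-! The fusion of the central involution in the case of a Sylow subgroup of type `PGSp₆(3)`. -/

set_option autoImplicit false
set_option linter.unusedSectionVars false

namespace Cfsg.Agent.L3S

open Cfsg.Agent.L33 Cfsg.Agent.P4 Cfsg.Agent.Loc.Mss Cfsg.Agent.GW Subgroup
open scoped MatrixGroups commutatorElement

variable {G Y : Type*} [Group G] [Finite G] [Group Y] {X : Subgroup G} {t : G} {lam : SL3 →* G} {ι : M6 →* G}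

namespace D1Aux

open M6

theorem sq : ∀ w ∈ SX, w * w * (w * w) = 1 → w * w ∈ U := by decide +kernel

theorem cen_z2 : ∀ g ∈ SX, z2 * g = g * z2 ↔ g ∈ E1 := by decide +kernel

theorem cen_U : ∀ g ∈ E1, ∀ u ∈ U, u * g = g * u := by
  simp only [mem_U, forall_eq_or_imp, forall_eq]
  decide +kernel

theorem nor_U : ∀ g, ∀ u ∈ U, g * u * g⁻¹ ∈ U := by
  simp only [mem_U, forall_eq_or_imp, forall_eq]
  decide +kernel

theorem comps : ∀ y ∈ E1, y * y = 1 → y ∉ U → ∀ w, w = ⟨y.x, y.y, 1, 1, false, false⟩ ∨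
    w = ⟨false, false, y.q2, 1, false, false⟩ ∨ w = ⟨false, false, 1, y.q3, false, false⟩ →
    w ∈ SX ∧ y * w = w * y ∧ w * w * (w * w) = 1 := by
  simp only [forall_eq_or_imp, forall_eq]
  decide +kernel

theorem comps' : ∀ y ∈ E1, y * y = 1 → y ∉ U →
    (⟨y.x, y.y, 1, 1, false, false⟩ : M6) * ⟨y.x, y.y, 1, 1, false, false⟩ = z ∧
    (⟨false, false, y.q2, 1, false, false⟩ : M6) * ⟨false, false, y.q2, 1, false, false⟩ = z2 ∧
    (⟨false, false, 1, y.q3, false, false⟩ : M6) * ⟨false, false, 1, y.q3, false, false⟩ = z3 := by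
  decide +kernel

theorem outer : ∀ y ∈ SX, y * y = 1 → y ∉ E1 → ∃ s ∈ SX, y = s * d * s⁻¹ ∨
    (d * (s * y * s⁻¹) = s * y * s⁻¹ * d ∧ s * y * s⁻¹ ≠ d ∧ s * y * s⁻¹ ≠ d * z ∧ s * y * s⁻¹ ∉ U) := by
  decide +kernel

theorem inv_W : ∀ w ∈ W, w * w = 1 → w = 1 ∨ w = z ∨ w = z2 ∨ w = z3 ∨ ∃ s ∈ SX, w = s * d * s⁻¹ := by
  decide +kernel

theorem conj_d : ∀ s ∈ SX, s * d * s⁻¹ ∈ W := by decide +kernel

theorem gen_W : ∀ w ∈ W, ∃ a ∈ W, a * a = 1 ∧ a * w * (a * w) = 1 := by decide +kernel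

theorem E1_le : E1 ≤ SX := fun _ h => h.1

theorem W_le : W ≤ SX := fun _ h => h.1.1

theorem SX_le : SX ≤ Cen z := fun g _ => mem_Cen.2 (z_comm g).symm

theorem rho_z (h : Six X t lam ι) : lam frmR * ι z * (lam frmR)⁻¹ = ι d := by
  rw [← letters.2.2.1, map_pow, h.ha, h.hd, h.frm.cfg.ρz]

theorem rho_d (h : Six X t lam ι) : lam frmR * ι d * (lam frmR)⁻¹ = ι (d * z) := by
  rw [← letters.2.2.1, map_mul, map_pow, h.ha, h.hd, h.frm.cfg.ρd]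

theorem fu_zd (h : Six X t lam ι) : Fu ι X z d := ⟨_, h.frm.le frmR, rho_z h⟩

end D1Aux

namespace Six

open D1Aux

variable (h : Six X t lam ι)
include h

theorem syX : Sy ι M6.SX X := by
  have := h.frm.nor
  exact h.sy.sub le_top le_top (norm_normal _ _) fun a _ => h.mem a

theorem syU : Sy ι M6.E1 (X ⊓ 𝐂[M6.U.map ι]) := by
  have := h.frm.nor
  have h1 : Sy ι M6.SX (X ⊓ 𝐍[M6.U.map ι]) := ⟨h.sy.inj, h.syX.syl.mono (le_inf h.syX.syl.le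
    (map_norm_le ι (norm_of_forall_cj_le fun g _ => cj_le_iff.2 (nor_U g)))) inf_le_left⟩
  refine h1.sub E1_le (inf_le_inf_left _ (cent_le_norm _)) (norm_inf (norm_normal _ _) (norm_cent inf_le_right))
    fun a ha => ⟨fun h2 => (cen_z2 a ha).1 (h.sy.inj ?_), fun h2 => ⟨(h.mem a).2 ha, ?_⟩⟩
  · rw [map_mul, map_mul]
    exact h2.2 _ (mem_map_of_mem ι (by decide))
  · rintro _ ⟨u, hu, rfl⟩
    rw [← map_mul, ← map_mul, cen_U a h2 u hu]

theorem fuse_U : ∃ g φ, Mp ι M6.SX (X ⊓ Cen (ι M6.z)) g (M6.SX ⊓ Cen M6.d) φ ∧ φ M6.d = M6.z2 := by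
  obtain ⟨g, φ, m, e⟩ := h.syX.ext (by decide) SX_le (fu_zd h).symm
  have hi : M6.i1 ∈ M6.SX ⊓ Cen M6.d := mem_cenA.2 (by decide)
  have hz : M6.z ∈ M6.SX ⊓ Cen M6.d := mem_cenA.2 (by decide)
  have hd : M6.d ∈ M6.SX ⊓ Cen M6.d := mem_cenA.2 (by decide)
  have e1 := m.sq hi (by decide : M6.i1 * M6.i1 = M6.z)
  have h1 := sq _ (m.mem _ hi) (by rw [e1, m.sq_one hz (by decide)])
  have e2 : g * lam frmR * ι M6.z * (g * lam frmR)⁻¹ = ι M6.z := by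
    conv_rhs => rw [← e, ← m.eq _ hd, ← rho_z h]
    group
  have e3 : g * lam frmR * ι M6.d * (g * lam frmR)⁻¹ = ι (M6.z * φ M6.z) := by
    rw [show M6.z * φ M6.z = φ (M6.d * M6.z) by rw [m.mul hd hz, e], ← m.eq _ (mul_mem hd hz), ← rho_d h]
    group
  have h2 : Fu ι (X ⊓ Cen (ι M6.z)) M6.d (M6.z * φ M6.z) :=
    ⟨_, ⟨mul_mem m.hg (h.frm.le _), mem_Cen.2 (mul_inv_eq_iff_eq_mul.1 e2).symm⟩, e3⟩
  obtain ⟨k, hk, e4⟩ : Fu ι (X ⊓ Cen (ι M6.z)) M6.d M6.z2 := by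
    rw [e1, M6.mem_U] at h1
    rcases h1 with h1 | h1 | h1 | h1
    · exact absurd h1 (m.ne_one hz (by decide))
    · exact absurd (m.inj' hz hd (h1.trans e.symm)) (by decide)
    · exact h2.trans (Fu.of_conj M6.d (h.syH.mem (by decide)) (by rw [h1]; decide))
    · exact h2.trans (Fu.of_conj 1 (h.syH.mem (by decide)) (by rw [h1]; decide))
  have h3 : (X ⊓ Cen (ι M6.z)) ⊓ Cen (ι M6.z2) ≤ X ⊓ 𝐂[M6.U.map ι] := fun x hx => ⟨hx.1.1, by
    rintro _ ⟨u, hu, rfl⟩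
    have c1 := mem_Cen.1 hx.1.2
    have c2 := mem_Cen.1 hx.2
    rcases (M6.mem_U u).1 hu with rfl | rfl | rfl | rfl
    · simp
    · exact c1
    · exact c2
    · rw [show M6.z3 = M6.z * M6.z2 by decide, map_mul]
      exact c1.mul_left c2⟩
  obtain ⟨c, hc, h4⟩ := h.syU.syl.conj_le (pg_cj (h.syH.pg inf_le_left) k) ((h.syH.cj_cen_le hk e4).trans h3)
  have hU : ∀ u ∈ M6.U, Commute (ι u) c := fun u hu => hc.2 _ (mem_map_of_mem ι hu)
  obtain ⟨ψ, m'⟩ := exists_mp (A := M6.SX) (H := X ⊓ Cen (ι M6.z)) h.sy.inj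
    (mul_mem ⟨hc.1, mem_Cen.2 (hU _ (by decide))⟩ hk) (B := M6.SX ⊓ Cen M6.d)
    (by rw [← cj_cj]; exact h4.trans (map_mono E1_le))
  refine ⟨_, ψ, m', h.sy.inj ?_⟩
  rw [← m'.eq _ hd]
  calc _ = c * (k * ι M6.d * k⁻¹) * c⁻¹ := by group
    _ = _ := by rw [e4, ← (hU _ (by decide)).eq, mul_inv_cancel_right]

theorem not_conj {y : M6} (hy : y ∈ M6.E1) (e : Fu ι X y M6.z) : y ∈ M6.U := by
  by_contra hn
  have y2 := e.sq_eq_one h.sy.inj (by decide)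
  obtain ⟨g, φ, m, e1⟩ := h.syX.ext (E1_le hy) SX_le e
  have key : ∀ w, w ∈ M6.SX ∧ y * w = w * y ∧ w * w * (w * w) = 1 → w * w ∈ M6.U → w * w ≠ 1 →
      w * w ∈ M6.SX ⊓ Cen y ∧ (φ (w * w) = M6.z2 ∨ φ (w * w) = M6.z3) := fun w hw hu h1 => by
    have h2 : w ∈ M6.SX ⊓ Cen y := mem_cenA.2 ⟨hw.1, hw.2.1⟩
    have h3 := mul_mem h2 h2
    have h4 := sq _ (m.mem _ h2) (by rw [← m.mul h2 h2, m.sq_one h3 hw.2.2])
    rw [← m.mul h2 h2, M6.mem_U] at h4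
    refine ⟨h3, (h4.resolve_left (m.ne_one h3 h1)).resolve_left fun h5 => hn ?_⟩
    rwa [← m.inj' h3 (self_cenA (E1_le hy)) (h5.trans e1.symm)]
  obtain ⟨a1, a2, a3⟩ := comps' y hy y2 hn
  have k1 := key _ (comps y hy y2 hn _ (Or.inl rfl))
  have k2 := key _ (comps y hy y2 hn _ (Or.inr (Or.inl rfl)))
  have k3 := key _ (comps y hy y2 hn _ (Or.inr (Or.inr rfl)))
  rw [a1] at k1
  rw [a2] at k2
  rw [a3] at k3
  obtain ⟨b1, c1⟩ := k1 (by decide) (by decide)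
  obtain ⟨b2, c2⟩ := k2 (by decide) (by decide)
  obtain ⟨b3, c3⟩ := k3 (by decide) (by decide)
  have n1 : φ M6.z ≠ φ M6.z2 := fun e => absurd (m.inj' b1 b2 e) (by decide)
  have n2 : φ M6.z ≠ φ M6.z3 := fun e => absurd (m.inj' b1 b3 e) (by decide)
  have n3 : φ M6.z2 ≠ φ M6.z3 := fun e => absurd (m.inj' b2 b3 e) (by decide)
  rcases c1 with c1 | c1 <;> rcases c2 with c2 | c2 <;> rcases c3 with c3 | c3 <;> simp_all

theorem zcls {y : M6} (hy : y ∈ M6.SX) :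
    Fu ι X y M6.z ↔ y = M6.z ∨ y = M6.z2 ∨ y = M6.z3 ∨ ∃ s ∈ M6.SX, y = s * M6.d * s⁻¹ := by
  obtain ⟨g, φ, m, e1⟩ := h.fuse_U
  have hz : M6.z ∈ M6.SX ⊓ Cen M6.d := mem_cenA.2 (by decide)
  have hd : M6.d ∈ M6.SX ⊓ Cen M6.d := mem_cenA.2 (by decide)
  have f2 : Fu ι X M6.z2 M6.z := (e1 ▸ (m.fu hd).mono inf_le_left).symm.trans (fu_zd h).symm
  refine ⟨fun e => ?_, ?_⟩
  · by_cases h1 : y ∈ M6.E1
    · rcases (M6.mem_U y).1 (h.not_conj h1 e) with h2 | h2 | h2 | h2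
      · exact absurd (h2 ▸ e.symm).isConj (by simpa using h.sy.inj.ne (by decide : M6.z ≠ 1))
      all_goals simp [h2]
    obtain ⟨s, hs, h2 | ⟨h2, h3, h4, h5⟩⟩ := outer y hy (e.sq_eq_one h.sy.inj (by decide)) h1
    · exact Or.inr (Or.inr (Or.inr ⟨s, hs, h2⟩))
    have hw : s * y * s⁻¹ ∈ M6.SX ⊓ Cen M6.d := mem_cenA.2 ⟨mul_mem (mul_mem hs hy) (inv_mem hs), h2⟩
    have e2 : φ M6.z = M6.z := (m.fu hz).eq_of_cen h.sy.inj inf_le_right
    have h6 := h.not_conj ((cen_z2 _ (m.mem _ hw)).1 (e1 ▸ (m.comm hd hw).2 h2))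
      ((((m.fu hw).mono inf_le_left).symm.trans (Fu.of_conj s ((h.mem s).2 hs) rfl).symm).trans e)
    rcases (M6.mem_U _).1 h6 with h7 | h7 | h7 | h7
    · exact absurd (m.inj' hw (one_mem _) (h7.trans m.one.symm) ▸ one_mem _) h5
    · exact absurd (m.inj' hw hz (h7.trans e2.symm) ▸ by decide) h5
    · exact absurd (m.inj' hw hd (h7.trans e1.symm)) h3
    · exact absurd (m.inj' hw (mul_mem hd hz) (by rw [h7, m.mul hd hz, e1, e2]; decide)) h4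
  · rintro (rfl | rfl | rfl | ⟨s, hs, rfl⟩)
    · exact Fu.refl _
    · exact f2
    · exact (Fu.of_conj M6.d ((h.mem _).2 (by decide)) (by decide)).trans f2
    · exact (Fu.of_conj s ((h.mem s).2 hs) rfl).symm.trans (fu_zd h).symm

theorem W_wc {g : G} {φ : M6 → M6} (m : Mp ι M6.SX X g M6.W φ) : ∀ w ∈ M6.W, φ w ∈ M6.W := by
  have key : ∀ w ∈ M6.W, w * w = 1 → φ w ∈ M6.W := fun w hw h2 => by
    rcases inv_W w hw h2 with rfl | h3
    · rw [m.one]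
      exact one_mem _
    rcases (h.zcls (m.mem w hw)).1 ((m.fu hw).symm.trans ((h.zcls (W_le hw)).2 h3)) with e | e | e | ⟨s, hs, e⟩ <;>
      rw [e]
    exacts [by decide, by decide, by decide, conj_d s hs]
  intro w hw
  obtain ⟨a, ha, h1, h2⟩ := gen_W w hw
  rw [show w = a * (a * w) by rw [← mul_assoc, h1, one_mul], m.mul ha (mul_mem ha hw)]
  exact mul_mem (key a ha h1) (key _ (mul_mem ha hw) h2)

end Six

end Cfsg.Agent.L3S
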