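import Mathlib
import Cfsg.Agent.L3S.Defs2
import Cfsg.Agent.Cl.SpMat
import Cfsg.Agent.Phan.AutSL2

set_option autoImplicit false

namespace Cfsg.Agent.L3S

open Cfsg.Agent.L33 Cfsg.Agent.P4 Cfsg.Agent.Loc.Mss Cfsg.Agent.GW Subgroup
open scoped MatrixGroups commutatorElement

namespace D8bAux

open Matrix

theorem lev_val (g : GL2) : (lev g).1 = fromBlocks (g.1.det • g.1) 0 0 g.1.adjugateᵀ := rfl

theorem lng0_val (g : SL2) : (lng0 g).1 = fromBlocks !![g.1 0 0, 0; 0, 1] !![g.1 0 1, 0; 0, 0]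
    !![g.1 1 0, 0; 0, 0] !![g.1 1 1, 0; 0, 1] := rfl

theorem lng1_val (g : SL2) : (lng1 g).1 = fromBlocks !![1, 0; 0, g.1 0 0] !![0, 0; 0, g.1 0 1]
    !![0, 0; 0, g.1 1 0] !![1, 0; 0, g.1 1 1] := rfl

theorem lev_sl (s : SL2) : (lev (SpecialLinearGroup.toGL s)).1 = fromBlocks s.1 0 0 s.1.adjugateᵀ := by
  change fromBlocks (s.1.det • s.1) 0 0 s.1.adjugateᵀ = _
  rw [s.2, one_smul]

/-- An element of `SL₂(3)` from its entries. -/
def mkS (a b c d : F3) (h : a * d - b * c = 1) : SL2 := ⟨!![a, b; c, d], by rw [det_fin_two_of, h]⟩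

theorem mkS_val (a b c d : F3) (h : a * d - b * c = 1) : (mkS a b c d h).1 = !![a, b; c, d] := rfl

theorem tau_val (x : Sp4) : (tau x).1 = TT * x.1 * TT := rfl

theorem sp_mul (x y : Sp4) : (x * y).1 = x.1 * y.1 := rfl

theorem tau_lev (g : GL2) : tau (lev g) = lev g := Subtype.ext (by
  rw [tau_val, lev_val]
  simp [TT, fromBlocks_multiply])

theorem neg_self {a : F3} (h : -a = a) : a = 0 := by
  revert a
  decide

/-- The diagonal matrix `diag (1, -1)`. -/
def d0 : GL2 := ⟨!![1, 0; 0, -1], !![1, 0; 0, -1], by decide, by decide⟩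

/-- The rotation. -/
def wS : SL2 := mkS 0 1 (-1) 0 (by decide)

theorem wS_val : wS.1 = !![0, 1; -1, 0] := rfl

theorem det_d0 : d0.1.det = -1 := by simp [d0, det_fin_two]

theorem exists_sl {g : GL2} (h : g.1.det = 1) : ∃ s : SL2, SpecialLinearGroup.toGL s = g :=
  ⟨⟨g.1, h⟩, Units.ext rfl⟩

theorem gl_hom_ext {H : Type*} [Group H] {f f' : GL2 →* H}
    (h1 : ∀ s : SL2, f (SpecialLinearGroup.toGL s) = f' (SpecialLinearGroup.toGL s))
    (h2 : f d0 = f' d0) (g : GL2) : f g = f' g := by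
  have h : ∀ x : F3, x * x = 1 → x = 1 ∨ x = -1 := by decide
  rcases h _ (det_sq g) with h | h
  · obtain ⟨s, rfl⟩ := exists_sl h
    exact h1 s
  · have h' : (g * d0).1.det = 1 := by
      rw [Units.val_mul, det_mul, h, det_d0]; norm_num
    obtain ⟨s, e⟩ := exists_sl h'
    have : g = SpecialLinearGroup.toGL s * d0 := by
      rw [e, mul_assoc, show d0 * d0 = 1 from by decide, mul_one]
    rw [this, map_mul, map_mul, h1, h2]

theorem cen_sl {x : GL2} (h : ∀ s : SL2, x * SpecialLinearGroup.toGL s = SpecialLinearGroup.toGL s * x) :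
    x = 1 ∨ x = -1 := by
  have h1 := congrArg Units.val (h ⟨!![1, 1; 0, 1], by decide⟩)
  have h2 := congrArg Units.val (h ⟨!![1, 0; 1, 1], by decide⟩)
  have h3 := det_sq x
  change x.1 * !![1, 1; 0, 1] = !![1, 1; 0, 1] * x.1 at h1
  change x.1 * !![1, 0; 1, 1] = !![1, 0; 1, 1] * x.1 at h2
  have key : ∀ a b c d : F3, !![a, b; c, d] * !![1, 1; 0, 1] = !![1, 1; 0, 1] * !![a, b; c, d] →
      !![a, b; c, d] * !![1, 0; 1, 1] = !![1, 0; 1, 1] * !![a, b; c, d] →
      (a * d - b * c) * (a * d - b * c) = 1 → !![a, b; c, d] = 1 ∨ !![a, b; c, d] = -1 := by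
    decide +kernel
  rw [det_fin_two] at h3
  rw [eta_fin_two x.1] at h1 h2
  rcases key _ _ _ _ h1 h2 h3 with k | k
  · left
    exact Units.ext ((eta_fin_two x.1).trans k)
  · right
    exact Units.ext ((eta_fin_two x.1).trans k)

/-- The element interchanging the two isotropic planes. -/
def c0 : Sp4 := ⟨fromBlocks 0 !![0, 1; -1, 0] !![0, -1; 1, 0] 0, by
  rw [SymplecticGroup.mem_iff]
  decide +kernel⟩

theorem c0_sl (s : SL2) : c0 * lev (SpecialLinearGroup.toGL s) = lev (SpecialLinearGroup.toGL s) * c0 :=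
  Subtype.ext (by
    rw [sp_mul, sp_mul, lev_val]
    ext i j
    rcases i with i | i <;> rcases j with j | j <;> fin_cases i <;> fin_cases j <;>
      simp [c0, mul_apply, Fin.sum_univ_succ, adjugate_fin_two])

theorem c0_d : c0 * lev (-d0) = lev d0 * c0 :=
  Subtype.ext (by
    rw [sp_mul, sp_mul, lev_val, lev_val]
    ext i j
    rcases i with i | i <;> rcases j with j | j <;> fin_cases i <;> fin_cases j <;>
      simp [c0, d0, mul_apply, Fin.sum_univ_succ, adjugate_fin_two, det_fin_two])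

theorem c0_tau (x : Sp4) : tau (c0 * x * c0⁻¹) = c0 * tau x * c0⁻¹ := by
  have h : (tau c0).1 = -c0.1 := by decide +kernel
  rw [map_mul, map_mul, map_inv, mul_inv_eq_iff_eq_mul, mul_assoc, mul_assoc, ← inv_mul_eq_iff_eq_mul,
    ← mul_assoc, ← mul_assoc]
  have h2 : (c0⁻¹ * tau c0).1 = -1 := by
    rw [sp_mul, h, Matrix.mul_neg, ← sp_mul, inv_mul_cancel]; rfl
  apply Subtype.ext
  rw [mul_assoc (tau x), sp_mul _ (tau x), sp_mul (tau x), h2]
  simp

/-- An injective endomorphism of `GL₂(3)` is inner on `SL₂(3)`. -/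
theorem inner_sl {ν : GL2 →* GL2} (hν : Function.Injective ν) :
    ∃ h : GL2, ∀ s : SL2, ν (SpecialLinearGroup.toGL s) = h * SpecialLinearGroup.toGL s * h⁻¹ := by
  have hdet : (GeneralLinearGroup.det.comp (ν.comp SpecialLinearGroup.toGL) : SL2 →* F3ˣ) = 1 := by
    refine Cl.sl_hom_ext fun i j hij c => ?_
    have h3 : (SpecialLinearGroup.transvection hij c : SL2) ^ 3 = 1 := by
      apply Subtype.ext
      change (Matrix.transvection i j c) ^ 3 = 1
      rw [pow_succ, sq, transvection_mul_transvection_same _ _ hij, transvection_mul_transvection_same _ _ hij,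
        show c + c + c = 0 from by revert c; decide, transvection_zero]
    have k : ∀ u : F3ˣ, u ^ 3 = 1 → u = 1 := by decide
    exact k _ (by rw [← map_pow, h3, map_one])
  have hd : ∀ s : SL2, (ν (SpecialLinearGroup.toGL s)).1.det = 1 := fun s =>
    congrArg Units.val (DFunLike.congr_fun hdet s)
  choose α hα using fun s => exists_sl (hd s)
  have hinj : Function.Injective (SpecialLinearGroup.toGL : SL2 →* GL2) :=
    SpecialLinearGroup.toGL_injective
  let α' : SL2 →* SL2 := MonoidHom.mk' α fun a b => hinj (by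
    rw [map_mul, hα, hα, hα, map_mul, map_mul])
  have hα' : Function.Injective α' := fun a b hab => hinj (hν (by
    rw [← hα, ← hα]; exact congrArg _ hab))
  obtain ⟨h, τ, e⟩ := Phan.exists_aut_sl2
    (MulEquiv.ofBijective α' (Finite.injective_iff_bijective.1 hα'))
  refine ⟨h, fun s => ?_⟩
  rw [← hα]
  apply Units.ext
  have hτ : (s : Matrix (Fin 2) (Fin 2) F3).map τ = s := by
    ext i j
    have : (τ : F3 →+* F3) = RingHom.id _ := Subsingleton.elim _ _
    exact DFunLike.congr_fun this _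
  have := e s
  rw [hτ] at this
  exact this

theorem lng1_eq (g : SL2) : lng1 g * lev (SpecialLinearGroup.toGL wS) =
    lev (SpecialLinearGroup.toGL wS) * lng0 g :=
  Subtype.ext (by
    rw [sp_mul, sp_mul, lev_sl, lng0_val, lng1_val, wS_val]
    ext i j
    rcases i with i | i <;> rcases j with j | j <;> fin_cases i <;> fin_cases j <;>
      simp [mul_apply, Fin.sum_univ_succ, adjugate_fin_two])

theorem sl_trans (a b : F3) : ∃ g : SL2, ∃ c : F3, (c = 0 ∨ c = 1) ∧ g.1 0 0 * c = a ∧ g.1 1 0 * c = b := by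
  have key : ∀ a b : F3, ∃ p q r s c : F3, p * s - q * r = 1 ∧ (c = 0 ∨ c = 1) ∧ p * c = a ∧ r * c = b := by
    decide +kernel
  obtain ⟨p, q, r, s, c, h, h'⟩ := key a b
  exact ⟨mkS p q r s h, c, h'⟩

theorem conj_mem {H : Subgroup Sp4} {x : Sp4} {v w : Fin 2 ⊕ Fin 2 → F3} {c : F3} (hx : x ∈ H)
    (e : x.1 *ᵥ v = w) (hv : Cl.spTM v c ∈ H) : Cl.spTM w c ∈ H := by
  rw [← e, ← Cl.spTM_conj]
  exact H.mul_mem (H.mul_mem hx hv) (H.inv_mem hx)

theorem sp_e0 (c : F3) : Cl.spTM (m := 2) (Sum.elim ![1, 0] ![0, 0]) c ∈ lng0.range := by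
  refine ⟨mkS 1 c 0 1 (by simp), Subtype.ext ?_⟩
  rw [Cl.coe_spTM, lng0_val, mkS_val]
  ext i j
  rcases i with i | i <;> rcases j with j | j <;> fin_cases i <;> fin_cases j <;>
    simp [sympTransvection, J, vecMulVec, mulVec, dotProduct, Fin.sum_univ_succ, one_apply]

end D8bAux

open D8bAux

variable {G Y : Type*} [Group G] [Finite G] [Group Y] {X : Subgroup G} {t : G} {lam : SL3 →* G} {ι : M6 →* G}

omit [Finite G]

theorem lev_inj : Function.Injective lev := by
  rw [injective_iff_map_eq_one]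
  intro g hg
  have h := congrArg Subtype.val hg
  rw [lev_val] at h
  have h1 := congrFun (congrFun h (Sum.inr 0)) (Sum.inr 0)
  have h2 := congrFun (congrFun h (Sum.inr 0)) (Sum.inr 1)
  have h3 := congrFun (congrFun h (Sum.inr 1)) (Sum.inr 0)
  have h4 := congrFun (congrFun h (Sum.inr 1)) (Sum.inr 1)
  simp [Matrix.adjugate_fin_two, Matrix.one_apply] at h1 h2 h3 h4
  apply Units.ext
  ext i j
  fin_cases i <;> fin_cases j <;> simp [*]

theorem fix_tau (x : Sp4) : tau x = x ↔ x ∈ lev.range := by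
  refine ⟨fun h => ?_, fun ⟨g, hg⟩ => hg ▸ tau_lev g⟩
  obtain ⟨x, hx⟩ := x
  have h1 : TT * x * TT = x := congrArg Subtype.val h
  have hx' := SymplecticGroup.mem_iff.1 hx
  rw [← Matrix.fromBlocks_toBlocks x] at h1 hx'
  generalize hA : x.toBlocks₁₁ = A at h1 hx'
  generalize hB : x.toBlocks₁₂ = B at h1 hx'
  generalize hC : x.toBlocks₂₁ = C at h1 hx'
  generalize hD : x.toBlocks₂₂ = D at h1 hx'
  simp only [TT, Matrix.fromBlocks_multiply, Matrix.fromBlocks_inj] at h1
  simp at h1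
  have hB0 : B = 0 := by
    ext i j
    exact neg_self (congrFun (congrFun h1.1 i) j)
  have hC0 : C = 0 := by
    ext i j
    exact neg_self (congrFun (congrFun h1.2 i) j)
  subst hB0 hC0
  simp [Matrix.J, Matrix.fromBlocks_multiply, Matrix.fromBlocks_transpose] at hx'
  have hAD : A * D.transpose = 1 := hx'.1
  have hdet : A.det * A.det = 1 := by
    have h : ∀ x y : F3, x * y = 1 → x * x = 1 := by decide
    exact h _ D.transpose.det (by rw [← Matrix.det_mul, hAD, Matrix.det_one])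
  have hDA : D.transpose = A.det • A.adjugate := by
    calc D.transpose = (A.det * A.det) • D.transpose := by rw [hdet, one_smul]
      _ = A.det • (A.adjugate * (A * D.transpose)) := by
        rw [← Matrix.mul_assoc, Matrix.adjugate_mul, Matrix.smul_mul, Matrix.one_mul, smul_smul]
      _ = _ := by rw [hAD, Matrix.mul_one]
  have hu : (A.det • A) * A.adjugate = 1 := by
    rw [Matrix.smul_mul, Matrix.mul_adjugate, smul_smul, hdet, one_smul]
  refine ⟨⟨A.det • A, A.adjugate, hu, mul_eq_one_comm.1 hu⟩, Subtype.ext ?_⟩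
  rw [lev_val]
  change _ = x
  rw [← Matrix.fromBlocks_toBlocks x, hA, hB, hC, hD]
  have e : (A.det • A).det = A.det := by
    rw [Matrix.det_smul, Fintype.card_fin, sq, hdet, one_mul]
  change Matrix.fromBlocks ((A.det • A).det • A.det • A) 0 0 (A.det • A).adjugate.transpose = _
  rw [e, smul_smul, hdet, one_smul, Matrix.adjugate_smul, Fintype.card_fin, ← D.transpose_transpose, hDA]
  simp

theorem match_lev {μ : GL2 →* Sp4} (hi : Function.Injective μ) (hf : ∀ g, tau (μ g) = μ g) :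
    ∃ c : Sp4, (∀ x, tau (c * x * c⁻¹) = c * tau x * c⁻¹) ∧ ∀ g, c * μ g * c⁻¹ = lev g := by
  choose ν₀ hν using fun g => (fix_tau (μ g)).1 (hf g)
  let ν : GL2 →* GL2 := MonoidHom.mk' ν₀ fun a b => lev_inj (by rw [map_mul, hν, hν, hν, map_mul])
  have hν' : ∀ g, lev (ν g) = μ g := hν
  have hinj : Function.Injective ν := fun a b hab => hi (by rw [← hν', ← hν', hab])
  obtain ⟨h, e⟩ := inner_sl hinj
  have hd : d0⁻¹ * (h⁻¹ * ν d0 * h) = 1 ∨ d0⁻¹ * (h⁻¹ * ν d0 * h) = -1 := by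
    refine cen_sl fun s => ?_
    obtain ⟨s', e'⟩ := exists_sl (g := d0 * Matrix.SpecialLinearGroup.toGL s * d0⁻¹) (by
      rw [Units.val_mul, Units.val_mul, Matrix.det_mul, Matrix.det_mul, mul_right_comm, ← Matrix.det_mul,
        Units.mul_inv, Matrix.det_one, one_mul]
      exact s.2)
    have k := e s'
    rw [e', map_mul, map_mul, map_inv, e] at k
    generalize ν d0 = n at k ⊢
    generalize Matrix.SpecialLinearGroup.toGL s = σ at k ⊢
    calc _ = d0⁻¹ * h⁻¹ * (n * (h * σ * h⁻¹) * n⁻¹) * n * h := by group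
      _ = _ := by rw [k]; group
  have hl : ∀ x, tau ((lev h)⁻¹ * x * (lev h)⁻¹⁻¹) = (lev h)⁻¹ * tau x * (lev h)⁻¹⁻¹ := fun x => by
    rw [map_mul, map_mul, map_inv, map_inv, map_inv, tau_lev]
  have hs : ∀ s : SL2, (lev h)⁻¹ * μ (Matrix.SpecialLinearGroup.toGL s) * lev h =
      lev (Matrix.SpecialLinearGroup.toGL s) := fun s => by
    rw [← hν', e, map_mul, map_mul, map_inv]; group
  rcases hd with hd | hd
  · refine ⟨(lev h)⁻¹, hl, gl_hom_ext (f := (MulAut.conj (lev h)⁻¹).toMonoidHom.comp μ) (fun s => ?_) ?_⟩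
    · simpa using hs s
    · rw [inv_mul_eq_one] at hd
      conv_rhs => rw [hd]
      simp [hν']
  · have k1 := c0_tau
    have k2 := c0_sl
    have k3 := c0_d
    generalize c0 = c at k1 k2 k3
    rw [inv_mul_eq_iff_eq_mul, mul_neg, mul_one] at hd
    have k4 : (lev h)⁻¹ * μ d0 * lev h = lev (-d0) := by
      rw [← hd, map_mul, map_mul, map_inv, hν']
    generalize lev h = l at hl hs k4
    refine ⟨c * l⁻¹, fun x => ?_,
      gl_hom_ext (f := (MulAut.conj (c * l⁻¹)).toMonoidHom.comp μ) (fun s => ?_) ?_⟩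
    · rw [show c * l⁻¹ * x * (c * l⁻¹)⁻¹ = c * (l⁻¹ * x * l⁻¹⁻¹) * c⁻¹ by group, k1, hl]
      group
    · calc _ = c * (l⁻¹ * μ (Matrix.SpecialLinearGroup.toGL s) * l) * c⁻¹ := by simp [mul_assoc]
        _ = _ := by rw [hs, k2, mul_inv_cancel_right]
    · calc _ = c * (l⁻¹ * μ d0 * l) * c⁻¹ := by simp [mul_assoc]
        _ = _ := by rw [k4, k3, mul_inv_cancel_right]

theorem gen_sp4 : lng0.range ⊔ (lev.comp Matrix.SpecialLinearGroup.toGL).range = ⊤ := by
  obtain ⟨H, hH⟩ : ∃ H, H = lng0.range ⊔ (lev.comp Matrix.SpecialLinearGroup.toGL).range := ⟨_, rfl⟩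
  have h00 : lng0.range ≤ H := hH ▸ le_sup_left
  have h0 : ∀ g, lng0 g ∈ H := fun g => h00 ⟨g, rfl⟩
  have hl0 : (lev.comp Matrix.SpecialLinearGroup.toGL).range ≤ H := hH ▸ le_sup_right
  have hl : ∀ s : SL2, lev (Matrix.SpecialLinearGroup.toGL s) ∈ H := fun s => hl0 ⟨s, rfl⟩
  rw [← hH]
  have h1 : ∀ g, lng1 g ∈ H := fun g => by
    rw [eq_mul_inv_of_mul_eq (lng1_eq g)]
    exact H.mul_mem (H.mul_mem (hl _) (h0 _)) (H.inv_mem (hl _))
  have hc := @conj_mem H
  rw [eq_top_iff, ← Cl.sp_closure_spTM, closure_le]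
  rintro _ ⟨v, c, rfl⟩
  obtain ⟨g, a, -, ha, ha'⟩ := sl_trans (v (.inl 0)) (v (.inr 0))
  obtain ⟨k, b, -, hb, hb'⟩ := sl_trans (v (.inl 1)) (v (.inr 1))
  obtain ⟨s, u, hu, hs, hs'⟩ := sl_trans a b
  refine hc (v := Sum.elim ![a, v (.inl 1)] ![0, v (.inr 1)]) (h0 g) ?_ ?_
  · rw [lng0_val]
    ext i
    rcases i with i | i <;> fin_cases i <;>
      simp [Matrix.mulVec, dotProduct, Fin.sum_univ_succ, ha, ha']
  refine hc (v := Sum.elim ![a, b] ![0, 0]) (h1 k) ?_ ?_
  · rw [lng1_val]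
    ext i
    rcases i with i | i <;> fin_cases i <;>
      simp [Matrix.mulVec, dotProduct, Fin.sum_univ_succ, hb, hb']
  refine hc (v := Sum.elim ![u, 0] ![0, 0]) (hl s) ?_ ?_
  · rw [lev_sl]
    ext i
    rcases i with i | i <;> fin_cases i <;>
      simp [Matrix.mulVec, dotProduct, Fin.sum_univ_succ, hs, hs']
  rcases hu with rfl | rfl
  · have : (Sum.elim ![0, 0] ![0, 0] : Fin 2 ⊕ Fin 2 → F3) = 0 := by
      ext i
      rcases i with i | i <;> fin_cases i <;> rfl
    rw [this, Cl.spTM_zero_vec]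
    exact H.one_mem
  · exact h00 (sp_e0 c)

theorem lng_comm (a b : SL2) : Commute (lng0 a) (lng1 b) :=
  Subtype.ext (by
    rw [sp_mul, sp_mul, lng0_val, lng1_val]
    ext i j
    rcases i with i | i <;> rcases j with j | j <;> fin_cases i <;> fin_cases j <;>
      simp [Matrix.mul_apply, Fin.sum_univ_succ])

theorem cen_lng (x : Sp4) : Commute x (lng0 (-1)) ↔ ∃ a b, x = lng0 a * lng1 b := by
  constructor
  · intro h
    have h1 : x.1 * (lng0 (-1)).1 = (lng0 (-1)).1 * x.1 := congrArg Subtype.val h.eq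
    have hx := SymplecticGroup.mem_iff.1 x.2
    rw [lng0_val] at h1
    have e := fun i j => congrFun (congrFun h1 i) j
    have z1 := e (.inl 0) (.inl 1)
    have z2 := e (.inl 0) (.inr 1)
    have z3 := e (.inr 0) (.inl 1)
    have z4 := e (.inr 0) (.inr 1)
    have z5 := e (.inl 1) (.inl 0)
    have z6 := e (.inl 1) (.inr 0)
    have z7 := e (.inr 1) (.inl 0)
    have z8 := e (.inr 1) (.inr 0)
    have d1 := congrFun (congrFun hx (.inr 0)) (.inl 0)
    have d2 := congrFun (congrFun hx (.inr 1)) (.inl 1)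
    simp [Matrix.mul_apply, Fin.sum_univ_succ, Matrix.J, Matrix.one_apply] at z1 z2 z3 z4 z5 z6 z7 z8 d1 d2
    replace z1 := neg_self z1.symm
    replace z2 := neg_self z2.symm
    replace z3 := neg_self z3.symm
    replace z4 := neg_self z4.symm
    replace z5 := neg_self z5
    replace z6 := neg_self z6
    replace z7 := neg_self z7
    replace z8 := neg_self z8
    refine ⟨mkS (x.1 (.inl 0) (.inl 0)) (x.1 (.inl 0) (.inr 0)) (x.1 (.inr 0) (.inl 0)) (x.1 (.inr 0) (.inr 0)) ?_,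
      mkS (x.1 (.inl 1) (.inl 1)) (x.1 (.inl 1) (.inr 1)) (x.1 (.inr 1) (.inl 1)) (x.1 (.inr 1) (.inr 1)) ?_,
      Subtype.ext ?_⟩
    · simp only [z1, z2, z3, z4, z5, z6, z7, z8] at d1
      linear_combination d1
    · simp only [z1, z2, z3, z4, z5, z6, z7, z8] at d2
      linear_combination d2
    · rw [sp_mul, lng0_val, lng1_val, mkS_val, mkS_val]
      ext i j
      rcases i with i | i <;> rcases j with j | j <;> fin_cases i <;> fin_cases j <;>
        simp [Matrix.mul_apply, Fin.sum_univ_succ, z1, z2, z3, z4, z5, z6, z7, z8]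
  · rintro ⟨a, b, rfl⟩
    refine Commute.mul_left (Commute.map ?_ lng0) (lng_comm _ _).symm
    exact Subtype.ext (by simp)

theorem lng_inj {a b : SL2} (h : lng0 a * lng1 b = 1) : a = 1 ∧ b = 1 := by
  have h1 : (lng0 a).1 * (lng1 b).1 = 1 := congrArg Subtype.val h
  rw [lng0_val, lng1_val] at h1
  have e := fun i j => congrFun (congrFun h1 i) j
  have z1 := e (.inl 0) (.inl 0)
  have z2 := e (.inl 0) (.inr 0)
  have z3 := e (.inr 0) (.inl 0)
  have z4 := e (.inr 0) (.inr 0)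
  have z5 := e (.inl 1) (.inl 1)
  have z6 := e (.inl 1) (.inr 1)
  have z7 := e (.inr 1) (.inl 1)
  have z8 := e (.inr 1) (.inr 1)
  simp [Matrix.mul_apply, Fin.sum_univ_succ, Matrix.one_apply] at z1 z2 z3 z4 z5 z6 z7 z8
  constructor <;> ext i j <;> fin_cases i <;> fin_cases j <;> simp [*]

theorem exists_d : ∃ g : GL2, blk g = frmD ∧ lev g = lng0 (-1) := by
  refine ⟨d0, Subtype.ext ?_, Subtype.ext ?_⟩
  · change blkM d0.1 d0.1.det = _
    rw [det_d0]
    decide +kernel
  · rw [lev_val, lng0_val, det_d0]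
    ext i j
    rcases i with i | i <;> rcases j with j | j <;> fin_cases i <;> fin_cases j <;>
      simp [d0, Matrix.adjugate_fin_two]

theorem exists_w : ∃ w : SL2, ∀ x : Sp4,
    lng0 w * tau x * (lng0 w)⁻¹ = lng0 (-1) * tau (lng0 w * x * (lng0 w)⁻¹) * (lng0 (-1))⁻¹ := by
  refine ⟨wS, fun x => ?_⟩
  have h : lng0 (-1) * tau (lng0 wS) = lng0 wS := Subtype.ext (by
    rw [sp_mul, tau_val, lng0_val, lng0_val, wS_val]
    ext i j
    rcases i with i | i <;> rcases j with j | j <;> fin_cases i <;> fin_cases j <;>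
      simp [TT, Matrix.mul_apply, Fin.sum_univ_succ, Matrix.one_apply])
  rw [map_mul, map_mul, map_inv]
  conv_lhs => rw [← h]
  group

theorem low_eq (g : SL2) : low g = frmR * blk (Matrix.SpecialLinearGroup.toGL g) * frmR⁻¹ := by
  rw [eq_mul_inv_iff_mul_eq]
  apply Subtype.ext
  change lowM g.1 * frmR.1 = frmR.1 * blkM g.1 g.1.det
  rw [g.2]
  ext i j
  fin_cases i <;> fin_cases j <;> simp [lowM, blkM, frmR, Matrix.mul_apply, Fin.sum_univ_succ]

end Cfsg.Agent.L3S
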