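import Mathlib
import Cfsg.Agent.L3S.Defs2
import Cfsg.Agent.L3S.D8b
import Cfsg.Agent.Pres.CDBase
import Cfsg.Agent.Chev.SlimC
import Cfsg.Agent.Cl.LinearBasic

/-! The Curtis-Tits theorem of type `C₃` over the field with three elements. -/

set_option autoImplicit false

namespace Cfsg.Agent.L3S

namespace D11Aux

open Cfsg.Agent.Chev Cfsg.Agent.Chev.StRoot Cfsg.Agent.Chev.CD Cfsg.Agent.Ch Cfsg.Agent.Pr Cfsg.Agent.Cl Subgroup Matrix

/-- The abstract form. -/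
theorem ct_abs {K V : Type*} [Field K] [Finite K] [AddCommGroup V] [Module K V] {F : BakForm K V} (h : IsCD F true)
    (f : F.Frame (Fin (1 + 2))) (h0 : f.V0 = ⊥) {D : Type*} [Group D] {π : D →* F.EG} (N : Fin (1 + 2) → Subgroup D)
    (hN : ∀ k, (N k).map π = XS (h.xE f) ((st true 1).sgOn {k})) {A B : Subgroup D} (iA : InjIn π A) (iB : InjIn π B)
    (a0 : N 0 ≤ A) (a1 : N 1 ≤ A) (b1 : N 1 ≤ B) (b2 : N 2 ≤ B)
    (hc : ∀ x ∈ N 0, ∀ y ∈ N 2, Commute (π x) (π y) → Commute x y) :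
    InjIn π (⨆ k, N k) ∧ (⨆ k, N k).map π = ⊤ := by
  have h₀ := h.isModel f
  have cm := fun {r s : Rt true (1 + 2)} => commute_xE h f (r := r) (s := s)
  have hT := h.XS_xE f h0 (sr true 0)
  have hI := h.tor_injective f
  set x₀ := h.xE f
  set R := st true 1
  have ex : ∀ r t, ∃ d, ∀ k, r ∈ R.sgOn {k} → d ∈ N k ∧ π d = x₀ r t := fun r t => by
    by_cases hr : ∃ k, r ∈ R.sgOn {k}
    · obtain ⟨k, hk⟩ := hr
      obtain ⟨d, hd, e⟩ := (hN k).ge (x_mem_XS x₀ hk t)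
      refine ⟨d, fun l hl => ?_⟩
      obtain rfl : k = l := (sgOn_idx hk).1.symm.trans (sgOn_idx hl).1
      exact ⟨hd, e⟩
    · exact ⟨1, fun k hk => absurd ⟨k, hk⟩ hr⟩
  choose a ha using ex
  have loc : ∀ i k {H : Subgroup D}, InjIn π H → N i ≤ H → N k ≤ H →
      ∃ y : _ → K → D, R.LocSt {i, k} y ∧ ∀ r ∈ R.sgOn {i, k}, y r = a r := fun i k H hH hi hk =>
    loc_of_inj h₀.toIsSt hH (by
      rintro r ⟨_, rfl | rfl, e⟩ t
      exacts [⟨hi (ha r t _ ⟨_, rfl, e⟩).1, (ha r t _ ⟨_, rfl, e⟩).2⟩,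
        ⟨hk (ha r t _ ⟨_, rfl, e⟩).1, (ha r t _ ⟨_, rfl, e⟩).2⟩])
  have l02 : ∃ y : _ → K → D, R.LocSt {0, 2} y ∧ ∀ r ∈ R.sgOn {0, 2}, y r = a r := by
    obtain ⟨z, k1, k2⟩ := loc 0 0 iA a0 a0
    obtain ⟨z', k3, k4⟩ := loc 2 2 iB b2 b2
    refine ⟨a, locSt_pair' h₀ (by rw [st_A_sr]; decide) (locSt_single k1 k2) (locSt_single k3 k4)
      fun r hr s hs t u => hc _ (ha r t 0 hr).1 _ (ha s u 2 hs).1 ?_, fun _ _ => rfl⟩
    rw [(ha r t 0 hr).2, (ha s u 2 hs).2]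
    obtain ⟨_, rfl, rfl | rfl⟩ := hr <;> obtain ⟨_, rfl, rfl | rfl⟩ := hs <;>
      exact cm (by decide) (by decide) (by decide) (by decide) t u
  obtain ⟨y, h1, hy⟩ := h₀.exists_isSt_of_loc a fun i k => by
    fin_cases i <;> fin_cases k
    exacts [loc 0 0 iA a0 a0, loc 0 1 iA a0 a1, l02, loc 1 0 iA a1 a0, loc 1 1 iA a1 a1, loc 1 2 iB b1 b2,
      Set.pair_comm (0 : Fin (1 + 2)) 2 ▸ l02, loc 2 1 iB b2 b1, loc 2 2 iB b2 b2]
  have h2 : ∀ k, ∀ r ∈ R.sgOn {k}, ∀ t, y r t ∈ N k ∧ π (y r t) = x₀ r t := fun k r hr t => by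
    have := ha r t k hr
    obtain ⟨_, rfl, rfl | rfl⟩ := hr
    exacts [(h1 _).1 ▸ this, (h1 _).2 ▸ this]
  have h3 : x₀ = fun r t => π (y r t) := funext fun r =>
    (h₀.toIsSt.locSt Set.univ).ext ((hy.locSt _).map π) (fun r ⟨k, _, hr⟩ => funext fun t =>
      (h2 k r ⟨k, rfl, hr⟩ t).2.symm) r fun m hm => absurd trivial hm
  have inj := h₀.injIn_XS (h.hmul f) hI hy hy.hmul_of_finite fun r t => (congrFun (congrFun h3 r) t).symm
  have iN : ∀ k, InjIn π (N k) := fun k => by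
    fin_cases k
    exacts [iA.mono a0, iA.mono a1, iB.mono b2]
  refine ⟨inj.mono (iSup_le fun k d hd => ?_), top_unique ?_⟩
  · obtain ⟨d', hd', e⟩ : π d ∈ (XS y (R.sgOn {k})).map π := by
      rw [map_XS, ← h3, ← hN]; exact mem_map_of_mem π hd
    rw [← (iN k).eq (XS_le (fun r hr t => (h2 k r hr t).1) hd') hd e]
    exact XS_mono y (Set.subset_univ _) hd'
  · rw [← hT]
    refine ((XS_mono _ fun r _ k hk => absurd trivial hk).trans (h₀.toIsSt.XS_supp Set.univ).le).trans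
      (XS_le fun r ⟨k, _, hr⟩ t => ?_)
    exact ⟨_, le_iSup N k (h2 k r ⟨k, rfl, hr⟩ t).1, (h2 k r ⟨k, rfl, hr⟩ t).2⟩

theorem blkM_add (m n : Matrix (Fin 2) (Fin 2) F3) (c e : F3) : blkM (m + n) (c + e) = blkM m c + blkM n e := by
  ext i j; fin_cases i <;> fin_cases j <;> simp [blkM]

theorem blkM_tr (m : Matrix (Fin 2) (Fin 2) F3) (c : F3) : (blkM m c)ᵀ = blkM mᵀ c := by
  ext i j; fin_cases i <;> fin_cases j <;> rfl

theorem blkM_inj {m n : Matrix (Fin 2) (Fin 2) F3} {c e : F3} (h : blkM m c = blkM n e) : m = n := by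
  have := fun i j => congrFun (congrFun h i) j
  ext i j; fin_cases i <;> fin_cases j
  exacts [this 0 0, this 0 1, this 1 0, this 1 1]

/-- The orthogonal sum of a four-dimensional and a two-dimensional matrix. -/
def eM (x : Matrix (Fin 2 ⊕ Fin 2) (Fin 2 ⊕ Fin 2) F3) (a b c d : F3) : Matrix (Fin 3 ⊕ Fin 3) (Fin 3 ⊕ Fin 3) F3 :=
  fromBlocks (blkM x.toBlocks₁₁ a) (blkM x.toBlocks₁₂ b) (blkM x.toBlocks₂₁ c) (blkM x.toBlocks₂₂ d)

theorem eM_mul (x y : Matrix (Fin 2 ⊕ Fin 2) (Fin 2 ⊕ Fin 2) F3) (a b c d a' b' c' d' : F3) :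
    eM x a b c d * eM y a' b' c' d' =
      eM (x * y) (a * a' + b * c') (a * b' + b * d') (c * a' + d * c') (c * b' + d * d') := by
  rw [← fromBlocks_toBlocks x, ← fromBlocks_toBlocks y]
  simp only [eM, fromBlocks_multiply, toBlocks_fromBlocks₁₁, toBlocks_fromBlocks₁₂, toBlocks_fromBlocks₂₁,
    toBlocks_fromBlocks₂₂, blkM_mul, blkM_add]

theorem eM_tr (x : Matrix (Fin 2 ⊕ Fin 2) (Fin 2 ⊕ Fin 2) F3) (a b c d : F3) : (eM x a b c d)ᵀ = eM xᵀ a c b d := by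
  simp only [eM, fromBlocks_transpose, blkM_tr]
  rfl

theorem eM_J : eM (J (Fin 2) F3) 0 (-1) 1 0 = J (Fin 3) F3 := by decide

/-- `x ↦ x ⊕ 1`. -/
def e4 : Sp4 →* Sp6 := MonoidHom.mk' (fun x => ⟨eM x.1 1 0 0 1, by
    rw [SymplecticGroup.mem_iff, ← eM_J, eM_tr, eM_mul, eM_mul, SymplecticGroup.mem_iff.1 x.2]
    simp⟩) fun x y => Subtype.ext (by
  show eM (x.1 * y.1) 1 0 0 1 = eM x.1 1 0 0 1 * eM y.1 1 0 0 1
  rw [eM_mul]; simp)

theorem e4_inj : Function.Injective e4 := fun x y h => by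
  obtain ⟨h1, h2, h3, h4⟩ := fromBlocks_inj.1 (congrArg Subtype.val h)
  refine Subtype.ext ?_
  rw [← fromBlocks_toBlocks x.1, ← fromBlocks_toBlocks y.1, blkM_inj h1, blkM_inj h2, blkM_inj h3, blkM_inj h4]

/-- `g ↦ diag (g, g⁻¹ᵀ)`. -/
def e3 : SL3 →* Sp6 := MonoidHom.mk' (fun g => ⟨fromBlocks g.1 0 0 (g⁻¹).1ᵀ, by
    rw [SymplecticGroup.mem_iff]
    simp [J, fromBlocks_multiply, fromBlocks_transpose, mul_adjugate, ← transpose_mul]⟩)
  fun g h => Subtype.ext (by simp [fromBlocks_multiply])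

theorem e3_inj : Function.Injective e3 := fun _ _ h => Subtype.ext (fromBlocks_inj.1 (congrArg Subtype.val h)).1

theorem e3_val {H : Type*} [Group H] (φ : H →* SL3) (g : H) :
    (e3 (φ g)).1 = fromBlocks (φ g).1 0 0 (φ g⁻¹).1ᵀ := by
  rw [map_inv]; rfl

theorem compat (g : SL2) : e3 (blk (SpecialLinearGroup.toGL g)) = e4 (lev (SpecialLinearGroup.toGL g)) := by
  refine Subtype.ext ((e3_val (blk.comp SpecialLinearGroup.toGL) g).trans ?_)
  show fromBlocks (blkM g.1 g.1.det) 0 0 (blkM (g⁻¹).1 (g⁻¹).1.det)ᵀ =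
    eM (fromBlocks (g.1.det • g.1) 0 0 g.1.adjugateᵀ) 1 0 0 1
  rw [g.2, (g⁻¹).2, one_smul, blkM_tr, eM, toBlocks_fromBlocks₁₁, toBlocks_fromBlocks₁₂, toBlocks_fromBlocks₂₁,
    toBlocks_fromBlocks₂₂, show blkM 0 0 = 0 by decide]
  rfl

theorem gen_sl3 {H : Subgroup SL3} (h1 : ∀ g, low g ∈ H) (h2 : ∀ g : SL2, blk (SpecialLinearGroup.toGL g) ∈ H) :
    H = ⊤ := by
  have c : ∀ {a b : SL3}, a ∈ H → b ∈ H → a * b * a⁻¹ * b⁻¹ ∈ H := fun ha hb =>
    mul_mem (mul_mem (mul_mem ha hb) (inv_mem ha)) (inv_mem hb)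
  refine sl_eq_top_of_transvection_mem H fun i j hij t => ?_
  fin_cases i <;> fin_cases j
  · exact absurd rfl hij
  · convert h2 (GT.slUp t) using 1; revert t; decide +revert
  · convert c (h2 (GT.slUp t)) (h1 (GT.slUp 1)) using 1; revert t; decide +revert
  · convert h2 (GT.slLo t) using 1; revert t; decide +revert
  · exact absurd rfl hij
  · convert h1 (GT.slUp t) using 1; revert t; decide +revert
  · convert c (h1 (GT.slLo t)) (h2 (GT.slLo 1)) using 1; revert t; decide +revert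
  · convert h1 (GT.slLo t) using 1; revert t; decide +revert
  · exact absurd rfl hij

/-- The form. -/
abbrev FF : BakForm F3 (Fin 3 ⊕ Fin 3 → F3) := bakSp (spB_nondegenerate (m := 3) (R := F3)) spB_isAlt

/-- The frame vectors. -/
def vf (a : SI (1 + 2)) : Fin 3 ⊕ Fin 3 → F3 := if a.2 then Pi.single (.inr a.1.rev) 1 else Pi.single (.inl a.1.rev) 1

/-- The coordinates. -/
def cf (a : SI (1 + 2)) (x : Fin 3 ⊕ Fin 3 → F3) : F3 := if a.2 then x (.inr a.1.rev) else x (.inl a.1.rev)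

/-- The reversed hyperbolic frame. -/
def fr : FF.Frame (Fin (1 + 2)) where
  v := vf
  sing _ := trivial
  B_v := fun ⟨i, x⟩ ⟨j, y⟩ => by
    cases x <;> cases y <;>
      simp [vf, bakSp_B, spB_apply, sympForm_eq_sum, Pi.single_apply, bar, BakForm.η, bakSp_ε, eq_comm]
    split_ifs <;> simp
  aniso w hw _ := by
    ext (i | i)
    · simpa [vf, bakSp_B, spB_apply, sympForm_eq_sum, Pi.single_apply] using hw (i.rev, true)
    · simpa [vf, bakSp_B, spB_apply, sympForm_eq_sum, Pi.single_apply] using hw (i.rev, false)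

theorem fr_co (a : SI (1 + 2)) (x : Fin 3 ⊕ Fin 3 → F3) : fr.co a x = cf a x := by
  obtain ⟨i, _ | _⟩ := a <;>
    simp [BakForm.Frame.co_apply, fr, vf, cf, bakSp_B, spB_apply, sympForm_eq_sum, Pi.single_apply, bar, BakForm.η,
      bakSp_ε]

theorem hF : IsCD FF true := isCD_bakSp _ _

/-- `A` is the matrix of a root element. -/
def IsX (A : Matrix (Fin 3 ⊕ Fin 3) (Fin 3 ⊕ Fin 3) F3) (a b : SI (1 + 2)) (t : F3) : Prop :=
  ∀ i j, A i j = (Pi.single j 1 + (t * cf b (Pi.single j 1)) • vf a -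
    ((kp true a b : F3) * t * cf (bar a) (Pi.single j 1)) • vf (bar b) : _ → F3) i

instance (A : Matrix (Fin 3 ⊕ Fin 3) (Fin 3 ⊕ Fin 3) F3) (a b : SI (1 + 2)) (t : F3) : Decidable (IsX A a b t) :=
  @Fintype.decidableForallFintype _ _ (fun _ => @Fintype.decidableForallFintype _ _ (fun _ => (inferInstance : DecidableEq F3) _ _) _) _

theorem eq_xE {A : Sp6} {r : Rt true (1 + 2)} {t : F3} (h : IsX A.1 r.1.1 r.1.2 t) :
    spEquivEG 3 F3 A = hF.xE fr r t :=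
  Subtype.ext (LinearEquiv.toLinearMap_injective ((Pi.basisFun F3 _).ext fun j => by
    rw [Pi.basisFun_apply]
    refine Eq.trans ?_ ((bf fr).Z_apply r.2.adm.ne t _).symm
    show A.1 *ᵥ _ = _ + (t * fr.co _ _) • vf _ - (_ * t * fr.co _ _) • vf _
    rw [fr_co, fr_co, mulVec_single_one]
    exact funext fun i => h i j))

theorem range_eq (A : SL2 →* Sp6) (k : Fin (1 + 2)) (c : F3) (hc : c * c = 1)
    (h : ∀ t, IsX (A (GT.slUp (c * t))).1 (sr true k).1.1 (sr true k).1.2 t ∧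
      IsX (A (GT.slLo (c * t))).1 (sr true k).1.2 (sr true k).1.1 t ∨
      IsX (A (GT.slLo (c * t))).1 (sr true k).1.1 (sr true k).1.2 t ∧
      IsX (A (GT.slUp (c * t))).1 (sr true k).1.2 (sr true k).1.1 t) :
    ((spEquivEG 3 F3).toMonoidHom.comp A).range = XS (hF.xE fr) ((st true 1).sgOn {k}) := by
  have m1 := x_mem_XS (hF.xE fr) (sr_mem_sgOn (R := st true 1) (Set.mem_singleton k))
  have m2 := x_mem_XS (hF.xE fr) (ng_sr_mem_sgOn (R := st true 1) (Set.mem_singleton k))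
  refine le_antisymm ?_ (XS_le ?_)
  · rw [MonoidHom.range_eq_map, ← sl2_small (K := F3) (by decide), map_le_iff_le_comap, closure_le]
    have k1 : ∀ {s : SL2} {x : FF.EG} {H : Subgroup FF.EG}, spEquivEG 3 F3 (A s) = x → x ∈ H →
        s ∈ H.comap ((spEquivEG 3 F3).toMonoidHom.comp A) := fun e hx => mem_comap.2 (e ▸ hx :)
    have := h c
    rw [hc] at this
    rintro _ (rfl | rfl) <;> rcases this with ⟨h1, h2⟩ | ⟨h1, h2⟩
    exacts [k1 (eq_xE h1) (m1 c), k1 (eq_xE (r := (st true 1).ng _) h2) (m2 c),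
      k1 (eq_xE (r := (st true 1).ng _) h2) (m2 c), k1 (eq_xE h1) (m1 c)]
  · rintro _ ⟨_, rfl, rfl | rfl⟩ t <;> rcases h t with ⟨h1, h2⟩ | ⟨h1, h2⟩
    exacts [⟨_, eq_xE h1⟩, ⟨_, eq_xE h1⟩, ⟨_, eq_xE (r := (st true 1).ng _) h2⟩, ⟨_, eq_xE (r := (st true 1).ng _) h2⟩]

theorem range0 : ((spEquivEG 3 F3).toMonoidHom.comp (e3.comp low)).range = XS (hF.xE fr) ((st true 1).sgOn {0}) :=
  range_eq _ 0 (-1) (by decide) (by simp only [MonoidHom.comp_apply, e3_val]; decide +kernel)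

theorem range1 : ((spEquivEG 3 F3).toMonoidHom.comp (e3.comp (blk.comp SpecialLinearGroup.toGL))).range =
    XS (hF.xE fr) ((st true 1).sgOn {1}) :=
  range_eq _ 1 (-1) (by decide) (by simp only [e3.comp_apply, e3_val]; decide +kernel)

theorem range2 : ((spEquivEG 3 F3).toMonoidHom.comp (e4.comp lng0)).range = XS (hF.xE fr) ((st true 1).sgOn {2}) :=
  range_eq _ 2 1 (by decide) (by decide +kernel)

end D11Aux

open Cfsg.Agent.L33 Cfsg.Agent.P4 Cfsg.Agent.Loc.Mss Cfsg.Agent.GW Subgroup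
open scoped MatrixGroups commutatorElement

variable {G Y : Type*} [Group G] [Finite G] [Group Y] {X : Subgroup G} {t : G} {lam : SL3 →* G} {ι : M6 →* G}

open D11Aux Cfsg.Agent.Chev Cfsg.Agent.Ch in
omit [Finite G] in
theorem ct_c3 (lam : SL3 →* G) (ψ : Sp4 →* G)
    (h : ∀ g : SL2, lam (blk (Matrix.SpecialLinearGroup.toGL g)) = ψ (lev (Matrix.SpecialLinearGroup.toGL g)))
    (hc : ∀ g s : SL2, Commute (lam (low g)) (ψ (lng0 s))) :
    ∃ Φ : Sp6 →* G, Φ.range = lam.range ⊔ ψ.range := by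
  let e := spEquivEG 3 F3
  let π := e.toMonoidHom.comp (MonoidHom.fst _ G)
  let P : Fin (1 + 2) → SL2 →* Sp6 × G := ![(e3.prod lam).comp low,
    (e3.prod lam).comp (blk.comp Matrix.SpecialLinearGroup.toGL), (e4.prod ψ).comp lng0]
  obtain ⟨h1, h2⟩ := ct_abs hF fr (bakSp_V0 _) (π := π) (fun k => (P k).range)
    (fun k => by
      rw [MonoidHom.map_range]
      fin_cases k
      exacts [range0, range1, range2])
    (A := (e3.prod lam).range) (B := (e4.prod ψ).range)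
    (by
      rintro _ ⟨g, rfl⟩ hg
      rw [(injective_iff_map_eq_one e3).1 e3_inj g (e.map_eq_one_iff.1 hg), map_one])
    (by
      rintro _ ⟨g, rfl⟩ hg
      rw [(injective_iff_map_eq_one e4).1 e4_inj g (e.map_eq_one_iff.1 hg), map_one])
    (by rintro _ ⟨g, rfl⟩; exact ⟨_, rfl⟩) (by rintro _ ⟨g, rfl⟩; exact ⟨_, rfl⟩)
    (by rintro _ ⟨g, rfl⟩; exact ⟨_, Prod.ext (compat g).symm (h g).symm⟩) (by rintro _ ⟨g, rfl⟩; exact ⟨_, rfl⟩)
    (by
      rintro _ ⟨g, rfl⟩ _ ⟨s, rfl⟩ hx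
      exact Prod.ext (e.injective (by rw [Prod.fst_mul, Prod.fst_mul, map_mul, map_mul]; exact hx)) (hc g s))
  set E := ⨆ k, (P k).range
  let ε := MulEquiv.ofBijective ((MonoidHom.fst _ G).comp E.subtype) ⟨(injective_iff_map_eq_one _).2 fun d hd =>
    Subtype.ext (h1 d.1 d.2 (e.map_eq_one_iff.2 hd)), fun g => by
      obtain ⟨d, k1, k2⟩ : e g ∈ E.map π := h2 ▸ trivial
      exact ⟨⟨d, k1⟩, e.injective k2⟩⟩
  refine ⟨((MonoidHom.snd _ G).comp E.subtype).comp ε.symm.toMonoidHom, ?_⟩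
  rw [MonoidHom.range_comp, MonoidHom.range_eq_top.2 ε.symm.surjective, ← MonoidHom.range_eq_map,
    MonoidHom.range_comp, range_subtype]
  have m : ∀ k s, (P k s).2 ∈ E.map (MonoidHom.snd _ G) := fun k s =>
    mem_map_of_mem _ (le_iSup (fun k => (P k).range) k ⟨s, rfl⟩)
  refine le_antisymm (map_le_iff_le_comap.2 (iSup_le fun k => ?_)) (sup_le ?_ ?_)
  · rintro _ ⟨s, rfl⟩
    fin_cases k
    exacts [mem_sup_left ⟨_, rfl⟩, mem_sup_left ⟨_, rfl⟩, mem_sup_right ⟨_, rfl⟩]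
  · rintro _ ⟨g, rfl⟩
    exact (gen_sl3 (H := (E.map (MonoidHom.snd Sp6 G)).comap lam) (fun s => mem_comap.2 (m 0 s))
      fun s => mem_comap.2 (m 1 s)).ge (mem_top g)
  · rintro _ ⟨g, rfl⟩
    refine (sup_le ?_ ?_ : _ ≤ (E.map (MonoidHom.snd _ G)).comap ψ) (gen_sp4.ge (mem_top g)) <;> rintro _ ⟨s, rfl⟩
    exacts [m 2 s, mem_comap.2 (h s ▸ m 1 s)]

end Cfsg.Agent.L3S
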