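import Mathlib
import Cfsg.Agent.L3S.Defs2
import Cfsg.Agent.L3S.D1

/-! An element normalising `E₁` and acting with order three on `Q₂` and `Q₃` modulo the centre. -/

set_option autoImplicit false
set_option linter.unusedSectionVars false

namespace Cfsg.Agent.L3S

open Cfsg.Agent.L33 Cfsg.Agent.P4 Cfsg.Agent.Loc.Mss Cfsg.Agent.GW Subgroup
open scoped MatrixGroups commutatorElement

variable {G Y : Type*} [Group G] [Finite G] [Group Y] {X : Subgroup G} {t : G} {lam : SL3 →* G} {ι : M6 →* G}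

namespace D2Aux

open M6

/-- The diagonal quaternion group. -/
def dg : Q8 →* M6 := MonoidHom.mk' (fun q => ⟨false, false, q, q, false, false⟩) (by decide)

/-- The centraliser of the diagonal quaternion group. -/
def C32 : Subgroup M6 := Cen (dg qi) ⊓ Cen (dg qj)

theorem mem_C32 {g : M6} : g ∈ C32 ↔ dg qi * g = g * dg qi ∧ dg qj * g = g * dg qj := and_congr mem_Cen mem_Cen

instance : DecidablePred (· ∈ C32) := fun _ => decidable_of_iff _ mem_C32.symm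

theorem word : ∀ q : Q8, ∃ m < 4, ∃ n < 2, q = qi ^ m * qj ^ n := by decide

theorem nor_P : ∀ g, M6.t * g = g * M6.t → ∀ q, g * dg q * g⁻¹ = dg (g * dg q * g⁻¹).q2 := by decide +kernel

theorem out_t : ∀ y ∈ C32, y * y = 1 → y ∉ SX → ∃ s ∈ C32, s * y * s⁻¹ = M6.t := by decide +kernel

theorem in_U : ∀ y ∈ C32, y * y = 1 → y ∈ SX → y ∈ U := by decide +kernel

theorem comm_U : ∀ g ∈ E1, ∀ q, ⁅dg q, g⁆ ∈ U := by
  simp only [commutatorElement_def]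
  decide +kernel

/-- The generators of `E₁` modulo its centre. -/
def gens : List M6 := [i1, j1, i2, j2, i3, j3]

theorem ch1 : ∀ x ∈ E1, (∀ y ∈ gens, x * y = y * x ∨ x * y = y * x * z) → x ∈ Q1U := by decide +kernel
theorem ch2 : ∀ x ∈ E1, (∀ y ∈ gens, x * y = y * x ∨ x * y = y * x * z2) → x ∈ Q2U := by decide +kernel
theorem ch3 : ∀ x ∈ E1, (∀ y ∈ gens, x * y = y * x ∨ x * y = y * x * z3) → x ∈ Q3U := by decide +kernel
theorem ch1' : ∀ x ∈ Q1U, ∀ y ∈ E1, x * y = y * x ∨ x * y = y * x * z := by decide +kernel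
theorem ch2' : ∀ x, x = i2 ∨ x = j2 → ∀ y ∈ E1, x * y = y * x ∨ x * y = y * x * z2 := by
  simp only [forall_eq_or_imp, forall_eq]
  decide +kernel
theorem ch3' : ∀ x, x = i3 ∨ x = j3 → ∀ y ∈ E1, x * y = y * x ∨ x * y = y * x * z3 := by
  simp only [forall_eq_or_imp, forall_eq]
  decide +kernel

theorem dec : ∀ g ∈ E1, g * (cond g.q2.x i2 1 * cond g.q2.y j2 1 * cond g.q3.x i3 1 * cond g.q3.y j3 1)⁻¹ ∈ Q1U := by
  decide +kernel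

theorem mem_CP {x : G} : x ∈ 𝐂[dg.range.map ι] ↔ Commute (ι (dg qi)) x ∧ Commute (ι (dg qj)) x := by
  refine ⟨fun h => ⟨h _ (mem_map_of_mem ι ⟨_, rfl⟩), h _ (mem_map_of_mem ι ⟨_, rfl⟩)⟩, fun h => ?_⟩
  rintro _ ⟨_, ⟨q, rfl⟩, rfl⟩
  obtain ⟨m, -, n, -, rfl⟩ := word q
  simp only [map_mul, map_pow]
  exact (h.1.pow_left m).mul_left (h.2.pow_left n)

theorem mem_NP {x : G} (h1 : x * ι (dg qi) * x⁻¹ ∈ dg.range.map ι) (h2 : x * ι (dg qj) * x⁻¹ ∈ dg.range.map ι) :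
    x ∈ 𝐍[dg.range.map ι] := mem_norm_of_cj_le (cj_le_iff.2 (by
  rintro _ ⟨_, ⟨q, rfl⟩, rfl⟩
  obtain ⟨m, -, n, -, rfl⟩ := word q
  simp only [map_mul, map_pow]
  rw [← conj_mul, ← conj_pow, ← conj_pow]
  exact mul_mem (pow_mem h1 m) (pow_mem h2 n)))

variable (h : Six X t lam ι)
include h

theorem tX : t ∉ X := fun h1 => absurd ((h.mem _).1 (h.ht ▸ h1)) (by decide)

theorem sq_mem (g : G) : g * g ∈ X := by
  have := h.frm.nor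
  refine (h.frm.top g).elim (fun h1 => mul_mem h1 h1) fun h1 => ?_
  have h2 := mul_mem h1 (this.conj_mem _ h1 t)
  rwa [show g * t * (t * (g * t) * t⁻¹) = g * (t * t) * g by group, h.frm.cfg.t2, mul_one] at h2

theorem in_C32 {x : G} (h1 : x ∈ ι.range) (h2 : x ∈ 𝐂[dg.range.map ι]) : x ∈ C32.map ι := by
  obtain ⟨s, rfl⟩ := h1
  obtain ⟨h3, h4⟩ := mem_CP.1 h2
  exact mem_map_of_mem ι (mem_C32.2 ⟨h.sy.inj (by simpa using h3.eq), h.sy.inj (by simpa using h4.eq)⟩)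

theorem syl_C32 : Syl 2 (C32.map ι) 𝐂[dg.range.map ι] := by
  have hc := h.frm.cfg.syl
  have h0 : Syl 2 (Rec.clos [t, lam frmA, lam frmD, ι f]) (Cen t) :=
    Syl.of_maximal hc.2.1 hc.1 fun P hP h1 h2 => (hc.2.2 P hP h2 h1).le
  have h1 : Rec.clos [t, lam frmA, lam frmD, ι f] ≤ ι.range := Rec.clos_le.2 (by
    simp only [List.mem_cons, List.not_mem_nil, or_false, forall_eq_or_imp, forall_eq]
    exact ⟨⟨_, h.ht⟩, ⟨_, h.ha⟩, ⟨_, h.hd⟩, _, rfl⟩)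
  have h2 := h0.inf (M := Cen t ⊓ 𝐂[dg.range.map ι]) inf_le_left (norm_inf (norm_of_le h0.le) (norm_cent fun x hx => by
    obtain ⟨s, rfl⟩ := h1 hx
    have h3 : M6.t * s = s * M6.t := h.sy.inj (by simpa [h.ht] using (mem_Cen.1 (h0.le hx)).eq)
    refine mem_NP ?_ ?_ <;> rw [← map_inv, ← map_mul, ← map_mul, nor_P s h3] <;> exact mem_map_of_mem ι ⟨_, rfl⟩))
  have hle : C32.map ι ≤ 𝐂[dg.range.map ι] := by
    rintro _ ⟨s, hs, rfl⟩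
    exact mem_CP.2 ⟨(mem_Cen.1 hs.1).map ι, (mem_Cen.1 hs.2).map ι⟩
  refine Syl.of_norm (h.sy.pg le_top) hle fun P hP h3 h4 h5 n hn => ?_
  obtain ⟨y, hy, e⟩ := conj_mem_of_norm (h5 hn) (mem_map_of_mem ι (by decide : M6.t ∈ C32))
  have e1 : Fu ι ⊤ M6.t y := ⟨n, trivial, e.symm⟩
  obtain ⟨s, hs, e2⟩ := out_t y hy (e1.symm.sq_eq_one h.sy.inj (by decide)) fun h6 => tX h (by
    have := h.frm.nor.conj_mem _ ((h.mem y).2 h6) n⁻¹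
    rwa [e, h.ht, show n⁻¹ * (n * t * n⁻¹) * n⁻¹⁻¹ = t by group] at this)
  have h6 : ι s * n ∈ Cen t := mem_Cen.2 (mul_inv_eq_iff_eq_mul.1 (by
    conv_rhs => rw [← h.ht, ← e2, map_mul, map_mul, map_inv, e, h.ht]
    group)).symm
  have h7 := h2.ge_of_le (P := P ⊓ Cen t) hP.to_inf_left
    (fun x hx => ⟨h3 (in_C32 h (h1 hx.1) hx.2.2), hx.2.1⟩) (fun x hx => ⟨hx.2, h4 hx.1⟩)
    ⟨mul_mem (h3 (mem_map_of_mem ι hs)) hn, h6⟩
  exact (mul_mem_cancel_left (mem_map_of_mem ι hs)).1 (in_C32 h (h1 h7.1) h7.2.2)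

theorem exists_tau : ∃ τ ∈ X ⊓ 𝐂[U.map ι], τ * ι (dg qi) * τ⁻¹ = ι (dg qj) ∧
    τ * ι (dg qj) * τ⁻¹ = ι (dg qi) * ι (dg qj) := by
  have a1 : ι (dg qi) = lam frmA ^ 2 := by rw [← h.ha, ← map_pow]; exact congrArg ι (by decide)
  have a2 : ι (dg qj) = lam frmA * lam frmD := by rw [← h.ha, ← h.hd, ← map_mul]; exact congrArg ι (by decide)
  have s1 : lam frmS * ι (dg qi) * (lam frmS)⁻¹ = ι (dg qj) := by rw [a1, a2, h.frm.cfg.σi]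
  have s2 : lam frmS * ι (dg qj) * (lam frmS)⁻¹ = ι (dg qi) * ι (dg qj) := by rw [a1, a2, h.frm.cfg.σj]
  obtain ⟨c, hc, k, hk, e⟩ := (syl_C32 h).frattini (norm_cent le_rfl (mem_NP (x := lam frmS)
    (s1 ▸ mem_map_of_mem ι ⟨_, rfl⟩) (s2 ▸ mul_mem (mem_map_of_mem ι ⟨_, rfl⟩) (mem_map_of_mem ι ⟨_, rfl⟩))))
  obtain ⟨c1, c2⟩ := mem_CP.1 hc
  have key : ∀ x y, lam frmS * x * (lam frmS)⁻¹ = y → Commute y c → k * x * k⁻¹ = y := fun x y e1 e2 =>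
    calc _ = c⁻¹ * (lam frmS * x * (lam frmS)⁻¹) * c := by rw [e]; group
      _ = _ := by rw [e1, mul_assoc, e2.eq, inv_mul_cancel_left]
  have k1 := key _ _ s1 c2
  have k2 := key _ _ s2 (c1.mul_left c2)
  obtain ⟨φ, m⟩ := exists_mp (A := C32) (H := ⊤) h.sy.inj (mem_top k) (cj_of_norm hk).le
  have k3 : k * ι z * k⁻¹ = ι z := by
    conv_lhs => rw [show z = dg qi * dg qi by decide, map_mul, ← conj_mul, k1, ← map_mul]
    exact congrArg ι (by decide)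
  have hz : z ∈ C32 := by decide
  have hz2 : z2 ∈ C32 := by decide
  have k4 : k * k * ι z2 * (k * k)⁻¹ = ι z2 := by
    have e1 := m.eq _ hz2
    have e2 : k * k * ι z2 * (k * k)⁻¹ = k * (k * ι z2 * k⁻¹) * k⁻¹ := by group
    rcases (mem_U _).1 (in_U _ (m.mem _ hz2) (m.sq_one hz2 (by decide)) ((h.mem _).1
      (e1 ▸ h.frm.nor.conj_mem _ ((h.mem _).2 (by decide)) k))) with h1 | h1 | h1 | h1
    · exact absurd h1 (m.ne_one hz2 (by decide))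
    · exact absurd (m.inj' hz2 hz (h1.trans (h.sy.inj ((m.eq _ hz).symm.trans k3)).symm)) (by decide)
    · rw [e2, e1, h1, e1, h1]
    · rw [e2, e1, h1, show z3 = z2 * z by decide, map_mul, ← conj_mul, e1, h1, k3, ← map_mul]
      exact congrArg ι (by decide)
  have k5 : ∀ x, k * k * (k * k) * x * (k * k * (k * k))⁻¹ = k * (k * (k * (k * x * k⁻¹) * k⁻¹) * k⁻¹) * k⁻¹ :=
    fun x => by group
  have k6 : k * (ι (dg qi) * ι (dg qj)) * k⁻¹ = ι (dg qi) := by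
    rw [← conj_mul, k1, k2, ← map_mul, ← map_mul]
    exact congrArg ι (by decide)
  have c3 : Commute (ι z) k := (mul_inv_eq_iff_eq_mul.1 k3).symm
  have c4 : Commute (ι z2) (k * k) := (mul_inv_eq_iff_eq_mul.1 k4).symm
  refine ⟨k * k * (k * k), ⟨sq_mem h _, ?_⟩, by rw [k5, k1, k2, k6, k1], by rw [k5, k2, k6, k1, k2]⟩
  rintro _ ⟨u, hu, rfl⟩
  have c5 := (c3.mul_right c3).mul_right (c3.mul_right c3)
  have c6 := c4.mul_right c4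
  rcases (mem_U u).1 hu with rfl | rfl | rfl | rfl
  · simp
  · exact c5
  · exact c6
  · rw [show z3 = z * z2 by decide, map_mul]
    exact c5.mul_left c6

theorem exists_delta : ∃ δ ∈ X ⊓ 𝐂[U.map ι], δ ∈ 𝐍[E1.map ι] ∧ (∃ u ∈ U, δ * ι (dg qi) * δ⁻¹ = ι (dg qj * u)) ∧
    ∃ u ∈ U, δ * ι (dg qj) * δ⁻¹ = ι (dg qi * dg qj * u) := by
  have := h.frm.nor
  obtain ⟨τ, hτ, e1, e2⟩ := exists_tau h
  have hs : Syl 2 (E1.map ι) ((X ⊓ 𝐂[U.map ι]) ⊓ cmod (dg.range.map ι) (U.map ι)) :=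
    h.syU.syl.mono (le_inf h.syU.syl.le fun x hx => ⟨cent_le_norm _ (h.syU.syl.le hx).2, by
      obtain ⟨g, hg, rfl⟩ := hx
      rintro _ ⟨_, ⟨q, rfl⟩, rfl⟩
      rw [← map_commutatorElement]
      exact mem_map_of_mem ι (comm_U g hg q)⟩) inf_le_left
  have hP : τ ∈ 𝐍[dg.range.map ι] := mem_NP (e1 ▸ mem_map_of_mem ι ⟨_, rfl⟩)
    (e2 ▸ mul_mem (mem_map_of_mem ι ⟨_, rfl⟩) (mem_map_of_mem ι ⟨_, rfl⟩))
  obtain ⟨δ, hδ, c, hc, e⟩ := hs.frattini' (norm_inf (X := zpowers τ) (norm_of_le (zpowers_le.2 hτ))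
    (norm_cmod (zpowers_le.2 hP) (zpowers_le.2 (cent_le_norm _ hτ.2))) (mem_zpowers τ))
  have e0 : δ = τ * c⁻¹ := by rw [e, mul_inv_cancel_right]
  have key : ∀ q y, τ * ι (dg q) * τ⁻¹ = ι y → ∃ u ∈ U, δ * ι (dg q) * δ⁻¹ = ι (y * u) := fun q y e3 => by
    obtain ⟨u, hu, e4⟩ := (mem_cmod.1 (inv_mem (mem_inf.1 hc).2)).2 _ (inv_mem (mem_map_of_mem ι (⟨q, rfl⟩ : dg q ∈ dg.range)))
    refine ⟨u, hu, ?_⟩
    calc _ = τ * ι (dg q) * τ⁻¹ * (τ * ⁅(ι (dg q))⁻¹, c⁻¹⁆ * τ⁻¹) := by rw [e0, commutatorElement_def]; group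
      _ = _ := by rw [e3, ← e4, ← hτ.2 _ (mem_map_of_mem ι hu), mul_inv_cancel_right, map_mul]
  exact ⟨δ, e0 ▸ mul_mem hτ (inv_mem (mem_inf.1 hc).1), hδ, key _ _ e1, key _ _ (by rw [e2, map_mul])⟩

end D2Aux

open D2Aux M6 in
theorem Six.delta (h : Six X t lam ι) : ∃ δ φ, Mp ι M6.E1 X δ M6.E1 φ ∧ (∀ u ∈ M6.U, φ u = u) ∧
    ∀ g ∈ M6.E1, (φ g).q2.x = g.q2.y ∧ (φ g).q2.y = xor g.q2.x g.q2.y ∧
      (φ g).q3.x = g.q3.y ∧ (φ g).q3.y = xor g.q3.x g.q3.y := by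
  obtain ⟨δ, hδ, hn, ⟨u, hu, e1⟩, v, hv, e2⟩ := exists_delta h
  obtain ⟨φ, m⟩ := exists_mp (A := E1) (B := E1) h.sy.inj hδ.1 (cj_of_norm hn).le
  have hU : ∀ u ∈ U, φ u = u := fun u hu => h.sy.inj (by
    rw [← m.eq u ⟨hu.1.1, hu.1.2.1⟩, ← hδ.2 _ (mem_map_of_mem ι hu), mul_inv_cancel_right])
  have key : ∀ w ∈ U, ∀ x ∈ E1, (∀ y ∈ E1, x * y = y * x ∨ x * y = y * x * w) →
      ∀ y ∈ gens, φ x * y = y * φ x ∨ φ x * y = y * φ x * w := fun w hw x hx h1 y hy => by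
    obtain ⟨y', hy', e⟩ := conj_mem_of_norm' hn (mem_map_of_mem ι ((by decide : ∀ y ∈ gens, y ∈ E1) y hy))
    obtain rfl : φ y' = y := h.sy.inj (by rw [← m.eq y' hy', e]; group)
    refine (h1 y' hy').imp (m.comm hx hy').2 fun e3 => ?_
    rw [← m.mul hx hy', e3, m.mul (mul_mem hy' hx) ⟨hw.1.1, hw.1.2.1⟩, m.mul hy' hx, hU w hw]
  have hi2 : i2 ∈ E1 := by decide
  have hj2 : j2 ∈ E1 := by decide
  have hi3 : i3 ∈ E1 := by decide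
  have hj3 : j3 ∈ E1 := by decide
  have a1 := ch2 _ (m.mem _ hi2) (key z2 (by decide) _ hi2 (ch2' _ (Or.inl rfl)))
  have a2 := ch2 _ (m.mem _ hj2) (key z2 (by decide) _ hj2 (ch2' _ (Or.inr rfl)))
  have a3 := ch3 _ (m.mem _ hi3) (key z3 (by decide) _ hi3 (ch3' _ (Or.inl rfl)))
  have a4 := ch3 _ (m.mem _ hj3) (key z3 (by decide) _ hj3 (ch3' _ (Or.inr rfl)))
  have b1 : φ i2 * φ i3 = dg qj * u := h.sy.inj (by
    rw [← m.mul hi2 hi3, ← m.eq _ (mul_mem hi2 hi3), ← e1]; rfl)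
  have b2 : φ j2 * φ j3 = dg qi * dg qj * v := h.sy.inj (by
    rw [← m.mul hj2 hj3, ← m.eq _ (mul_mem hj2 hj3), ← e2]; rfl)
  have crd : ∀ a ∈ Q2U, ∀ b ∈ Q3U, ∀ c, ∀ w ∈ U, c ∈ E1 → a * b = c * w →
      a.q2.x = c.q2.x ∧ a.q2.y = c.q2.y ∧ b.q3.x = c.q3.x ∧ b.q3.y = c.q3.y := by
    rintro a ⟨a1, a2, -, -, a3, a4⟩ b ⟨-, -, -, -, b1, b2⟩ c w ⟨⟨-, -, w1, w2, w3, w4⟩, -⟩ ⟨c1, c2⟩ e
    have f1 := congrArg (·.q2.x) e
    have f2 := congrArg (·.q2.y) e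
    have f3 := congrArg (·.q3.x) e
    have f4 := congrArg (·.q3.y) e
    simp only [mul_2x, mul_2y, mul_3x, mul_3y] at f1 f2 f3 f4
    simp_all
  obtain ⟨c1, c2, c3, c4⟩ := crd _ a1 _ a3 _ u hu (by decide) b1
  obtain ⟨d1, d2, d3, d4⟩ := crd _ a2 _ a4 _ v hv (by decide) b2
  let p : M6 → Prop := fun g => g ∈ E1 ∧ (φ g).q2.x = g.q2.y ∧ (φ g).q2.y = xor g.q2.x g.q2.y ∧
    (φ g).q3.x = g.q3.y ∧ (φ g).q3.y = xor g.q3.x g.q3.y
  have hmul : ∀ a b, p a → p b → p (a * b) := by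
    rintro a b ⟨ha, p1, p2, p3, p4⟩ ⟨hb, q1, q2, q3, q4⟩
    obtain ⟨r1, r2⟩ := m.mem a ha
    refine ⟨mul_mem ha hb, ?_⟩
    rw [m.mul ha hb]
    simp only [mul_2x, mul_2y, mul_3x, mul_3y, ha.1, ha.2, r1, r2, p1, p2, p3, p4, q1, q2, q3, q4, Bool.xor_self,
      cond_false, Bool.false_and, Bool.xor_false, true_and]
    cases a.q2.x <;> cases a.q2.y <;> cases b.q2.x <;> cases b.q2.y <;> cases a.q3.x <;> cases a.q3.y <;>
      cases b.q3.x <;> cases b.q3.y <;> decide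
  have hQ : ∀ g ∈ Q1U, p g := fun g hg => by
    have hg' : g ∈ E1 := ⟨hg.1, hg.2.1⟩
    obtain ⟨-, -, r1, r2, r3, r4⟩ := ch1 _ (m.mem _ hg') (key z (by decide) _ hg' (ch1' g hg))
    obtain ⟨-, -, s1, s2, s3, s4⟩ := hg
    exact ⟨hg', by simp [r1, r2, r3, r4, s1, s2, s3, s4]⟩
  have hc : ∀ (b : Bool) g, p g → p (cond b g 1) := fun b g hg => by
    cases b
    exacts [hQ 1 (one_mem _), hg]
  refine ⟨δ, φ, m, hU, fun g hg => ?_⟩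
  have := hmul _ _ (hQ _ (dec g hg)) (hmul _ _ (hmul _ _ (hmul _ _
    (hc g.q2.x i2 ⟨hi2, c1, c2, a1.2.2.2.2.1, a1.2.2.2.2.2⟩) (hc g.q2.y j2 ⟨hj2, d1, d2, a2.2.2.2.2.1, a2.2.2.2.2.2⟩))
    (hc g.q3.x i3 ⟨hi3, a3.2.2.2.2.1, a3.2.2.2.2.2, c3, c4⟩)) (hc g.q3.y j3 ⟨hj3, a4.2.2.2.2.1, a4.2.2.2.2.2, d3, d4⟩))
  rw [inv_mul_cancel_right] at this
  exact this.2

end Cfsg.Agent.L3S
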