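import Mathlib
import Cfsg.Agent.L3S.Defs2
import Cfsg.Agent.L3S.D1
import Cfsg.Agent.L3S.D2

set_option autoImplicit false
set_option linter.unusedSectionVars false

namespace Cfsg.Agent.L3S

open Cfsg.Agent.L33 Cfsg.Agent.P4 Cfsg.Agent.Loc.Mss Cfsg.Agent.GW Subgroup
open scoped MatrixGroups commutatorElement

variable {G Y : Type*} [Group G] [Finite G] [Group Y] {X : Subgroup G} {t : G} {lam : SL3 →* G} {ι : M6 →* G}

namespace D3Aux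

section
variable {P : Type*} [Group P] {κ : P →* G} {A B : Subgroup P} {H : Subgroup G} {g g' : G} {φ φ' : P → P}

theorem norm (m : Mp κ A H g A φ) (hB : B ≤ A) (h : ∀ b ∈ B, φ b ∈ B) : g ∈ 𝐍[B.map κ] :=
  mem_norm_of_cj_le (m.cj_le hB h)

theorem comp (m : Mp κ A H g A φ) (m' : Mp κ A H g' A φ') : Mp κ A H (g' * g) A (φ' ∘ φ) :=
  ⟨m.inj, mul_mem m'.hg m.hg, fun c hc => by
    rw [Function.comp, ← m'.eq _ (m.mem c hc), ← m.eq c hc]; group, fun c hc => m'.mem _ (m.mem c hc)⟩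

theorem inv (m : Mp κ A H g A φ) : ∃ ψ, Mp κ A H g⁻¹ A ψ ∧ (∀ a ∈ A, φ (ψ a) = a) ∧ ∀ a ∈ A, ψ (φ a) = a := by
  obtain ⟨ψ, m'⟩ := exists_mp (A := A) (B := A) m.inj (inv_mem m.hg)
    (cj_of_norm (inv_mem (norm m le_rfl m.mem))).le
  refine ⟨ψ, m', fun a ha => m.inj ?_, fun a ha => m.inj ?_⟩
  · rw [← m.eq _ (m'.mem a ha), ← m'.eq a ha]; group
  · rw [← m'.eq _ (m.mem a ha), ← m.eq a ha]; group

theorem frat (h : Sy κ A H) {n : G} (hn : n ∈ 𝐍[H]) : ∃ c ∈ H, ∃ φ, Mp κ A ⊤ (c * n) A φ := by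
  obtain ⟨m, hm, k, hk, rfl⟩ := h.syl.frattini hn
  obtain ⟨φ, m'⟩ := exists_mp (A := A) (B := A) (H := ⊤) h.inj (mem_top k) (cj_of_norm hk).le
  exact ⟨m⁻¹, inv_mem hm, φ, by simpa using m'⟩

/-- The commutators of `x` with `A` lie in `{1, w}`. -/
def Cm (A : Subgroup P) (w x : P) : Prop := ∀ y ∈ A, x * y = y * x ∨ x * y = w * (y * x)

theorem Cm.map (m : Mp κ A H g A φ) {w x : P} (hw : w ∈ A) (hx : x ∈ A) (h : Cm A w x) : Cm A (φ w) (φ x) := by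
  obtain ⟨ψ, m', e, -⟩ := inv m
  intro y hy
  have hy' := m'.mem y hy
  rw [← e y hy, ← m.mul hx hy', ← m.mul hy' hx, ← m.mul hw (mul_mem hy' hx)]
  exact (h _ hy').imp (congrArg φ) (congrArg φ)

end

open M6

theorem c1 : ∀ x ∈ Q1U, Cm E1 z x := by unfold Cm; decide +kernel
theorem c2 : ∀ x ∈ Q2U, Cm E1 z2 x := by unfold Cm; decide +kernel
theorem c1' {x : M6} (hx : x ∈ E1) (h : Cm E1 z x) : x ∈ Q1U := by
  have h1 := h i2 (by decide)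
  have h2 := h j2 (by decide)
  have h3 := h i3 (by decide)
  have h4 := h j3 (by decide)
  clear h
  revert x
  decide +kernel
theorem c2' {x : M6} (hx : x ∈ E1) (h : Cm E1 z2 x) : x ∈ Q2U := by
  have h1 := h i1 (by decide)
  have h2 := h j1 (by decide)
  have h3 := h i3 (by decide)
  have h4 := h j3 (by decide)
  clear h
  revert x
  decide +kernel
theorem le1 : ∀ x ∈ Q1U, x ∈ E1 := by decide +kernel
theorem le2 : ∀ x ∈ Q2U, x ∈ E1 := by decide +kernel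
theorem leU : ∀ x ∈ U, x ∈ E1 := by decide +kernel
theorem leW : ∀ x ∈ W, x ∈ SX := by decide +kernel
theorem leE : ∀ x ∈ E1, x ∈ SX := by decide +kernel
theorem fpf : ∀ a ∈ Q2U, ∀ b ∈ Q2U, b.q2.x = a.q2.y → b.q2.y = xor a.q2.x a.q2.y → b * a = a * b → a ∈ U := by
  decide +kernel
theorem modU : ∀ q ∈ Q1U, ∀ s ∈ SX, q * s * q⁻¹ * s⁻¹ ∈ U := by decide +kernel
theorem nU : ∀ u ∈ U, ∀ s ∈ SX, s * u * s⁻¹ ∈ U := by decide +kernel
theorem cU : ∀ u ∈ U, ∀ s ∈ E1, u * s = s * u := by decide +kernel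
theorem q1W : ∀ q ∈ Q1, ∀ w ∈ W, q * w = w * q := by decide +kernel
theorem q1U : ∀ q ∈ Q1, q ∈ U → q = 1 ∨ q = z := by decide +kernel
theorem q1sq : ∀ q ∈ Q1, q = 1 ∨ q = z ∨ q * q = z := by decide +kernel
theorem q1t : ∀ q ∈ Q1, M6.t⁻¹ * q * M6.t ∈ Q1 := by decide +kernel
theorem cenW : ∀ y ∈ SX, y * d = d * y → y * z2 = z2 * y → y * (i2 * i3) = i2 * i3 * y →
    y * (j2 * i3 * j3) = j2 * i3 * j3 * y → y ∈ Q1 := by decide +kernel
theorem e2W : ∀ y ∈ E2, ∀ w ∈ W, w * y * w⁻¹ = y ∨ w * y * w⁻¹ = y * z := by decide +kernel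
theorem shape : ∀ y ∈ SX, y * y = z → y ∈ E2 ∨ (y ∈ E1 ∧
    (y.q2.x || y.q2.y) = true ∧ (y.q3.x || y.q3.y) = true) := by decide +kernel

/-- The stabiliser of `{y, y z}`. -/
def stab (H : Subgroup G) (z y : G) (h2 : z * z = 1) (hz : H ≤ Cen z) : Subgroup G where
  carrier := {c | c ∈ H ∧ (c * y * c⁻¹ = y ∨ c * y * c⁻¹ = y * z)}
  one_mem' := ⟨one_mem _, .inl (by simp)⟩
  mul_mem' := by
    rintro a b ⟨ha, h1⟩ ⟨hb, h3⟩
    have e : a * (y * z) * a⁻¹ = a * y * a⁻¹ * z := by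
      rw [← mul_assoc, mul_assoc _ z, (mem_Cen.1 (hz (inv_mem ha))).eq, ← mul_assoc]
    refine ⟨mul_mem ha hb, ?_⟩
    rw [show a * b * y * (a * b)⁻¹ = a * (b * y * b⁻¹) * a⁻¹ by group]
    rcases h3 with h3 | h3 <;> rw [h3]
    · exact h1
    · rw [e]
      rcases h1 with h1 | h1 <;> rw [h1]
      · exact .inr rfl
      · exact .inl (by rw [mul_assoc, h2, mul_one])
  inv_mem' := by
    rintro a ⟨ha, h1⟩
    refine ⟨inv_mem ha, h1.imp (fun e => ?_) fun e => ?_⟩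
    · conv_lhs => rw [← e]
      group
    · have e' : y = a * y * a⁻¹ * z := by rw [e, mul_assoc, h2, mul_one]
      conv_lhs => rw [e']
      rw [inv_inv, mul_assoc, mul_assoc, (mem_Cen.1 (hz ha)).eq]; group

theorem nW (h : Six X t lam ι) {g : G} (hg : g ∈ X) (e : cj(g, W.map ι) ≤ SX.map ι) : g ∈ 𝐍[W.map ι] := by
  obtain ⟨φ, m⟩ := exists_mp h.sy.inj hg e
  exact mem_norm_of_cj_le (m.cj_le le_rfl (h.W_wc m))

theorem caseA (h : Six X t lam ι) {q y : M6} (hq : q ∈ Q1) (hy : y ∈ E2) (e : Fu ι (X ⊓ Cen (ι z)) q y) :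
    y ∈ Q1 := by
  obtain ⟨g, hg, e⟩ := e
  have z2' : ι z * ι z = 1 := by rw [← map_mul, show z * z = 1 by decide, map_one]
  have qW : ι q ∈ 𝐂[W.map ι] := by
    rintro _ ⟨w, hw, rfl⟩
    rw [← map_mul, ← map_mul, q1W q hq w hw]
  have pW := h.syH.pg (B := W) leW
  have WH : W.map ι ≤ X ⊓ Cen (ι z) := (map_mono leW).trans h.syH.syl.le
  obtain ⟨R, hR, sR⟩ := Syl.exists_ge (L := stab (X ⊓ Cen (ι z)) (ι z) (ι y) z2' inf_le_right) pW (by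
    rintro _ ⟨w, hw, rfl⟩
    exact ⟨WH ⟨w, hw, rfl⟩, by simpa only [map_mul, map_inv] using (e2W y hy w hw).imp (congrArg ι) (congrArg ι)⟩)
  obtain ⟨c, hc, h1⟩ := sR.conj_le (pg_cj pW g) (cj_le_iff.2 fun w hw =>
    ⟨mul_mem (mul_mem hg (WH hw)) (inv_mem hg), .inl (by
      rw [← e]
      calc _ = g * (w * ι q) * w⁻¹ * g⁻¹ := by group
        _ = _ := by rw [qW w hw]; group)⟩)
  obtain ⟨k, hk, h2⟩ := h.syH.syl.conj_le sR.pg (sR.le.trans fun _ h => h.1)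
  have n1 := nW h hk.1 ((cj_mono k hR).trans h2)
  have n2 := nW h (mul_mem hk.1 (mul_mem hc.1.1 hg.1)) (by
    rw [← cj_cj, ← cj_cj]; exact (cj_mono k h1).trans h2)
  have n3 : c * g ∈ 𝐍[W.map ι] := by simpa using mul_mem (inv_mem n1) n2
  have h3 : c * ι y * c⁻¹ ∈ 𝐂[W.map ι] := by
    have := conj_mem_of_norm (norm_cent le_rfl n3) qW
    rwa [show c * g * ι q * (c * g)⁻¹ = c * (g * ι q * g⁻¹) * c⁻¹ by group, e] at this
  have h4 : ∀ w ∈ W, y * w = w * y := fun w hw => by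
    have h5 := h3 _ ⟨w, hw, rfl⟩
    rcases hc.2 with h6 | h6 <;> rw [h6] at h5
    · exact h.sy.inj (by simpa only [map_mul] using h5.symm)
    · have h7 : w * (y * z) = y * z * w := h.sy.inj (by simpa only [map_mul] using h5)
      rw [mul_assoc, ← z_comm w, ← mul_assoc, ← mul_assoc] at h7
      exact (mul_right_cancel h7).symm
  exact cenW y hy.1 (h4 _ (by decide)) (h4 _ (by decide)) (h4 _ (by decide)) (h4 _ (by decide))

theorem scH (h : Six X t lam ι) {q y : M6} (hq : q ∈ Q1) (e : Fu ι (X ⊓ Cen (ι z)) q y) : y ∈ Q1 := by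
  have hy : y ∈ SX := by
    obtain ⟨g, hg, e⟩ := e
    rw [← h.mem, ← e]
    exact mul_mem (mul_mem hg.1 ((h.mem q).2 (leE q (le1 q hq.1)))) (inv_mem hg.1)
  rcases q1sq q hq with rfl | rfl | h2
  · rw [e.symm.eq_one h.sy.inj]; exact one_mem _
  · rw [e.eq_of_cen h.sy.inj inf_le_right]; decide
  have y2 : y * y = z := (h2 ▸ e.mul_self).eq_of_cen h.sy.inj inf_le_right
  rcases shape y hy y2 with h1 | ⟨h1, b2, b3⟩
  · exact caseA h hq h1 e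
  obtain ⟨δ, φ, m, hU, hφ⟩ := h.delta
  have m' := m.mono_right (H' := X ⊓ Cen (ι z)) ⟨m.hg, m.mem_cen (by decide) (hU z (by decide))⟩
  have f1 := m.mem y h1
  have f2 := m.mem _ f1
  have e1 := e.trans (m'.fu h1)
  have e2 := e1.trans (m'.fu f1)
  obtain ⟨p1, p2, p3, p4⟩ := hφ y h1
  obtain ⟨r1, r2, r3, r4⟩ := hφ _ f1
  have no : ∀ w ∈ Q1, w.q2.x = false ∧ w.q2.y = false := fun w hw => ⟨hw.1.2.2.1, hw.1.2.2.2.1⟩
  by_cases c0 : y ∈ E2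
  · exact caseA h hq c0 e
  by_cases c1 : φ y ∈ E2
  · obtain ⟨n1, n2⟩ := no _ (caseA h hq c1 e1)
    rw [p1] at n1
    rw [p2, n1] at n2
    simp_all
  by_cases c2 : φ (φ y) ∈ E2
  · obtain ⟨n1, n2⟩ := no _ (caseA h hq c2 e2)
    rw [r1] at n1
    rw [r2, n1, p1] at n2
    rw [p2] at n1
    simp_all
  exfalso
  have d0 : ¬ (y.q3.y = y.q2.y ∧ y.q3.x = xor y.q2.x y.q2.y) := fun e => c0 ⟨h1.1, e⟩
  have d1 : ¬ ((φ y).q3.y = (φ y).q2.y ∧ (φ y).q3.x = xor (φ y).q2.x (φ y).q2.y) := fun e => c1 ⟨f1.1, e⟩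
  have d2 : ¬ ((φ (φ y)).q3.y = (φ (φ y)).q2.y ∧ (φ (φ y)).q3.x = xor (φ (φ y)).q2.x (φ (φ y)).q2.y) :=
    fun e => c2 ⟨f2.1, e⟩
  rw [r1, r2, r3, r4] at d2
  rw [p1, p2, p3, p4] at d1 d2
  revert b2 b3 d0 d1 d2
  cases y.q2.x <;> cases y.q2.y <;> cases y.q3.x <;> cases y.q3.y <;> decide

end D3Aux

open D3Aux M6

theorem Six.rho (h : Six X t lam ι) : ∃ r φ, Mp ι M6.E1 X r M6.E1 φ ∧ φ M6.z2 = M6.z ∧ φ M6.z = M6.z3 := by
  have := h.frm.nor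
  obtain ⟨g, φ, m, hφ⟩ := h.fuse_U
  have g1 : g * ι d * g⁻¹ = ι z2 := hφ ▸ m.eq d (self_cenA (by decide))
  have g2 : g * ι z * g⁻¹ = ι z := by rw [← (mem_Cen.1 m.hg.2).eq, mul_inv_cancel_right]
  have a4 : lam frmA ^ 4 = ι z := by rw [← h.ha, ← map_pow, letters.2.2.1]
  have r1 := h.frm.cfg.ρz
  have r2 := h.frm.cfg.ρd
  rw [a4, ← h.hd] at r1 r2
  set ρ := lam frmR
  have hn : g * ρ⁻¹ * g⁻¹ ∈ X := mul_mem (mul_mem m.hg.1 (inv_mem (h.frm.le _))) (inv_mem m.hg.1)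
  set n := g * ρ⁻¹ * g⁻¹ with en
  have n1 : n * ι z2 * n⁻¹ = ι z := by
    rw [← g1, ← r1, en]
    conv_rhs => rw [← g2]
    group
  have n2 : n * ι z3 * n⁻¹ = ι z2 := by
    have : ι z3 = g * (ρ * ι d * ρ⁻¹) * g⁻¹ := by
      rw [r2, show z3 = z2 * z by decide, map_mul, ← g1]
      conv_lhs => rw [← g2]
      group
    rw [this, ← g1, en]; group
  have n3 : n * ι z * n⁻¹ = ι z3 := by
    calc _ = n * ι z3 * n⁻¹ * (n * ι z2 * n⁻¹) := by rw [show z = z3 * z2 by decide, map_mul]; group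
      _ = _ := by rw [n1, n2, ← map_mul]; exact congrArg ι (by decide)
  have nU : n ∈ 𝐍[U.map ι] := mem_norm_of_cj_le (cj_le_iff.2 (by
    rintro _ ⟨u, hu, rfl⟩
    rcases (mem_U u).1 hu with rfl | rfl | rfl | rfl
    · simp
    · rw [n3]; exact mem_map_of_mem ι (by decide)
    · rw [n1]; exact mem_map_of_mem ι (by decide)
    · rw [n2]; exact mem_map_of_mem ι (by decide)))
  obtain ⟨c, hc, ψ, m'⟩ := frat h.syU (norm_inf (norm_normal _ X) (norm_cent le_rfl) nU)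
  have key : ∀ u ∈ E1, ∀ v ∈ U, n * ι u * n⁻¹ = ι v → ψ u = v := fun u hu v hv e => h.sy.inj (by
    rw [← m'.eq u hu, show c * n * ι u * (c * n)⁻¹ = c * (n * ι u * n⁻¹) * c⁻¹ by group, e,
      ← hc.2 _ (mem_map_of_mem ι hv), mul_inv_cancel_right])
  exact ⟨_, ψ, m'.mono_right (mul_mem hc.1 hn), key _ (by decide) _ (by decide) n1, key _ (by decide) _ (by decide) n3⟩

theorem Six.theta (h : Six X t lam ι) : ∃ θ φ, Mp ι M6.SX (X ⊓ Cen (ι M6.z)) θ M6.SX φ ∧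
    (∀ q ∈ M6.Q1, φ q ∈ M6.Q1) ∧ ∀ q ∈ M6.Q1, φ q * q = q * φ q → q = 1 ∨ q = M6.z := by
  obtain ⟨r, ψ, mr, r1, r2⟩ := h.rho
  obtain ⟨δ, φ, m, hU, hφ⟩ := h.delta
  obtain ⟨ψ', mr', e1, e2⟩ := inv mr
  have r3 : ψ z3 = z2 := by
    rw [show z3 = z2 * z by decide, mr.mul (by decide) (by decide), r1, r2]; decide
  have ψU : ∀ u ∈ U, ψ u ∈ U := fun u hu => by
    rcases (mem_U u).1 hu with rfl | rfl | rfl | rfl
    · rw [mr.one]; exact hu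
    · rw [r2]; decide
    · rw [r1]; decide
    · rw [r3]; decide
  have ψU' : ∀ u ∈ U, ψ' u ∈ U := fun u hu => by
    rcases (mem_U u).1 hu with rfl | rfl | rfl | rfl
    · rw [mr'.one]; exact hu
    · rw [← r1, e2 _ (by decide)]; decide
    · rw [← r3, e2 _ (by decide)]; decide
    · rw [← r2, e2 _ (by decide)]; decide
  have s1 : ψ' z = z2 := by rw [← r1, e2 _ (by decide)]
  have m1 := comp (comp mr' m) mr
  set χ := ψ ∘ φ ∘ ψ'
  have χU : ∀ u ∈ U, χ u = u := fun u hu => by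
    show ψ (φ (ψ' u)) = u
    rw [hU _ (ψU' u hu), e1 u (leU u hu)]
  have a1 : ∀ q ∈ Q1U, ψ' q ∈ Q2U := fun q hq =>
    c2' (mr'.mem q (le1 q hq)) (s1 ▸ (c1 q hq).map mr' (by decide) (le1 q hq))
  have a2 : ∀ q ∈ Q2U, φ q ∈ Q2U := fun q hq =>
    c2' (m.mem q (le2 q hq)) (hU z2 (by decide) ▸ (c2 q hq).map m (by decide) (le2 q hq))
  have χQ : ∀ q ∈ Q1U, χ q ∈ Q1U := fun q hq =>
    c1' (m1.mem q (le1 q hq)) (χU z (by decide) ▸ (c1 q hq).map m1 (by decide) (le1 q hq))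
  have χf : ∀ q ∈ Q1U, χ q * q = q * χ q → q ∈ U := fun q hq e => by
    have b1 := a1 q hq
    have b2 := le2 _ b1
    rw [← e1 q (le1 q hq)]
    refine ψU _ (fpf _ b1 _ (a2 _ b1) (hφ _ b2).1 (hφ _ b2).2.1 ((mr.comm (m.mem _ b2) b2).1 ?_))
    rw [e1 q (le1 q hq)]; exact e
  set n := r * (δ * r⁻¹)
  have nH : n ∈ X ⊓ Cen (ι z) := ⟨m1.hg, m1.mem_cen (by decide) (χU z (by decide))⟩
  have sC : Sy ι SX ((X ⊓ Cen (ι z)) ⊓ cmod (Q1U.map ι) (U.map ι)) := ⟨h.sy.inj, h.syH.syl.mono (le_inf h.syH.syl.le (by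
    rintro _ ⟨s, hs, rfl⟩
    refine mem_cmod.2 ⟨mem_norm_of_cj_le (cj_le_iff.2 ?_), ?_⟩
    · rintro _ ⟨u, hu, rfl⟩
      exact ⟨_, nU u hu s hs, by simp only [map_mul, map_inv]⟩
    · rintro _ ⟨q, hq, rfl⟩
      exact ⟨_, modU q hq s hs, by simp only [map_mul, map_inv, commutatorElement_def]⟩)) inf_le_left⟩
  obtain ⟨c, hc, φθ, mθ⟩ := frat sC (n := n) (norm_inf (X := zpowers n) (norm_of_le (zpowers_le.2 nH))
    (norm_cmod (zpowers_le.2 (norm m1 le1 χQ)) (zpowers_le.2 (norm m1 leU fun u hu => (χU u hu).symm ▸ hu)))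
    (mem_zpowers n))
  have mθ' := mθ.mono_right (H' := X ⊓ Cen (ι z)) (mul_mem hc.1 nH)
  have key : ∀ q ∈ Q1U, ∃ u ∈ U, φθ q = u * χ q := fun q hq => by
    obtain ⟨u, hu, e⟩ := inv_mem ((mem_cmod.1 hc.2).2 _ (mem_map_of_mem ι (χQ q hq)))
    refine ⟨u, hu, h.sy.inj ?_⟩
    rw [← mθ.eq q (leE q (le1 q hq)), map_mul, e, ← m1.eq q (le1 q hq), commutatorElement_def]
    group
  obtain ⟨φ', mθi, i1', -⟩ := inv mθ'
  refine ⟨_, φθ, mθ', fun q hq => ?_, fun q hq e => q1U q hq (χf q hq.1 ?_)⟩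
  · obtain ⟨u, hu, e⟩ := key q hq.1
    refine ⟨e ▸ mul_mem hu.1 (χQ q hq.1), mem_centralizer_singleton_iff.2 ?_⟩
    have dW := h.W_wc ((mθi.mono leW).mono_right mθi.hg.1) d (by decide)
    rw [← i1' d (by decide)]
    exact (mθ'.comm (leE q (le1 q hq.1)) (leW _ dW)).2 (q1W q hq _ dW)
  · obtain ⟨u, hu, e'⟩ := key q hq.1
    rw [e', ← mul_assoc, ← cU u hu q (le1 q hq.1), mul_assoc, mul_assoc] at e
    exact mul_left_cancel e

theorem Six.q1_sc (h : Six X t lam ι) {q y : M6} (hq : q ∈ M6.Q1) (e : Fu ι (Cen (ι M6.z)) q y) : y ∈ M6.Q1 := by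
  obtain ⟨g, hg, e⟩ := e
  rcases h.frm.top g with h1 | h1
  · exact scH h hq ⟨g, ⟨h1, hg⟩, e⟩
  · refine scH h (q1t q hq) ⟨g * t, ⟨h1, mul_mem hg ?_⟩, ?_⟩
    · rw [← h.ht]; exact mem_Cen.2 (Commute.map (z_comm _).symm ι)
    · rw [← e, map_mul, map_mul, map_inv, h.ht]; group

end Cfsg.Agent.L3S
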