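import Mathlib
import Cfsg.Agent.L3S.Defs2
import Cfsg.Agent.L3S.D1

set_option autoImplicit false

namespace Cfsg.Agent.L3S

open Cfsg.Agent.L33 Cfsg.Agent.P4 Cfsg.Agent.Loc.Mss Cfsg.Agent.GW Subgroup
open scoped MatrixGroups commutatorElement

variable {G Y : Type*} [Group G] [Finite G] [Group Y] {X : Subgroup G} {t : G} {lam : SL3 →* G} {ι : M6 →* G}

namespace D4Aux

open Equiv Equiv.Perm

/-- Representatives of the non-central involutions of `W` modulo `z`. -/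
def rep : Fin 5 → M6 :=
  ![M6.z2, M6.d, M6.i2 * M6.d * M6.i2⁻¹, M6.j2 * M6.d * M6.j2⁻¹, M6.i2 * M6.j2 * M6.d * (M6.i2 * M6.j2)⁻¹]

/-- The first double transposition. -/
def p1 : Perm (Fin 5) := swap 1 2 * swap 3 4
/-- The second double transposition. -/
def p2 : Perm (Fin 5) := swap 1 3 * swap 2 4

theorem rep_cov : ∀ w ∈ M6.W, w * w = 1 → w ≠ 1 → w ≠ M6.z → ∃ j, w = rep j ∨ w = rep j * M6.z := by
  decide +kernel

theorem rep_uniq : ∀ i j, (rep i = rep j ∨ rep i = rep j * M6.z ∨ rep i * M6.z = rep j ∨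
    rep i * M6.z = rep j * M6.z) → i = j := by decide +kernel

theorem rep_inv : ∀ i, rep i ∈ M6.W ∧ rep i * rep i = 1 ∧ rep i ≠ 1 ∧ rep i ≠ M6.z := by decide +kernel

theorem rep_U : ∀ i, (rep i ∈ M6.U ∨ rep i * M6.z ∈ M6.U) → i = 0 := by decide +kernel

theorem act1 : ∀ i, M6.i2 * rep i * M6.i2⁻¹ = rep (p1 i) ∨ M6.i2 * rep i * M6.i2⁻¹ = rep (p1 i) * M6.z := by
  decide +kernel

theorem act2 : ∀ i, M6.j2 * rep i * M6.j2⁻¹ = rep (p2 i) ∨ M6.j2 * rep i * M6.j2⁻¹ = rep (p2 i) * M6.z := by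
  decide +kernel

theorem act0 : ∀ s ∈ M6.SX, s * rep 0 * s⁻¹ = rep 0 ∨ s * rep 0 * s⁻¹ = rep 0 * M6.z := by decide +kernel

theorem actW : ∀ s ∈ M6.W, s * rep 1 * s⁻¹ = rep 1 ∨ s * rep 1 * s⁻¹ = rep 1 * M6.z := by decide +kernel

theorem cenW : ∀ a ∈ M6.SX, (∀ i, rep i * a = a * rep i) → a ∈ M6.Q1 := by decide +kernel

theorem q1T : ∀ q ∈ M6.Q1, ∀ x ∈ M6.T, q * x = x * q := by decide +kernel

theorem W_SX : ∀ w ∈ M6.W, w ∈ M6.SX ∧ w ∈ M6.T := by decide +kernel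

theorem Q1_SX : ∀ w ∈ M6.Q1, w ∈ M6.SX := by decide +kernel

theorem perm0 : ∀ x : Perm (Fin 5), x * x = 1 → sign x = 1 → x 0 = 0 → x = 1 ∨ x = p1 ∨ x = p2 ∨ x = p1 * p2 := by
  decide +kernel

theorem permfix : ∀ x : Perm (Fin 5), x * x = 1 → ∃ a, x a = a := by decide +kernel

theorem permtr : ∀ a : Fin 5, a = 0 ∨ a = 1 ∨ a = p1 1 ∨ a = p2 1 ∨ a = (p1 * p2) 1 := by decide +kernel

/-- A subgroup of `S₅` with the four-group fixing `0`, normalised by an element moving `1` to `0`. -/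
theorem alt_le {A : Subgroup (Perm (Fin 5))} (h1 : p1 ∈ A) (h2 : p2 ∈ A) {σ : Perm (Fin 5)}
    (hσ : σ ∈ 𝐍[A]) (e : σ 1 = 0) : alternatingGroup (Fin 5) ≤ A := by
  have key : ∀ x τ : Perm (Fin 5), x * x = 1 → sign x = 1 → τ ∈ 𝐍[A] → x (τ 0) = τ 0 → x ∈ A := by
    intro x τ hx hs hτ e
    have hm : τ⁻¹ * x * τ ∈ A := by
      rcases perm0 (τ⁻¹ * x * τ) (by rw [show τ⁻¹ * x * τ * (τ⁻¹ * x * τ) = τ⁻¹ * (x * x) * τ by group, hx]; group)
        (by simp [hs]) (by simp [e]) with e | e | e | e <;> rw [e]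
      exacts [A.one_mem, h1, h2, A.mul_mem h1 h2]
    have := conj_mem_of_norm hτ hm
    rwa [show τ * (τ⁻¹ * x * τ) * τ⁻¹ = x by group] at this
  have e' : σ⁻¹ 0 = 1 := by rw [← e]; simp
  have hi : σ⁻¹ ∈ 𝐍[A] := inv_mem hσ
  rw [← closure_cycleType_eq_two_two_eq_alternatingGroup (by simp), closure_le]
  intro x hx
  have hx' : x.cycleType = {2, 2} := hx
  have x2 : x * x = 1 := by
    rw [← sq, ← orderOf_dvd_iff_pow_eq_one, ← lcm_cycleType, hx']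
    simp
  have xs : sign x = 1 := by rw [sign_of_cycleType, hx']; decide
  obtain ⟨a, ha⟩ := permfix x x2
  rcases permtr a with rfl | rfl | rfl | rfl | rfl
  · exact key x 1 x2 xs (one_mem _) ha
  · exact key x σ⁻¹ x2 xs hi (by rwa [e'])
  · exact key x (p1 * σ⁻¹) x2 xs (mul_mem (le_normalizer h1) hi) (by rwa [Perm.mul_apply, e'])
  · exact key x (p2 * σ⁻¹) x2 xs (mul_mem (le_normalizer h2) hi) (by rwa [Perm.mul_apply, e'])
  · exact key x (p1 * p2 * σ⁻¹) x2 xs (mul_mem (le_normalizer (A.mul_mem h1 h2)) hi)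
      (by rwa [Perm.mul_apply, e'])

/-- `g` maps the class `i` to the class `j`. -/
def R (ι : M6 →* G) (g : G) (i j : Fin 5) : Prop :=
  g * ι (rep i) * g⁻¹ = ι (rep j) ∨ g * ι (rep i) * g⁻¹ = ι (rep j) * ι M6.z

omit [Finite G] in
theorem zz : ι M6.z * ι M6.z = 1 := by rw [← map_mul, show M6.z * M6.z = 1 by decide, map_one]

omit [Finite G] in
theorem R.of_conj {s : M6} {i j : Fin 5} (h : s * rep i * s⁻¹ = rep j ∨ s * rep i * s⁻¹ = rep j * M6.z) :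
    R ι (ι s) i j := by
  unfold R
  rw [← map_inv, ← map_mul, ← map_mul, ← map_mul]
  exact h.imp (congrArg ι) (congrArg ι)

omit [Finite G] in
theorem R.one (i : Fin 5) : R ι 1 i i := Or.inl (by group)

omit [Finite G] in
theorem R.mul {g k : G} {i j l : Fin 5} (hg : g ∈ Cen (ι M6.z)) (h1 : R ι k i j) (h2 : R ι g j l) :
    R ι (g * k) i l := by
  have hc : g * ι M6.z * g⁻¹ = ι M6.z := by rw [← (mem_Cen.1 hg).eq]; group
  have e : g * k * ι (rep i) * (g * k)⁻¹ = g * (k * ι (rep i) * k⁻¹) * g⁻¹ := by group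
  have e' : g * (ι (rep j) * ι M6.z) * g⁻¹ = g * ι (rep j) * g⁻¹ * ι M6.z :=
    calc _ = g * ι (rep j) * g⁻¹ * (g * ι M6.z * g⁻¹) := by group
      _ = _ := by rw [hc]
  unfold R
  rw [e]
  rcases h1 with h1 | h1 <;> rw [h1]
  · exact h2
  · rw [e']
    rcases h2 with h2 | h2 <;> rw [h2]
    · exact Or.inr rfl
    · exact Or.inl (by rw [mul_assoc, zz, mul_one])

omit [Finite G] in
theorem R.inv {g : G} {i j : Fin 5} (hg : g ∈ Cen (ι M6.z)) (h : R ι g i j) : R ι g⁻¹ j i := by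
  have hc : g⁻¹ * ι M6.z * g = ι M6.z := by rw [mul_assoc, (mem_Cen.1 hg).eq]; group
  rcases h with h | h
  · exact Or.inl (by rw [← h]; group)
  · refine Or.inr ?_
    have : ι (rep j) = g * ι (rep i) * g⁻¹ * ι M6.z := by rw [h, mul_assoc, zz, mul_one]
    calc _ = ι (rep i) * (g⁻¹ * ι M6.z * g) := by rw [this]; group
      _ = _ := by rw [hc]

omit [Finite G] in
theorem R.uniq (hi : Function.Injective ι) {g : G} {i j l : Fin 5} (h1 : R ι g i j) (h2 : R ι g i l) : j = l := by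
  unfold R at h1 h2
  rw [← map_mul] at h1 h2
  refine rep_uniq j l ?_
  rcases h1 with h1 | h1 <;> rcases h2 with h2 | h2 <;> have := hi (h1.symm.trans h2) <;> tauto

omit [Finite G] in
theorem R.ex (hi : Function.Injective ι) {g : G} (hg : g ∈ Cen (ι M6.z)) (hn : g ∈ 𝐍[M6.W.map ι]) (i : Fin 5) :
    ∃ j, R ι g i j := by
  obtain ⟨w, hw, e⟩ := conj_mem_of_norm hn (mem_map_of_mem ι (rep_inv i).1)
  have hc : g * ι M6.z * g⁻¹ = ι M6.z := by rw [← (mem_Cen.1 hg).eq]; group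
  obtain ⟨j, hj⟩ := rep_cov w hw (hi (by
      rw [map_mul, e, map_one, show g * ι (rep i) * g⁻¹ * (g * ι (rep i) * g⁻¹) = g * (ι (rep i) * ι (rep i)) * g⁻¹ by
        group, ← map_mul, (rep_inv i).2.1, map_one]; group))
    (fun e1 => (rep_inv i).2.2.1 (hi (by
      rw [e1, map_one] at e
      rw [map_one, show ι (rep i) = g⁻¹ * (g * ι (rep i) * g⁻¹) * g by group, ← e]; group)))
    (fun e1 => (rep_inv i).2.2.2 (hi (by
      rw [e1, ← hc] at e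
      exact (mul_left_cancel (mul_right_cancel e)).symm)))
  refine ⟨j, ?_⟩
  unfold R
  rw [← e, ← map_mul]
  exact hj.imp (congrArg ι) (congrArg ι)

omit [Finite G] in
/-- The action on the five classes. -/
theorem exists_hom (hi : Function.Injective ι) (N : Subgroup G) (h1 : N ≤ Cen (ι M6.z))
    (h2 : N ≤ 𝐍[M6.W.map ι]) : ∃ α : N →* Perm (Fin 5), ∀ (g : N) i, R ι g i (α g i) := by
  choose f hf using fun g : N => R.ex hi (h1 g.2) (h2 g.2)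
  letI : MulAction N (Fin 5) :=
    { smul := f
      one_smul := fun i => R.uniq hi (hf 1 i) (R.one i)
      mul_smul := fun g k i => R.uniq hi (hf (g * k) i) (R.mul (h1 g.2) (hf k i) (hf g _)) }
  exact ⟨MulAction.toPermHom N (Fin 5), hf⟩

theorem mem_norm_W (h : Six X t lam ι) {g : G} (hg : g ∈ X) (e : cj(g, M6.W.map ι) ≤ M6.SX.map ι) :
    g ∈ 𝐍[M6.W.map ι] := by
  obtain ⟨φ, m⟩ := exists_mp h.syX.inj hg e
  exact cj_eq_iff.1 (cj_eq_of_le (m.cj_le le_rfl (h.W_wc m)))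

/-- An element of `H` normalising `W` and `Q₁` and moving the class of `d` to the class of `z₂`. -/
theorem exists_n (h : Six X t lam ι) : ∃ n ∈ X ⊓ Cen (ι M6.z), n ∈ 𝐍[M6.W.map ι] ∧ n ∈ 𝐍[M6.Q1.map ι] ∧
    R ι n 1 0 := by
  have hs := h.syH
  have hW : M6.W.map ι ≤ M6.SX.map ι := map_mono fun w hw => (W_SX w hw).1
  let C : Subgroup G :=
    { carrier := {c | c ∈ X ⊓ Cen (ι M6.z) ∧ R ι c 0 0}
      one_mem' := ⟨one_mem _, R.one 0⟩
      mul_mem' := fun ha hb => ⟨mul_mem ha.1 hb.1, R.mul ha.1.2 hb.2 ha.2⟩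
      inv_mem' := fun ha => ⟨inv_mem ha.1, R.inv ha.1.2 ha.2⟩ }
  have hC : Syl 2 (M6.SX.map ι) C := hs.syl.mono (by
    rintro _ ⟨s, hs', rfl⟩
    exact ⟨hs.mem hs', R.of_conj (act0 s hs')⟩) fun c hc => hc.1
  obtain ⟨g, φ, m, hφ⟩ := h.fuse_U
  have hg : R ι g 1 0 := Or.inl (by
    have := m.eq M6.d (self_cenA (by decide))
    rw [hφ] at this
    exact this)
  obtain ⟨c, hc, e⟩ := hC.conj_le (pg_cj (hs.pg fun w hw => (W_SX w hw).1) g) (cj_le_iff.2 (by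
    rintro _ ⟨w, hw, rfl⟩
    have hw' := hs.mem (W_SX w hw).1
    exact ⟨mul_mem (mul_mem m.hg hw') (inv_mem m.hg),
      R.mul (mul_mem m.hg.2 hw'.2) (R.inv m.hg.2 hg) (R.mul m.hg.2 (R.of_conj (actW w hw)) hg)⟩))
  rw [cj_cj] at e
  have hcg : c * g ∈ X ⊓ Cen (ι M6.z) := mul_mem hc.1 m.hg
  have hn := mem_norm_W h hcg.1 e
  have hR : R ι (c * g) 1 0 := R.mul hc.1.2 hg hc.2
  have hSN : Sy ι M6.SX (X ⊓ Cen (ι M6.z) ⊓ 𝐍[M6.W.map ι]) := ⟨hs.inj, hs.syl.mono (le_inf hs.syl.le (by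
    rintro _ ⟨s, hs', rfl⟩
    exact mem_norm_W h (hs.mem hs').1 (cj_le_of_mem hW (mem_map_of_mem ι hs')))) inf_le_left⟩
  have hnn : X ⊓ Cen (ι M6.z) ⊓ 𝐍[M6.W.map ι] ≤ 𝐍[X ⊓ Cen (ι M6.z) ⊓ 𝐍[M6.W.map ι] ⊓ 𝐂[M6.W.map ι]] :=
    norm_inf le_normalizer (norm_cent inf_le_right)
  have hQ : Sy ι M6.Q1 (X ⊓ Cen (ι M6.z) ⊓ 𝐍[M6.W.map ι] ⊓ 𝐂[M6.W.map ι]) :=
    hSN.sub Q1_SX inf_le_left hnn fun a ha => ⟨fun hm => cenW a ha fun i => hs.inj (by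
      rw [map_mul, map_mul]; exact mem_cent.1 hm.2 _ (mem_map_of_mem ι (rep_inv i).1)),
      fun hq => ⟨hSN.mem ha, mem_cent.2 (by
        rintro _ ⟨w, hw, rfl⟩
        rw [← map_mul, ← map_mul, q1T a hq w (W_SX w hw).2])⟩⟩
  obtain ⟨k, hk, m', hm', e'⟩ := hQ.syl.frattini' (hnn ⟨hcg, hn⟩)
  have ek : k = c * g * m'⁻¹ := by rw [e']; group
  have hm1 : R ι m'⁻¹ 1 1 := Or.inl (by
    rw [← mem_cent.1 (inv_mem hm'.2) _ (mem_map_of_mem ι (rep_inv 1).1)]; group)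
  refine ⟨k, ?_, ?_, hk, ?_⟩ <;> rw [ek]
  · exact mul_mem hcg (inv_mem hm'.1.1)
  · exact mul_mem hn (inv_mem hm'.1.2)
  · exact R.mul hcg.2 hm1 hR

theorem rot_ne (m : ℕ) (hm : ¬ 5 ∣ m) : (finRotate 5 ^ m) 0 ≠ 0 := by
  have h5 : finRotate 5 ^ 5 = 1 := by decide
  rw [pow_eq_pow_mod m h5]
  have h1 : m % 5 < 5 := Nat.mod_lt _ (by norm_num)
  have h2 : m % 5 ≠ 0 := fun e => hm (Nat.dvd_of_mod_eq_zero e)
  generalize m % 5 = r at h1 h2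
  interval_cases r <;> first | exact absurd rfl h2 | decide

end D4Aux

open D4Aux

theorem Six.five (h : Six X t lam ι) : ∃ K : Subgroup G, ⁅K, K⁆ = K ∧ K ≤ X ∧ K ≤ 𝐂[M6.Q1.map ι] ∧
    K ≤ 𝐍[M6.W.map ι] ∧ ∃ k ∈ K, (∃ n : ℕ, k ^ 5 ^ n = 1) ∧ k * ι M6.z2 * k⁻¹ ∉ M6.U.map ι := by
  have hs := h.syH
  have hW : M6.W.map ι ≤ M6.SX.map ι := map_mono fun w hw => (W_SX w hw).1
  set N : Subgroup G := X ⊓ Cen (ι M6.z) ⊓ 𝐍[M6.W.map ι] with hN
  obtain ⟨α, hα⟩ := exists_hom hs.inj N (inf_le_left.trans inf_le_right) inf_le_right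
  obtain ⟨n, hn1, hn2, hn3, hn4⟩ := exists_n h
  have hSN : ∀ s ∈ M6.SX, ι s ∈ N := fun s hs' =>
    ⟨hs.mem hs', mem_norm_W h (hs.mem hs').1 (cj_le_of_mem hW (mem_map_of_mem ι hs'))⟩
  have hT : ∀ s ∈ M6.T, ι s ∈ 𝐂[M6.Q1.map ι] := fun s hs' => mem_cent.2 (by
    rintro _ ⟨q, hq, rfl⟩
    rw [← map_mul, ← map_mul, q1T q hq s hs'])
  have h0 : alternatingGroup (Fin 5) ≤ (𝐂[M6.Q1.map ι].subgroupOf N).map α := by
    refine alt_le ⟨⟨ι M6.i2, hSN _ (by decide)⟩, hT _ (by decide), ?_⟩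
      ⟨⟨ι M6.j2, hSN _ (by decide)⟩, hT _ (by decide), ?_⟩ (σ := α ⟨n, hn1, hn2⟩) ?_
      (R.uniq hs.inj (hα ⟨n, hn1, hn2⟩ 1) hn4)
    · exact Equiv.ext fun i => R.uniq hs.inj (hα _ i) (R.of_conj (act1 i))
    · exact Equiv.ext fun i => R.uniq hs.inj (hα _ i) (R.of_conj (act2 i))
    · refine cj_eq_iff.1 (cj_eq_of_le (cj_le_iff.2 ?_))
      rintro _ ⟨x, hx, rfl⟩
      refine ⟨⟨n, hn1, hn2⟩ * x * ⟨n, hn1, hn2⟩⁻¹, ?_, by simp⟩
      exact conj_mem_of_norm (A := 𝐂[M6.Q1.map ι]) (norm_cent le_rfl hn3) hx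
  obtain ⟨K, hK⟩ := exists_minimal_of_wellFoundedLT
    (fun K : Subgroup N => K ≤ 𝐂[M6.Q1.map ι].subgroupOf N ∧ alternatingGroup (Fin 5) ≤ K.map α) ⟨_, le_rfl, h0⟩
  have hKK : ⁅K, K⁆ = K := by
    have h1 : ⁅K, K⁆ ≤ K := comm_le_left le_normalizer
    refine le_antisymm h1 (hK.2 ⟨h1.trans hK.1.1, ?_⟩ h1)
    rw [map_commutator, ← commutator_alternatingGroup_eq_self (α := Fin 5) (by simp)]
    exact commutator_mono hK.1.2 hK.1.2
  refine ⟨K.map N.subtype, by rw [← map_commutator, hKK], ?_, ?_, ?_, ?_⟩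
  · rintro _ ⟨x, -, rfl⟩; exact x.2.1.1
  · rintro _ ⟨x, hx, rfl⟩; exact hK.1.1 hx
  · rintro _ ⟨x, -, rfl⟩; exact x.2.2
  · obtain ⟨x, hx, e⟩ := hK.1.2 (show finRotate 5 ∈ alternatingGroup (Fin 5) from Equiv.Perm.mem_alternatingGroup.2 (by decide))
    obtain ⟨a, m, hm, em⟩ := Nat.exists_eq_pow_mul_and_not_dvd (orderOf_pos x).ne' 5 (by norm_num)
    refine ⟨(x ^ m : N), mem_map_of_mem _ (pow_mem hx m), ⟨a, ?_⟩, fun hU => ?_⟩
    · have : (x ^ m) ^ 5 ^ a = 1 := by rw [← pow_mul, mul_comm, ← em, pow_orderOf_eq_one]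
      exact congrArg Subtype.val this
    · refine rot_ne m hm ?_
      rw [← e, ← map_pow]
      refine rep_U _ ?_
      have hR := hα (x ^ m) 0
      unfold R at hR
      rw [← map_mul] at hR
      change _ * ι (rep 0) * _ ∈ _ at hU
      rcases hR with e1 | e1 <;> rw [e1, mem_map_iff_mem hs.inj] at hU
      exacts [Or.inl hU, Or.inr hU]

end Cfsg.Agent.L3S
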