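import Mathlib
import Cfsg.Agent.L3S.Defs2
import Cfsg.Agent.Cl.AutPSp
import Cfsg.Agent.Cl.SpOrder
import Cfsg.Agent.Cl.Sm.Base
import Cfsg.Agent.S0269

set_option autoImplicit false

namespace Cfsg.Agent.L3S

open Cfsg.Agent.L33 Cfsg.Agent.P4 Cfsg.Agent.Loc.Mss Cfsg.Agent.GW Subgroup
open scoped MatrixGroups commutatorElement

namespace D8aAux

open Matrix Cfsg.Agent.Cl.Aut

/-- Matrices of size four. -/
abbrev MM : Type := Matrix (Fin 2 ⊕ Fin 2) (Fin 2 ⊕ Fin 2) F3
/-- Vectors of size four. -/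
abbrev VV : Type := Fin 2 ⊕ Fin 2 → F3
/-- The Gram matrix. -/
abbrev JJ : MM := J (Fin 2) F3

theorem eq_of_perfect {H : Type*} [Group H] (hp : _root_.commutator H = ⊤) (f g : H →* H)
    (h : ∀ x, (f x)⁻¹ * g x ∈ center H) (x : H) : f x = g x := by
  have k : _root_.commutator H ≤ f.eqLocus g := commutator_le.2 fun a _ b _ => by
    change f _ = g _
    obtain ⟨z, hz, ez⟩ : ∃ z ∈ center H, g a = f a * z := ⟨_, h a, by group⟩
    obtain ⟨w, hw, ew⟩ : ∃ w ∈ center H, g b = f b * w := ⟨_, h b, by group⟩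
    rw [map_commutatorElement, map_commutatorElement, ez, ew]
    have e1 : z * (f b * w) * z⁻¹ = f b * w := by rw [← mem_center_iff.1 hz, mul_inv_cancel_right]
    have e2 : w * (f a)⁻¹ * w⁻¹ = (f a)⁻¹ := by rw [← mem_center_iff.1 hw, mul_inv_cancel_right]
    calc _ = f a * f b * (w * (f a)⁻¹ * w⁻¹) * (f b)⁻¹ := by rw [e2]; rfl
      _ = f a * (z * (f b * w) * z⁻¹) * (f a)⁻¹ * w⁻¹ * (f b)⁻¹ := by rw [e1]; group
      _ = _ := by rw [commutatorElement_def]; group
  exact k (hp ▸ mem_top x)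

theorem three (X : MM) : X + X + X = 0 := by
  have h : ∀ a : F3, a + a + a = 0 := by decide
  ext i j; exact h _

theorem eq_zero_of_neg {X : MM} (h : X = -X) : X = 0 := by
  linear_combination (norm := noncomm_ring) three X - h

theorem center_pm {z : Sp4} (h : z ∈ center Sp4) : z.1 = 1 ∨ z.1 = -1 := by
  obtain ⟨a, ha⟩ := Cl.Sm.sp_center_scalar z h
  have ha' : z.1 = a • (1 : MM) := ha
  have k : ∀ a : F3, a = 0 ∨ a = 1 ∨ a = -1 := by decide
  rcases k a with rfl | rfl | rfl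
  · have := SymplecticGroup.mem_iff.1 z.2
    rw [ha'] at this
    exact absurd (by simpa using this.symm) (J_ne_zero (F := F3) (m := 2) (by norm_num))
  · exact .inl (by simpa using ha')
  · exact .inr (by simpa using ha')

/-- Every automorphism of `Sp₄(3)` is induced by a similarity. -/
theorem exists_M (α : MulAut Sp4) : ∃ M N : MM, M * N = 1 ∧ N * M = 1 ∧ (Mᵀ * JJ * M = JJ ∨ Mᵀ * JJ * M = -JJ) ∧
    ∀ x : Sp4, (α x).1 = M * x.1 * N := by
  obtain ⟨g, σ, e⟩ := (fdSp F3 le_rfl).mem_range_Psi.1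
    (psiSp_surjective (F := F3) (p := 3) le_rfl (fun _ => by norm_num) (centerQuotAut Sp4 α))
  obtain rfl : σ = 1 := Subsingleton.elim _ _
  rw [← FD.diag_eq, FD.eq_diag_iff] at e
  obtain ⟨c, hc⟩ := mem_GSp_iff.1 g.2
  obtain ⟨M, hM⟩ : ∃ M : MM, M = (g : GL (Fin 2 ⊕ Fin 2) F3) := ⟨_, rfl⟩
  obtain ⟨N, hN⟩ : ∃ N : MM, N = ((g : GL (Fin 2 ⊕ Fin 2) F3)⁻¹ : GL (Fin 2 ⊕ Fin 2) F3) := ⟨_, rfl⟩
  have MN : M * N = 1 := by rw [hM, hN]; exact Units.mul_inv _
  have NM : N * M = 1 := by rw [hM, hN]; exact Units.inv_mul _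
  rw [← hM] at hc
  rw [← hM, ← hN] at e
  have hc' : Mᵀ * JJ * M = JJ ∨ Mᵀ * JJ * M = -JJ := by
    have k : ∀ a : F3, a ≠ 0 → a = 1 ∨ a = -1 := by decide
    rcases k c c.ne_zero with h | h <;> rw [h] at hc
    exacts [.inl (by simpa using hc), .inr (by simpa using hc)]
  have tr : Nᵀ * Mᵀ = 1 := by rw [← transpose_mul, MN, transpose_one]
  have mem : ∀ x : Sp4, M * x.1 * N ∈ symplecticGroup (Fin 2) F3 := fun x => by
    have hx := SymplecticGroup.mem_iff'.1 x.2
    have e1 : (M * x.1 * N)ᵀ * JJ * (M * x.1 * N) = Nᵀ * (x.1ᵀ * (Mᵀ * JJ * M) * x.1) * N := by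
      simp only [transpose_mul, Matrix.mul_assoc]
    have e2 : JJ = Nᵀ * (Mᵀ * JJ * M) * N := by
      calc JJ = (Nᵀ * Mᵀ) * JJ * (M * N) := by rw [tr, MN, Matrix.one_mul, Matrix.mul_one]
        _ = _ := by simp only [Matrix.mul_assoc]
    rw [SymplecticGroup.mem_iff', e1]
    rcases hc' with h | h <;> rw [h] at e2 ⊢
    · rw [hx]; exact e2.symm
    · rw [Matrix.mul_neg, Matrix.neg_mul, hx]; exact e2.symm
  let γ : Sp4 →* Sp4 := MonoidHom.mk' (fun x => ⟨_, mem x⟩) fun x y => Subtype.ext (by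
    change M * (x.1 * y.1) * N = M * x.1 * N * (M * y.1 * N)
    calc _ = M * x.1 * (N * M) * y.1 * N := by rw [NM]; simp only [Matrix.mul_assoc, Matrix.mul_one]
      _ = _ := by simp only [Matrix.mul_assoc])
  refine ⟨M, N, MN, NM, hc', fun x => congrArg Subtype.val (eq_of_perfect (S0269.result 2 (.inr (.inl ⟨rfl, by simp⟩)))
    α.toMonoidHom γ (fun y => QuotientGroup.eq.1 ?_) x)⟩
  exact e y (γ y) rfl

theorem alt {K : MM} (h : Kᵀ = -K) (x : VV) : x ⬝ᵥ K *ᵥ x = 0 := by
  have e : x ⬝ᵥ K *ᵥ x = -(x ⬝ᵥ K *ᵥ x) := by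
    conv_lhs => rw [dotProduct_mulVec, ← mulVec_transpose, h, neg_mulVec, neg_dotProduct, dotProduct_comm]
  have k : ∀ a : F3, a = -a → a = 0 := by decide
  exact k _ e

/-- A similarity of multiplier `-1` and square `-1` commutes with no non-central involution. -/
theorem not_neg {M v : MM} (h1 : Mᵀ * JJ * M = -JJ) (h2 : M * M = -1) (hv : vᵀ * JJ * v = JJ) (v2 : v * v = 1)
    (c : M * v = v * M) (n1 : v ≠ 1) (n2 : v ≠ -1) : False := by
  have ex : ∀ A : MM, A ≠ 0 → ∃ x : VV, A *ᵥ x ≠ 0 := fun A hA => by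
    by_contra! h
    exact hA (by ext i j; simpa using congrFun (h (Pi.single j 1)) i)
  obtain ⟨x0, hx⟩ := ex (v + 1) fun e => n2 (eq_neg_of_add_eq_zero_left e)
  obtain ⟨y0, hy⟩ := ex (v - 1) fun e => n1 (eq_of_sub_eq_zero e)
  have vx : v *ᵥ ((v + 1) *ᵥ x0) = (v + 1) *ᵥ x0 := by rw [mulVec_mulVec, Matrix.mul_add, v2, Matrix.mul_one, add_comm]
  have vy : v *ᵥ ((v - 1) *ᵥ y0) = -((v - 1) *ᵥ y0) := by
    rw [mulVec_mulVec, Matrix.mul_sub, v2, Matrix.mul_one, ← neg_mulVec, neg_sub]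
  generalize (v + 1) *ᵥ x0 = x at hx vx
  generalize (v - 1) *ᵥ y0 = y at hy vy
  have vM : ∀ w : VV, v *ᵥ (M *ᵥ w) = M *ᵥ (v *ᵥ w) := fun w => by rw [mulVec_mulVec, mulVec_mulVec, c]
  have MM' : ∀ w : VV, M *ᵥ (M *ᵥ w) = -w := fun w => by rw [mulVec_mulVec, h2, neg_mulVec, one_mulVec]
  have i2 : ∀ (w : VV) (a b : F3), w ≠ 0 → a • w + b • M *ᵥ w = 0 → a = 0 ∧ b = 0 := fun w a b hw e => by
    have e' := congrArg (M *ᵥ ·) e
    simp only [mulVec_add, mulVec_smul, MM', mulVec_zero] at e'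
    have e2 : (a * a + b * b) • w = 0 := by linear_combination (norm := module) a • e - b • e'
    have k : ∀ a b : F3, a * a + b * b = 0 → a = 0 ∧ b = 0 := by decide
    exact k a b ((smul_eq_zero.1 e2).resolve_right hw)
  have half : ∀ w : VV, w + w = 0 → w = 0 := fun w e => by
    have k : ∀ a : F3, a + a = 0 → a = 0 := by decide
    ext i; exact k _ (congrFun e i)
  let f : VV → VV := fun a => a (.inl 0) • x + a (.inl 1) • M *ᵥ x + (a (.inr 0) • y + a (.inr 1) • M *ᵥ y)
  have fi : Function.Injective f := fun a b e => by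
    have e0 : (a - b) (.inl 0) • x + (a - b) (.inl 1) • M *ᵥ x +
        ((a - b) (.inr 0) • y + (a - b) (.inr 1) • M *ᵥ y) = 0 := by
      simp only [Pi.sub_apply]
      linear_combination (norm := module) e
    have e1 := congrArg (v *ᵥ ·) e0
    simp only [mulVec_add, mulVec_smul, vM, vx, vy, mulVec_zero, mulVec_neg] at e1
    obtain ⟨p1, p2⟩ := i2 x ((a - b) (.inl 0)) ((a - b) (.inl 1)) hx (half _ (by
      linear_combination (norm := module) e0 + e1))
    obtain ⟨p3, p4⟩ := i2 y ((a - b) (.inr 0)) ((a - b) (.inr 1)) hy (half _ (by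
      linear_combination (norm := module) e0 - e1))
    refine eq_of_sub_eq_zero (funext ?_)
    rintro (i | i) <;> fin_cases i
    exacts [p1, p2, p3, p4]
  have orth : ∀ w : VV, v *ᵥ w = -w → x ⬝ᵥ JJ *ᵥ w = 0 := fun w hw => by
    have e : x ⬝ᵥ JJ *ᵥ w = -(x ⬝ᵥ JJ *ᵥ w) := by
      conv_lhs => rw [← hv, ← mulVec_mulVec, ← mulVec_mulVec, dotProduct_mulVec, vecMul_transpose, vx, hw, mulVec_neg,
        dotProduct_neg]
    have k : ∀ a : F3, a = -a → a = 0 := by decide
    exact k _ e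
  have a1 : x ⬝ᵥ JJ *ᵥ x = 0 := alt (J_transpose _ _) x
  have a2 : x ⬝ᵥ JJ *ᵥ (M *ᵥ x) = 0 := by
    rw [mulVec_mulVec]
    refine alt ?_ x
    rw [transpose_mul, J_transpose]
    linear_combination (norm := noncomm_ring) h1 * M - Mᵀ * JJ * h2
  have all : ∀ w : VV, x ⬝ᵥ JJ *ᵥ w = 0 := fun w => by
    obtain ⟨a, rfl⟩ := Finite.injective_iff_surjective.1 fi w
    simp only [f, mulVec_add, mulVec_smul, dotProduct_add, dotProduct_smul, a1, a2, orth y vy,
      orth (M *ᵥ y) (by rw [vM, vy, mulVec_neg]), smul_zero, add_zero]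
  refine hx (funext fun i => ?_)
  have := all (-JJ *ᵥ Pi.single i 1)
  rwa [mulVec_mulVec, Matrix.mul_neg, J_squared, neg_neg, one_mulVec, dotProduct_single, mul_one] at this

/-- An involution of multiplier `-1` is conjugate to `TT`. -/
theorem exists_C {M : MM} (h1 : Mᵀ * JJ * M = -JJ) (h2 : M * M = 1) : ∃ C : Sp4, M * C.1 = C.1 * TT := by
  have J2 : JJ * JJ = -1 := J_squared _ _
  have h3 : Mᵀ * JJ = -(JJ * M) := by linear_combination (norm := noncomm_ring) h1 * M - Mᵀ * JJ * h2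
  have tr : trace M = 0 := by
    have e : Mᵀ = JJ * M * JJ := by linear_combination (norm := noncomm_ring) Mᵀ * J2 - h3 * JJ
    have e1 : trace M = -trace M := by
      conv_lhs => rw [← trace_transpose, e, trace_mul_cycle, J2, Matrix.neg_mul, Matrix.one_mul, trace_neg]
    have k : ∀ a : F3, a = -a → a = 0 := by decide
    exact k _ e1
  obtain ⟨Q, hQ⟩ : ∃ Q : MM, Q = M - 1 := ⟨_, rfl⟩
  obtain ⟨P, hP⟩ : ∃ P : MM, P = -(M + 1) := ⟨_, rfl⟩
  have QQ : Q * Q = Q := by rw [hQ]; linear_combination (norm := noncomm_ring) h2 + three (1 - M)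
  have QP : Q * P = 0 := by rw [hQ, hP]; linear_combination (norm := noncomm_ring) -h2
  have PQ : P * Q = 0 := by rw [hQ, hP]; linear_combination (norm := noncomm_ring) -h2
  have MP : M * P = P := by rw [hP]; linear_combination (norm := noncomm_ring) -h2
  have MQ : M * Q = -Q := by rw [hQ]; linear_combination (norm := noncomm_ring) h2
  have PJ : Pᵀ * JJ = JJ * Q := by
    rw [hP, hQ, transpose_neg, transpose_add, transpose_one]; linear_combination (norm := noncomm_ring) -h3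
  have QJ : Qᵀ * JJ = JJ * P := by
    rw [hP, hQ, transpose_sub, transpose_one]; linear_combination (norm := noncomm_ring) h3
  have tQ : trace Q = -1 := by rw [hQ, trace_sub, tr, trace_one]; decide
  obtain ⟨i, k, j, l, hd⟩ : ∃ i k j l, Q i j * Q k l - Q i l * Q k j ≠ 0 := by
    by_contra! h
    have e : Q * Q = -Q := by
      ext i l
      rw [mul_apply, neg_apply, ← mul_neg_one, ← tQ, trace, Finset.mul_sum]
      exact Finset.sum_congr rfl fun j _ => by rw [diag_apply]; linear_combination h i j j l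
    rw [eq_zero_of_neg (QQ.symm.trans e), trace_zero] at tQ
    exact absurd tQ (by decide)
  obtain ⟨A, B, hAB⟩ : ∃ A B : Matrix (Fin 2 ⊕ Fin 2) (Fin 2) F3, Aᵀ * JJ * Q * B = -1 := by
    have e0 : ∀ r c : Fin 2 → Fin 2 ⊕ Fin 2,
        (1 : MM).submatrix r id * Q * (1 : MM).submatrix id c = Q.submatrix r c := fun r c => by
      ext a b; simp [mul_apply, one_apply]
    have e := e0 ![i, k] ![j, l]
    have u : IsUnit (Q.submatrix ![i, k] ![j, l]).det := by
      rw [det_fin_two]; exact Ne.isUnit (by simpa using hd)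
    refine ⟨JJ * ((1 : MM).submatrix ![i, k] id)ᵀ, -((1 : MM).submatrix id ![j, l] * (Q.submatrix ![i, k] ![j, l])⁻¹), ?_⟩
    rw [transpose_mul, transpose_transpose, J_transpose, Matrix.mul_assoc _ (-JJ), Matrix.neg_mul, J2, neg_neg,
      Matrix.mul_one, Matrix.mul_neg, ← Matrix.mul_assoc, e, mul_nonsing_inv _ u]
  have b12 : (P * A)ᵀ * JJ * (Q * B) = -1 := by
    rw [transpose_mul, Matrix.mul_assoc Aᵀ, PJ, ← hAB]
    conv_rhs => rw [← QQ]
    simp only [Matrix.mul_assoc]
  have b21 : (Q * B)ᵀ * JJ * (P * A) = 1 := by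
    have := congrArg transpose b12
    rw [transpose_mul, transpose_mul _ JJ, transpose_transpose, J_transpose, transpose_neg, transpose_one, Matrix.neg_mul,
      Matrix.mul_neg, neg_inj, ← Matrix.mul_assoc] at this
    exact this
  have b11 : (P * A)ᵀ * JJ * (P * A) = 0 := by
    rw [transpose_mul, Matrix.mul_assoc Aᵀ, PJ]
    calc _ = Aᵀ * JJ * (Q * P) * A := by simp only [Matrix.mul_assoc]
      _ = 0 := by simp [QP]
  have b22 : (Q * B)ᵀ * JJ * (Q * B) = 0 := by
    rw [transpose_mul, Matrix.mul_assoc Bᵀ, QJ]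
    calc _ = Bᵀ * JJ * (P * Q) * B := by simp only [Matrix.mul_assoc]
      _ = 0 := by simp [PQ]
  refine ⟨⟨fromCols (P * A) (Q * B), ?_⟩, ?_⟩
  · rw [SymplecticGroup.mem_iff', transpose_fromCols, fromRows_mul, fromRows_mul_fromCols, b11, b12, b21, b22]
    rfl
  · change M * fromCols _ _ = fromCols _ _ * fromBlocks _ _ _ _
    rw [mul_fromCols, fromCols_mul_fromBlocks, ← Matrix.mul_assoc, ← Matrix.mul_assoc, MP, MQ]
    simp

theorem card_sp4 : Nat.card Sp4 = 51840 := by
  rw [Cl.sp_card_std, Nat.card_zmod]; decide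

theorem card_gl2 : Nat.card GL2 = 48 := by
  rw [card_GL_field]; simp [Fin.prod_univ_two]

end D8aAux

variable {G Y : Type*} [Group G] [Finite G] [Group Y] {X : Subgroup G} {t : G} {lam : SL3 →* G} {ι : M6 →* G}

omit [Finite G]

open D8aAux Matrix in
theorem conj_tau {α : MulAut Sp4} (h2 : α * α = 1) {μ : GL2 →* Sp4} (hi : Function.Injective μ)
    (hf : ∀ g, α (μ g) = μ g) (h1 : (μ (-1)).1 = -1)
    (h32 : ∀ P : Subgroup Sp4, IsPGroup 2 P → (∀ x ∈ P, α x = x) → Nat.card P ≤ 16) :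
    ∃ c : Sp4, ∀ x, c * α x * c⁻¹ = tau (c * x * c⁻¹) := by
  obtain ⟨M, N, MN, NM, hM, hα⟩ := exists_M α
  have fx : ∀ x : Sp4, α x = x ↔ M * x.1 = x.1 * M := fun x => by
    rw [Subtype.ext_iff, hα]
    exact ⟨fun e => by linear_combination (norm := noncomm_ring) e * M - M * x.1 * NM,
      fun e => by linear_combination (norm := noncomm_ring) e * N + x.1 * MN⟩
  have sq : M * M = 1 ∨ M * M = -1 := by
    have m2 : M * M ∈ symplecticGroup (Fin 2) F3 := by
      have e : (M * M)ᵀ * JJ * (M * M) = Mᵀ * (Mᵀ * JJ * M) * M := by simp only [transpose_mul, Matrix.mul_assoc]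
      rw [SymplecticGroup.mem_iff', e]
      rcases hM with h | h <;> rw [h]
      · exact h
      · rw [Matrix.mul_neg, Matrix.neg_mul, h, neg_neg]
    refine center_pm (z := ⟨_, m2⟩) (mem_center_iff.2 fun x => Subtype.ext ?_)
    have e : (α (α x)).1 = x.1 := by rw [← MulAut.mul_apply, h2]; rfl
    rw [hα, hα] at e
    change x.1 * (M * M) = M * M * x.1
    linear_combination (norm := noncomm_ring) M * M * x.1 * N * NM * M + M * M * x.1 * NM - e * (M * M)
  rcases hM with hM | hM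
  · exfalso
    let m : Sp4 := ⟨M, SymplecticGroup.mem_iff'.2 hM⟩
    have m4 : m ^ 2 ^ 2 = 1 := Subtype.ext (by
      change M ^ 4 = 1
      rcases sq with e | e
      · linear_combination (norm := noncomm_ring) e * (M * M) + e
      · linear_combination (norm := noncomm_ring) e * (M * M) - e)
    obtain ⟨S, hS⟩ := Sylow.exists_subgroup_card_pow_prime (G := GL2) 2 (n := 4) (by rw [card_gl2]; decide)
    have cm : ∀ g, m * μ g = μ g * m := fun g => Subtype.ext ((fx _).1 (hf g))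
    have pm : IsPGroup 2 (zpowers m) := by
      obtain ⟨k, -, hk⟩ := (Nat.dvd_prime_pow Nat.prime_two).1 (orderOf_dvd_of_pow_eq_one m4)
      exact IsPGroup.of_card (by rw [Nat.card_zpowers, hk])
    have nm : S.map μ ≤ normalizer (zpowers m : Set Sp4) := by
      rintro _ ⟨g, -, rfl⟩
      refine centralizer_le_normalizer _ (mem_centralizer_iff.2 ?_)
      rintro _ ⟨k, rfl⟩
      exact (Commute.zpow_left (cm g) k).eq
    have pP := IsPGroup.to_sup_of_normal_right' ((IsPGroup.of_card hS).map μ) pm nm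
    have fP : S.map μ ⊔ zpowers m ≤ α.toMonoidHom.eqLocus (MonoidHom.id _) :=
      sup_le (by rintro _ ⟨g, -, rfl⟩; exact hf g) (zpowers_le.2 ((fx m).2 rfl))
    have eP : S.map μ = S.map μ ⊔ zpowers m := eq_of_le_of_card_ge le_sup_left (by
      rw [card_map_of_injective hi, hS]; exact h32 _ pP fun x hx => fP hx)
    obtain ⟨s, -, es⟩ : m ∈ S.map μ := eP ▸ mem_sup_right (mem_zpowers m)
    obtain ⟨a, ha⟩ := GeneralLinearGroup.mem_center_iff_val_mem_range_scalar.1 (show s ∈ center GL2 from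
      mem_center_iff.2 fun g => hi (by rw [map_mul, map_mul, es, cm]))
    have sc : M = 1 ∨ M = -1 := by
      have k : ∀ a : F3, a = 0 ∨ a = 1 ∨ a = -1 := by decide
      rcases k a with rfl | rfl | rfl
      · exact absurd (by rw [← ha]; simp) s.det_ne_zero
      · obtain rfl : s = 1 := Units.ext (by rw [← ha]; simp)
        exact .inl (congrArg Subtype.val (es.symm.trans (map_one μ)))
      · obtain rfl : s = -1 := Units.ext (by rw [← ha]; decide)
        exact .inr ((congrArg Subtype.val es.symm).trans h1)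
    obtain ⟨T, hT⟩ := Sylow.exists_subgroup_card_pow_prime (G := Sp4) 2 (n := 5) (by rw [card_sp4]; decide)
    have := h32 T (IsPGroup.of_card hT) fun x _ => (fx x).2 (by rcases sc with e | e <;> simp [e])
    omega
  rcases sq with sq | sq
  · obtain ⟨C, hC⟩ := exists_C hM sq
    obtain rfl : N = M := by linear_combination (norm := noncomm_ring) NM * M - N * sq
    have c1 : C.1 * (C⁻¹).1 = 1 := congrArg Subtype.val (mul_inv_cancel C)
    have c2 : (C⁻¹).1 * C.1 = 1 := congrArg Subtype.val (inv_mul_cancel C)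
    have e : (C⁻¹).1 * N = TT * (C⁻¹).1 := by
      linear_combination (norm := noncomm_ring) (C⁻¹).1 * hC * (C⁻¹).1 - (C⁻¹).1 * N * c1 + c2 * TT * (C⁻¹).1
    refine ⟨C⁻¹, fun x => Subtype.ext ?_⟩
    rw [inv_inv]
    change (C⁻¹).1 * (α x).1 * C.1 = TT * ((C⁻¹).1 * x.1 * C.1) * TT
    rw [hα]
    linear_combination (norm := noncomm_ring) e * x.1 * N * C.1 + TT * (C⁻¹).1 * x.1 * hC
  · exfalso
    let d : GL2 := ⟨!![1, 0; 0, -1], !![1, 0; 0, -1], by decide, by decide⟩
    have d2 : d * d = 1 := Units.ext (by decide)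
    refine not_neg hM sq (SymplecticGroup.mem_iff'.1 (μ d).2)
      (congrArg Subtype.val (show μ d * μ d = 1 by rw [← map_mul, d2, map_one])) ((fx _).1 (hf d)) (fun e => ?_) fun e => ?_
    · exact absurd (congrArg Units.val (hi (show μ d = μ 1 by rw [map_one]; exact Subtype.ext e))) (by decide)
    · exact absurd (congrArg Units.val (hi (show μ d = μ (-1) from Subtype.ext (e.trans h1.symm)))) (by decide)

end Cfsg.Agent.L3S
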