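import Mathlib
import Cfsg.Agent.L33.ENode

/-!
Soundness of the checks of `L33` for an arbitrary conclusion: states and leaves.
-/

set_option autoImplicit false

namespace Cfsg.Agent.L3S

open Cfsg.Agent.L33 Cfsg.Agent.Spor Cfsg.Agent.Rec Cfsg.Agent.Spor.PC Cfsg.Agent.Inv.Fz Subgroup

variable {C : Prop}

variable {G : Type*} [Group G]

/-- The bound follows from a realisation. -/
def Val (C : Prop) (PT : ℕ → List Ins) (t : G) (H : Hdr) : Prop := ∀ g σ, HOK PT t g σ H → C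

/-- The state is realised by `g`, `σ`. -/
structure FOK (C : Prop) (t : G) (g σ : ℕ → G) (E : Env) : Prop where
  val : ∀ j < E.cur, Val C E.PT t (E.DB j)
  gl : Glob E.s t
  pc : PCA E.A E.n g
  hh : E.h = 2 ^ E.n
  pm : ∀ a, tb E.pm a = true → a < 2 ^ E.n ∧ IsConj t (elt g E.n a)
  nm : ∀ a, tb E.nm a = true → a < 2 ^ E.n ∧ ¬ IsConj t (elt g E.n a)
  alt : ∀ a < 2 ^ E.n, E.alt a < 2 ^ E.n ∧ IsConj (elt g E.n a) (elt g E.n (E.alt a))
  ops : ∀ k, List.Forall₂ (Cj g E.n (σ k)) (nth op0 E.ops k).xs (nth op0 E.ops k).ys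
  pats : ∀ k, tb E.pats k = true → PatOK t (E.PT k)
  fl : E.hf = true → IsSylIn 2 (genLt g E.n) (KN (E.fl.map (sg g E.n)))

variable {t : G} {g σ : ℕ → G} {E : Env}

theorem FOK.isP (h : FOK C t g σ E) {a : ℕ} {x : G} (ha : Rp g E.n a x) (hc : E.isP a = true) : IsConj t x := by
  rw [← ha.2]
  rcases (bor_iff _ _).1 hc with hc | hc
  · exact (h.pm a hc).2
  · exact (h.pm _ ((frc_eq _ _).symm.trans hc)).2.trans (h.alt a ha.1).2.symm

theorem FOK.isN (h : FOK C t g σ E) {a : ℕ} {x : G} (ha : Rp g E.n a x) (hc : E.isN a = true) : ¬ IsConj t x := by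
  rw [← ha.2]
  rcases (bor_iff _ _).1 hc with hc | hc
  · exact (h.nm a hc).2
  · exact fun e => (h.nm _ ((frc_eq _ _).symm.trans hc)).2 (e.trans (h.alt a ha.1).2)

theorem FOK.lt (h : FOK C t g σ E) {a : ℕ} (hc : blt a E.h = true) : Rp g E.n a (elt g E.n a) :=
  rp (h.hh ▸ (blt_iff _ _).1 hc)

theorem FOK.apW (h : FOK C t g σ E) {w : List ℕ} {a : ℕ} (ha : a < 2 ^ E.n) {k : ℕ → Bool}
    (hc : apW E w a k = true) : ∃ b, k b = true ∧ Cj g E.n (wEl g σ E.n w) a b := by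
  induction w generalizing a with
  | nil => exact ⟨a, hc, ha, ha, by simp [wEl]⟩
  | cons s w ih =>
    replace hc : (Bool.rec (band (blt (s >>> 1) E.h) (frc (cjA E.A (s >>> 1) a) fun b => L33.apW E w b k))
      (apO E.A (nth op0 E.ops (s >>> 1)) a fun b => L33.apW E w b k) (tb s 0) : Bool) = true := (frc_eq _ _).symm.trans hc
    rw [Nat.shiftRight_one] at hc
    have h1 : ∃ b, L33.apW E w b k = true ∧ Cj g E.n (cond (tb s 0) (σ (s / 2)) (elt g E.n (s / 2))) a b := by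
      cases e : tb s 0 <;> rw [e] at hc
      · simp only [band_iff, frc_eq] at hc
        exact ⟨_, hc.2, ha, h.pc.cj (h.lt hc.1) (rp ha)⟩
      · exact h.pc.apO (h.ops _) hc
    obtain ⟨b, h1, h2⟩ := h1
    obtain ⟨c, h3, h4⟩ := ih h2.2.1 h1
    exact ⟨c, h3, ha, h4.2.1, by rw [h4.2.2, h2.2.2, wEl]; group⟩

variable [Finite G]

theorem FOK.pcm (h : FOK C t g σ E) {ws : List ℕ} {k : List ℕ → ℕ → Bool} (hc : pcm E.A E.h ws k = true) :
    ∃ L m, k L m = true ∧ Msk g E.n ws m ∧ Lst g E.n ws L := h.pc.pcm_sound (h.hh ▸ hc)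

theorem FOK.msks (h : FOK C t g σ E) {sp : List (List ℕ)} {k : List (List ℕ × ℕ) → Bool} (hc : msks E sp k = true) :
    ∃ S, k S = true ∧ SOK g E.n sp S := by
  induction sp generalizing k with
  | nil => exact ⟨[], hc, rfl, by simp⟩
  | cons x sp ih =>
    obtain ⟨L, m, h1, h2, -⟩ := h.pcm hc
    obtain ⟨S, h3, h4, h5⟩ := ih h1
    exact ⟨_, h3, by simp [h4], by simpa [h2] using h5⟩

theorem FOK.nrmW (h : FOK C t g σ E) {sp : List (List ℕ)} {S : List (List ℕ × ℕ)} (hS : SOK g E.n sp S) {w : List ℕ}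
    (hc : nrmW E w S = true) : wEl g σ E.n w ∈ KN (sp.map (sg g E.n)) := by
  simp only [L33.nrmW, allL_iff] at hc
  intro X hX
  simp only [← hS.1, List.map_map, List.mem_map] at hX
  obtain ⟨p, hp, rfl⟩ := hX
  refine mem_normalizer_fintype (conj_clos_mem fun x hx => ?_)
  obtain ⟨a, ha, rfl⟩ := List.mem_map.1 hx
  obtain ⟨b, h1, h2⟩ := h.apW ((hS.2 p hp).lt a ha) (hc p hp a ha)
  exact h2.2.2 ▸ ((hS.2 p hp).iff b h2.2.1).1 h1

theorem FOK.nrmL (h : FOK C t g σ E) {sp : List (List ℕ)} {S : List (List ℕ × ℕ)} (hS : SOK g E.n sp S) {ds : List ℕ}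
    (hc : nrmL E ds S = true) : sg g E.n ds ≤ KN (sp.map (sg g E.n)) := sg_le.2 fun d hd =>
  wEl_inner (σ := σ) (m := d) ▸ h.nrmW hS ((frc_eq _ _).symm.trans ((allL_iff _ _).1 hc d hd))

omit [Finite G] in
theorem FOK.sq (h : FOK C t g σ E) {a : ℕ} {x : G} (ha : Rp g E.n a x) : Nat.beq (E.A.mul a a) 0 = true ↔ x * x = 1 :=
  (nbeq_iff _ _).trans (h.pc.req (h.pc.rm ha ha) ⟨Nat.two_pow_pos _, elt_zero⟩)

theorem FOK.sylBy (h : FOK C t g σ E) {md x z : ℕ} {ex : List (List ℕ)} {ds : List ℕ}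
    {k : List (List ℕ × ℕ) → ((ℕ → Bool) → Bool) → ℕ → List ℕ → Bool} (hc : sylBy E md x z ex ds k = true) :
    ∃ sp S al m ds, k S al m ds = true ∧ SOK g E.n sp S ∧ Msk g E.n ds m ∧
      IsSylIn 2 (sg g E.n ds) (KN (sp.map (sg g E.n))) ∧
      ∀ f, al f = true → ∀ y ∈ sg g E.n ds, ∃ a, Rp g E.n a y ∧ f a = true := by
  obtain ⟨S, hc, hS⟩ := h.msks hc
  unfold specOf at hS
  cases e : Nat.beq md 1 <;> rw [e] at hc hS
  · rw [band_iff] at hc
    have h1 := h.nrmL hS hc.1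
    obtain ⟨L, m, h2, h3, h4⟩ := h.pcm hc.2
    simp only [band_iff] at h2
    obtain ⟨hx, h5, h6, h7⟩ := h2
    have h8 := h.isP (h.lt hx) h5
    refine ⟨_, S, _, m, ds, h7, hS, h3, isSylIn_of_card_le h1 (.of_card h3.card) fun Q hQ hle _ => ?_,
      fun f hf y hy => ?_⟩
    · rw [h3.card]
      cases e : Nat.beq md 2 <;> rw [e] at h6 hle <;> simp only [band_iff, nbeq_iff] at h6
      · obtain ⟨h6, h9, h10⟩ := h6
        obtain ⟨L, m, h11, h12, h13⟩ := h.pcm h10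
        simp only [band_iff, allL_iff, nbeq_iff (nth [] ex 0).length] at h11
        obtain ⟨ex', F, rfl⟩ : ∃ ex' F, ex = F :: ex' := by
          cases ex with
          | nil => simp at h11
          | cons F ex' => exact ⟨_, _, rfl⟩
        rw [h9]
        refine h.gl.o3 h6 _ h8 (sg g E.n F) Q ((h12.iff x (h.lt hx).1).1 h11.2.1) (fun y hy => ?_)
          (by rw [← nth_zero [] F ex', h12.card, h11.1]; rfl) hQ (fun y hy => ?_) fun y hy => hle hy _ (by simp)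
        · obtain ⟨a, ha, rfl⟩ := (h13.iff y).1 hy
          exact (h.sq (rp (h13.lt a ha))).1 (h11.2.2 a ha)
        · have h14 : y ∈ normalizer (clos [elt g E.n x] : Set G) := hle hy _ (by simp [sg])
          have h15 := EG1.conj_t h.gl h8
          rw [mem_cen']
          have h16 : clos [elt g E.n x] ≤ clos [elt g E.n x, elt g E.n x] := clos_le.2 (by simp [mem_clos])
          rcases EG1.mem_four h15.1 h15.1 rfl (h16 (conj_mem_of_mem_norm h14
            (mem_clos List.mem_cons_self))) with e | e | e | e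
          exacts [absurd (conj_eq_one.1 e) h15.2, e, e, absurd (conj_eq_one.1 (e.trans h15.1)) h15.2]
      · obtain ⟨hz, h9, h10, h11⟩ := h6
        rw [h11]
        exact h.gl.o2 h8 ((h.sq (h.lt hz)).1 ((nbeq_iff _ _).2 h9)) ((h.pc.com (h.lt hx) (h.lt hz)).1 h10) hQ
          (fun y hy => hle hy _ (by simp [sg])) fun y hy => hle hy _ (by simp [sg])
    · obtain ⟨a, ha, rfl⟩ := (h4.iff y).1 hy
      exact ⟨a, rp (h4.lt a ha), (allL_iff _ _).1 hf a ha⟩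
  · simp only [band_iff, mapF_eq, List.map_id', frc_eq] at hc
    have h1 := h.nrmL hS hc.2.1
    have h2 := h.fl hc.1
    refine ⟨_, S, _, _, _, hc.2.2, hS, ⟨pows_lt, fun a ha => ?_, ?_⟩, ?_, fun f hf y hy => ?_⟩
    · simp [tb_full, h.hh, ha, sg_pows, elt_mem']
    · rw [sg_pows, length_pows, h.pc.isPC.card]
    · rw [sg_pows] at h1 ⊢
      exact ⟨h1, h2.2.1, fun Q hQ hle => h2.2.2 Q hQ fun y hy X hX => hle hy X (by simp [hX])⟩
    · obtain ⟨a, ha, rfl⟩ := h.pc.isPC.exists_elt (x := y) (by rwa [sg_pows] at hy)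
      exact ⟨a, rp ha, ONT.allRange_iff.1 hf a (h.hh ▸ ha)⟩

omit [Finite G] in
theorem FOK.addP (h : FOK C t g σ E) {m : ℕ} (hm : ∀ a, tb m a = true → a < 2 ^ E.n ∧ IsConj t (elt g E.n a)) :
    FOK C t g σ { E with pm := Nat.lor E.pm m, nm := E.nm } :=
  { h with pm := fun a ha => ((tb_lor _ _ _).1 ha).elim (h.pm a) (hm a) }

omit [Finite G] in
theorem FOK.addN (h : FOK C t g σ E) {m : ℕ} (hm : ∀ a, tb m a = true → a < 2 ^ E.n ∧ ¬ IsConj t (elt g E.n a)) :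
    FOK C t g σ { E with pm := E.pm, nm := Nat.lor E.nm m } :=
  { h with nm := fun a ha => ((tb_lor _ _ _).1 ha).elim (h.nm a) (hm a) }

omit [Finite G] in
theorem FOK.lnk (h : FOK C t g σ E) {x y : ℕ} {u : G} (hu : Cj g E.n u x y) {k : Env → Bool}
    (hc : lnk E x y k = true) : ∃ E', k E' = true ∧ FOK C t g σ E' ∧ E'.n = E.n := by
  have h1 : IsConj (elt g E.n x) (elt g E.n y) := isConj_iff.2 ⟨u, hu.2.2.symm⟩
  have h2 : ∀ a, tb (setB (setB 0 x) y) a = true → a = x ∨ a = y := by simp [tb_setB, tb_zero]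
  unfold L33.lnk at hc
  cases e : bor (E.isP x) (E.isP y) <;> rw [e] at hc
  · simp only [band_iff, bor_iff, Env.lab_eq] at hc
    have h3 : ¬ IsConj t (elt g E.n x) :=
      hc.1.elim (h.isN (rp hu.1)) fun e e' => h.isN (rp hu.2.1) e (e'.trans h1)
    refine ⟨_, hc.2, h.addN fun a ha => ?_, rfl⟩
    rcases h2 a ha with rfl | rfl
    exacts [⟨hu.1, h3⟩, ⟨hu.2.1, fun e => h3 (e.trans h1.symm)⟩]
  · have h3 : IsConj t (elt g E.n x) :=
      ((bor_iff _ _).1 e).elim (h.isP (rp hu.1)) fun e => (h.isP (rp hu.2.1) e).trans h1.symm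
    refine ⟨_, (Env.lab_eq _ _ _ _).symm.trans hc, h.addP fun a ha => ?_, rfl⟩
    rcases h2 a ha with rfl | rfl
    exacts [⟨hu.1, h3⟩, ⟨hu.2.1, h3.trans h1⟩]

omit [Finite G] in
theorem FOK.stp (h : FOK C t g σ E) {i a b : ℕ} {k : Env → Bool} (hc : stp E i a b k = true) :
    ∃ E', k E' = true ∧ FOK C t g σ E' ∧ E'.n = E.n := by
  unfold L33.stp at hc
  cases e : Nat.beq i 0 <;> rw [e] at hc
  · cases e : Nat.beq i 1 <;> rw [e] at hc <;> simp only [frc_eq, band_iff] at hc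
    · exact h.lnk (h.pc.phi_cj (h.ops a) b) hc
    · exact h.lnk ⟨(h.lt hc.2.1).1, h.pc.cj (h.lt hc.1) (h.lt hc.2.1)⟩ hc.2.2
  · simp only [band_iff] at hc
    obtain ⟨m, h1, h2⟩ := h.pc.orbM_sound (h.lt hc.1).1 (P := IsConj (elt g E.n a))
      (fun p _ _ y hy => hy.trans (isConj_iff.2 ⟨(elt g E.n p)⁻¹, by simp⟩)) (IsConj.refl _) (h.hh ▸ hc.2)
    cases e : E.isP a <;> rw [e] at h1
    · simp only [band_iff, Env.lab_eq] at h1
      exact ⟨_, h1.2, h.addN fun c hc' => ⟨(h2 c hc').1, fun e => h.isN (h.lt hc.1) h1.1 (e.trans (h2 c hc').2.symm)⟩,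
        rfl⟩
    · exact ⟨_, (Env.lab_eq _ _ _ _).symm.trans h1,
        h.addP fun c hc' => ⟨(h2 c hc').1, (h.isP (h.lt hc.1) e).trans (h2 c hc').2⟩, rfl⟩

omit [Finite G] in
theorem FOK.spl (h : FOK C t g σ E) {x : ℕ} {k k' : Env → Bool} (hc : spl E x k k' = true) :
    ∃ E', (k E' = true ∨ k' E' = true) ∧ FOK C t g σ E' ∧ E'.n = E.n := by
  simp only [L33.spl, band_iff, Env.lab_eq] at hc
  have h2 : ∀ a, tb (setB 0 x) a = true → a = x := by simp [tb_setB, tb_zero]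
  by_cases h1 : IsConj t (elt g E.n x)
  · exact ⟨_, .inl hc.2.1, h.addP fun a ha => h2 a ha ▸ ⟨(h.lt hc.1).1, h1⟩, rfl⟩
  · exact ⟨_, .inr hc.2.2, h.addN fun a ha => h2 a ha ▸ ⟨(h.lt hc.1).1, h1⟩, rfl⟩

omit [Finite G]

theorem FOK.ev (h : FOK C t g σ E) {c : List ℕ} {e : List G} (hc : RL g E.n c e) (v : List ℕ) :
    Rp g E.n (evD E.A c v) (ev e v) := h.pc.evD hc.nth v

theorem FOK.srcChk (h : FOK C t g σ E) {x1 : ℕ} {x : G} (hx : Rp g E.n x1 x) {dm : ℕ → Bool} {D : Subgroup G}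
    (hD : ∀ a < 2 ^ E.n, dm a = true → elt g E.n a ∈ D) {km : ℕ → List ℕ → Bool} {K : G → ℕ → ℕ → Prop}
    (hK : ∀ a < 2 ^ E.n, ∀ w, km a w = true → K (elt g E.n a) (nth 0 w 0) (nth 0 w 2)) {k : List ℕ → Bool}
    {P : List Ins} {sup c : List ℕ} {e : List G} (he : RL g E.n c e) (hc : srcChk E x1 dm km k P sup c = true) :
    ∃ c', k c' = true ∧ Src t x D K (RL g E.n c') P e := by
  induction P generalizing sup c e with
  | nil => exact ⟨c, hc, he⟩
  | cons i P ih =>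
    cases i with
    | fr v =>
      cases sup with
      | nil => exact absurd hc (by simp [L33.srcChk])
      | cons a sup =>
        replace hc : band (blt a E.h) (band (dm a) (frc (evD E.A c v) fun s =>
          band (Nat.beq (E.A.mul a x1) (E.A.mul s a)) (L33.srcChk E x1 dm km k P sup (a :: c)))) = true := hc
        simp only [band_iff, frc_eq, nbeq_iff] at hc
        obtain ⟨h1, h2, h3, h4⟩ := hc
        obtain ⟨c', h5, h6⟩ := ih (.cons (h.lt h1) he) h4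
        exact ⟨c', h5, _, hD a (h.lt h1).1 h2, mul_inv_eq_of_eq_mul
          ((h.pc.req (h.pc.rm (h.lt h1) hx) (h.pc.rm (h.ev he v) (h.lt h1))).1 h3), h6⟩
    | df v => exact ih (.cons (h.ev he v) he) ((frc_eq _ _).symm.trans hc)
    | ts j v w =>
      obtain ⟨h1, h2⟩ := (band_iff _ _).1 hc
      obtain ⟨c', h5, h6⟩ := ih he h2
      rw [frc_eq, sel_iff, bneg_iff, nbeq_iff, h.pc.req (h.ev he v) (h.ev he w)] at h1
      exact ⟨c', h5, ⟨h1.1, h1.2.1, fun e => h.isP (h.ev he v) (h1.2.2.1 e), fun e => h.isN (h.ev he v) (h1.2.2.2.1 e),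
        fun e => (h.ev he v).2 ▸ hK _ (h.ev he v).1 w (h1.2.2.2.2 e)⟩, h6⟩

theorem FOK.apL (h : FOK C t g σ E) {w l : List ℕ} (hl : ∀ a ∈ l, a < 2 ^ E.n) {k : List ℕ → Bool}
    (hc : apL E w l k = true) : ∃ m, k m = true ∧ List.Forall₂ (Cj g E.n (wEl g σ E.n w)) l m := by
  induction l generalizing k with
  | nil => exact ⟨[], hc, .nil⟩
  | cons a l ih =>
    obtain ⟨b, h1, h2⟩ := h.apW (hl a List.mem_cons_self) hc
    obtain ⟨m, h3, h4⟩ := ih (fun c hc => hl c (List.mem_cons_of_mem _ hc)) h1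
    exact ⟨_, h3, .cons h2 h4⟩

theorem FOK.autChk [Finite G] (h : FOK C t g σ E) {md x z : ℕ} {ex : List (List ℕ)} {ds w : List ℕ} {qi : ℕ}
    {il : List ℕ} {m2 : ℕ} {ms : List ℕ} (hc : autChk E md x z ex ds w qi il m2 ms = true) : False := by
  obtain ⟨sp, S, al, dm, ds, hc, hS, hm, hD, hal⟩ := h.sylBy hc
  simp only [band_iff, mapF_eq, List.map_id', blt_iff qi] at hc
  obtain ⟨h1, h2, h3⟩ := hc
  have h4 := hS.mem h1
  have h5 := (hS.nth h.pc qi).lt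
  generalize (nth ([], 1) S qi).1 = q0 at h3 h4 h5
  have h6 : sg g E.n q0 = clos (q0.reverse.map (elt g E.n)) := by simp [sg, clos]
  replace h5 : ∀ a ∈ q0.reverse, a < 2 ^ E.n := by simpa using h5
  generalize q0.reverse = qs at h3 h5 h6
  obtain ⟨ys, h3, h7⟩ := h.apL h5 h3
  simp only [band_iff, all2_iff, frc_eq] at h3
  obtain ⟨h8, ⟨k1, k2, k3⟩, h9⟩ := h3
  obtain ⟨m, k4, k5⟩ := aut_lemma (qs := qs.map (elt g E.n)) (fun y hy => h6 ▸ hy _ h4) hD rfl (h.nrmW hS h2)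
    (fun _ hd' => by
      obtain ⟨d, hd, rfl⟩ := List.mem_map.1 hd'
      obtain ⟨m, -, j1, j2, j3⟩ := f2_left h8 d hd
      refine ⟨_, (hm.iff m (h.lt j1).1).1 j2, fun _ hq' => ?_⟩
      obtain ⟨q, hq, rfl⟩ := List.mem_map.1 hq'
      obtain ⟨y, -, j4, j5⟩ := f2_left (f2_and h7 j3) q hq
      obtain ⟨r, j6, j7⟩ := h.pc.apO (o := ⟨qs, ys, il⟩) h7 j5
      rw [← (h.pc.cj (rp (hm.lt d hd)) (rp j4.1)).2, ← j7.2.2, (nbeq_iff _ _).1 j6, (h.pc.cj (h.lt j1) j4.2).2])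
    ⟨_, (hm.iff m2 (h.lt k1).1).1 k2, fun _ hq' => by
      obtain ⟨q, hq, rfl⟩ := List.mem_map.1 hq'
      obtain ⟨y, -, j4, j5⟩ := f2_left (f2_and h7 k3) q hq
      obtain ⟨r, j6, j7⟩ := h.pc.apO (o := ⟨qs, ys, il⟩) h7 j5
      rw [← j4.2.2, ← j7.2.2, (nbeq_iff _ _).1 j6, (h.pc.cj (h.lt k1) (rp j4.1)).2]⟩
  obtain ⟨a, k6, k7⟩ := hal _ h9 m k4
  refine (bneg_iff _).1 k7 (all2_iff.2 ?_)
  refine (List.forall₂_and_left _ _).2 ⟨fun q hq => k5 _ (List.mem_map_of_mem hq), h7⟩ |>.imp fun q y j => ?_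
  rw [nbeq_iff, h.pc.req (h.pc.rm k6 (rp j.2.1)) (h.pc.rm j.2.2 k6), j.1]
  group

theorem FOK.mapChk (h : FOK C t g σ E) {H : Hdr} {im : List ℕ} {ows : List (List ℕ)} (hc : mapChk E H im ows = true) :
    HOK E.PT t (nth 1 (im.map (elt g E.n))) (fun k => wEl g σ E.n (nth [] ows k)) H := by
  simp only [L33.mapChk, band_iff, nbeq_iff, allL_iff, allLt_iff, frc_eq, lettersLt_iff, bneg_iff, all2_iff] at hc
  obtain ⟨h1, h2, h3, h4, h5, h6, h7, h8, h9⟩ := hc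
  have k1 : RL g E.n im (im.map (elt g E.n)) := rl_map (h.hh ▸ h2)
  have k2 := fun a => h3 ▸ h.pc.phi k1 a
  have k3 := h.pc.evD k1.nth
  refine ⟨h1 ▸ h.gl, fun k hk => ⟨?_, fun j hj => ?_⟩,
    fun a ha e => h5 a ha ((h.pc.req (k2 a) ⟨Nat.two_pow_pos _, elt_zero⟩).2 e), fun a ha => h.isP (k2 a) (h6 a ha),
    fun a ha => h.isN (k2 a) (h7 a ha), fun k => ?_, fun k hk => h.pats k ?_⟩
  · exact (h.pc.req (h.pc.rm (k1.nth k) (k1.nth k)) (k3 _)).1 (h4 k hk).1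
  · exact (h.pc.req (h.pc.rm (k1.nth j) (k1.nth k)) (h.pc.rm (k1.nth k) (k3 _))).1 ((h4 k hk).2 j hj)
  · refine (f2_nth h8 (a := op0) (b := []) .nil k).imp fun x y e => ?_
    obtain ⟨r, k4, k5⟩ := h.apW (k2 x).1 e
    rw [← (k2 y).2, ← (nbeq_iff _ _).1 k4, k5.2.2, (k2 x).2]
  · by_contra e
    exact tb_zero k (h9 ▸ (tb_dif _ _ _).2 ⟨hk, e⟩)

theorem FOK.cenM [Finite G] (h : FOK C t g σ E) {x : ℕ} {ws : List ℕ} {k : List ℕ → ℕ → Bool}
    (hc : cenM E x ws k = true) : ∃ L m, k L m = true ∧ x < 2 ^ E.n ∧ Msk g E.n ws m ∧ Lst g E.n ws L ∧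
      sg g E.n ws ≤ centralizer {elt g E.n x} := by
  simp only [L33.cenM, band_iff, allL_iff] at hc
  obtain ⟨L, m, h1, h2, h3⟩ := h.pcm hc.2.2
  exact ⟨L, m, h1, (h.lt hc.1).1, h2, h3, sg_le.2 fun a ha =>
    mem_cen.2 ((h.pc.com (h.lt hc.1) (rp (h2.lt a ha))).1 (hc.2.1 a ha)).symm⟩

theorem FOK.runL [Finite G] {c : Leaf} (h : FOK C t g σ E) (hc : runL c E = true) : C := by
  induction c generalizing E with
  | st i a b c ih => obtain ⟨E', h1, h2, -⟩ := h.stp hc; exact ih h2 h1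
  | sp x c c' ih ih' => obtain ⟨E', h1, h2, -⟩ := h.spl hc; exact h1.elim (ih h2) (ih' h2)
  | cf x =>
    simp only [L33.runL, band_iff] at hc
    exact absurd (h.isP (h.lt hc.1) hc.2.1) (h.isN (h.lt hc.1) hc.2.2)
  | od x ws =>
    simp only [L33.runL, band_iff, nbeq_iff] at hc
    obtain ⟨L, m, -, h1, h2, -, h3⟩ := h.cenM hc.2.2
    have := h.gl.o1 _ (h.isP (rp h1) hc.1) _ (.of_card h2.card) h3
    rw [h2.card, hc.2.1, Nat.pow_le_pow_iff_right one_lt_two] at this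
    omega
  | pt k x sup =>
    simp only [L33.runL, band_iff] at hc
    obtain ⟨h1, h2, h3, h4⟩ := hc
    obtain ⟨c', -, h5⟩ := h.srcChk (h.lt h1) (D := genLt g E.n ⊓ centralizer {elt g E.n x}) (K := fun _ _ _ => False)
      (fun a ha e => ⟨elt_mem' a, mem_cen.2 ((h.pc.com (h.lt h1) (rp ha)).1 e).symm⟩) (by simp)
      (.cons (h.lt h1) .nil) h4
    exact absurd (h5.mono (fun _ _ _ => id) fun _ _ => trivial)
      (h.pats k h3 _ _ (h.isP (h.lt h1) h2) (h.pc.isPC.isPGroup.to_le inf_le_left) inf_le_right)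
  | au md x z ex ds w qi il m2 ms => exact (h.autChk hc).elim
  | mp τ im ows =>
    simp only [L33.runL, band_iff, blt_iff] at hc
    exact h.val τ hc.1 _ _ (h.mapChk hc.2)

end Cfsg.Agent.L3S
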