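import Mathlib
import Cfsg.Agent.L3S.EA

/-!
Soundness of the searches of `L33` for an arbitrary conclusion.
-/

set_option autoImplicit false

namespace Cfsg.Agent.L3S

open Cfsg.Agent.L33 Cfsg.Agent.Spor Cfsg.Agent.Rec Cfsg.Agent.Spor.PC Cfsg.Agent.Inv.Fz Subgroup

variable {C : Prop}

variable {G : Type*} [Group G] {t : G} {g σ : ℕ → G} {E : Env} {X : Sx} {J : G → Prop} {D M : Subgroup G} {x : G}
  {Q : List G → Prop}

/-- The fixed data describe the set `J` of conjugating elements. -/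
structure XOK (C : Prop) (Q : List G → Prop) (t : G) (g σ : ℕ → G) (E : Env) (X : Sx) (J : G → Prop) (D M : Subgroup G) (x : G) : Prop where
  ok : FOK C t g σ E
  jd : ∀ u, J u → ∀ y ∈ D, u * y * u⁻¹ ∈ M
  jm : ∀ u, J u → ∀ m ∈ M, J (m * u)
  hq : X.kd ≤ 1 → ∀ e, Q e → RL g E.n X.sx e
  mm : ∀ a < 2 ^ E.n, tb X.mm a = true → elt g E.n a ∈ M
  lm : Nat.card M = 2 ^ X.lm
  ext : X.kd = 0 → IsConj t x ∧ M = genLt g E.n ∧ Rp g E.n X.x1 x ∧ X.pick.map (nth 0 X.sx) = pows E.n 1 ∧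
    ∀ u, J u → u ∈ normalizer (M : Set G) ∧ u ∉ M ∧ u * u ∈ M

/-- The meaning of the membership tests. -/
def KM (g : ℕ → G) (n : ℕ) (S : List (List ℕ × ℕ)) (J : G → Prop) (y : G) (c j : ℕ) : Prop :=
  c < 2 ^ n ∧ ∀ u, J u → ∀ b, Rp g n b (u * y * u⁻¹ * elt g n c) → tb (nth ([], 1) S j).2 b = true

/-- The meaning of the program. -/
def Sq (Q : List G → Prop) (t : G) (g : ℕ → G) (E : Env) (X : Sx) (J : G → Prop) (D : Subgroup G) (x : G) (P : List Ins) (e : List G) :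
    Prop := Src t x D (KM g E.n X.S J) Q P e

theorem XOK.exec (h : XOK C Q t g σ E X J D M x) {u : G} (hu : J u) {kF : List ℕ → List Ins → List ℕ → Bool}
    {kE : List ℕ → Bool} {P : List Ins} {c : List ℕ} {e : List G} (hP : Sq Q t g E X J D x P e)
    (he : RL g E.n c (e.map (cjH u))) (hc : exec E X.S kF kE P c = true) :
    ∃ c' e', RL g E.n c' (e'.map (cjH u)) ∧ (∀ a ∈ c, a ∈ c') ∧ (∀ m, Cm g E.n m c → Cm g E.n m c') ∧
      ((∃ v P y, kF v P c' = true ∧ y ∈ D ∧ y * x * y⁻¹ = ev e' v ∧ Sq Q t g E X J D x P (y :: e')) ∨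
        kE c' = true ∧ Sq Q t g E X J D x [] e') := by
  induction P generalizing c e with
  | nil => exact ⟨c, e, he, fun _ => id, fun _ => id, .inr ⟨hc, hP⟩⟩
  | cons i P ih =>
    cases i with
    | fr v =>
      obtain ⟨y, h1, h2, h3⟩ := hP
      exact ⟨c, e, he, fun _ => id, fun _ => id, .inl ⟨v, P, y, hc, h1, h2, h3⟩⟩
    | df v =>
      have h1 := h.ok.ev he v
      obtain ⟨c', e', h2, h3, h4, h5⟩ := ih (e := ev e v :: e) hP (.cons (by rwa [ev_map] at h1) he)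
        ((frc_eq _ _).symm.trans hc)
      refine ⟨c', e', h2, fun a ha => h3 a (List.mem_cons_of_mem _ ha), fun m hm => h4 m fun a ha => ?_, h5⟩
      rcases List.mem_cons.1 ha with rfl | ha
      · conv_rhs => rw [(h.ok.ev (he.adj hm) v).2]
        rw [h1.2, ev_map, ev_map]; group
      · exact hm a ha
    | ts j v w =>
      have h1 := h.ok.ev he v
      have h2 := h.ok.ev he w
      rw [ev_map] at h1 h2
      obtain ⟨⟨k0, k1, k2, k3, k4⟩, hP⟩ := hP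
      have h3 : IsConj (ev e v) (u * ev e v * u⁻¹) := isConj_iff.2 ⟨u, rfl⟩
      have h4 : (frc (evD E.A c v) fun a => sel j (Nat.beq a (evD E.A c w))
          (bneg (Nat.beq a (evD E.A c w))) (bneg (E.isN a)) (bneg (E.isP a))
          (frc (nth 0 w 0) fun b => frc (E.A.mul a b) (tb (nth ([], 1) X.S (nth 0 w 2)).2))) = true := by
        simp only [frc_eq, sel_iff, bneg_iff, nbeq_iff, h.ok.pc.req h1 h2, mul_left_inj, mul_right_inj]
        refine ⟨k0, k1, fun e e' => h.ok.isN h1 e' ((k2 e).trans h3), fun e e' => k3 e ((h.ok.isP h1 e').trans h3.symm),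
          fun e => ?_⟩
        exact (k4 e).2 u hu _ (h.ok.pc.rm h1 (rp (k4 e).1))
      refine ih hP he ?_
      have h5 : L33.exec E X.S kF kE (.ts j v w :: P) c = Bool.rec true (L33.exec E X.S kF kE P c) _ := rfl
      rwa [h5, h4] at hc

/-- The element `y` occurs as the image of the new element. -/
def Od (Q : List G → Prop) (t : G) (g : ℕ → G) (E : Env) (X : Sx) (J : G → Prop) (D : Subgroup G) (x : G) (P : List Ins) (ys : List ℕ)
    (r : ℕ) (y : G) : Prop := ∃ u e b, J u ∧ Sq Q t g E X J D x P (b :: e) ∧ RL g E.n ys (e.map (cjH u)) ∧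
      u * b * u⁻¹ = y ∧ (ys = [] → b = x) ∧ (ys ≠ [] → Rp g E.n r (u * x * u⁻¹))

/-- The invariant of the search. -/
structure YOK (C : Prop) (Q : List G → Prop) (t : G) (g : ℕ → G) (E : Env) (X : Sx) (J : G → Prop) (D M : Subgroup G) (x : G) (Y : Dy) : Prop where
  tr : Y.ys ≠ [] → TrOK g E M Y.r Y.CL Y.TL ∧ Y.r ∈ Y.ys
  y0 : (∀ a ∈ Y.y0, a < 2 ^ E.n) ∧ ∀ m, Cm g E.n m Y.y0 → Cm g E.n m Y.ys
  lp : Y.lp = true → (∀ w ∈ Y.W, elt g E.n w ∈ M ∧ Cm g E.n (elt g E.n w) Y.ys) ∧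
    (∀ a, tb Y.dn a = true → Od Q t g E X J D x Y.P Y.ys Y.r (elt g E.n a) → C) ∧
    ∃ a ∈ Y.cand, a < 2 ^ E.n ∧ Od Q t g E X J D x Y.P Y.ys Y.r (elt g E.n a)
  en : Y.lp = false → Y.ys ≠ [] ∧ ∃ u e, J u ∧ Sq Q t g E X J D x [] e ∧ RL g E.n Y.ys (e.map (cjH u)) ∧
    Rp g E.n Y.r (u * x * u⁻¹)

theorem XOK.more (h : XOK C Q t g σ E X J D M x) {Y : Dy} (hY : YOK C Q t g E X J D M x Y) (hl : Y.lp = true) {a : ℕ}
    (ha : a < 2 ^ E.n) (h0 : Od Q t g E X J D x Y.P Y.ys Y.r (elt g E.n a) → C) {k : Dy → Bool}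
    (hc : (orbM E.A E.h Y.W a fun m => Y.more m k) = true) : ∃ Y', k Y' = true ∧ YOK C Q t g E X J D M x Y' := by
  obtain ⟨h1, h2, h3⟩ := hY.lp hl
  obtain ⟨m, h4, h5⟩ := h.ok.pc.orbM_sound ha (P := fun y => Od Q t g E X J D x Y.P Y.ys Y.r y → C)
    (fun p hp _ y hy ⟨u, e, b, k1, k2, k3, k4, k5, k6⟩ => hy ⟨_, e, b, h.jm u k1 _ (h1 p hp).1, k2, k3.adj (h1 p hp).2,
      by rw [mul_inv_rev, ← mul_assoc, mul_assoc _ u, mul_assoc _ (u * b), k4]; group, k5, fun k7 => ⟨(k6 k7).1, by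
        rw [← (h1 p hp).2 _ (hY.tr k7).2, (k6 k7).2]; group⟩⟩) h0 (h.ok.hh ▸ hc)
  exact ⟨_, (Dy.more_eq _ _ _).symm.trans h4, hY.tr, hY.y0, fun _ => ⟨h1,
    fun a ha => ((tb_lor _ _ _).1 ha).elim (h2 a) fun ha => (h5 a ha).2, h3⟩, hY.en⟩

variable [Finite G]

theorem XOK.trs (h : XOK C Q t g σ E X J D M x) {Y : Dy} (hY : YOK C Q t g E X J D M x Y) {y : ℕ} {cs es : List ℕ}
    {k : ℕ → List ℕ → List (ℕ × ℕ) → Bool} (hc : trs E X Y y cs es k = true) :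
    ∃ r CL TL, k r CL TL = true ∧ TrOK g E M r CL TL ∧ (Y.ys = [] → r = y) ∧ (Y.ys ≠ [] → r = Y.r) := by
  unfold L33.trs at hc
  cases e : Y.ys <;> rw [e] at hc
  swap
  · exact ⟨_, _, _, hc, (hY.tr (by simp [e])).1, by simp, by simp⟩
  obtain ⟨CL, _, hc, h1, h2, h3, h4⟩ := h.ok.cenM hc
  simp only [band_iff, allL_iff, nbeq_iff, Nat.add_eq] at hc
  obtain ⟨TL, _, h5, h6, h7⟩ := h.ok.pc.trv_sound h1 h.mm (h.ok.hh ▸ hc.2.2)
  refine ⟨y, CL, TL, h5, fun m hm s k hs hk => ?_, by simp, by simp⟩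
  obtain ⟨_, k1, k2⟩ := exists_transversal (sg_le.2 fun a ha => h.mm a (h2.lt a ha) (hc.1 a ha)) h4
    (L := TL.map fun p => elt g E.n p.1) (List.forall_mem_map.2 fun p hp => (h6.rep p hp).2.2.1)
    (by
      rw [List.map_map, List.map_congr_left (g := elt g E.n ∘ Prod.snd) fun p hp => by exact (h6.rep p hp).2.2.2.symm,
        ← List.map_map]
      refine h6.nd.map_on fun a ha b hb => ?_
      obtain ⟨p, hp, rfl⟩ := List.mem_map.1 ha
      obtain ⟨q, hq, rfl⟩ := List.mem_map.1 hb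
      exact h.ok.pc.isPC.inj (h6.rep p hp).2.1 (h6.rep q hq).2.1)
    (by rw [List.length_map, h7, h2.card, h.lm, ← pow_add, hc.2.1]) m hm
  obtain ⟨p, hp, rfl⟩ := List.mem_map.1 k1
  obtain ⟨c, k3, k4⟩ := (h3.iff _).1 k2
  obtain ⟨k5, k6, -, k7⟩ := h6.rep p hp
  obtain rfl : s = p.2 := (h.ok.pc.req hs (rp k6)).2 (by
    rw [k7]; conv_rhs => rw [← mem_cen'.1 (h4 k2)]
    group)
  exact ⟨_, cnd_mem h6.nd hp hk, _, List.mem_map_of_mem k3, by
    simpa [k4] using h.ok.pc.rm (rp k5) (rp (h3.lt c k3))⟩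

omit [Finite G] in
theorem FOK.kid (h : FOK C t g σ E) {I : List ℕ} {n0 : ℕ} {v : G} (hI : List.Forall₂ (Cj g E.n v) (pows E.n 1) I)
    (h0 : Rp g E.n n0 (v⁻¹ * v⁻¹)) (hv : v ∉ genLt g E.n) {k : Env → Bool} (hc : E.kid I n0 k = true) :
    ∃ g' E', k E' = true ∧ FOK C t g' σ E' := by
  have h1 : ∀ {a y}, Rp g E.n a y → Rp (Function.update g E.n v⁻¹) (E.n + 1) a y := fun ha =>
    ⟨ha.1.trans (Nat.pow_lt_pow_right one_lt_two E.n.lt_succ_self), (elt_update_lt _ ha.1).trans ha.2⟩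
  have h2 := h.pc.ext hI h0 hv
  have h3 := h.pc.phi_pows hI
  obtain ⟨k1, k2, k3, k4, k5, k6, -, k8, k9, -⟩ := h
  cases E
  simp only [Env.kid, frc_eq] at hc
  dsimp only at k4
  refine ⟨_, _, hc, k1, k2, k4 ▸ h2, by simp only [k4, Nat.add_eq, pow_succ, mul_two],
    fun a ha => ⟨(h1 (rp (k5 a ha).1)).1, (h1 (rp (k5 a ha).1)).2 ▸ (k5 a ha).2⟩,
    fun a ha => ⟨(h1 (rp (k6 a ha).1)).1, (h1 (rp (k6 a ha).1)).2 ▸ (k6 a ha).2⟩, fun a ha => ?_,
    fun j => (k8 j).imp fun a b e => ⟨(h1 (rp e.1)).1, (h1 (rp e.1)).2 ▸ h1 e.2⟩, k9, by simp⟩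
  dsimp only
  cases e : blt a _
  · exact ⟨ha, IsConj.refl _⟩
  · rw [blt_iff, k4] at e
    exact ⟨(h1 (h3 a)).1, isConj_iff.2 ⟨v, by rw [(h1 (rp e)).2]; exact (h1 (h3 a)).2.symm⟩⟩

theorem XOK.runS (h : XOK C Q t g σ E X J D M x) {c : Srch} {Y : Dy} (hY : YOK C Q t g E X J D M x Y)
    (hc : runS E X c Y = true) : C := by
  induction c generalizing Y with
  | nil =>
    simp only [L33.runS, band_iff, allL_iff, bor_iff] at hc
    obtain ⟨-, h1, a, h2, h3, h4⟩ := hY.lp hc.1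
    refine (hc.2 a h2).elim (h1 a · h4) fun h5 => ?_
    obtain ⟨u, e, b, k1, k2, k3, k4, -⟩ := h4
    obtain ⟨_, _, -, -, -, ⟨_, _, _, k5, -⟩ | ⟨k5, -⟩⟩ := h.exec k1 k2 (.cons ⟨h3, k4.symm⟩ k3) h5 <;>
      exact absurd k5 (by simp)
  | rep y W cs es c rest ih ih' =>
    simp only [L33.runS, band_iff] at hc
    obtain ⟨h1, h2, h3, h4⟩ := hc
    have hy := (h.ok.lt h2).1
    obtain ⟨Y', h5, h6⟩ := h.more hY h1 hy (fun ⟨u, e, b, k1, k2, k3, k4, k5, k6⟩ => by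
      obtain ⟨r, CL, TL, j1, j2, j3, j4⟩ := h.trs hY h3
      obtain ⟨c', e', j5, j6, j7, j8⟩ := h.exec k1 k2 (.cons ⟨hy, k4.symm⟩ k3) j1
      have j9 : Rp g E.n r (u * x * u⁻¹) ∧ r ∈ c' := by
        by_cases j9 : Y.ys = []
        · exact ⟨by rw [j3 j9, ← k5 j9, k4]; exact rp hy, j6 _ (j3 j9 ▸ List.mem_cons_self)⟩
        · exact ⟨j4 j9 ▸ k6 j9, j6 _ (List.mem_cons_of_mem _ (j4 j9 ▸ (hY.tr j9).2))⟩
      have j10 : (∀ a ∈ y :: Y.y0, a < 2 ^ E.n) ∧ ∀ m, Cm g E.n m (y :: Y.y0) → Cm g E.n m c' :=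
        ⟨List.forall_mem_cons.2 ⟨hy, hY.y0.1⟩, fun m hm => j7 m (List.forall_mem_cons.2
          ⟨hm _ List.mem_cons_self, hY.y0.2 m fun a ha => hm a (List.mem_cons_of_mem _ ha)⟩)⟩
      rcases j8 with ⟨v, P, b', i1, i2, i3, i4⟩ | ⟨i1, i2⟩
      · simp only [band_iff, allL_iff, frc_eq] at i1
        obtain ⟨L, i5, a, i6, i7⟩ := j2 _ (h.jd u k1 b' i2) _ _ (by
          have := h.ok.ev j5 v
          rwa [ev_map, ← i3, show u * (b' * x * b'⁻¹) * u⁻¹ = u * b' * u⁻¹ * (u * x * u⁻¹) * (u * b' * u⁻¹)⁻¹ by group,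
            ← j9.1.2] at this) i1.2
        refine ih ⟨fun _ => ⟨j2, j9.2⟩, j10, fun _ => ⟨fun w hw => ?_, fun a ha => absurd ha (tb_zero a), a, i6, i7.1,
          u, e', b', k1, i4, j5, i7.2.symm, fun e => absurd e (List.ne_nil_of_mem j9.2), fun _ => j9.1⟩, by simp⟩ i5
        obtain ⟨i8, i9, i10⟩ := i1.1 w hw
        exact ⟨h.mm w (h.ok.lt i8).1 i9, j10.2 _ fun a ha =>
          mul_inv_eq_of_eq_mul ((h.ok.pc.com (h.ok.lt i8) (rp (j10.1 a ha))).1 (i10 a ha))⟩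
      · exact ih ⟨fun _ => ⟨j2, j9.2⟩, j10, by simp, fun _ => ⟨List.ne_nil_of_mem j9.2, u, e', k1, i2, j5, j9.1⟩⟩ i1) h4
    exact ih' h6 h5
  | ex0 ws rest ih =>
    simp only [L33.runS, band_iff, nbeq_iff, List.isEmpty_iff] at hc
    obtain ⟨h1, h2, h3, h4, h5⟩ := hc
    obtain ⟨_, _, h5, h6, h7, -, h8⟩ := h.ok.cenM h5
    obtain ⟨k0, k1, k2, -, k3⟩ := h.ext h3
    obtain ⟨Y', h9, h10⟩ := h.more hY h1 h6 (fun ⟨u, e, b, j1, _, _, j2, j3, _⟩ =>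
      (h.ok.gl.extremal k0 (k1 ▸ h.ok.pc.isPC.isPGroup) (k1 ▸ sg_le_genLt ws) (k2.2 ▸ h8) (h4 ▸ h7.card)
        (k3 u j1).1 (k3 u j1).2.2 (k3 u j1).2.1 (by rw [j3 h2, k2.2] at j2; exact eq_mul_of_mul_inv_eq j2)).elim) h5
    exact ih h10 h9
  | fin tq zc ks =>
    simp only [L33.runS, band_iff, nbeq_iff, bneg_iff, mapF_eq, frc_eq, lettersLt_iff, allL_iff,
      Bool.not_eq_true Y.lp] at hc
    obtain ⟨h1, h2, h3, h4, h5⟩ := hc
    obtain ⟨h6, u, e, k1, k2, k3, k4⟩ := hY.en h1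
    obtain ⟨-, j1, j2, j3, j4⟩ := h.ext h2
    obtain ⟨j5, j6, j7⟩ := j4 u k1
    have k5 : List.Forall₂ (Cj g E.n u) (pows E.n 1) (X.pick.map (nth 0 Y.ys)) := by
      rw [← j3, List.forall₂_map_left_iff, List.forall₂_map_right_iff, List.forall₂_same]
      intro i _
      have i1 := (h.hq (by omega) _ k2).nth i
      exact ⟨i1.1, by simpa only [i1.2, nth_map, cjH_apply] using k3.nth i⟩
    generalize X.pick.map (nth 0 Y.ys) = I at h5 k5
    have k6 := h.ok.pc.phi_pows k5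
    have k7 : ∀ a, Rp g E.n (phi E.A I (phi E.A I a)) (u * u * elt g E.n a * (u * u)⁻¹) := fun a => by
      have := k6 (phi E.A I a)
      rwa [(k6 a).2, show u * (u * elt g E.n a * u⁻¹) * u⁻¹ = u * u * elt g E.n a * (u * u)⁻¹ by group] at this
    obtain ⟨L, k8, m, k9, k10⟩ := (hY.tr h6).1 _ j7 _ _ (k7 _) h5
    simp only [band_iff, allL_iff] at k8
    have k11 := k8.1 m k9
    rw [show band (all2 (fun p j => Nat.beq (E.A.mul m p) (E.A.mul j m)) tq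
      (tq.map fun a => phi E.A I (phi E.A I a))) (Nat.beq (phi E.A I m) m) = true by
        rw [band_iff, all2_iff, List.forall₂_map_right_iff, List.forall₂_same, nbeq_iff, h.ok.pc.req (k6 m) k10, k10.2]
        refine ⟨fun a ha => ?_, by group⟩
        rw [nbeq_iff, h.ok.pc.req (h.ok.pc.rm k10 (rp (h.ok.hh ▸ h3 a ha))) (h.ok.pc.rm (k7 a) k10)]
        group] at k11
    obtain ⟨c, i1, i2⟩ := exL_iff.1 k11
    obtain ⟨p, i3, i4⟩ := exL_iff.1 i2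
    have i5 := h.ok.lt (h4 c i1).1
    have i6 := h.ok.pc.ri (h.ok.pc.rm (h.ok.pc.rm (k6 c) k10) i5)
    obtain ⟨g', E', i7, i8⟩ := h.ok.kid (v := u * elt g E.n c)
      (((List.forall₂_and_left _ _).2 ⟨(h4 c i1).2, k5⟩).imp fun a b e => ⟨e.2.1, by
        have := e.2.2
        rwa [← mul_inv_eq_of_eq_mul ((h.ok.pc.com i5 (rp e.2.1)).1 e.1), show ∀ y z : G, u * (y * z * y⁻¹) * u⁻¹ =
          u * y * z * (u * y)⁻¹ by intros; group] at this⟩)
      (by rw [(nbeq_iff _ _).1 i4]; convert i6 using 1; group)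
      (fun e => j6 (j1 ▸ (mul_mem_cancel_right (elt_mem' c)).1 e)) (k8.2 p i3)
    exact i8.runL i7
  | lf l =>
    simp only [L33.runS, band_iff, nbeq_iff, bneg_iff, mapF_eq, Bool.not_eq_true Y.lp] at hc
    obtain ⟨h1, h2, h3⟩ := hc
    obtain ⟨-, u, e, k1, k2, k3, -⟩ := hY.en h1
    refine FOK.runL (t := t) (g := g) (σ := fun k => Nat.rec u (fun k _ => σ k) k) ?_ h3
    refine { h.ok with ops := fun k => ?_ }
    cases k with
    | succ k => exact h.ok.ops k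
    | zero =>
      show List.Forall₂ (Cj g E.n u) (X.pick.map _) (X.pick.map _)
      rw [List.forall₂_map_left_iff, List.forall₂_map_right_iff, List.forall₂_same]
      intro i _
      have i1 := (h.hq (by omega) _ k2).nth i
      exact ⟨i1.1, by simpa only [i1.2, nth_map, cjH_apply] using k3.nth i⟩

end Cfsg.Agent.L3S
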