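import Mathlib
import Cfsg.Agent.L3S.EB

/-!
Soundness of the nodes of `L33` for an arbitrary conclusion.
-/

set_option autoImplicit false

namespace Cfsg.Agent.L3S

open Cfsg.Agent.L33 Cfsg.Agent.Spor Cfsg.Agent.Rec Cfsg.Agent.Spor.PC Cfsg.Agent.Inv.Fz Subgroup

variable {C : Prop}

variable {G : Type*} [Group G] {t : G} {g σ : ℕ → G} {E : Env} {im : ℕ}

theorem FOK.kmW (h : FOK C t g σ E) {sp : List (List ℕ)} {S : List (List ℕ × ℕ)} (hS : SOK g E.n sp S)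
    {pa : ℕ → ℕ → Bool} {sw : List ℕ} {J : G → Prop} (hJ : ∀ i j, pa i j = true → ∀ u, J u →
      ∀ y ∈ sg g E.n (nth ([], 1) S i).1,
        u * y * u⁻¹ * (wEl g σ E.n sw * y * (wEl g σ E.n sw)⁻¹)⁻¹ ∈ sg g E.n (nth ([], 1) S j).1) :
    ∀ a < 2 ^ E.n, ∀ w, kmW E S pa sw a w = true → KM g E.n S J (elt g E.n a) (nth 0 w 0) (nth 0 w 2) := by
  intro a ha w hc
  simp only [L33.kmW, band_iff] at hc
  obtain ⟨y, h1, h2⟩ := h.apW ha hc.2.2
  have h3 := h.pc.ri h2.2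
  rw [← (nbeq_iff _ _).1 h1] at h3
  exact ⟨h3.1, fun u hu b hb => ((hS.nth h.pc _).iff b hb.1).2
    (hb.2 ▸ h3.2 ▸ hJ _ _ hc.1 u hu _ (((hS.nth h.pc _).iff a ha).1 hc.2.1))⟩

theorem FOK.cmIn (h : FOK C t g σ E) {ws : List ℕ} {m a b : ℕ} (hm : Msk g E.n ws m) {x y : G} (ha : Rp g E.n a x)
    (hb : Rp g E.n b y) : cmIn E.A m a b = true ↔ x * y * x⁻¹ * y⁻¹ ∈ sg g E.n ws := by
  have := h.pc.rm (h.pc.cj ha hb) (h.pc.ri hb)
  rw [← this.2, ← hm.iff _ this.1]; simp only [L33.cmIn, frc_eq]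

variable [Finite G]

omit [Finite G] in
theorem FOK.cov (h : FOK C t g σ E) (hi : ∀ a < 2 ^ E.n, elt g E.n a * elt g E.n a = 1 → tb im a = true) {mm a : ℕ}
    (ha : a < 2 ^ E.n) (hm : tb mm a = true) (hc : IsConj t (elt g E.n a)) : tb (cov E im mm) a = true := by
  have h1 := EG1.conj_t h.gl hc
  simp only [L33.cov, tb_land, tb_dif, tb_lor, tb_one, hm, hi a ha h1.1, true_and, not_or]
  exact ⟨fun e => (h.nm a e).2 hc, fun e => h1.2 (e ▸ elt_zero)⟩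

theorem start {Q : List G → Prop} {X : Sx} {P : List Ins} {W cand : List ℕ} {s : Srch} (hc : runS E X s (dy0 P W cand) = true)
    {J : G → Prop} {D M : Subgroup G} {x : G} (hP : Sq Q t g E X J D x P [x]) (h : XOK C Q t g σ E X J D M x)
    (hW : ∀ w ∈ W, elt g E.n w ∈ M) {u : G} (hu : J u) {a : ℕ} (ha : a ∈ cand) (ha' : Rp g E.n a (u * x * u⁻¹)) :
    C :=
  h.runS (Y := dy0 P W cand) ⟨fun e => absurd rfl e, ⟨by simp [dy0], fun _ => id⟩,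
    fun _ => ⟨fun w hw => ⟨hW w hw, by simp [Cm, dy0]⟩, fun a ha => absurd ha (tb_zero a), a, ha, ha'.1, u, [], x, hu, hP,
      .nil, ha'.2.symm, fun _ => rfl, fun e => absurd rfl e⟩, by simp [dy0]⟩ hc

omit [Finite G] in
theorem FOK.top (h : FOK C t g σ E) (h1 : E.hf = true) (h2 : E.fl.isEmpty = true) : IsSylIn 2 (genLt g E.n) ⊤ := by
  have := h.fl h1
  rwa [List.isEmpty_iff.1 h2, show KN (([] : List (List ℕ)).map (sg g E.n)) = ⊤ from
    eq_top_iff.2 fun _ _ _ hX => by simp at hX] at this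

theorem FOK.estC (h : FOK C t g σ E) {k r : ℕ} {ms : List ℕ} {s : Srch} {ih : Env → Bool}
    (hc : estC E k r ms s ih = true) : C ∨ ∃ E', ih E' = true ∧ FOK C t g σ E' ∧ E'.n = E.n := by
  simp only [L33.estC, band_iff, nbeq_iff, frc_eq] at hc
  obtain ⟨h1, h2, h3, h4⟩ := hc
  by_cases hP : PatOK t (E.PT k)
  · exact .inr ⟨_, h4, { h with pats := fun j hj => ((tb_setB _ _ _).1 hj).elim (h.pats j) fun e => e ▸ hP }, rfl⟩
  simp only [PatOK, not_forall, not_not] at hP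
  obtain ⟨x, D, k1, k2, k3, k4⟩ := hP
  obtain ⟨_, mm, h5, h6, h7, -, h8⟩ := h.cenM h3
  obtain ⟨u, k5, k6⟩ := h.gl.fuse0 k1 (h.isP (rp h6) h1) h8 (h2 ▸ h7.card) k2 k3
  exact .inl <| start h5 (J := fun u => ∀ y ∈ D, u * y * u⁻¹ ∈ sg g E.n ms)
    (k4.mono (fun _ _ _ => False.elim) fun _ => id)
    ⟨h, fun _ => id, fun u hu m hm y hy => by
      simpa [mul_assoc] using mul_mem (mul_mem hm (hu y hy)) (inv_mem hm), by simp,
      fun a ha => (h7.iff a ha).1, h2 ▸ h7.card, by simp⟩ (by simp) k6 List.mem_cons_self (k5 ▸ rp h6)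

theorem FOK.extC (h : FOK C t g σ E) (hi : ∀ a < 2 ^ E.n, elt g E.n a * elt g E.n a = 1 → tb im a = true)
    {sp : List (List ℕ)} {x : ℕ} {P : List Ins} {sup pick : List ℕ} {s : Srch} {ih : Env → Bool}
    (hc : extC E im sp x P sup pick s ih = true) : C ∨ ∃ E', ih E' = true ∧ FOK C t g σ E' ∧ E'.n = E.n := by
  obtain ⟨S, hc, hS⟩ := h.msks hc
  simp only [band_iff, mapF_eq, List.map_id'] at hc
  obtain ⟨h1, h2, h3, h4, h5⟩ := hc
  have h6 := h.nrmL hS h1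
  rw [sg_pows] at h6
  by_cases h7 : IsSylIn 2 (genLt g E.n) (KN (sp.map (sg g E.n)))
  · exact .inr ⟨_, h5, { h with fl := fun _ => h7 }, rfl⟩
  obtain ⟨v, hv⟩ := exists_ext h.pc.isPC.isPGroup h6 h7
  obtain ⟨sx, k1, k2⟩ := h.srcChk (h.lt h2) (D := genLt g E.n) (fun a _ _ => elt_mem' a)
    (h.kmW hS (J := fun v => v ∈ KN (sp.map (sg g E.n)) ∧ v ∈ normalizer (genLt g E.n : Set G) ∧ v ∉ genLt g E.n ∧
      v * v ∈ genLt g E.n) fun i j e u hu y hy => by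
        simp only [band_iff, nbeq_iff, blt_iff] at e
        simpa [wEl, ← e.1] using mul_mem (conj_mem_of_mem_norm (hu.1 _ (hS.mem e.2)) hy) (inv_mem hy))
    (.cons (h.lt h2) .nil) h4
  simp only [band_iff, all2_iff, frc_eq, nbeq_iff, List.forall₂_eq_eq_eq] at k1
  obtain ⟨a, k3, k4⟩ := h.pc.isPC.exists_elt (conj_mem_of_mem_norm hv.2.1 (elt_mem' x))
  have k5 := h.isP (h.lt h2) h3
  refine .inl <| start k1.2 k2 (M := genLt g E.n) ⟨h, fun u hu y hy => conj_mem_of_mem_norm hu.2.1 hy,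
    fun u hu m hm => ⟨mul_mem (h6 hm) hu.1, mul_mem (le_normalizer hm) hu.2.1, by simpa [mul_mem_cancel_left hm] using hu.2.2.1, by
      simpa [mul_assoc] using mul_mem (mul_mem hm (conj_mem_of_mem_norm hu.2.1 hm)) hu.2.2.2⟩,
    fun _ _ => id, fun a _ _ => elt_mem' a, h.pc.isPC.card, fun _ => ⟨k5, rfl, h.lt h2, k1.1, fun u hu => hu.2⟩⟩
    (fun a _ => elt_mem' a) hv (mem_bitsW (h.hh ▸ k3) ?_) ⟨k3, k4⟩
  exact h.cov hi k3 (tb_full.2 (h.hh ▸ k3)) (k5.trans (isConj_iff.2 ⟨v, k4.symm⟩))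

theorem FOK.fratC (h : FOK C t g σ E) (hi : ∀ a < 2 ^ E.n, elt g E.n a * elt g E.n a = 1 → tb im a = true)
    {md x z : ℕ} {ex : List (List ℕ)} {ds : List ℕ} {prs : List (ℕ × ℕ)} {sw os : List ℕ} {r y x1 : ℕ}
    {P : List Ins} {sup pick il : List ℕ} {s : Srch}
    (hc : fratC E im md x z ex ds prs sw os r y x1 P sup pick il s = true) : C := by
  obtain ⟨sp, S, _, dm, ds, hc, hS, h1, h2, -⟩ := h.sylBy hc
  simp only [band_iff, nbeq_iff] at hc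
  obtain ⟨h3, h4, h5⟩ := hc
  obtain ⟨_, mm, h5, h6, -⟩ := h.pcm h5
  simp only [band_iff, nbeq_iff, allL_iff, exL_iff, bneg_iff, blt_iff _ S.length] at h5
  obtain ⟨h7, h8, h9, h10, ⟨p, k1, k2, k3⟩, k4, k5, k6, k7⟩ := h5
  have e : sg g E.n ds = genLt g E.n :=
    eq_of_le_of_card_ge (sg_le_genLt _) (by rw [h1.card, h3, h.pc.isPC.card])
  rw [e] at h2
  have hP : ∀ q ∈ prs.map fun p => (sg g E.n (nth ([], 1) S p.1).1, sg g E.n (nth ([], 1) S p.2).1),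
      q.1 ∈ sp.map (sg g E.n) ∧ q.2 ∈ sp.map (sg g E.n) :=
    List.forall_mem_map.2 fun p hp => ⟨hS.mem (h8 p hp).1, hS.mem (h8 p hp).2.1⟩
  have h0 : ∀ m ∈ sg g E.n os, Agr (prs.map fun p => (sg g E.n (nth ([], 1) S p.1).1,
      sg g E.n (nth ([], 1) S p.2).1)) m 1 := fun m hm => List.forall_mem_map.2 fun p hp y hy => by
    simpa using agr_of_gens (fun y hy => h2.1 (sg_le_genLt _ hy) _ (hS.mem (h8 p hp).2.1))
      (fun y hy => h2.1 (sg_le_genLt os hy) _ (hS.mem (h8 p hp).1))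
      (fun y hy => h2.1 (sg_le_genLt os hy) _ (hS.mem (h8 p hp).2.1))
      (List.forall_mem_map.2 fun m hm => List.forall_mem_map.2 fun a ha =>
        (h.cmIn (hS.nth h.pc _) (rp (h6.lt m hm)) (rp ((hS.nth h.pc _).lt a ha))).1 ((h8 p hp).2.2 m hm a ha)) m hm y hy
  obtain ⟨u, hu⟩ := frat_lemma hP h2 (sg_le_genLt os) (by rw [h6.card, h.pc.isPC.card, ← h7, pow_succ']) h0
    (elt_mem' r) (fun e => k3 ((h.cmIn (hS.nth h.pc _) (h.lt h9) (h.lt h10)).2 (by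
      simpa using e _ (List.mem_map_of_mem k1) _ (((hS.nth h.pc _).iff y (h.lt h10).1).1 k2)))) (h.nrmW hS h4)
  obtain ⟨sx, j1, j2⟩ := h.srcChk (h.lt k4) (D := sg g E.n os) (fun a ha => (h6.iff a ha).1)
    (h.kmW hS (J := fun u => u ∈ KN (sp.map (sg g E.n)) ∧ u ∈ normalizer (sg g E.n os : Set G) ∧
      Agr (prs.map fun p => (sg g E.n (nth ([], 1) S p.1).1, sg g E.n (nth ([], 1) S p.2).1)) u (wEl g σ E.n sw))
      fun i j e u hu => by
        simp only [exL_iff, band_iff, nbeq_iff] at e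
        obtain ⟨p, hp, rfl, rfl⟩ := e
        exact hu.2.2 _ (List.mem_map_of_mem hp))
    (.cons (h.lt k4) .nil) k7
  simp only [frc_eq, mapF_eq, List.map_id'] at j1
  have j3 := conj_mem_of_mem_norm hu.2.1 ((h6.iff x1 (h.lt k4).1).1 k6)
  obtain ⟨a, j4, j5⟩ := h.pc.isPC.exists_elt (sg_le_genLt _ j3)
  have j6 := h.isP (h.lt k4) k5
  refine start j1 j2 (M := sg g E.n os) ⟨h, fun u hu y hy => conj_mem_of_mem_norm hu.2.1 hy,
    fun u hu m hm => ⟨mul_mem (h2.1 (sg_le_genLt _ hm)) hu.1, mul_mem (le_normalizer hm) hu.2.1,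
      Agr.mul hP (h0 m hm) hu.1 hu.2.2⟩, fun _ _ => id, fun a ha => (h6.iff a ha).1, h6.card, by simp⟩
    (fun a ha => mem_sg (List.mem_reverse.1 ha)) hu (mem_bitsW (h.hh ▸ j4) ?_) ⟨j4, j5⟩
  exact h.cov hi j4 ((h6.iff a j4).2 (j5 ▸ j3)) (j6.trans (isConj_iff.2 ⟨u, j5.symm⟩))

theorem FOK.fuseC (h : FOK C t g σ E) {x z r : ℕ} {sw ms : List ℕ} {P : List Ins} {sup pick il : List ℕ} {s : Srch}
    (hc : fuseC E x z r sw ms P sup pick il s = true) : C := by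
  simp only [L33.fuseC, band_iff, nbeq_iff ms.length] at hc
  obtain ⟨hx, hz, hr, h1, h2, h3, h4, h5, h6, h7, h8⟩ := hc
  obtain ⟨S', h9, hS'⟩ := h.msks h7
  obtain ⟨_, mm, h8, h10, -⟩ := h.pcm h8
  obtain ⟨S, h8, hS⟩ := h.msks h8
  have k1 := h.nrmL hS' h9
  have k2 := h.isP (h.lt hr) h1
  have k3 := (h.sq (h.lt hz)).1 h2
  have k4 := (h.pc.com (h.lt hr) (h.lt hz)).1 h3
  obtain ⟨_, k5, k6⟩ := h.apW (h.lt hx).1 h4
  obtain ⟨_, k7, k8⟩ := h.apW (h.lt hz).1 h5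
  rw [← (nbeq_iff _ _).1 k5] at k6
  rw [← (nbeq_iff _ _).1 k7] at k8
  have k9 : sg g E.n ms ≤ normalizer (clos [elt g E.n z] : Set G) := fun y hy => k1 hy _ (by simp [sg])
  have k10 : sg g E.n ms ≤ normalizer (clos [elt g E.n r, elt g E.n z] : Set G) := fun y hy => k1 hy _ (by simp [sg])
  obtain ⟨u, j1, j2, j3⟩ := h.gl.fuse1 k2 k3 k4 k6.2.2.symm k8.2.2.symm k9 k10 (by rw [h10.card, h6])
    (D := genLt g E.n ⊓ KN ([[z], [x, z]].map (sg g E.n))) (h.pc.isPC.isPGroup.to_le inf_le_left)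
    (fun y hy => hy.2 _ (by simp [sg])) fun y hy => hy.2 _ (by simp [sg])
  obtain ⟨sx, j4, j5⟩ := h.srcChk (h.lt hx) (D := genLt g E.n ⊓ KN ([[z], [x, z]].map (sg g E.n)))
    (fun a _ e => ⟨elt_mem' a, h.nrmL hS e (mem_sg List.mem_cons_self)⟩)
    (h.kmW hS (J := fun u => u * elt g E.n z * u⁻¹ = elt g E.n z ∧
      ∀ y ∈ genLt g E.n ⊓ KN ([[z], [x, z]].map (sg g E.n)), u * y * u⁻¹ ∈ sg g E.n ms) fun i j e u hu y hy => by
        simp only [band_iff, nbeq_iff] at e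
        obtain ⟨⟨a, b⟩, S, rfl, rfl, -⟩ := List.map_eq_cons_iff.1 hS.1
        rw [e.1] at hy
        have i1 : ∀ u : G, u * elt g E.n z * u⁻¹ = elt g E.n z → u * y * u⁻¹ = y := fun u hu =>
          mul_inv_eq_of_eq_mul (mem_cen.1 (sg_le (K := centralizer {u}).2
            (by simpa [mem_cen] using (eq_mul_of_mul_inv_eq hu).symm) hy)).symm
        rw [i1 u hu.1, i1 _ k8.2.2.symm, mul_inv_cancel]
        exact one_mem _)
    (.cons (h.lt hx) .nil) h8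
  have j6 := EG1.conj_t h.gl k2
  exact start j4 j5 (M := sg g E.n ms) ⟨h, fun u hu => hu.2,
    fun u hu m hm => ⟨by
      conv_rhs => rw [← (EG1.act j6.1 j6.2 k3 k4 (k9 hm) (k10 hm)).1, ← hu.1]
      group, fun y hy => by simpa [mul_assoc] using mul_mem (mul_mem hm (hu.2 y hy)) (inv_mem hm)⟩,
    fun _ _ => id, fun a ha => (h10.iff a ha).1, h10.card, by simp⟩ (by simp) ⟨j2, j3⟩ List.mem_cons_self (j1 ▸ h.lt hr)

/-- The certificate has a final state. -/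
noncomputable def fin (c : Node) : Bool :=
  Node.rec (fun _ => false) (fun _ _ _ _ ih => ih) (fun _ _ _ ih ih' => bor ih ih') (fun _ _ _ _ _ ih => ih)
    (fun _ _ _ _ _ _ _ ih => ih) (fun _ _ _ _ _ _ _ _ _ _ _ _ _ _ _ _ => false) (fun _ _ _ _ _ _ _ _ _ _ => false) true
    (fun _ _ => true) c

theorem FOK.runN {c : Node} (h : FOK C t g σ E) (hi : ∀ a < 2 ^ E.n, elt g E.n a * elt g E.n a = 1 → tb im a = true)
    (hf : fin c = true → IsSylIn 2 (genLt g E.n) ⊤ → C) (hc : runN im c E = true) : C := by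
  induction c generalizing E with
  | lf l => exact h.runL hc
  | st i a b c ih => obtain ⟨E', h1, h2, h3⟩ := h.stp hc; exact ih h2 (h3 ▸ hi) (h3 ▸ hf) h1
  | sp x c c' ih ih' =>
    obtain ⟨E', h1, h2, h3⟩ := h.spl hc
    exact h1.elim (ih h2 (h3 ▸ hi) (h3 ▸ fun e => hf ((bor_iff _ _).2 (.inl e))))
      (ih' h2 (h3 ▸ hi) (h3 ▸ fun e => hf ((bor_iff _ _).2 (.inr e))))
  | est k r ms s c ih => exact (h.estC hc).elim id fun ⟨_, h1, h2, h3⟩ => ih h2 (h3 ▸ hi) (h3 ▸ hf) h1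
  | ext sp x P sup pick s c ih => exact (h.extC hi hc).elim id fun ⟨_, h1, h2, h3⟩ => ih h2 (h3 ▸ hi) (h3 ▸ hf) h1
  | frat => exact h.fratC hi hc
  | fuse => exact h.fuseC hc
  | done =>
    simp only [L33.runN, band_iff] at hc
    exact hf rfl (h.top hc.1 hc.2.1)
  | trf ms x =>
    simp only [L33.runN, L33.trfC, band_iff] at hc
    exact hf rfl (h.top hc.1 hc.2.1)

omit [Finite G] in
/-- The initial state of a labelled presentation. -/
theorem fok_init {DB : ℕ → Hdr} {PT : ℕ → List Ins} {k T zh s n pats : ℕ} {R : List (List (List ℕ))} {zs ps ns : List ℕ}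
    {ops : List Op} (H : HOK PT t g σ ⟨s, n, R, zs, ps, ns, ops, pats⟩) (hv : ∀ j < k, Val C PT t (DB j))
    (h2 : tabOK R T n = true) (h3 : zOK (arN T n) (2 ^ n) zs im zh = true) (h4 : ∀ a ∈ ps, a < 2 ^ n)
    (h5 : ∀ a ∈ ns, a < 2 ^ n) (h6 : ∀ o ∈ ops, (∀ a ∈ o.xs, a < 2 ^ n) ∧ ∀ a ∈ o.ys, a < 2 ^ n) :
    FOK C t g σ ⟨DB, PT, k, s, arN T n, n, 2 ^ n, mskOf ps, mskOf ns, fun a => a, ops, pats, false, []⟩ ∧
      ∀ a < 2 ^ n, elt g n a * elt g n a = 1 → tb im a = true := by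
  obtain ⟨h8, h9⟩ := (pc0_of_rows (rows_of_tabOK (T := T) h2 H.rel)).zOK h3 H.zs
  refine ⟨⟨hv, H.gl, h8, rfl, fun a ha => ⟨h4 a (tb_mskOf ha), H.ps a (tb_mskOf ha)⟩,
    fun a ha => ⟨h5 a (tb_mskOf ha), H.ns a (tb_mskOf ha)⟩, fun a ha => ⟨ha, IsConj.refl _⟩, fun k => ?_, H.pats,
    by simp⟩, h9⟩
  have h10 : (∀ a ∈ (nth op0 ops k).xs, a < 2 ^ n) ∧ ∀ a ∈ (nth op0 ops k).ys, a < 2 ^ n := by
    rcases nth_cases op0 ops k with e | e
    · rw [e]; simp [op0]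
    · exact h6 _ e
  exact (((List.forall₂_and_left _ _).2 ⟨h10.2, ((List.forall₂_and_left _ _).2 ⟨h10.1, H.ops k⟩).flip⟩).flip).imp
    fun a b e => ⟨e.2.1, e.1, e.2.2⟩

omit [Finite G] in
theorem nodeOK_iff {DB : ℕ → Hdr} {PT : ℕ → List Ins} {k T zh : ℕ} {c : Node} (hc : nodeOK DB PT k T im zh c = true) :
    tabOK (DB k).C T (DB k).n = true ∧ zOK (arN T (DB k).n) (2 ^ (DB k).n) (DB k).zs im zh = true ∧
      (∀ a ∈ (DB k).ps, a < 2 ^ (DB k).n) ∧ (∀ a ∈ (DB k).ns, a < 2 ^ (DB k).n) ∧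
      (∀ o ∈ (DB k).ops, (∀ a ∈ o.xs, a < 2 ^ (DB k).n) ∧ ∀ a ∈ o.ys, a < 2 ^ (DB k).n) ∧
      runN im c ⟨DB, PT, k, (DB k).s, arN T (DB k).n, (DB k).n, 2 ^ (DB k).n, mskOf (DB k).ps, mskOf (DB k).ns,
        fun a => a, (DB k).ops, (DB k).pats, false, []⟩ = true := by
  unfold nodeOK at hc
  generalize DB k = H0 at hc ⊢
  obtain ⟨s, n, R, zs, ps, ns, ops, pats⟩ := H0
  dsimp only at hc ⊢
  generalize arN T n = A at hc ⊢
  obtain ⟨mu, iv, on⟩ := A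
  simpa only [frc_eq, band_iff, lettersLt_iff, allL_iff, Nat.pow_eq] using hc

theorem val_succ {DB : ℕ → Hdr} {PT : ℕ → List Ins} {k T zh : ℕ} {c : Node} (hc : nodeOK DB PT k T im zh c = true)
    (hf : fin c = true → ∀ g σ, HOK PT t g σ (DB k) → IsSylIn 2 (genLt g (DB k).n) ⊤ → C)
    (hv : ∀ j < k, Val C PT t (DB j)) : ∀ j < k + 1, Val C PT t (DB j) := by
  intro j hj
  rcases Nat.lt_succ_iff_lt_or_eq.1 hj with hj | rfl
  · exact hv j hj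
  intro g σ H
  obtain ⟨h2, h3, h4, h5, h6, h7⟩ := nodeOK_iff hc
  obtain ⟨h8, h9⟩ := fok_init (g := g) (σ := σ) H hv h2 h3 h4 h5 h6
  exact h8.runN h9 (fun e => hf e g σ H) h7

end Cfsg.Agent.L3S
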