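import Mathlib
import Cfsg.Agent.L33.DAll
import Cfsg.Agent.L3S.EF

/-!
Certificates for the Sylow subgroups.
-/

set_option autoImplicit false
set_option maxRecDepth 100000

namespace Cfsg.Agent.L3S.Dat

open Cfsg.Agent.L33 Cfsg.Agent.L33.Dat Cfsg.Agent.L3S

noncomputable def f23 : Cert :=
  (Cert.st (nat_lit 0) (nat_lit 4) (nat_lit 0) (Cert.sp (nat_lit 1) (Cert.lf (Leaf.pt (nat_lit 10) (nat_lit 1) [nat_lit 8,nat_lit 4])) (Cert.sp (nat_lit 2) (Cert.lf (Leaf.pt (nat_lit 10) (nat_lit 2) [nat_lit 36,nat_lit 1])) (Cert.st (nat_lit 0) (nat_lit 2) (nat_lit 0) (Cert.sp (nat_lit 10) (Cert.lf (Leaf.pt (nat_lit 10) (nat_lit 10) [nat_lit 84,nat_lit 1])) (Cert.st (nat_lit 0) (nat_lit 10) (nat_lit 0) (Cert.sp (nat_lit 28) (Cert.lf (Leaf.pt (nat_lit 10) (nat_lit 28) [nat_lit 40,nat_lit 1])) (Cert.st (nat_lit 0) (nat_lit 28)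 (nat_lit 0) (Cert.sp (nat_lit 32) (Cert.lf (Leaf.pt (nat_lit 10) (nat_lit 32) [nat_lit 78,nat_lit 1])) (Cert.st (nat_lit 0) (nat_lit 32) (nat_lit 0) (Cert.sp (nat_lit 33) (Cert.lf (Leaf.pt (nat_lit 10) (nat_lit 33) [nat_lit 78,nat_lit 1])) (Cert.st (nat_lit 0) (nat_lit 33) (nat_lit 0) (Cert.sp (nat_lit 70) (Cert.lf (Leaf.pt (nat_lit 10) (nat_lit 70) [nat_lit 40,nat_lit 1])) (Cert.st (nat_lit 0) (nat_lit 70) (nat_lit 0) (Cert.sp (nat_lit 71) (Cert.lf (Leaf.pt (nat_lit 10) (nat_lit 71) [nat_lit 40,nat_lit 1])) (Cert.st (nat_lit 0) (nat_lit 71) (nat_lit 0) (Cert.sp (nat_lit 102) (Cert.lf (Leaf.pt (nat_lit 14) (nat_lit 102) [nat_lit 1,nat_lit 28,nat_lit 34])) (Cert.st (nat_lit 0) (nat_lit 102) (nat_lit 0) (Cert.nl (nat_lit 1) (Cert.sy (nat_lit 0) (Cert.root (nat_lit 16) [] [nat_lit 8,nat_lit 4] [] [Ins.fr [nat_lit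 0],Ins.ts (nat_lit 1) [nat_lit 0] [],Ins.ts (nat_lit 0) [nat_lit 0,nat_lit 0] [],Ins.ts (nat_lit 1) [nat_lit 0,nat_lit 1] [],Ins.fr [nat_lit 1],Ins.ts (nat_lit 1) [nat_lit 0,nat_lit 0] [],Ins.ts (nat_lit 1) [nat_lit 0,nat_lit 0,nat_lit 0,nat_lit 0] []] (Cert.rep (nat_lit 4) [nat_lit 2,nat_lit 8] [nat_lit 8,nat_lit 4,nat_lit 2,nat_lit 1] [nat_lit 64,nat_lit 32,nat_lit 16] (Cert.rep (nat_lit 1) [] [] [] Cert.nil (Cert.rep (nat_lit 2) [] [] [] Cert.nil (Cert.rep (nat_lit 5) [] [] [] Cert.nil (Cert.rep (nat_lit 6) [] [] [] Cert.nil (Cert.rep (nat_lit 10) [] [] [] Cert.nil (Cert.rep (nat_lit 14) [] [] [] Cert.nil Cert.nil)))))) Cert.nil))))))))))))))))))))))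
theorem fin23 : finOK DB PT 34 t34 23 t23 (nat_lit 0xc0cc0c00c0330c0f000000ff0c3ccff) f23 = true := by
  decide +kernel
noncomputable def f27 : Cert :=
  (Cert.st (nat_lit 0) (nat_lit 4) (nat_lit 0) (Cert.st (nat_lit 0) (nat_lit 14) (nat_lit 0) (Cert.sp (nat_lit 1) (Cert.lf (Leaf.pt (nat_lit 10) (nat_lit 1) [nat_lit 8,nat_lit 4])) (Cert.sp (nat_lit 2) (Cert.lf (Leaf.pt (nat_lit 10) (nat_lit 2) [nat_lit 36,nat_lit 1])) (Cert.st (nat_lit 0) (nat_lit 2) (nat_lit 0) (Cert.sp (nat_lit 10) (Cert.lf (Leaf.pt (nat_lit 5) (nat_lit 10) [nat_lit 4])) (Cert.st (nat_lit 0) (nat_lit 10) (nat_lit 0) (Cert.sp (nat_lit 28) (Cert.lf (Leaf.pt (nat_lit 10) (nat_lit 28) [nat_lit 40,nat_lit 1])) (Cert.st (nat_lit 0) (nat_lit 28) (nat_lit 0) (Cert.sp (nat_lit 30) (Cert.lf (Leaf.pt (nat_lit 10) (nat_lit 30) [nat_lit 46,nat_lit 1])) (Cert.st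 (nat_lit 0) (nat_lit 30) (nat_lit 0) (Cert.sp (nat_lit 32) (Cert.lf (Leaf.pt (nat_lit 14) (nat_lit 32) [nat_lit 1,nat_lit 2,nat_lit 28])) (Cert.st (nat_lit 0) (nat_lit 32) (nat_lit 0) (Cert.sp (nat_lit 33) (Cert.lf (Leaf.pt (nat_lit 14) (nat_lit 33) [nat_lit 1,nat_lit 2,nat_lit 28])) (Cert.st (nat_lit 0) (nat_lit 33) (nat_lit 0) (Cert.nl (nat_lit 1) (Cert.sy (nat_lit 0) (Cert.root (nat_lit 16) [] [nat_lit 8,nat_lit 4] [] [Ins.fr [nat_lit 0],Ins.ts (nat_lit 1) [nat_lit 0] [],Ins.ts (nat_lit 0) [nat_lit 0,nat_lit 0] [],Ins.ts (nat_lit 1) [nat_lit 0,nat_lit 1] [],Ins.fr [nat_lit 1],Ins.ts (nat_lit 1) [nat_lit 0,nat_lit 0] [],Ins.ts (nat_lit 1) [nat_lit 0,nat_lit 0,nat_lit 0,nat_lit 0] []] (Cert.rep (nat_lit 4) [nat_lit 2,nat_lit 8] [nat_lit 8,nat_lit 4,nat_lit 2,nat_lit 1] [nat_lit 32,nat_lit 16] (Cert.rep (nat_lit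 1) [] [] [] Cert.nil (Cert.rep (nat_lit 2) [] [] [] Cert.nil (Cert.rep (nat_lit 5) [] [] [] Cert.nil (Cert.rep (nat_lit 6) [] [] [] Cert.nil (Cert.rep (nat_lit 10) [] [] [] Cert.nil (Cert.rep (nat_lit 14) [] [] [] Cert.nil Cert.nil)))))) (Cert.rep (nat_lit 14) [nat_lit 4,nat_lit 16] [nat_lit 16,nat_lit 10,nat_lit 4,nat_lit 1] [nat_lit 32,nat_lit 2] (Cert.rep (nat_lit 1) [] [] [] Cert.nil (Cert.rep (nat_lit 4) [] [] [] Cert.nil (Cert.rep (nat_lit 10) [] [] [] Cert.nil (Cert.rep (nat_lit 15) [] [] [] Cert.nil (Cert.rep (nat_lit 16) [] [] [] Cert.nil (Cert.rep (nat_lit 30) [] [] [] Cert.nil Cert.nil)))))) Cert.nil))))))))))))))))))))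
theorem fin27 : finOK DB PT 34 t34 27 t27 (nat_lit 0xf000000ff0c3ccff) f27 = true := by
  decide +kernel
noncomputable def f37_0 : Cert :=
  Cert.s2 (nat_lit 0) (nat_lit 69) (Cert.o1 (nat_lit 0) (nat_lit 69) (Cert.fu (nat_lit 69) (nat_lit 1) (nat_lit 0) (nat_lit 0) [nat_lit 0] [nat_lit 35,nat_lit 842] [] [] [] [nat_lit 1] [[nat_lit 1]] [[nat_lit 69]] [Ins.ts (nat_lit 1) [nat_lit 0] [],Ins.fr [nat_lit 0],Ins.ts (nat_lit 0) [nat_lit 0,nat_lit 0] [],Ins.ts (nat_lit 3) [nat_lit 0] [],Ins.ts (nat_lit 4) [nat_lit 0] [nat_lit 0,nat_lit 0,nat_lit 1],Ins.ts (nat_lit 1) [nat_lit 0] [],Ins.fr [nat_lit 1],Ins.ts (nat_lit 0) [nat_lit 0,nat_lit 0,nat_lit 0,nat_lit 0] [],Ins.ts (nat_lit 1) [nat_lit 0,nat_lit 0] [],Ins.ts (nat_lit 1) [nat_lit 0,nat_lit 1,nat_lit 0,nat_lit 1,nat_lit 0,nat_lit 1,nat_lit 0,nat_lit 1] [],Ins.ts (nat_lit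 0) [nat_lit 1,nat_lit 0,nat_lit 0] [nat_lit 0,nat_lit 0,nat_lit 1],Ins.ts (nat_lit 1) [nat_lit 0,nat_lit 0,nat_lit 2] [],Ins.ts (nat_lit 1) [nat_lit 0,nat_lit 0,nat_lit 0,nat_lit 1,nat_lit 0,nat_lit 1,nat_lit 0,nat_lit 1,nat_lit 0,nat_lit 1,nat_lit 2] [],Ins.ts (nat_lit 1) [nat_lit 0,nat_lit 0,nat_lit 0,nat_lit 1,nat_lit 0,nat_lit 1,nat_lit 0,nat_lit 1,nat_lit 0,nat_lit 1] [],Ins.ts (nat_lit 1) [nat_lit 0,nat_lit 1,nat_lit 0,nat_lit 1,nat_lit 0,nat_lit 1,nat_lit 0,nat_lit 1,nat_lit 2] []] [(nat_lit 3,nat_lit 0)] (Cert.rep (nat_lit 1) [nat_lit 2,nat_lit 4,nat_lit 8,nat_lit 16,nat_lit 32,nat_lit 64,nat_lit 128,nat_lit 256,nat_lit 512] [nat_lit 512,nat_lit 256,nat_lit 128,nat_lit 64,nat_lit 32,nat_lit 16,nat_lit 8,nat_lit 4,nat_lit 2,nat_lit 1] [] (Cert.rep (nat_lit 4) [] [] [] Cert.nil (Cert.rep (nat_lit 12) []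 [] [] Cert.nil (Cert.rep (nat_lit 14) [] [] [] Cert.nil (Cert.rep (nat_lit 44) [] [] [] Cert.nil (Cert.rep (nat_lit 68) [] [] [] Cert.nil (Cert.rep (nat_lit 72) [] [] [] Cert.nil (Cert.rep (nat_lit 73) [] [] [] Cert.nil (Cert.rep (nat_lit 266) [] [] [] Cert.nil (Cert.rep (nat_lit 516) [] [] [] Cert.nil (Cert.rep (nat_lit 536) [] [] [] Cert.nil (Cert.rep (nat_lit 576) [] [] [] Cert.nil Cert.nil))))))))))) Cert.nil))) (Cert.s2 (nat_lit 0) (nat_lit 72) (Cert.o1 (nat_lit 0) (nat_lit 72) (Cert.fu (nat_lit 72) (nat_lit 1) (nat_lit 0) (nat_lit 0) [nat_lit 0] [nat_lit 35,nat_lit 858] [] [] [] [nat_lit 1] [[nat_lit 1]] [[nat_lit 72]] [Ins.ts (nat_lit 1) [nat_lit 0] [],Ins.fr [nat_lit 0],Ins.ts (nat_lit 0) [nat_lit 0,nat_lit 0] [],Ins.ts (nat_lit 3) [nat_lit 0] [],Ins.ts (nat_lit 4) [nat_lit 0] [nat_lit 0,nat_lit 0,nat_lit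 1],Ins.ts (nat_lit 4) [nat_lit 0,nat_lit 1] [nat_lit 0,nat_lit 0,nat_lit 1],Ins.fr [nat_lit 1],Ins.ts (nat_lit 0) [nat_lit 0,nat_lit 0,nat_lit 0,nat_lit 0] [],Ins.ts (nat_lit 1) [nat_lit 0,nat_lit 0] [],Ins.ts (nat_lit 1) [nat_lit 0,nat_lit 1,nat_lit 0,nat_lit 1,nat_lit 0,nat_lit 1,nat_lit 0,nat_lit 1] [],Ins.ts (nat_lit 0) [nat_lit 1,nat_lit 0,nat_lit 0] [nat_lit 0,nat_lit 0,nat_lit 1],Ins.ts (nat_lit 1) [nat_lit 0,nat_lit 0,nat_lit 2] [],Ins.ts (nat_lit 1) [nat_lit 0,nat_lit 0,nat_lit 0,nat_lit 1,nat_lit 0,nat_lit 1,nat_lit 0,nat_lit 1,nat_lit 0,nat_lit 1,nat_lit 2] [],Ins.ts (nat_lit 1) [nat_lit 0,nat_lit 0,nat_lit 0,nat_lit 1,nat_lit 0,nat_lit 1,nat_lit 0,nat_lit 1,nat_lit 0,nat_lit 1] [],Ins.ts (nat_lit 1) [nat_lit 0,nat_lit 1,nat_lit 0,nat_lit 1,nat_lit 0,nat_lit 1,nat_lit 0,nat_lit 1,nat_lit 2] []] [(nat_lit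 3,nat_lit 0)] (Cert.rep (nat_lit 1) [nat_lit 2,nat_lit 4,nat_lit 8,nat_lit 16,nat_lit 32,nat_lit 64,nat_lit 128,nat_lit 256,nat_lit 512] [nat_lit 512,nat_lit 256,nat_lit 128,nat_lit 64,nat_lit 32,nat_lit 16,nat_lit 8,nat_lit 4,nat_lit 2,nat_lit 1] [] (Cert.rep (nat_lit 4) [] [] [] Cert.nil (Cert.rep (nat_lit 12) [] [] [] Cert.nil (Cert.rep (nat_lit 14) [] [] [] Cert.nil (Cert.rep (nat_lit 44) [] [] [] Cert.nil (Cert.rep (nat_lit 68) [] [] [] Cert.nil (Cert.rep (nat_lit 69) [] [] [] Cert.nil (Cert.rep (nat_lit 266) [] [] [] Cert.nil (Cert.rep (nat_lit 516) [] [] [] Cert.nil (Cert.rep (nat_lit 536) [] [] [] Cert.nil (Cert.rep (nat_lit 576) [] [] [] Cert.nil Cert.nil)))))))))) Cert.nil))) (Cert.s2 (nat_lit 0) (nat_lit 73) (Cert.o1 (nat_lit 0) (nat_lit 73) (Cert.fu (nat_lit 73) (nat_lit 1) (nat_lit 0) (nat_lit 0)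 [nat_lit 0] [nat_lit 35,nat_lit 858] [] [] [] [nat_lit 1] [[nat_lit 1]] [[nat_lit 73]] [Ins.ts (nat_lit 1) [nat_lit 0] [],Ins.fr [nat_lit 0],Ins.ts (nat_lit 0) [nat_lit 0,nat_lit 0] [],Ins.ts (nat_lit 3) [nat_lit 0] [],Ins.ts (nat_lit 4) [nat_lit 0] [nat_lit 0,nat_lit 0,nat_lit 1],Ins.ts (nat_lit 4) [nat_lit 0,nat_lit 1] [nat_lit 0,nat_lit 0,nat_lit 1],Ins.fr [nat_lit 1],Ins.ts (nat_lit 0) [nat_lit 0,nat_lit 0,nat_lit 0,nat_lit 0] [],Ins.ts (nat_lit 1) [nat_lit 0,nat_lit 0] [],Ins.ts (nat_lit 1) [nat_lit 0,nat_lit 1,nat_lit 0,nat_lit 1,nat_lit 0,nat_lit 1,nat_lit 0,nat_lit 1] [],Ins.ts (nat_lit 0) [nat_lit 1,nat_lit 0,nat_lit 0] [nat_lit 0,nat_lit 0,nat_lit 1],Ins.ts (nat_lit 1) [nat_lit 0,nat_lit 0,nat_lit 2] [],Ins.ts (nat_lit 1) [nat_lit 0,nat_lit 0,nat_lit 0,nat_lit 1,nat_lit 0,nat_lit 1,nat_lit 0,nat_lit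 1,nat_lit 0,nat_lit 1,nat_lit 2] [],Ins.ts (nat_lit 1) [nat_lit 0,nat_lit 0,nat_lit 0,nat_lit 1,nat_lit 0,nat_lit 1,nat_lit 0,nat_lit 1,nat_lit 0,nat_lit 1] [],Ins.ts (nat_lit 1) [nat_lit 0,nat_lit 1,nat_lit 0,nat_lit 1,nat_lit 0,nat_lit 1,nat_lit 0,nat_lit 1,nat_lit 2] []] [(nat_lit 3,nat_lit 0)] (Cert.rep (nat_lit 1) [nat_lit 2,nat_lit 4,nat_lit 8,nat_lit 16,nat_lit 32,nat_lit 64,nat_lit 128,nat_lit 256,nat_lit 512] [nat_lit 512,nat_lit 256,nat_lit 128,nat_lit 64,nat_lit 32,nat_lit 16,nat_lit 8,nat_lit 4,nat_lit 2,nat_lit 1] [] (Cert.rep (nat_lit 4) [] [] [] Cert.nil (Cert.rep (nat_lit 12) [] [] [] Cert.nil (Cert.rep (nat_lit 14) [] [] [] Cert.nil (Cert.rep (nat_lit 44) [] [] [] Cert.nil (Cert.rep (nat_lit 68) [] [] [] Cert.nil (Cert.rep (nat_lit 69) [] [] [] Cert.nil (Cert.rep (nat_lit 266) [] [] [] Cert.nil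 (Cert.rep (nat_lit 516) [] [] [] Cert.nil (Cert.rep (nat_lit 536) [] [] [] Cert.nil (Cert.rep (nat_lit 576) [] [] [] Cert.nil Cert.nil)))))))))) Cert.nil))) (Cert.o1 (nat_lit 0) (nat_lit 2) (Cert.fu (nat_lit 8) (nat_lit 1) (nat_lit 0) (nat_lit 0) [] [nat_lit 2,nat_lit 1,nat_lit 4,nat_lit 32] [] [] [] [nat_lit 1] [[nat_lit 1]] [[nat_lit 2]] [Ins.fr [nat_lit 0],Ins.ts (nat_lit 4) [nat_lit 0] [nat_lit 0,nat_lit 0,nat_lit 0],Ins.ts (nat_lit 1) [nat_lit 0] [],Ins.fr [nat_lit 1],Ins.ts (nat_lit 0) [nat_lit 0,nat_lit 0] [],Ins.ts (nat_lit 3) [nat_lit 0] [],Ins.ts (nat_lit 2) [nat_lit 0,nat_lit 2] [],Ins.ts (nat_lit 1) [nat_lit 0] [],Ins.ts (nat_lit 1) [nat_lit 0,nat_lit 1] [],Ins.fr [nat_lit 2],Ins.ts (nat_lit 0) [nat_lit 0,nat_lit 0] [],Ins.ts (nat_lit 3) [nat_lit 0] [],Ins.ts (nat_lit 0) [nat_lit 1,nat_lit 0] [nat_lit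 0,nat_lit 1],Ins.ts (nat_lit 1) [nat_lit 0] [],Ins.ts (nat_lit 3) [nat_lit 0,nat_lit 3] [],Ins.fr [nat_lit 1,nat_lit 3],Ins.ts (nat_lit 0) [nat_lit 0,nat_lit 0] [],Ins.ts (nat_lit 0) [nat_lit 1,nat_lit 2,nat_lit 0] [nat_lit 0,nat_lit 1],Ins.ts (nat_lit 4) [nat_lit 1,nat_lit 0,nat_lit 3,nat_lit 4] [nat_lit 0,nat_lit 0,nat_lit 1]] [(nat_lit 2,nat_lit 0)] (Cert.rep (nat_lit 8) [] [nat_lit 256,nat_lit 16,nat_lit 8,nat_lit 4,nat_lit 2,nat_lit 1] [nat_lit 512,nat_lit 64,nat_lit 192,nat_lit 32] (Cert.rep (nat_lit 1) [nat_lit 2,nat_lit 16,nat_lit 256] [] [] (Cert.rep (nat_lit 2) [] [] [] (Cert.rep (nat_lit 4) [] [] [] Cert.nil (Cert.rep (nat_lit 5) [] [] [] Cert.nil (Cert.rep (nat_lit 6) [] [] [] Cert.nil (Cert.rep (nat_lit 7) [] [] [] Cert.nil (Cert.rep (nat_lit 12) [] [] [] Cert.nil (Cert.rep (nat_lit 13) [] [] [] Cert.nil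 (Cert.rep (nat_lit 14) [] [] [] Cert.nil (Cert.rep (nat_lit 15) [] [] [] Cert.nil Cert.nil)))))))) Cert.nil) Cert.nil) Cert.nil)))))
noncomputable def f37_1 : Cert :=
  Cert.rep (nat_lit 2) [nat_lit 2,nat_lit 4] [] [] (Cert.rep (nat_lit 260) [] [] [] (Cert.er (Cert.ro (nat_lit 0) [nat_lit 1,nat_lit 8,nat_lit 16] [nat_lit 8,nat_lit 9,nat_lit 16] [nat_lit 0,nat_lit 1,nat_lit 2,nat_lit 3,nat_lit 8,nat_lit 9,nat_lit 10,nat_lit 11] (Cert.ro (nat_lit 1) [nat_lit 1,nat_lit 2,nat_lit 14,nat_lit 16] [nat_lit 1,nat_lit 14,nat_lit 12,nat_lit 16] [nat_lit 0,nat_lit 1,nat_lit 16,nat_lit 17,nat_lit 262,nat_lit 263,nat_lit 279,nat_lit 278,nat_lit 8,nat_lit 9,nat_lit 24,nat_lit 25,nat_lit 270,nat_lit 271,nat_lit 287,nat_lit 286] (Cert.lw (nat_lit 0) (nat_lit 2) (nat_lit 1) (Cert.s2 (nat_lit 0) (nat_lit 12) (Cert.o1 (nat_lit 0)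 (nat_lit 12) (Cert.fu (nat_lit 8) (nat_lit 1) (nat_lit 0) (nat_lit 0) [] [nat_lit 12] [] [] [] [nat_lit 1] [[nat_lit 1]] [[nat_lit 12]] [Ins.fr [nat_lit 0],Ins.ts (nat_lit 4) [nat_lit 0] [nat_lit 0,nat_lit 0,nat_lit 0],Ins.ts (nat_lit 1) [nat_lit 0] [],Ins.ts (nat_lit 3) [nat_lit 0,nat_lit 1] []] [] (Cert.rep (nat_lit 8) [] [nat_lit 256,nat_lit 16,nat_lit 8,nat_lit 4,nat_lit 2,nat_lit 1] [nat_lit 512,nat_lit 64,nat_lit 192,nat_lit 32] Cert.nil Cert.nil))) (Cert.s2 (nat_lit 0) (nat_lit 14) (Cert.o1 (nat_lit 0) (nat_lit 14) (Cert.fu (nat_lit 8) (nat_lit 1) (nat_lit 0) (nat_lit 0) [] [nat_lit 14] [] [] [] [nat_lit 1] [[nat_lit 1]] [[nat_lit 14]] [Ins.fr [nat_lit 0],Ins.ts (nat_lit 4) [nat_lit 0] [nat_lit 0,nat_lit 0,nat_lit 0],Ins.ts (nat_lit 1) [nat_lit 0] [],Ins.ts (nat_lit 3) [nat_lit 0,nat_lit 1] []] [] (Cert.rep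 (nat_lit 8) [] [nat_lit 256,nat_lit 16,nat_lit 8,nat_lit 4,nat_lit 2,nat_lit 1] [nat_lit 512,nat_lit 64,nat_lit 192,nat_lit 32] Cert.nil Cert.nil))) (Cert.s2 (nat_lit 0) (nat_lit 68) (Cert.o1 (nat_lit 0) (nat_lit 68) (Cert.fu (nat_lit 68) (nat_lit 1) (nat_lit 0) (nat_lit 0) [nat_lit 0] [nat_lit 35,nat_lit 842] [] [] [] [nat_lit 1] [[nat_lit 1]] [[nat_lit 68]] [Ins.ts (nat_lit 1) [nat_lit 0] [],Ins.fr [nat_lit 0],Ins.ts (nat_lit 0) [nat_lit 0,nat_lit 0] [],Ins.ts (nat_lit 3) [nat_lit 0] [],Ins.ts (nat_lit 4) [nat_lit 0] [nat_lit 0,nat_lit 0,nat_lit 1],Ins.ts (nat_lit 1) [nat_lit 0] [],Ins.fr [nat_lit 1],Ins.ts (nat_lit 0) [nat_lit 0,nat_lit 0,nat_lit 0,nat_lit 0] [],Ins.ts (nat_lit 1) [nat_lit 0,nat_lit 0] [],Ins.ts (nat_lit 1) [nat_lit 0,nat_lit 1,nat_lit 0,nat_lit 1,nat_lit 0,nat_lit 1,nat_lit 0,nat_lit 1] [],Ins.ts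 (nat_lit 0) [nat_lit 1,nat_lit 0,nat_lit 0] [nat_lit 0,nat_lit 0,nat_lit 1],Ins.ts (nat_lit 1) [nat_lit 0,nat_lit 0,nat_lit 2] [],Ins.ts (nat_lit 1) [nat_lit 0,nat_lit 0,nat_lit 0,nat_lit 1,nat_lit 0,nat_lit 1,nat_lit 0,nat_lit 1,nat_lit 0,nat_lit 1,nat_lit 2] [],Ins.ts (nat_lit 1) [nat_lit 0,nat_lit 0,nat_lit 0,nat_lit 1,nat_lit 0,nat_lit 1,nat_lit 0,nat_lit 1,nat_lit 0,nat_lit 1] [],Ins.ts (nat_lit 1) [nat_lit 0,nat_lit 1,nat_lit 0,nat_lit 1,nat_lit 0,nat_lit 1,nat_lit 0,nat_lit 1,nat_lit 2] []] [(nat_lit 3,nat_lit 0)] (Cert.rep (nat_lit 1) [nat_lit 2,nat_lit 4,nat_lit 8,nat_lit 16,nat_lit 32,nat_lit 64,nat_lit 128,nat_lit 256,nat_lit 512] [nat_lit 512,nat_lit 256,nat_lit 128,nat_lit 64,nat_lit 32,nat_lit 16,nat_lit 8,nat_lit 4,nat_lit 2,nat_lit 1] [] (Cert.rep (nat_lit 4) [] [] [] Cert.nil (Cert.rep (nat_lit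 12) [] [] [] Cert.nil (Cert.rep (nat_lit 14) [] [] [] Cert.nil (Cert.rep (nat_lit 44) [] [] [] Cert.nil (Cert.rep (nat_lit 69) [] [] [] Cert.nil (Cert.rep (nat_lit 72) [] [] [] Cert.nil (Cert.rep (nat_lit 73) [] [] [] Cert.nil (Cert.rep (nat_lit 266) [] [] [] Cert.nil (Cert.rep (nat_lit 516) [] [] [] Cert.nil (Cert.rep (nat_lit 536) [] [] [] Cert.nil (Cert.rep (nat_lit 576) [] [] [] Cert.nil Cert.nil))))))))))) Cert.nil))) f37_0))))))) (Cert.rep (nat_lit 268) [] [] [] (Cert.er (Cert.ro (nat_lit 0) [nat_lit 1,nat_lit 8,nat_lit 16] [nat_lit 8,nat_lit 9,nat_lit 16] [nat_lit 0,nat_lit 1,nat_lit 2,nat_lit 3,nat_lit 8,nat_lit 9,nat_lit 10,nat_lit 11] (Cert.ro (nat_lit 1) [nat_lit 1,nat_lit 2,nat_lit 14,nat_lit 16] [nat_lit 1,nat_lit 14,nat_lit 12,nat_lit 16] [nat_lit 0,nat_lit 1,nat_lit 16,nat_lit 17,nat_lit 270,nat_lit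 271,nat_lit 287,nat_lit 286,nat_lit 8,nat_lit 9,nat_lit 24,nat_lit 25,nat_lit 262,nat_lit 263,nat_lit 279,nat_lit 278] (Cert.fu (nat_lit 1) (nat_lit 2) (nat_lit 8) (nat_lit 1) [nat_lit 0] [nat_lit 8,nat_lit 286,nat_lit 37] [] [] [nat_lit 256,nat_lit 32,nat_lit 16,nat_lit 8,nat_lit 4,nat_lit 2,nat_lit 1] [nat_lit 1] [[nat_lit 16,nat_lit 1]] [[nat_lit 1],[nat_lit 8,nat_lit 1],[nat_lit 286,nat_lit 1]] [Ins.ts (nat_lit 1) [nat_lit 0] [],Ins.fr [nat_lit 0],Ins.ts (nat_lit 2) [nat_lit 0] [],Ins.ts (nat_lit 4) [nat_lit 0] [nat_lit 0,nat_lit 0,nat_lit 1],Ins.ts (nat_lit 1) [nat_lit 0] [],Ins.fr [nat_lit 1],Ins.ts (nat_lit 4) [nat_lit 0] [nat_lit 0,nat_lit 0,nat_lit 2],Ins.ts (nat_lit 1) [nat_lit 0] [],Ins.ts (nat_lit 0) [nat_lit 0,nat_lit 0] [nat_lit 2],Ins.fr [nat_lit 2],Ins.ts (nat_lit 0) [nat_lit 0,nat_lit 0] [nat_lit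 3],Ins.ts (nat_lit 2) [nat_lit 1,nat_lit 0,nat_lit 2] [],Ins.ts (nat_lit 0) [nat_lit 1,nat_lit 0,nat_lit 1] [nat_lit 0],Ins.ts (nat_lit 0) [nat_lit 0,nat_lit 2,nat_lit 0] [nat_lit 2],Ins.ts (nat_lit 3) [nat_lit 2,nat_lit 0] []] [] (Cert.rep (nat_lit 1) [nat_lit 32] [nat_lit 256,nat_lit 32,nat_lit 16,nat_lit 8,nat_lit 4,nat_lit 2,nat_lit 1] [] (Cert.rep (nat_lit 8) [nat_lit 2] [] [] (Cert.rep (nat_lit 16) [] [] [] Cert.nil Cert.nil) Cert.nil) Cert.nil))))) Cert.nil)) (Cert.rep (nat_lit 4) [] [] [] Cert.nil (Cert.rep (nat_lit 6) [nat_lit 2,nat_lit 4] [] [] (Cert.rep (nat_lit 256) [] [] [] (Cert.er (Cert.ro (nat_lit 0) [nat_lit 1,nat_lit 8,nat_lit 16] [nat_lit 8,nat_lit 9,nat_lit 16] [nat_lit 0,nat_lit 1,nat_lit 6,nat_lit 7,nat_lit 8,nat_lit 9,nat_lit 14,nat_lit 15] (Cert.ro (nat_lit 1) [nat_lit 1,nat_lit 2,nat_lit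 14,nat_lit 16] [nat_lit 1,nat_lit 14,nat_lit 12,nat_lit 16] [nat_lit 0,nat_lit 1,nat_lit 17,nat_lit 16,nat_lit 262,nat_lit 263,nat_lit 278,nat_lit 279,nat_lit 8,nat_lit 9,nat_lit 25,nat_lit 24,nat_lit 270,nat_lit 271,nat_lit 286,nat_lit 287] (Cert.lf (Leaf.st (nat_lit 2) (nat_lit 1) (nat_lit 5) (Leaf.cf (nat_lit 14))))))) (Cert.rep (nat_lit 264) [] [] [] (Cert.er (Cert.ro (nat_lit 0) [nat_lit 1,nat_lit 8,nat_lit 16] [nat_lit 8,nat_lit 9,nat_lit 16] [nat_lit 0,nat_lit 1,nat_lit 6,nat_lit 7,nat_lit 8,nat_lit 9,nat_lit 14,nat_lit 15] (Cert.ro (nat_lit 1) [nat_lit 1,nat_lit 2,nat_lit 14,nat_lit 16] [nat_lit 1,nat_lit 14,nat_lit 12,nat_lit 16] [nat_lit 0,nat_lit 1,nat_lit 17,nat_lit 16,nat_lit 270,nat_lit 271,nat_lit 286,nat_lit 287,nat_lit 8,nat_lit 9,nat_lit 25,nat_lit 24,nat_lit 262,nat_lit 263,nat_lit 278,nat_lit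 279] (Cert.lf (Leaf.st (nat_lit 2) (nat_lit 1) (nat_lit 5) (Leaf.cf (nat_lit 14))))))) Cert.nil)) (Cert.rep (nat_lit 9) [] [] [] Cert.nil (Cert.rep (nat_lit 10) [nat_lit 2,nat_lit 4] [] [] (Cert.rep (nat_lit 260) [] [] [] (Cert.er (Cert.ro (nat_lit 0) [nat_lit 1,nat_lit 8,nat_lit 16] [nat_lit 8,nat_lit 9,nat_lit 16] [nat_lit 0,nat_lit 1,nat_lit 10,nat_lit 11,nat_lit 8,nat_lit 9,nat_lit 2,nat_lit 3] (Cert.ro (nat_lit 1) [nat_lit 1,nat_lit 2,nat_lit 14,nat_lit 16] [nat_lit 1,nat_lit 14,nat_lit 12,nat_lit 16] [nat_lit 0,nat_lit 1,nat_lit 16,nat_lit 17,nat_lit 270,nat_lit 271,nat_lit 287,nat_lit 286,nat_lit 8,nat_lit 9,nat_lit 24,nat_lit 25,nat_lit 262,nat_lit 263,nat_lit 279,nat_lit 278] (Cert.lf (Leaf.st (nat_lit 2) (nat_lit 1) (nat_lit 1) (Leaf.cf (nat_lit 1))))))) (Cert.rep (nat_lit 268) [] [] [] (Cert.er (Cert.ro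 (nat_lit 0) [nat_lit 1,nat_lit 8,nat_lit 16] [nat_lit 8,nat_lit 9,nat_lit 16] [nat_lit 0,nat_lit 1,nat_lit 10,nat_lit 11,nat_lit 8,nat_lit 9,nat_lit 2,nat_lit 3] (Cert.ro (nat_lit 1) [nat_lit 1,nat_lit 2,nat_lit 14,nat_lit 16] [nat_lit 1,nat_lit 14,nat_lit 12,nat_lit 16] [nat_lit 0,nat_lit 1,nat_lit 16,nat_lit 17,nat_lit 262,nat_lit 263,nat_lit 279,nat_lit 278,nat_lit 8,nat_lit 9,nat_lit 24,nat_lit 25,nat_lit 270,nat_lit 271,nat_lit 287,nat_lit 286] (Cert.lf (Leaf.st (nat_lit 2) (nat_lit 1) (nat_lit 1) (Leaf.cf (nat_lit 1))))))) Cert.nil)) (Cert.rep (nat_lit 12) [] [] [] Cert.nil (Cert.rep (nat_lit 14) [nat_lit 2,nat_lit 4] [] [] (Cert.rep (nat_lit 256) [] [] [] (Cert.er (Cert.ro (nat_lit 0) [nat_lit 1,nat_lit 8,nat_lit 16] [nat_lit 8,nat_lit 9,nat_lit 16] [nat_lit 0,nat_lit 1,nat_lit 14,nat_lit 15,nat_lit 8,nat_lit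 9,nat_lit 6,nat_lit 7] (Cert.ro (nat_lit 1) [nat_lit 1,nat_lit 2,nat_lit 14,nat_lit 16] [nat_lit 1,nat_lit 14,nat_lit 12,nat_lit 16] [nat_lit 0,nat_lit 1,nat_lit 17,nat_lit 16,nat_lit 270,nat_lit 271,nat_lit 286,nat_lit 287,nat_lit 8,nat_lit 9,nat_lit 25,nat_lit 24,nat_lit 262,nat_lit 263,nat_lit 278,nat_lit 279] (Cert.lf (Leaf.st (nat_lit 2) (nat_lit 1) (nat_lit 5) (Leaf.cf (nat_lit 6))))))) (Cert.rep (nat_lit 264) [] [] [] (Cert.er (Cert.ro (nat_lit 0) [nat_lit 1,nat_lit 8,nat_lit 16] [nat_lit 8,nat_lit 9,nat_lit 16] [nat_lit 0,nat_lit 1,nat_lit 14,nat_lit 15,nat_lit 8,nat_lit 9,nat_lit 6,nat_lit 7] (Cert.ro (nat_lit 1) [nat_lit 1,nat_lit 2,nat_lit 14,nat_lit 16] [nat_lit 1,nat_lit 14,nat_lit 12,nat_lit 16] [nat_lit 0,nat_lit 1,nat_lit 17,nat_lit 16,nat_lit 262,nat_lit 263,nat_lit 278,nat_lit 279,nat_lit 8,nat_lit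 9,nat_lit 25,nat_lit 24,nat_lit 270,nat_lit 271,nat_lit 286,nat_lit 287] (Cert.lf (Leaf.st (nat_lit 2) (nat_lit 1) (nat_lit 5) (Leaf.cf (nat_lit 6))))))) Cert.nil)) (Cert.rep (nat_lit 258) [] [] [] Cert.nil (Cert.rep (nat_lit 266) [] [] [] Cert.nil Cert.nil))))))))
noncomputable def f37 : Cert :=
  (Cert.st (nat_lit 0) (nat_lit 8) (nat_lit 0) (Cert.sp (nat_lit 1) (Cert.lf (Leaf.pt (nat_lit 7) (nat_lit 1) [nat_lit 8,nat_lit 16])) (Cert.sp (nat_lit 2) (Cert.lf (Leaf.pt (nat_lit 0) (nat_lit 2) [nat_lit 96])) (Cert.st (nat_lit 0) (nat_lit 2) (nat_lit 0) (Cert.sp (nat_lit 4) (Cert.lf (Leaf.pt (nat_lit 7) (nat_lit 4) [nat_lit 8,nat_lit 16])) (Cert.st (nat_lit 0) (nat_lit 4) (nat_lit 0) (Cert.sp (nat_lit 12) (Cert.lf (Leaf.pt (nat_lit 7) (nat_lit 12) [nat_lit 8,nat_lit 16])) (Cert.st (nat_lit 0) (nat_lit 12) (nat_lit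 0) (Cert.sp (nat_lit 14) (Cert.lf (Leaf.pt (nat_lit 11) (nat_lit 14) [nat_lit 2,nat_lit 64,nat_lit 1])) (Cert.st (nat_lit 0) (nat_lit 14) (nat_lit 0) (Cert.sp (nat_lit 44) (Cert.lf (Leaf.pt (nat_lit 11) (nat_lit 44) [nat_lit 12,nat_lit 84,nat_lit 1])) (Cert.st (nat_lit 0) (nat_lit 44) (nat_lit 0) (Cert.sp (nat_lit 68) (Cert.lf (Leaf.st (nat_lit 1) (nat_lit 16) (nat_lit 68) (Leaf.pt (nat_lit 7) (nat_lit 68) [nat_lit 104,nat_lit 130]))) (Cert.st (nat_lit 0) (nat_lit 68) (nat_lit 0) (Cert.sp (nat_lit 69) (Cert.lf (Leaf.pt (nat_lit 11) (nat_lit 69) [nat_lit 1,nat_lit 130,nat_lit 12])) (Cert.st (nat_lit 0) (nat_lit 69) (nat_lit 0) (Cert.sp (nat_lit 72) (Cert.lf (Leaf.pt (nat_lit 11) (nat_lit 72) [nat_lit 12,nat_lit 130,nat_lit 1])) (Cert.st (nat_lit 0) (nat_lit 72) (nat_lit 0) (Cert.sp (nat_lit 73) (Cert.lf (Leaf.pt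 (nat_lit 11) (nat_lit 73) [nat_lit 1,nat_lit 130,nat_lit 12])) (Cert.st (nat_lit 0) (nat_lit 73) (nat_lit 0) (Cert.sp (nat_lit 266) (Cert.lf (Leaf.pt (nat_lit 7) (nat_lit 266) [nat_lit 8,nat_lit 20])) (Cert.st (nat_lit 0) (nat_lit 266) (nat_lit 0) (Cert.sp (nat_lit 516) (Cert.lf (Leaf.st (nat_lit 1) (nat_lit 48) (nat_lit 516) (Leaf.pt (nat_lit 7) (nat_lit 516) [nat_lit 517,nat_lit 202]))) (Cert.st (nat_lit 0) (nat_lit 516) (nat_lit 0) (Cert.sp (nat_lit 536) (Cert.lf (Leaf.st (nat_lit 1) (nat_lit 48) (nat_lit 536) (Leaf.pt (nat_lit 7) (nat_lit 536) [nat_lit 537,nat_lit 202]))) (Cert.st (nat_lit 0) (nat_lit 536) (nat_lit 0) (Cert.sp (nat_lit 576) (Cert.lf (Leaf.st (nat_lit 1) (nat_lit 16) (nat_lit 576) (Leaf.pt (nat_lit 7) (nat_lit 576) [nat_lit 577,nat_lit 198]))) (Cert.st (nat_lit 0) (nat_lit 576) (nat_lit 0)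 (Cert.nl (nat_lit 1) (Cert.sy (nat_lit 0) (Cert.root (nat_lit 32) [] [nat_lit 8,nat_lit 4] [nat_lit 0,nat_lit 1,nat_lit 2,nat_lit 3,nat_lit 4] [Ins.fr [nat_lit 0],Ins.ts (nat_lit 0) [nat_lit 0,nat_lit 0] [],Ins.ts (nat_lit 1) [nat_lit 0] [],Ins.ts (nat_lit 1) [nat_lit 0,nat_lit 1] [],Ins.fr [nat_lit 1],Ins.ts (nat_lit 1) [nat_lit 0,nat_lit 0] [],Ins.ts (nat_lit 0) [nat_lit 1,nat_lit 0,nat_lit 1] [nat_lit 0,nat_lit 0,nat_lit 0],Ins.ts (nat_lit 1) [nat_lit 0,nat_lit 0,nat_lit 0,nat_lit 0] [],Ins.df [nat_lit 0,nat_lit 0],Ins.df [nat_lit 0,nat_lit 0]] (Cert.rep (nat_lit 8) [nat_lit 2,nat_lit 4,nat_lit 16,nat_lit 256] [nat_lit 256,nat_lit 16,nat_lit 8,nat_lit 4,nat_lit 2,nat_lit 1] [nat_lit 512,nat_lit 64,nat_lit 192,nat_lit 32] (Cert.rep (nat_lit 1) [] [] [] Cert.nil f37_1) Cert.nil))))))))))))))))))))))))))))))))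
theorem fin37 : finOK DB PT 88 t88 37 t37 (nat_lit 0x30000300030030000030003300030000c000c0000c000c0000cc000c000000cc000000c000cc00000c000c00c000c003000300000030003003003000300003030c03c0000c30c030000000000000000000000000000000000cc00cc0c0c0c0c0330033003300330c00c3003c00c300300000ff000000ff0c33cf00fccccffff) f37 = true := by
  decide +kernel

end Cfsg.Agent.L3S.Dat
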