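import Mathlib
import Cfsg.Agent.L33.DAll
import Cfsg.Agent.L3S.EF

/-!
Certificates for the Sylow subgroups.
-/

set_option autoImplicit false
set_option maxRecDepth 100000

namespace Cfsg.Agent.L3S.Dat

open Cfsg.Agent.L33 Cfsg.Agent.L33.Dat Cfsg.Agent.L3S

noncomputable def f2_0 : Cert :=
  Cert.s2 (nat_lit 0) (nat_lit 10) (Cert.o1 (nat_lit 0) (nat_lit 10) (Cert.fu (nat_lit 4) (nat_lit 1) (nat_lit 0) (nat_lit 0) [] [nat_lit 10,nat_lit 1,nat_lit 18,nat_lit 64] [] [] [] [nat_lit 1] [[nat_lit 1]] [[nat_lit 10]] [Ins.fr [nat_lit 0],Ins.ts (nat_lit 3) [nat_lit 0] [],Ins.ts (nat_lit 4) [nat_lit 0] [nat_lit 0,nat_lit 0,nat_lit 0],Ins.ts (nat_lit 1) [nat_lit 0] [],Ins.fr [nat_lit 1],Ins.ts (nat_lit 3) [nat_lit 0] [],Ins.ts (nat_lit 0) [nat_lit 0,nat_lit 0] [],Ins.ts (nat_lit 1) [nat_lit 0] [],Ins.ts (nat_lit 1) [nat_lit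 0,nat_lit 1] [],Ins.fr [nat_lit 0,nat_lit 2],Ins.ts (nat_lit 0) [nat_lit 0,nat_lit 0] [nat_lit 1],Ins.fr [nat_lit 2,nat_lit 3,nat_lit 0],Ins.ts (nat_lit 0) [nat_lit 0,nat_lit 0] [nat_lit 2]] [] (Cert.rep (nat_lit 4) [] [nat_lit 8,nat_lit 4,nat_lit 2,nat_lit 1] [nat_lit 128,nat_lit 64,nat_lit 32,nat_lit 16] (Cert.rep (nat_lit 1) [nat_lit 2,nat_lit 8] [] [] (Cert.rep (nat_lit 2) [nat_lit 4] [] [] (Cert.rep (nat_lit 36) [] [] [] Cert.nil (Cert.rep (nat_lit 37) [] [] [] Cert.nil Cert.nil)) (Cert.rep (nat_lit 10) [] [] [] Cert.nil Cert.nil)) Cert.nil) (Cert.rep (nat_lit 14) [] [nat_lit 98,nat_lit 16,nat_lit 10,nat_lit 4,nat_lit 1] [nat_lit 128,nat_lit 32,nat_lit 2] (Cert.rep (nat_lit 1) [nat_lit 4,nat_lit 16,nat_lit 98] [] [] (Cert.rep (nat_lit 10) [] [] [] Cert.nil Cert.nil) Cert.nil) Cert.nil)))) (Cert.root (nat_lit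 16) [] [nat_lit 8,nat_lit 4] [nat_lit 0,nat_lit 1,nat_lit 2,nat_lit 3,nat_lit 4] [Ins.fr [nat_lit 0],Ins.ts (nat_lit 0) [nat_lit 0,nat_lit 0] [],Ins.ts (nat_lit 1) [nat_lit 0] [],Ins.ts (nat_lit 1) [nat_lit 0,nat_lit 1] [],Ins.fr [nat_lit 1],Ins.ts (nat_lit 1) [nat_lit 0,nat_lit 0] [],Ins.ts (nat_lit 1) [nat_lit 0,nat_lit 0,nat_lit 0,nat_lit 0] [],Ins.ts (nat_lit 0) [nat_lit 1,nat_lit 0,nat_lit 1] [nat_lit 0,nat_lit 0,nat_lit 0],Ins.df [nat_lit 0,nat_lit 0],Ins.df [nat_lit 0,nat_lit 0]] (Cert.rep (nat_lit 4) [nat_lit 2,nat_lit 8] [nat_lit 8,nat_lit 4,nat_lit 2,nat_lit 1] [nat_lit 128,nat_lit 64,nat_lit 32,nat_lit 16] (Cert.rep (nat_lit 1) [] [] [] Cert.nil (Cert.rep (nat_lit 2) [] [] [] Cert.nil (Cert.rep (nat_lit 5) [] [] [] Cert.nil (Cert.rep (nat_lit 6) [] [] [] Cert.nil (Cert.rep (nat_lit 10) [] [] [] Cert.nil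 (Cert.rep (nat_lit 14) [] [] [] Cert.nil Cert.nil)))))) (Cert.rep (nat_lit 14) [nat_lit 4,nat_lit 16,nat_lit 98] [nat_lit 98,nat_lit 16,nat_lit 10,nat_lit 4,nat_lit 1] [nat_lit 128,nat_lit 32,nat_lit 2] (Cert.rep (nat_lit 1) [] [] [] Cert.nil (Cert.rep (nat_lit 4) [nat_lit 4] [] [] (Cert.rep (nat_lit 98) [] [] [] (Cert.er (Cert.ro (nat_lit 0) [nat_lit 1,nat_lit 8,nat_lit 16] [nat_lit 8,nat_lit 9,nat_lit 16] [nat_lit 0,nat_lit 1,nat_lit 4,nat_lit 5,nat_lit 14,nat_lit 15,nat_lit 10,nat_lit 11] (Cert.ro (nat_lit 1) [nat_lit 1,nat_lit 2,nat_lit 14,nat_lit 16] [nat_lit 1,nat_lit 14,nat_lit 12,nat_lit 16] [nat_lit 0,nat_lit 1,nat_lit 27,nat_lit 26,nat_lit 102,nat_lit 103,nat_lit 124,nat_lit 125,nat_lit 14,nat_lit 15,nat_lit 21,nat_lit 20,nat_lit 105,nat_lit 104,nat_lit 115,nat_lit 114] (Cert.lf (Leaf.st (nat_lit 2) (nat_lit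 1) (nat_lit 1) (Leaf.cf (nat_lit 1))))))) (Cert.rep (nat_lit 99) [] [] [] (Cert.er (Cert.ro (nat_lit 0) [nat_lit 1,nat_lit 8,nat_lit 16] [nat_lit 8,nat_lit 9,nat_lit 16] [nat_lit 0,nat_lit 1,nat_lit 4,nat_lit 5,nat_lit 14,nat_lit 15,nat_lit 10,nat_lit 11] (Cert.ro (nat_lit 1) [nat_lit 1,nat_lit 2,nat_lit 14,nat_lit 16] [nat_lit 1,nat_lit 14,nat_lit 12,nat_lit 16] [nat_lit 0,nat_lit 1,nat_lit 27,nat_lit 26,nat_lit 103,nat_lit 102,nat_lit 125,nat_lit 124,nat_lit 14,nat_lit 15,nat_lit 21,nat_lit 20,nat_lit 104,nat_lit 105,nat_lit 114,nat_lit 115] (Cert.lf (Leaf.st (nat_lit 2) (nat_lit 1) (nat_lit 1) (Leaf.cf (nat_lit 1))))))) (Cert.rep (nat_lit 108) [] [] [] (Cert.er (Cert.ro (nat_lit 0) [nat_lit 1,nat_lit 8,nat_lit 16] [nat_lit 8,nat_lit 9,nat_lit 16] [nat_lit 0,nat_lit 1,nat_lit 4,nat_lit 5,nat_lit 14,nat_lit 15,nat_lit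 10,nat_lit 11] (Cert.ro (nat_lit 1) [nat_lit 1,nat_lit 2,nat_lit 14,nat_lit 16] [nat_lit 1,nat_lit 14,nat_lit 12,nat_lit 16] [nat_lit 0,nat_lit 1,nat_lit 27,nat_lit 26,nat_lit 104,nat_lit 105,nat_lit 114,nat_lit 115,nat_lit 14,nat_lit 15,nat_lit 21,nat_lit 20,nat_lit 103,nat_lit 102,nat_lit 125,nat_lit 124] (Cert.lf (Leaf.st (nat_lit 2) (nat_lit 1) (nat_lit 1) (Leaf.cf (nat_lit 1))))))) (Cert.rep (nat_lit 109) [] [] [] (Cert.er (Cert.ro (nat_lit 0) [nat_lit 1,nat_lit 8,nat_lit 16] [nat_lit 8,nat_lit 9,nat_lit 16] [nat_lit 0,nat_lit 1,nat_lit 4,nat_lit 5,nat_lit 14,nat_lit 15,nat_lit 10,nat_lit 11] (Cert.ro (nat_lit 1) [nat_lit 1,nat_lit 2,nat_lit 14,nat_lit 16] [nat_lit 1,nat_lit 14,nat_lit 12,nat_lit 16] [nat_lit 0,nat_lit 1,nat_lit 27,nat_lit 26,nat_lit 105,nat_lit 104,nat_lit 115,nat_lit 114,nat_lit 14,nat_lit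 15,nat_lit 21,nat_lit 20,nat_lit 102,nat_lit 103,nat_lit 124,nat_lit 125] (Cert.lf (Leaf.st (nat_lit 2) (nat_lit 1) (nat_lit 1) (Leaf.cf (nat_lit 1))))))) Cert.nil)))) (Cert.rep (nat_lit 10) [nat_lit 4] [] [] (Cert.rep (nat_lit 98) [] [] [] (Cert.er (Cert.ro (nat_lit 0) [nat_lit 1,nat_lit 8,nat_lit 16] [nat_lit 8,nat_lit 9,nat_lit 16] [nat_lit 0,nat_lit 1,nat_lit 10,nat_lit 11,nat_lit 14,nat_lit 15,nat_lit 4,nat_lit 5] (Cert.ro (nat_lit 1) [nat_lit 1,nat_lit 2,nat_lit 14,nat_lit 16] [nat_lit 1,nat_lit 14,nat_lit 12,nat_lit 16] [nat_lit 0,nat_lit 1,nat_lit 27,nat_lit 26,nat_lit 105,nat_lit 104,nat_lit 115,nat_lit 114,nat_lit 14,nat_lit 15,nat_lit 21,nat_lit 20,nat_lit 102,nat_lit 103,nat_lit 124,nat_lit 125] (Cert.kw (nat_lit 2) (nat_lit 0) (nat_lit 2) (nat_lit 1) )))) (Cert.rep (nat_lit 99) [] [] [] (Cert.er (Cert.ro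 (nat_lit 0) [nat_lit 1,nat_lit 8,nat_lit 16] [nat_lit 8,nat_lit 9,nat_lit 16] [nat_lit 0,nat_lit 1,nat_lit 10,nat_lit 11,nat_lit 14,nat_lit 15,nat_lit 4,nat_lit 5] (Cert.ro (nat_lit 1) [nat_lit 1,nat_lit 2,nat_lit 14,nat_lit 16] [nat_lit 1,nat_lit 14,nat_lit 12,nat_lit 16] [nat_lit 0,nat_lit 1,nat_lit 27,nat_lit 26,nat_lit 104,nat_lit 105,nat_lit 114,nat_lit 115,nat_lit 14,nat_lit 15,nat_lit 21,nat_lit 20,nat_lit 103,nat_lit 102,nat_lit 125,nat_lit 124] (Cert.kw (nat_lit 2) (nat_lit 0) (nat_lit 2) (nat_lit 1) )))) (Cert.rep (nat_lit 108) [] [] [] (Cert.er (Cert.ro (nat_lit 0) [nat_lit 1,nat_lit 8,nat_lit 16] [nat_lit 8,nat_lit 9,nat_lit 16] [nat_lit 0,nat_lit 1,nat_lit 10,nat_lit 11,nat_lit 14,nat_lit 15,nat_lit 4,nat_lit 5] (Cert.ro (nat_lit 1) [nat_lit 1,nat_lit 2,nat_lit 14,nat_lit 16] [nat_lit 1,nat_lit 14,nat_lit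 12,nat_lit 16] [nat_lit 0,nat_lit 1,nat_lit 27,nat_lit 26,nat_lit 103,nat_lit 102,nat_lit 125,nat_lit 124,nat_lit 14,nat_lit 15,nat_lit 21,nat_lit 20,nat_lit 104,nat_lit 105,nat_lit 114,nat_lit 115] (Cert.kw (nat_lit 2) (nat_lit 0) (nat_lit 2) (nat_lit 1) )))) (Cert.rep (nat_lit 109) [] [] [] (Cert.er (Cert.ro (nat_lit 0) [nat_lit 1,nat_lit 8,nat_lit 16] [nat_lit 8,nat_lit 9,nat_lit 16] [nat_lit 0,nat_lit 1,nat_lit 10,nat_lit 11,nat_lit 14,nat_lit 15,nat_lit 4,nat_lit 5] (Cert.ro (nat_lit 1) [nat_lit 1,nat_lit 2,nat_lit 14,nat_lit 16] [nat_lit 1,nat_lit 14,nat_lit 12,nat_lit 16] [nat_lit 0,nat_lit 1,nat_lit 27,nat_lit 26,nat_lit 102,nat_lit 103,nat_lit 124,nat_lit 125,nat_lit 14,nat_lit 15,nat_lit 21,nat_lit 20,nat_lit 105,nat_lit 104,nat_lit 115,nat_lit 114] (Cert.kw (nat_lit 2) (nat_lit 0) (nat_lit 2) (nat_lit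 1) )))) Cert.nil)))) (Cert.rep (nat_lit 15) [] [] [] Cert.nil Cert.nil)))) Cert.nil)))
noncomputable def f2 : Cert :=
  (Cert.st (nat_lit 0) (nat_lit 4) (nat_lit 0) (Cert.st (nat_lit 0) (nat_lit 14) (nat_lit 0) (Cert.sp (nat_lit 1) (Cert.lf (Leaf.pt (nat_lit 10) (nat_lit 1) [nat_lit 8,nat_lit 4])) (Cert.sp (nat_lit 2) (Cert.lf (Leaf.pt (nat_lit 10) (nat_lit 2) [nat_lit 36,nat_lit 1])) (Cert.st (nat_lit 0) (nat_lit 2) (nat_lit 0) (Cert.sp (nat_lit 10) (Cert.lf (Leaf.pt (nat_lit 5) (nat_lit 10) [nat_lit 4])) (Cert.st (nat_lit 0) (nat_lit 10) (nat_lit 0) (Cert.nl (nat_lit 1) (Cert.sy (nat_lit 0) f2_0)))))))))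
theorem fin2 : finOK DB PT 34 t34 2 t2 (nat_lit 0x30c00000303000f00000ff0c3ccff) f2 = true := by
  decide +kernel
noncomputable def f4_0 : Cert :=
  Cert.rep (nat_lit 108) [] [] [] (Cert.er (Cert.ro (nat_lit 0) [nat_lit 1,nat_lit 8,nat_lit 16] [nat_lit 8,nat_lit 9,nat_lit 16] [nat_lit 0,nat_lit 1,nat_lit 10,nat_lit 11,nat_lit 14,nat_lit 15,nat_lit 4,nat_lit 5] (Cert.ro (nat_lit 1) [nat_lit 1,nat_lit 2,nat_lit 14,nat_lit 16] [nat_lit 1,nat_lit 14,nat_lit 12,nat_lit 16] [nat_lit 0,nat_lit 1,nat_lit 27,nat_lit 26,nat_lit 103,nat_lit 102,nat_lit 125,nat_lit 124,nat_lit 14,nat_lit 15,nat_lit 21,nat_lit 20,nat_lit 104,nat_lit 105,nat_lit 114,nat_lit 115] (Cert.lw (nat_lit 0) (nat_lit 2) (nat_lit 1) (Cert.s2 (nat_lit 0) (nat_lit 2) (Cert.o1 (nat_lit 0) (nat_lit 2) (Cert.fu (nat_lit 4) (nat_lit 1) (nat_lit 0) (nat_lit 0)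 [] [nat_lit 2,nat_lit 1,nat_lit 24,nat_lit 32,nat_lit 64] [] [] [] [nat_lit 1] [[nat_lit 1]] [[nat_lit 2]] [Ins.fr [nat_lit 0],Ins.ts (nat_lit 3) [nat_lit 0] [],Ins.ts (nat_lit 4) [nat_lit 0] [nat_lit 0,nat_lit 0,nat_lit 0],Ins.ts (nat_lit 1) [nat_lit 0] [],Ins.fr [nat_lit 1],Ins.ts (nat_lit 3) [nat_lit 0] [],Ins.ts (nat_lit 0) [nat_lit 0,nat_lit 0] [],Ins.ts (nat_lit 1) [nat_lit 0] [],Ins.ts (nat_lit 1) [nat_lit 0,nat_lit 1] [],Ins.fr [nat_lit 0,nat_lit 2],Ins.ts (nat_lit 0) [nat_lit 0,nat_lit 0] [nat_lit 1],Ins.fr [nat_lit 2,nat_lit 3],Ins.ts (nat_lit 2) [nat_lit 0] [],Ins.ts (nat_lit 0) [nat_lit 0,nat_lit 0] [],Ins.ts (nat_lit 0) [nat_lit 2,nat_lit 0] [nat_lit 0,nat_lit 2],Ins.fr [nat_lit 1,nat_lit 4],Ins.ts (nat_lit 0) [nat_lit 0,nat_lit 0] [nat_lit 3],Ins.ts (nat_lit 0) [nat_lit 5,nat_lit 1,nat_lit 0] [nat_lit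 0,nat_lit 1,nat_lit 5]] [] (Cert.rep (nat_lit 4) [] [nat_lit 8,nat_lit 4,nat_lit 2,nat_lit 1] [nat_lit 128,nat_lit 64,nat_lit 32,nat_lit 16] (Cert.rep (nat_lit 1) [nat_lit 2,nat_lit 8] [] [] (Cert.rep (nat_lit 2) [nat_lit 4] [] [] (Cert.rep (nat_lit 36) [] [] [] (Cert.rep (nat_lit 28) [] [] [] Cert.nil (Cert.rep (nat_lit 29) [] [] [] Cert.nil (Cert.rep (nat_lit 30) [] [] [] Cert.nil (Cert.rep (nat_lit 31) [] [] [] Cert.nil Cert.nil)))) (Cert.rep (nat_lit 37) [] [] [] (Cert.rep (nat_lit 28) [] [] [] Cert.nil (Cert.rep (nat_lit 29) [] [] [] Cert.nil (Cert.rep (nat_lit 30) [] [] [] Cert.nil (Cert.rep (nat_lit 31) [] [] [] Cert.nil Cert.nil)))) Cert.nil)) (Cert.rep (nat_lit 10) [] [] [] Cert.nil Cert.nil)) Cert.nil) (Cert.rep (nat_lit 14) [] [nat_lit 98,nat_lit 16,nat_lit 10,nat_lit 4,nat_lit 1] [nat_lit 128,nat_lit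 32,nat_lit 2] (Cert.rep (nat_lit 1) [nat_lit 4,nat_lit 16,nat_lit 98] [] [] (Cert.rep (nat_lit 10) [] [] [] Cert.nil Cert.nil) Cert.nil) Cert.nil)))) (Cert.nl (nat_lit 14) (Cert.sy (nat_lit 0) (Cert.o1 (nat_lit 0) (nat_lit 4) (Cert.fu (nat_lit 4) (nat_lit 4) (nat_lit 14) (nat_lit 0) [nat_lit 0] [nat_lit 3] [] [] [nat_lit 98,nat_lit 16,nat_lit 10,nat_lit 4,nat_lit 1] [nat_lit 1] [] [[nat_lit 4]] [Ins.fr [nat_lit 0],Ins.ts (nat_lit 3) [nat_lit 0] [],Ins.ts (nat_lit 0) [nat_lit 0,nat_lit 0] [],Ins.ts (nat_lit 4) [nat_lit 0] [nat_lit 0,nat_lit 0,nat_lit 1],Ins.ts (nat_lit 1) [nat_lit 0] []] [(nat_lit 3,nat_lit 2)] (Cert.rep (nat_lit 14) [] [nat_lit 98,nat_lit 16,nat_lit 10,nat_lit 4,nat_lit 1] [] Cert.nil Cert.nil)))))))))) (Cert.rep (nat_lit 109) [] [] [] (Cert.er (Cert.ro (nat_lit 0) [nat_lit 1,nat_lit 8,nat_lit 16]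 [nat_lit 8,nat_lit 9,nat_lit 16] [nat_lit 0,nat_lit 1,nat_lit 10,nat_lit 11,nat_lit 14,nat_lit 15,nat_lit 4,nat_lit 5] (Cert.ro (nat_lit 1) [nat_lit 1,nat_lit 2,nat_lit 14,nat_lit 16] [nat_lit 1,nat_lit 14,nat_lit 12,nat_lit 16] [nat_lit 0,nat_lit 1,nat_lit 27,nat_lit 26,nat_lit 102,nat_lit 103,nat_lit 124,nat_lit 125,nat_lit 14,nat_lit 15,nat_lit 21,nat_lit 20,nat_lit 105,nat_lit 104,nat_lit 115,nat_lit 114] (Cert.lw (nat_lit 0) (nat_lit 2) (nat_lit 1) (Cert.s2 (nat_lit 0) (nat_lit 2) (Cert.o1 (nat_lit 0) (nat_lit 2) (Cert.fu (nat_lit 4) (nat_lit 1) (nat_lit 0) (nat_lit 0) [] [nat_lit 2,nat_lit 1,nat_lit 24,nat_lit 32,nat_lit 64] [] [] [] [nat_lit 1] [[nat_lit 1]] [[nat_lit 2]] [Ins.fr [nat_lit 0],Ins.ts (nat_lit 3) [nat_lit 0] [],Ins.ts (nat_lit 4) [nat_lit 0] [nat_lit 0,nat_lit 0,nat_lit 0],Ins.ts (nat_lit 1)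 [nat_lit 0] [],Ins.fr [nat_lit 1],Ins.ts (nat_lit 3) [nat_lit 0] [],Ins.ts (nat_lit 0) [nat_lit 0,nat_lit 0] [],Ins.ts (nat_lit 1) [nat_lit 0] [],Ins.ts (nat_lit 1) [nat_lit 0,nat_lit 1] [],Ins.fr [nat_lit 0,nat_lit 2],Ins.ts (nat_lit 0) [nat_lit 0,nat_lit 0] [nat_lit 1],Ins.fr [nat_lit 2,nat_lit 3],Ins.ts (nat_lit 2) [nat_lit 0] [],Ins.ts (nat_lit 0) [nat_lit 0,nat_lit 0] [],Ins.ts (nat_lit 0) [nat_lit 2,nat_lit 0] [nat_lit 0,nat_lit 2],Ins.fr [nat_lit 1,nat_lit 4],Ins.ts (nat_lit 0) [nat_lit 0,nat_lit 0] [nat_lit 3],Ins.ts (nat_lit 0) [nat_lit 5,nat_lit 1,nat_lit 0] [nat_lit 0,nat_lit 1,nat_lit 5]] [] (Cert.rep (nat_lit 4) [] [nat_lit 8,nat_lit 4,nat_lit 2,nat_lit 1] [nat_lit 128,nat_lit 64,nat_lit 32,nat_lit 16] (Cert.rep (nat_lit 1) [nat_lit 2,nat_lit 8] [] [] (Cert.rep (nat_lit 2) [nat_lit 4] [] [] (Cert.rep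 (nat_lit 36) [] [] [] (Cert.rep (nat_lit 28) [] [] [] Cert.nil (Cert.rep (nat_lit 29) [] [] [] Cert.nil (Cert.rep (nat_lit 30) [] [] [] Cert.nil (Cert.rep (nat_lit 31) [] [] [] Cert.nil Cert.nil)))) (Cert.rep (nat_lit 37) [] [] [] (Cert.rep (nat_lit 28) [] [] [] Cert.nil (Cert.rep (nat_lit 29) [] [] [] Cert.nil (Cert.rep (nat_lit 30) [] [] [] Cert.nil (Cert.rep (nat_lit 31) [] [] [] Cert.nil Cert.nil)))) Cert.nil)) (Cert.rep (nat_lit 10) [] [] [] Cert.nil Cert.nil)) Cert.nil) (Cert.rep (nat_lit 14) [] [nat_lit 98,nat_lit 16,nat_lit 10,nat_lit 4,nat_lit 1] [nat_lit 128,nat_lit 32,nat_lit 2] (Cert.rep (nat_lit 1) [nat_lit 4,nat_lit 16,nat_lit 98] [] [] (Cert.rep (nat_lit 10) [] [] [] Cert.nil Cert.nil) Cert.nil) Cert.nil)))) (Cert.nl (nat_lit 14) (Cert.sy (nat_lit 0) (Cert.o1 (nat_lit 0) (nat_lit 4) (Cert.fu (nat_lit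 4) (nat_lit 4) (nat_lit 14) (nat_lit 0) [nat_lit 0] [nat_lit 3] [] [] [nat_lit 98,nat_lit 16,nat_lit 10,nat_lit 4,nat_lit 1] [nat_lit 1] [] [[nat_lit 4]] [Ins.fr [nat_lit 0],Ins.ts (nat_lit 3) [nat_lit 0] [],Ins.ts (nat_lit 0) [nat_lit 0,nat_lit 0] [],Ins.ts (nat_lit 4) [nat_lit 0] [nat_lit 0,nat_lit 0,nat_lit 1],Ins.ts (nat_lit 1) [nat_lit 0] []] [(nat_lit 3,nat_lit 2)] (Cert.rep (nat_lit 14) [] [nat_lit 98,nat_lit 16,nat_lit 10,nat_lit 4,nat_lit 1] [] Cert.nil Cert.nil)))))))))) Cert.nil)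
noncomputable def f4_1 : Cert :=
  Cert.rep (nat_lit 14) [nat_lit 4,nat_lit 16,nat_lit 98] [nat_lit 98,nat_lit 16,nat_lit 10,nat_lit 4,nat_lit 1] [nat_lit 128,nat_lit 32,nat_lit 2] (Cert.rep (nat_lit 1) [] [] [] Cert.nil (Cert.rep (nat_lit 4) [nat_lit 4] [] [] (Cert.rep (nat_lit 98) [] [] [] (Cert.er (Cert.ro (nat_lit 0) [nat_lit 1,nat_lit 8,nat_lit 16] [nat_lit 8,nat_lit 9,nat_lit 16] [nat_lit 0,nat_lit 1,nat_lit 4,nat_lit 5,nat_lit 14,nat_lit 15,nat_lit 10,nat_lit 11] (Cert.ro (nat_lit 1) [nat_lit 1,nat_lit 2,nat_lit 14,nat_lit 16] [nat_lit 1,nat_lit 14,nat_lit 12,nat_lit 16] [nat_lit 0,nat_lit 1,nat_lit 27,nat_lit 26,nat_lit 102,nat_lit 103,nat_lit 124,nat_lit 125,nat_lit 14,nat_lit 15,nat_lit 21,nat_lit 20,nat_lit 105,nat_lit 104,nat_lit 115,nat_lit 114] (Cert.lf (Leaf.st (nat_lit 2) (nat_lit 1) (nat_lit 1)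 (Leaf.cf (nat_lit 1))))))) (Cert.rep (nat_lit 99) [] [] [] (Cert.er (Cert.ro (nat_lit 0) [nat_lit 1,nat_lit 8,nat_lit 16] [nat_lit 8,nat_lit 9,nat_lit 16] [nat_lit 0,nat_lit 1,nat_lit 4,nat_lit 5,nat_lit 14,nat_lit 15,nat_lit 10,nat_lit 11] (Cert.ro (nat_lit 1) [nat_lit 1,nat_lit 2,nat_lit 14,nat_lit 16] [nat_lit 1,nat_lit 14,nat_lit 12,nat_lit 16] [nat_lit 0,nat_lit 1,nat_lit 27,nat_lit 26,nat_lit 103,nat_lit 102,nat_lit 125,nat_lit 124,nat_lit 14,nat_lit 15,nat_lit 21,nat_lit 20,nat_lit 104,nat_lit 105,nat_lit 114,nat_lit 115] (Cert.lf (Leaf.st (nat_lit 2) (nat_lit 1) (nat_lit 1) (Leaf.cf (nat_lit 1))))))) (Cert.rep (nat_lit 108) [] [] [] (Cert.er (Cert.ro (nat_lit 0) [nat_lit 1,nat_lit 8,nat_lit 16] [nat_lit 8,nat_lit 9,nat_lit 16] [nat_lit 0,nat_lit 1,nat_lit 4,nat_lit 5,nat_lit 14,nat_lit 15,nat_lit 10,nat_lit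 11] (Cert.ro (nat_lit 1) [nat_lit 1,nat_lit 2,nat_lit 14,nat_lit 16] [nat_lit 1,nat_lit 14,nat_lit 12,nat_lit 16] [nat_lit 0,nat_lit 1,nat_lit 27,nat_lit 26,nat_lit 104,nat_lit 105,nat_lit 114,nat_lit 115,nat_lit 14,nat_lit 15,nat_lit 21,nat_lit 20,nat_lit 103,nat_lit 102,nat_lit 125,nat_lit 124] (Cert.lf (Leaf.st (nat_lit 2) (nat_lit 1) (nat_lit 1) (Leaf.cf (nat_lit 1))))))) (Cert.rep (nat_lit 109) [] [] [] (Cert.er (Cert.ro (nat_lit 0) [nat_lit 1,nat_lit 8,nat_lit 16] [nat_lit 8,nat_lit 9,nat_lit 16] [nat_lit 0,nat_lit 1,nat_lit 4,nat_lit 5,nat_lit 14,nat_lit 15,nat_lit 10,nat_lit 11] (Cert.ro (nat_lit 1) [nat_lit 1,nat_lit 2,nat_lit 14,nat_lit 16] [nat_lit 1,nat_lit 14,nat_lit 12,nat_lit 16] [nat_lit 0,nat_lit 1,nat_lit 27,nat_lit 26,nat_lit 105,nat_lit 104,nat_lit 115,nat_lit 114,nat_lit 14,nat_lit 15,nat_lit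 21,nat_lit 20,nat_lit 102,nat_lit 103,nat_lit 124,nat_lit 125] (Cert.lf (Leaf.st (nat_lit 2) (nat_lit 1) (nat_lit 1) (Leaf.cf (nat_lit 1))))))) Cert.nil)))) (Cert.rep (nat_lit 10) [nat_lit 4] [] [] (Cert.rep (nat_lit 98) [] [] [] (Cert.er (Cert.ro (nat_lit 0) [nat_lit 1,nat_lit 8,nat_lit 16] [nat_lit 8,nat_lit 9,nat_lit 16] [nat_lit 0,nat_lit 1,nat_lit 10,nat_lit 11,nat_lit 14,nat_lit 15,nat_lit 4,nat_lit 5] (Cert.ro (nat_lit 1) [nat_lit 1,nat_lit 2,nat_lit 14,nat_lit 16] [nat_lit 1,nat_lit 14,nat_lit 12,nat_lit 16] [nat_lit 0,nat_lit 1,nat_lit 27,nat_lit 26,nat_lit 105,nat_lit 104,nat_lit 115,nat_lit 114,nat_lit 14,nat_lit 15,nat_lit 21,nat_lit 20,nat_lit 102,nat_lit 103,nat_lit 124,nat_lit 125] (Cert.fu (nat_lit 14) (nat_lit 2) (nat_lit 14) (nat_lit 1) [nat_lit 1] [nat_lit 1,nat_lit 114,nat_lit 20,nat_lit 2] []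 [] [nat_lit 96,nat_lit 16,nat_lit 8,nat_lit 4,nat_lit 2,nat_lit 1] [nat_lit 1] [[nat_lit 27,nat_lit 1]] [[nat_lit 1],[nat_lit 14,nat_lit 1],[nat_lit 114,nat_lit 1]] [Ins.fr [nat_lit 0],Ins.ts (nat_lit 4) [nat_lit 0] [nat_lit 0,nat_lit 0,nat_lit 0],Ins.ts (nat_lit 1) [nat_lit 0] [],Ins.fr [nat_lit 1],Ins.ts (nat_lit 4) [nat_lit 0] [nat_lit 0,nat_lit 0,nat_lit 2],Ins.ts (nat_lit 1) [nat_lit 0] [],Ins.ts (nat_lit 0) [nat_lit 0,nat_lit 0] [nat_lit 1],Ins.fr [nat_lit 2],Ins.ts (nat_lit 0) [nat_lit 0,nat_lit 0] [nat_lit 2],Ins.ts (nat_lit 0) [nat_lit 1,nat_lit 0,nat_lit 1] [nat_lit 0],Ins.fr [nat_lit 2,nat_lit 3],Ins.ts (nat_lit 3) [nat_lit 0] [],Ins.ts (nat_lit 0) [nat_lit 0,nat_lit 0] [],Ins.ts (nat_lit 0) [nat_lit 2,nat_lit 0,nat_lit 2] [nat_lit 0]] [] (Cert.rep (nat_lit 14) [] [nat_lit 98,nat_lit 16,nat_lit 10,nat_lit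 4,nat_lit 1] [nat_lit 2] (Cert.rep (nat_lit 1) [nat_lit 4] [] [] (Cert.rep (nat_lit 26) [nat_lit 20,nat_lit 98] [] [] (Cert.rep (nat_lit 102) [] [] [] Cert.nil (Cert.rep (nat_lit 104) [] [] [] Cert.nil Cert.nil)) Cert.nil) Cert.nil) Cert.nil))))) (Cert.rep (nat_lit 99) [] [] [] (Cert.er (Cert.ro (nat_lit 0) [nat_lit 1,nat_lit 8,nat_lit 16] [nat_lit 8,nat_lit 9,nat_lit 16] [nat_lit 0,nat_lit 1,nat_lit 10,nat_lit 11,nat_lit 14,nat_lit 15,nat_lit 4,nat_lit 5] (Cert.ro (nat_lit 1) [nat_lit 1,nat_lit 2,nat_lit 14,nat_lit 16] [nat_lit 1,nat_lit 14,nat_lit 12,nat_lit 16] [nat_lit 0,nat_lit 1,nat_lit 27,nat_lit 26,nat_lit 104,nat_lit 105,nat_lit 114,nat_lit 115,nat_lit 14,nat_lit 15,nat_lit 21,nat_lit 20,nat_lit 103,nat_lit 102,nat_lit 125,nat_lit 124] (Cert.fu (nat_lit 14) (nat_lit 2) (nat_lit 14) (nat_lit 1) [nat_lit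 1] [nat_lit 1,nat_lit 115,nat_lit 20,nat_lit 2] [] [] [nat_lit 96,nat_lit 16,nat_lit 8,nat_lit 4,nat_lit 2,nat_lit 1] [nat_lit 1] [[nat_lit 27,nat_lit 1]] [[nat_lit 1],[nat_lit 14,nat_lit 1],[nat_lit 115,nat_lit 1]] [Ins.fr [nat_lit 0],Ins.ts (nat_lit 4) [nat_lit 0] [nat_lit 0,nat_lit 0,nat_lit 0],Ins.ts (nat_lit 1) [nat_lit 0] [],Ins.fr [nat_lit 1],Ins.ts (nat_lit 4) [nat_lit 0] [nat_lit 0,nat_lit 0,nat_lit 2],Ins.ts (nat_lit 1) [nat_lit 0] [],Ins.ts (nat_lit 0) [nat_lit 0,nat_lit 0] [nat_lit 1],Ins.fr [nat_lit 2],Ins.ts (nat_lit 0) [nat_lit 0,nat_lit 0] [nat_lit 2],Ins.ts (nat_lit 0) [nat_lit 1,nat_lit 0,nat_lit 1] [nat_lit 0],Ins.fr [nat_lit 2,nat_lit 3],Ins.ts (nat_lit 3) [nat_lit 0] [],Ins.ts (nat_lit 0) [nat_lit 0,nat_lit 0] [],Ins.ts (nat_lit 0) [nat_lit 2,nat_lit 0,nat_lit 2] [nat_lit 0]] [] (Cert.rep (nat_lit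 14) [] [nat_lit 98,nat_lit 16,nat_lit 10,nat_lit 4,nat_lit 1] [nat_lit 2] (Cert.rep (nat_lit 1) [nat_lit 4] [] [] (Cert.rep (nat_lit 26) [nat_lit 20,nat_lit 98] [] [] (Cert.rep (nat_lit 102) [] [] [] Cert.nil (Cert.rep (nat_lit 104) [] [] [] Cert.nil Cert.nil)) Cert.nil) Cert.nil) Cert.nil))))) f4_0)) (Cert.rep (nat_lit 15) [] [] [] Cert.nil Cert.nil)))) Cert.nil
noncomputable def f4 : Cert :=
  (Cert.st (nat_lit 0) (nat_lit 4) (nat_lit 0) (Cert.st (nat_lit 0) (nat_lit 14) (nat_lit 0) (Cert.sp (nat_lit 1) (Cert.lf (Leaf.pt (nat_lit 10) (nat_lit 1) [nat_lit 8,nat_lit 4])) (Cert.sp (nat_lit 2) (Cert.lf (Leaf.pt (nat_lit 10) (nat_lit 2) [nat_lit 36,nat_lit 1])) (Cert.st (nat_lit 0) (nat_lit 2) (nat_lit 0) (Cert.sp (nat_lit 10) (Cert.lf (Leaf.pt (nat_lit 5) (nat_lit 10) [nat_lit 4])) (Cert.st (nat_lit 0) (nat_lit 10)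 (nat_lit 0) (Cert.nl (nat_lit 1) (Cert.sy (nat_lit 0) (Cert.root (nat_lit 16) [] [nat_lit 8,nat_lit 4] [nat_lit 0,nat_lit 1,nat_lit 2,nat_lit 3,nat_lit 4] [Ins.fr [nat_lit 0],Ins.ts (nat_lit 0) [nat_lit 0,nat_lit 0] [],Ins.ts (nat_lit 1) [nat_lit 0] [],Ins.ts (nat_lit 1) [nat_lit 0,nat_lit 1] [],Ins.fr [nat_lit 1],Ins.ts (nat_lit 1) [nat_lit 0,nat_lit 0] [],Ins.ts (nat_lit 1) [nat_lit 0,nat_lit 0,nat_lit 0,nat_lit 0] [],Ins.ts (nat_lit 0) [nat_lit 1,nat_lit 0,nat_lit 1] [nat_lit 0,nat_lit 0,nat_lit 0],Ins.df [nat_lit 0,nat_lit 0],Ins.df [nat_lit 0,nat_lit 0]] (Cert.rep (nat_lit 4) [nat_lit 2,nat_lit 8] [nat_lit 8,nat_lit 4,nat_lit 2,nat_lit 1] [nat_lit 128,nat_lit 64,nat_lit 32,nat_lit 16] (Cert.rep (nat_lit 1) [] [] [] Cert.nil (Cert.rep (nat_lit 2) [] [] [] Cert.nil (Cert.rep (nat_lit 5) [] [] [] Cert.nil (Cert.rep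 (nat_lit 6) [] [] [] Cert.nil (Cert.rep (nat_lit 10) [] [] [] Cert.nil (Cert.rep (nat_lit 14) [] [] [] Cert.nil Cert.nil)))))) f4_1)))))))))))
theorem fin4 : finOK DB PT 34 t34 4 t4 (nat_lit 0x30c00000303000f00000ff0c3ccff) f4 = true := by
  decide +kernel
noncomputable def f6_0 : Cert :=
  Cert.rep (nat_lit 34) [nat_lit 34] [] [] (Cert.rep (nat_lit 42) [] [] [] (Cert.er (Cert.st (nat_lit 0) (nat_lit 72) (nat_lit 0) (Cert.ro (nat_lit 0) [nat_lit 1,nat_lit 8,nat_lit 16] [nat_lit 8,nat_lit 9,nat_lit 16] [nat_lit 0,nat_lit 1,nat_lit 34,nat_lit 35,nat_lit 72,nat_lit 73,nat_lit 112,nat_lit 113] (Cert.ro (nat_lit 1) [nat_lit 1,nat_lit 2,nat_lit 14,nat_lit 16] [nat_lit 1,nat_lit 14,nat_lit 12,nat_lit 16] [nat_lit 0,nat_lit 1,nat_lit 26,nat_lit 27,nat_lit 18,nat_lit 19,nat_lit 8,nat_lit 9,nat_lit 72,nat_lit 73,nat_lit 83,nat_lit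 82,nat_lit 90,nat_lit 91,nat_lit 65,nat_lit 64] (Cert.lw (nat_lit 0) (nat_lit 2) (nat_lit 1) (Cert.nl (nat_lit 72) (Cert.sy (nat_lit 0) (Cert.o1 (nat_lit 0) (nat_lit 4) (Cert.fu (nat_lit 4) (nat_lit 4) (nat_lit 72) (nat_lit 0) [nat_lit 0] [nat_lit 11] [] [] [nat_lit 64,nat_lit 34,nat_lit 18,nat_lit 8,nat_lit 1] [nat_lit 1] [] [[nat_lit 4]] [Ins.fr [nat_lit 0],Ins.ts (nat_lit 0) [nat_lit 0,nat_lit 0] [],Ins.ts (nat_lit 3) [nat_lit 0] [],Ins.ts (nat_lit 4) [nat_lit 0] [nat_lit 0,nat_lit 0,nat_lit 1],Ins.ts (nat_lit 1) [nat_lit 0] [],Ins.ts (nat_lit 4) [nat_lit 0,nat_lit 1] [nat_lit 0,nat_lit 0,nat_lit 1]] [(nat_lit 3,nat_lit 2)] (Cert.rep (nat_lit 72) [] [nat_lit 64,nat_lit 34,nat_lit 18,nat_lit 8,nat_lit 1] [] Cert.nil Cert.nil)))))))))) (Cert.rep (nat_lit 43) [] [] [] (Cert.er (Cert.st (nat_lit 0) (nat_lit 72) (nat_lit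 0) (Cert.ro (nat_lit 0) [nat_lit 1,nat_lit 8,nat_lit 16] [nat_lit 8,nat_lit 9,nat_lit 16] [nat_lit 0,nat_lit 1,nat_lit 34,nat_lit 35,nat_lit 72,nat_lit 73,nat_lit 112,nat_lit 113] (Cert.ro (nat_lit 1) [nat_lit 1,nat_lit 2,nat_lit 14,nat_lit 16] [nat_lit 1,nat_lit 14,nat_lit 12,nat_lit 16] [nat_lit 0,nat_lit 1,nat_lit 26,nat_lit 27,nat_lit 19,nat_lit 18,nat_lit 9,nat_lit 8,nat_lit 72,nat_lit 73,nat_lit 83,nat_lit 82,nat_lit 91,nat_lit 90,nat_lit 64,nat_lit 65] (Cert.lw (nat_lit 0) (nat_lit 2) (nat_lit 1) (Cert.nl (nat_lit 72) (Cert.sy (nat_lit 0) (Cert.o1 (nat_lit 0) (nat_lit 4) (Cert.fu (nat_lit 4) (nat_lit 4) (nat_lit 72) (nat_lit 0) [nat_lit 0] [nat_lit 11] [] [] [nat_lit 64,nat_lit 34,nat_lit 18,nat_lit 8,nat_lit 1] [nat_lit 1] [] [[nat_lit 4]] [Ins.fr [nat_lit 0],Ins.ts (nat_lit 0) [nat_lit 0,nat_lit 0] [],Ins.ts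 (nat_lit 3) [nat_lit 0] [],Ins.ts (nat_lit 4) [nat_lit 0] [nat_lit 0,nat_lit 0,nat_lit 1],Ins.ts (nat_lit 1) [nat_lit 0] [],Ins.ts (nat_lit 4) [nat_lit 0,nat_lit 1] [nat_lit 0,nat_lit 0,nat_lit 1]] [(nat_lit 3,nat_lit 2)] (Cert.rep (nat_lit 72) [] [nat_lit 64,nat_lit 34,nat_lit 18,nat_lit 8,nat_lit 1] [] Cert.nil Cert.nil)))))))))) (Cert.rep (nat_lit 98) [] [] [] (Cert.er (Cert.st (nat_lit 0) (nat_lit 72) (nat_lit 0) (Cert.ro (nat_lit 0) [nat_lit 1,nat_lit 8,nat_lit 16] [nat_lit 8,nat_lit 9,nat_lit 16] [nat_lit 0,nat_lit 1,nat_lit 34,nat_lit 35,nat_lit 72,nat_lit 73,nat_lit 112,nat_lit 113] (Cert.ro (nat_lit 1) [nat_lit 1,nat_lit 2,nat_lit 14,nat_lit 16] [nat_lit 1,nat_lit 14,nat_lit 12,nat_lit 16] [nat_lit 0,nat_lit 1,nat_lit 27,nat_lit 26,nat_lit 64,nat_lit 65,nat_lit 91,nat_lit 90,nat_lit 72,nat_lit 73,nat_lit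 82,nat_lit 83,nat_lit 9,nat_lit 8,nat_lit 19,nat_lit 18] (Cert.lw (nat_lit 0) (nat_lit 2) (nat_lit 1) (Cert.nl (nat_lit 72) (Cert.sy (nat_lit 0) (Cert.o1 (nat_lit 0) (nat_lit 4) (Cert.fu (nat_lit 4) (nat_lit 4) (nat_lit 72) (nat_lit 0) [nat_lit 0] [nat_lit 11] [] [] [nat_lit 64,nat_lit 34,nat_lit 18,nat_lit 8,nat_lit 1] [nat_lit 1] [] [[nat_lit 4]] [Ins.fr [nat_lit 0],Ins.ts (nat_lit 0) [nat_lit 0,nat_lit 0] [],Ins.ts (nat_lit 3) [nat_lit 0] [],Ins.ts (nat_lit 4) [nat_lit 0] [nat_lit 0,nat_lit 0,nat_lit 1],Ins.ts (nat_lit 1) [nat_lit 0] [],Ins.ts (nat_lit 4) [nat_lit 0,nat_lit 1] [nat_lit 0,nat_lit 0,nat_lit 1]] [(nat_lit 3,nat_lit 2)] (Cert.rep (nat_lit 72) [] [nat_lit 64,nat_lit 34,nat_lit 18,nat_lit 8,nat_lit 1] [] Cert.nil Cert.nil)))))))))) (Cert.rep (nat_lit 99) [] [] [] (Cert.er (Cert.st (nat_lit 0) (nat_lit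 72) (nat_lit 0) (Cert.ro (nat_lit 0) [nat_lit 1,nat_lit 8,nat_lit 16] [nat_lit 8,nat_lit 9,nat_lit 16] [nat_lit 0,nat_lit 1,nat_lit 34,nat_lit 35,nat_lit 72,nat_lit 73,nat_lit 112,nat_lit 113] (Cert.ro (nat_lit 1) [nat_lit 1,nat_lit 2,nat_lit 14,nat_lit 16] [nat_lit 1,nat_lit 14,nat_lit 12,nat_lit 16] [nat_lit 0,nat_lit 1,nat_lit 27,nat_lit 26,nat_lit 65,nat_lit 64,nat_lit 90,nat_lit 91,nat_lit 72,nat_lit 73,nat_lit 82,nat_lit 83,nat_lit 8,nat_lit 9,nat_lit 18,nat_lit 19] (Cert.lw (nat_lit 0) (nat_lit 2) (nat_lit 1) (Cert.nl (nat_lit 72) (Cert.sy (nat_lit 0) (Cert.o1 (nat_lit 0) (nat_lit 4) (Cert.fu (nat_lit 4) (nat_lit 4) (nat_lit 72) (nat_lit 0) [nat_lit 0] [nat_lit 11] [] [] [nat_lit 64,nat_lit 34,nat_lit 18,nat_lit 8,nat_lit 1] [nat_lit 1] [] [[nat_lit 4]] [Ins.fr [nat_lit 0],Ins.ts (nat_lit 0) [nat_lit 0,nat_lit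 0] [],Ins.ts (nat_lit 3) [nat_lit 0] [],Ins.ts (nat_lit 4) [nat_lit 0] [nat_lit 0,nat_lit 0,nat_lit 1],Ins.ts (nat_lit 1) [nat_lit 0] [],Ins.ts (nat_lit 4) [nat_lit 0,nat_lit 1] [nat_lit 0,nat_lit 0,nat_lit 1]] [(nat_lit 3,nat_lit 2)] (Cert.rep (nat_lit 72) [] [nat_lit 64,nat_lit 34,nat_lit 18,nat_lit 8,nat_lit 1] [] Cert.nil Cert.nil)))))))))) Cert.nil)))) (Cert.rep (nat_lit 73) [] [] [] Cert.nil (Cert.rep (nat_lit 106) [nat_lit 56] [] [] (Cert.rep (nat_lit 42) [] [] [] (Cert.er (Cert.st (nat_lit 0) (nat_lit 72) (nat_lit 0) (Cert.ro (nat_lit 0) [nat_lit 1,nat_lit 8,nat_lit 16] [nat_lit 8,nat_lit 9,nat_lit 16] [nat_lit 0,nat_lit 1,nat_lit 106,nat_lit 107,nat_lit 72,nat_lit 73,nat_lit 56,nat_lit 57] (Cert.ro (nat_lit 1) [nat_lit 1,nat_lit 2,nat_lit 14,nat_lit 16] [nat_lit 1,nat_lit 14,nat_lit 12,nat_lit 16] [nat_lit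 0,nat_lit 1,nat_lit 26,nat_lit 27,nat_lit 65,nat_lit 64,nat_lit 91,nat_lit 90,nat_lit 72,nat_lit 73,nat_lit 83,nat_lit 82,nat_lit 8,nat_lit 9,nat_lit 19,nat_lit 18] (Cert.kw (nat_lit 2) (nat_lit 0) (nat_lit 2) (nat_lit 1) ))))) (Cert.rep (nat_lit 43) [] [] [] (Cert.er (Cert.st (nat_lit 0) (nat_lit 72) (nat_lit 0) (Cert.ro (nat_lit 0) [nat_lit 1,nat_lit 8,nat_lit 16] [nat_lit 8,nat_lit 9,nat_lit 16] [nat_lit 0,nat_lit 1,nat_lit 106,nat_lit 107,nat_lit 72,nat_lit 73,nat_lit 56,nat_lit 57] (Cert.ro (nat_lit 1) [nat_lit 1,nat_lit 2,nat_lit 14,nat_lit 16] [nat_lit 1,nat_lit 14,nat_lit 12,nat_lit 16] [nat_lit 0,nat_lit 1,nat_lit 26,nat_lit 27,nat_lit 64,nat_lit 65,nat_lit 90,nat_lit 91,nat_lit 72,nat_lit 73,nat_lit 83,nat_lit 82,nat_lit 9,nat_lit 8,nat_lit 18,nat_lit 19] (Cert.kw (nat_lit 2) (nat_lit 0) (nat_lit 2) (nat_lit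 1) ))))) (Cert.rep (nat_lit 98) [] [] [] (Cert.er (Cert.st (nat_lit 0) (nat_lit 72) (nat_lit 0) (Cert.ro (nat_lit 0) [nat_lit 1,nat_lit 8,nat_lit 16] [nat_lit 8,nat_lit 9,nat_lit 16] [nat_lit 0,nat_lit 1,nat_lit 106,nat_lit 107,nat_lit 72,nat_lit 73,nat_lit 56,nat_lit 57] (Cert.ro (nat_lit 1) [nat_lit 1,nat_lit 2,nat_lit 14,nat_lit 16] [nat_lit 1,nat_lit 14,nat_lit 12,nat_lit 16] [nat_lit 0,nat_lit 1,nat_lit 27,nat_lit 26,nat_lit 18,nat_lit 19,nat_lit 9,nat_lit 8,nat_lit 72,nat_lit 73,nat_lit 82,nat_lit 83,nat_lit 90,nat_lit 91,nat_lit 64,nat_lit 65] (Cert.kw (nat_lit 2) (nat_lit 0) (nat_lit 2) (nat_lit 1) ))))) (Cert.rep (nat_lit 99) [] [] [] (Cert.er (Cert.st (nat_lit 0) (nat_lit 72) (nat_lit 0) (Cert.ro (nat_lit 0) [nat_lit 1,nat_lit 8,nat_lit 16] [nat_lit 8,nat_lit 9,nat_lit 16] [nat_lit 0,nat_lit 1,nat_lit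 106,nat_lit 107,nat_lit 72,nat_lit 73,nat_lit 56,nat_lit 57] (Cert.ro (nat_lit 1) [nat_lit 1,nat_lit 2,nat_lit 14,nat_lit 16] [nat_lit 1,nat_lit 14,nat_lit 12,nat_lit 16] [nat_lit 0,nat_lit 1,nat_lit 27,nat_lit 26,nat_lit 19,nat_lit 18,nat_lit 8,nat_lit 9,nat_lit 72,nat_lit 73,nat_lit 82,nat_lit 83,nat_lit 91,nat_lit 90,nat_lit 65,nat_lit 64] (Cert.kw (nat_lit 2) (nat_lit 0) (nat_lit 2) (nat_lit 1) ))))) Cert.nil)))) Cert.nil))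
noncomputable def f6_1 : Cert :=
  Cert.rep (nat_lit 32) [nat_lit 32] [] [] (Cert.rep (nat_lit 44) [] [] [] (Cert.er (Cert.st (nat_lit 0) (nat_lit 106) (nat_lit 0) (Cert.ro (nat_lit 0) [nat_lit 1,nat_lit 8,nat_lit 16] [nat_lit 8,nat_lit 9,nat_lit 16] [nat_lit 0,nat_lit 1,nat_lit 32,nat_lit 33,nat_lit 106,nat_lit 107,nat_lit 80,nat_lit 81] (Cert.ro (nat_lit 1) [nat_lit 1,nat_lit 2,nat_lit 14,nat_lit 16] [nat_lit 1,nat_lit 14,nat_lit 12,nat_lit 16] [nat_lit 0,nat_lit 1,nat_lit 24,nat_lit 25,nat_lit 20,nat_lit 21,nat_lit 13,nat_lit 12,nat_lit 106,nat_lit 107,nat_lit 115,nat_lit 114,nat_lit 127,nat_lit 126,nat_lit 103,nat_lit 102] (Cert.lw (nat_lit 0) (nat_lit 2) (nat_lit 1) (Cert.nl (nat_lit 106) (Cert.sy (nat_lit 0) (Cert.o1 (nat_lit 0) (nat_lit 4) (Cert.fu (nat_lit 4) (nat_lit 4) (nat_lit 106) (nat_lit 0) [nat_lit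 0] [nat_lit 11] [] [] [nat_lit 68,nat_lit 32,nat_lit 20,nat_lit 12,nat_lit 1] [nat_lit 1] [] [[nat_lit 4]] [Ins.fr [nat_lit 0],Ins.ts (nat_lit 0) [nat_lit 0,nat_lit 0] [],Ins.ts (nat_lit 3) [nat_lit 0] [],Ins.ts (nat_lit 4) [nat_lit 0] [nat_lit 0,nat_lit 0,nat_lit 1],Ins.ts (nat_lit 1) [nat_lit 0] [],Ins.ts (nat_lit 4) [nat_lit 0,nat_lit 1] [nat_lit 0,nat_lit 0,nat_lit 1]] [(nat_lit 3,nat_lit 2)] (Cert.rep (nat_lit 106) [] [nat_lit 68,nat_lit 32,nat_lit 20,nat_lit 12,nat_lit 1] [] Cert.nil Cert.nil)))))))))) (Cert.rep (nat_lit 45) [] [] [] (Cert.er (Cert.st (nat_lit 0) (nat_lit 106) (nat_lit 0) (Cert.ro (nat_lit 0) [nat_lit 1,nat_lit 8,nat_lit 16] [nat_lit 8,nat_lit 9,nat_lit 16] [nat_lit 0,nat_lit 1,nat_lit 32,nat_lit 33,nat_lit 106,nat_lit 107,nat_lit 80,nat_lit 81] (Cert.ro (nat_lit 1) [nat_lit 1,nat_lit 2,nat_lit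 14,nat_lit 16] [nat_lit 1,nat_lit 14,nat_lit 12,nat_lit 16] [nat_lit 0,nat_lit 1,nat_lit 24,nat_lit 25,nat_lit 21,nat_lit 20,nat_lit 12,nat_lit 13,nat_lit 106,nat_lit 107,nat_lit 115,nat_lit 114,nat_lit 126,nat_lit 127,nat_lit 102,nat_lit 103] (Cert.lw (nat_lit 0) (nat_lit 2) (nat_lit 1) (Cert.nl (nat_lit 106) (Cert.sy (nat_lit 0) (Cert.o1 (nat_lit 0) (nat_lit 4) (Cert.fu (nat_lit 4) (nat_lit 4) (nat_lit 106) (nat_lit 0) [nat_lit 0] [nat_lit 11] [] [] [nat_lit 68,nat_lit 32,nat_lit 20,nat_lit 12,nat_lit 1] [nat_lit 1] [] [[nat_lit 4]] [Ins.fr [nat_lit 0],Ins.ts (nat_lit 0) [nat_lit 0,nat_lit 0] [],Ins.ts (nat_lit 3) [nat_lit 0] [],Ins.ts (nat_lit 4) [nat_lit 0] [nat_lit 0,nat_lit 0,nat_lit 1],Ins.ts (nat_lit 1) [nat_lit 0] [],Ins.ts (nat_lit 4) [nat_lit 0,nat_lit 1] [nat_lit 0,nat_lit 0,nat_lit 1]] [(nat_lit 3,nat_lit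 2)] (Cert.rep (nat_lit 106) [] [nat_lit 68,nat_lit 32,nat_lit 20,nat_lit 12,nat_lit 1] [] Cert.nil Cert.nil)))))))))) (Cert.rep (nat_lit 68) [] [] [] (Cert.er (Cert.st (nat_lit 0) (nat_lit 106) (nat_lit 0) (Cert.ro (nat_lit 0) [nat_lit 1,nat_lit 8,nat_lit 16] [nat_lit 8,nat_lit 9,nat_lit 16] [nat_lit 0,nat_lit 1,nat_lit 32,nat_lit 33,nat_lit 106,nat_lit 107,nat_lit 80,nat_lit 81] (Cert.ro (nat_lit 1) [nat_lit 1,nat_lit 2,nat_lit 14,nat_lit 16] [nat_lit 1,nat_lit 14,nat_lit 12,nat_lit 16] [nat_lit 0,nat_lit 1,nat_lit 25,nat_lit 24,nat_lit 102,nat_lit 103,nat_lit 126,nat_lit 127,nat_lit 106,nat_lit 107,nat_lit 114,nat_lit 115,nat_lit 12,nat_lit 13,nat_lit 21,nat_lit 20] (Cert.lw (nat_lit 0) (nat_lit 2) (nat_lit 1) (Cert.nl (nat_lit 106) (Cert.sy (nat_lit 0) (Cert.o1 (nat_lit 0) (nat_lit 4) (Cert.fu (nat_lit 4) (nat_lit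 4) (nat_lit 106) (nat_lit 0) [nat_lit 0] [nat_lit 11] [] [] [nat_lit 68,nat_lit 32,nat_lit 20,nat_lit 12,nat_lit 1] [nat_lit 1] [] [[nat_lit 4]] [Ins.fr [nat_lit 0],Ins.ts (nat_lit 0) [nat_lit 0,nat_lit 0] [],Ins.ts (nat_lit 3) [nat_lit 0] [],Ins.ts (nat_lit 4) [nat_lit 0] [nat_lit 0,nat_lit 0,nat_lit 1],Ins.ts (nat_lit 1) [nat_lit 0] [],Ins.ts (nat_lit 4) [nat_lit 0,nat_lit 1] [nat_lit 0,nat_lit 0,nat_lit 1]] [(nat_lit 3,nat_lit 2)] (Cert.rep (nat_lit 106) [] [nat_lit 68,nat_lit 32,nat_lit 20,nat_lit 12,nat_lit 1] [] Cert.nil Cert.nil)))))))))) (Cert.rep (nat_lit 69) [] [] [] (Cert.er (Cert.st (nat_lit 0) (nat_lit 106) (nat_lit 0) (Cert.ro (nat_lit 0) [nat_lit 1,nat_lit 8,nat_lit 16] [nat_lit 8,nat_lit 9,nat_lit 16] [nat_lit 0,nat_lit 1,nat_lit 32,nat_lit 33,nat_lit 106,nat_lit 107,nat_lit 80,nat_lit 81] (Cert.ro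 (nat_lit 1) [nat_lit 1,nat_lit 2,nat_lit 14,nat_lit 16] [nat_lit 1,nat_lit 14,nat_lit 12,nat_lit 16] [nat_lit 0,nat_lit 1,nat_lit 25,nat_lit 24,nat_lit 103,nat_lit 102,nat_lit 127,nat_lit 126,nat_lit 106,nat_lit 107,nat_lit 114,nat_lit 115,nat_lit 13,nat_lit 12,nat_lit 20,nat_lit 21] (Cert.lw (nat_lit 0) (nat_lit 2) (nat_lit 1) (Cert.nl (nat_lit 106) (Cert.sy (nat_lit 0) (Cert.o1 (nat_lit 0) (nat_lit 4) (Cert.fu (nat_lit 4) (nat_lit 4) (nat_lit 106) (nat_lit 0) [nat_lit 0] [nat_lit 11] [] [] [nat_lit 68,nat_lit 32,nat_lit 20,nat_lit 12,nat_lit 1] [nat_lit 1] [] [[nat_lit 4]] [Ins.fr [nat_lit 0],Ins.ts (nat_lit 0) [nat_lit 0,nat_lit 0] [],Ins.ts (nat_lit 3) [nat_lit 0] [],Ins.ts (nat_lit 4) [nat_lit 0] [nat_lit 0,nat_lit 0,nat_lit 1],Ins.ts (nat_lit 1) [nat_lit 0] [],Ins.ts (nat_lit 4) [nat_lit 0,nat_lit 1] [nat_lit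 0,nat_lit 0,nat_lit 1]] [(nat_lit 3,nat_lit 2)] (Cert.rep (nat_lit 106) [] [nat_lit 68,nat_lit 32,nat_lit 20,nat_lit 12,nat_lit 1] [] Cert.nil Cert.nil)))))))))) Cert.nil)))) (Cert.rep (nat_lit 72) [nat_lit 56] [] [] (Cert.rep (nat_lit 44) [] [] [] (Cert.er (Cert.st (nat_lit 0) (nat_lit 106) (nat_lit 0) (Cert.ro (nat_lit 0) [nat_lit 1,nat_lit 8,nat_lit 16] [nat_lit 8,nat_lit 9,nat_lit 16] [nat_lit 0,nat_lit 1,nat_lit 72,nat_lit 73,nat_lit 106,nat_lit 107,nat_lit 56,nat_lit 57] (Cert.ro (nat_lit 1) [nat_lit 1,nat_lit 2,nat_lit 14,nat_lit 16] [nat_lit 1,nat_lit 14,nat_lit 12,nat_lit 16] [nat_lit 0,nat_lit 1,nat_lit 24,nat_lit 25,nat_lit 103,nat_lit 102,nat_lit 126,nat_lit 127,nat_lit 106,nat_lit 107,nat_lit 115,nat_lit 114,nat_lit 13,nat_lit 12,nat_lit 21,nat_lit 20] (Cert.kw (nat_lit 2) (nat_lit 0) (nat_lit 2) (nat_lit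 1) ))))) (Cert.rep (nat_lit 45) [] [] [] (Cert.er (Cert.st (nat_lit 0) (nat_lit 106) (nat_lit 0) (Cert.ro (nat_lit 0) [nat_lit 1,nat_lit 8,nat_lit 16] [nat_lit 8,nat_lit 9,nat_lit 16] [nat_lit 0,nat_lit 1,nat_lit 72,nat_lit 73,nat_lit 106,nat_lit 107,nat_lit 56,nat_lit 57] (Cert.ro (nat_lit 1) [nat_lit 1,nat_lit 2,nat_lit 14,nat_lit 16] [nat_lit 1,nat_lit 14,nat_lit 12,nat_lit 16] [nat_lit 0,nat_lit 1,nat_lit 24,nat_lit 25,nat_lit 102,nat_lit 103,nat_lit 127,nat_lit 126,nat_lit 106,nat_lit 107,nat_lit 115,nat_lit 114,nat_lit 12,nat_lit 13,nat_lit 20,nat_lit 21] (Cert.kw (nat_lit 2) (nat_lit 0) (nat_lit 2) (nat_lit 1) ))))) (Cert.rep (nat_lit 68) [] [] [] (Cert.er (Cert.st (nat_lit 0) (nat_lit 106) (nat_lit 0) (Cert.ro (nat_lit 0) [nat_lit 1,nat_lit 8,nat_lit 16] [nat_lit 8,nat_lit 9,nat_lit 16] [nat_lit 0,nat_lit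 1,nat_lit 72,nat_lit 73,nat_lit 106,nat_lit 107,nat_lit 56,nat_lit 57] (Cert.ro (nat_lit 1) [nat_lit 1,nat_lit 2,nat_lit 14,nat_lit 16] [nat_lit 1,nat_lit 14,nat_lit 12,nat_lit 16] [nat_lit 0,nat_lit 1,nat_lit 25,nat_lit 24,nat_lit 20,nat_lit 21,nat_lit 12,nat_lit 13,nat_lit 106,nat_lit 107,nat_lit 114,nat_lit 115,nat_lit 127,nat_lit 126,nat_lit 102,nat_lit 103] (Cert.kw (nat_lit 2) (nat_lit 0) (nat_lit 2) (nat_lit 1) ))))) (Cert.rep (nat_lit 69) [] [] [] (Cert.er (Cert.st (nat_lit 0) (nat_lit 106) (nat_lit 0) (Cert.ro (nat_lit 0) [nat_lit 1,nat_lit 8,nat_lit 16] [nat_lit 8,nat_lit 9,nat_lit 16] [nat_lit 0,nat_lit 1,nat_lit 72,nat_lit 73,nat_lit 106,nat_lit 107,nat_lit 56,nat_lit 57] (Cert.ro (nat_lit 1) [nat_lit 1,nat_lit 2,nat_lit 14,nat_lit 16] [nat_lit 1,nat_lit 14,nat_lit 12,nat_lit 16] [nat_lit 0,nat_lit 1,nat_lit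 25,nat_lit 24,nat_lit 21,nat_lit 20,nat_lit 13,nat_lit 12,nat_lit 106,nat_lit 107,nat_lit 114,nat_lit 115,nat_lit 126,nat_lit 127,nat_lit 103,nat_lit 102] (Cert.kw (nat_lit 2) (nat_lit 0) (nat_lit 2) (nat_lit 1) ))))) Cert.nil)))) (Cert.rep (nat_lit 107) [] [] [] Cert.nil Cert.nil))
noncomputable def f6_2 : Cert :=
  Cert.rep (nat_lit 4) [nat_lit 2,nat_lit 8] [nat_lit 8,nat_lit 4,nat_lit 2,nat_lit 1] [nat_lit 64,nat_lit 32,nat_lit 16] (Cert.rep (nat_lit 1) [] [] [] Cert.nil (Cert.rep (nat_lit 2) [] [] [] Cert.nil (Cert.rep (nat_lit 5) [] [] [] Cert.nil (Cert.rep (nat_lit 6) [] [] [] Cert.nil (Cert.rep (nat_lit 10) [] [] [] Cert.nil (Cert.rep (nat_lit 14) [] [] [] Cert.nil Cert.nil)))))) (Cert.rep (nat_lit 14) [nat_lit 4,nat_lit 16,nat_lit 98] [nat_lit 98,nat_lit 16,nat_lit 10,nat_lit 4,nat_lit 1] [nat_lit 32,nat_lit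 2] (Cert.rep (nat_lit 1) [] [] [] Cert.nil (Cert.rep (nat_lit 4) [nat_lit 4] [] [] (Cert.rep (nat_lit 98) [] [] [] (Cert.er (Cert.ro (nat_lit 0) [nat_lit 1,nat_lit 8,nat_lit 16] [nat_lit 8,nat_lit 9,nat_lit 16] [nat_lit 0,nat_lit 1,nat_lit 4,nat_lit 5,nat_lit 14,nat_lit 15,nat_lit 10,nat_lit 11] (Cert.ro (nat_lit 1) [nat_lit 1,nat_lit 2,nat_lit 14,nat_lit 16] [nat_lit 1,nat_lit 14,nat_lit 12,nat_lit 16] [nat_lit 0,nat_lit 1,nat_lit 27,nat_lit 26,nat_lit 102,nat_lit 103,nat_lit 124,nat_lit 125,nat_lit 14,nat_lit 15,nat_lit 21,nat_lit 20,nat_lit 105,nat_lit 104,nat_lit 115,nat_lit 114] (Cert.lf (Leaf.st (nat_lit 2) (nat_lit 1) (nat_lit 1) (Leaf.cf (nat_lit 1))))))) (Cert.rep (nat_lit 99) [] [] [] (Cert.er (Cert.ro (nat_lit 0) [nat_lit 1,nat_lit 8,nat_lit 16] [nat_lit 8,nat_lit 9,nat_lit 16] [nat_lit 0,nat_lit 1,nat_lit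 4,nat_lit 5,nat_lit 14,nat_lit 15,nat_lit 10,nat_lit 11] (Cert.ro (nat_lit 1) [nat_lit 1,nat_lit 2,nat_lit 14,nat_lit 16] [nat_lit 1,nat_lit 14,nat_lit 12,nat_lit 16] [nat_lit 0,nat_lit 1,nat_lit 27,nat_lit 26,nat_lit 103,nat_lit 102,nat_lit 125,nat_lit 124,nat_lit 14,nat_lit 15,nat_lit 21,nat_lit 20,nat_lit 104,nat_lit 105,nat_lit 114,nat_lit 115] (Cert.lf (Leaf.st (nat_lit 2) (nat_lit 1) (nat_lit 1) (Leaf.cf (nat_lit 1))))))) (Cert.rep (nat_lit 108) [] [] [] (Cert.er (Cert.ro (nat_lit 0) [nat_lit 1,nat_lit 8,nat_lit 16] [nat_lit 8,nat_lit 9,nat_lit 16] [nat_lit 0,nat_lit 1,nat_lit 4,nat_lit 5,nat_lit 14,nat_lit 15,nat_lit 10,nat_lit 11] (Cert.ro (nat_lit 1) [nat_lit 1,nat_lit 2,nat_lit 14,nat_lit 16] [nat_lit 1,nat_lit 14,nat_lit 12,nat_lit 16] [nat_lit 0,nat_lit 1,nat_lit 27,nat_lit 26,nat_lit 104,nat_lit 105,nat_lit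 114,nat_lit 115,nat_lit 14,nat_lit 15,nat_lit 21,nat_lit 20,nat_lit 103,nat_lit 102,nat_lit 125,nat_lit 124] (Cert.lf (Leaf.st (nat_lit 2) (nat_lit 1) (nat_lit 1) (Leaf.cf (nat_lit 1))))))) (Cert.rep (nat_lit 109) [] [] [] (Cert.er (Cert.ro (nat_lit 0) [nat_lit 1,nat_lit 8,nat_lit 16] [nat_lit 8,nat_lit 9,nat_lit 16] [nat_lit 0,nat_lit 1,nat_lit 4,nat_lit 5,nat_lit 14,nat_lit 15,nat_lit 10,nat_lit 11] (Cert.ro (nat_lit 1) [nat_lit 1,nat_lit 2,nat_lit 14,nat_lit 16] [nat_lit 1,nat_lit 14,nat_lit 12,nat_lit 16] [nat_lit 0,nat_lit 1,nat_lit 27,nat_lit 26,nat_lit 105,nat_lit 104,nat_lit 115,nat_lit 114,nat_lit 14,nat_lit 15,nat_lit 21,nat_lit 20,nat_lit 102,nat_lit 103,nat_lit 124,nat_lit 125] (Cert.lf (Leaf.st (nat_lit 2) (nat_lit 1) (nat_lit 1) (Leaf.cf (nat_lit 1))))))) Cert.nil)))) (Cert.rep (nat_lit 10) [nat_lit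 4] [] [] (Cert.rep (nat_lit 98) [] [] [] (Cert.er (Cert.ro (nat_lit 0) [nat_lit 1,nat_lit 8,nat_lit 16] [nat_lit 8,nat_lit 9,nat_lit 16] [nat_lit 0,nat_lit 1,nat_lit 10,nat_lit 11,nat_lit 14,nat_lit 15,nat_lit 4,nat_lit 5] (Cert.ro (nat_lit 1) [nat_lit 1,nat_lit 2,nat_lit 14,nat_lit 16] [nat_lit 1,nat_lit 14,nat_lit 12,nat_lit 16] [nat_lit 0,nat_lit 1,nat_lit 27,nat_lit 26,nat_lit 105,nat_lit 104,nat_lit 115,nat_lit 114,nat_lit 14,nat_lit 15,nat_lit 21,nat_lit 20,nat_lit 102,nat_lit 103,nat_lit 124,nat_lit 125] (Cert.kw (nat_lit 2) (nat_lit 0) (nat_lit 2) (nat_lit 1) )))) (Cert.rep (nat_lit 99) [] [] [] (Cert.er (Cert.ro (nat_lit 0) [nat_lit 1,nat_lit 8,nat_lit 16] [nat_lit 8,nat_lit 9,nat_lit 16] [nat_lit 0,nat_lit 1,nat_lit 10,nat_lit 11,nat_lit 14,nat_lit 15,nat_lit 4,nat_lit 5] (Cert.ro (nat_lit 1) [nat_lit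 1,nat_lit 2,nat_lit 14,nat_lit 16] [nat_lit 1,nat_lit 14,nat_lit 12,nat_lit 16] [nat_lit 0,nat_lit 1,nat_lit 27,nat_lit 26,nat_lit 104,nat_lit 105,nat_lit 114,nat_lit 115,nat_lit 14,nat_lit 15,nat_lit 21,nat_lit 20,nat_lit 103,nat_lit 102,nat_lit 125,nat_lit 124] (Cert.kw (nat_lit 2) (nat_lit 0) (nat_lit 2) (nat_lit 1) )))) (Cert.rep (nat_lit 108) [] [] [] (Cert.er (Cert.ro (nat_lit 0) [nat_lit 1,nat_lit 8,nat_lit 16] [nat_lit 8,nat_lit 9,nat_lit 16] [nat_lit 0,nat_lit 1,nat_lit 10,nat_lit 11,nat_lit 14,nat_lit 15,nat_lit 4,nat_lit 5] (Cert.ro (nat_lit 1) [nat_lit 1,nat_lit 2,nat_lit 14,nat_lit 16] [nat_lit 1,nat_lit 14,nat_lit 12,nat_lit 16] [nat_lit 0,nat_lit 1,nat_lit 27,nat_lit 26,nat_lit 103,nat_lit 102,nat_lit 125,nat_lit 124,nat_lit 14,nat_lit 15,nat_lit 21,nat_lit 20,nat_lit 104,nat_lit 105,nat_lit 114,nat_lit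 115] (Cert.kw (nat_lit 2) (nat_lit 0) (nat_lit 2) (nat_lit 1) )))) (Cert.rep (nat_lit 109) [] [] [] (Cert.er (Cert.ro (nat_lit 0) [nat_lit 1,nat_lit 8,nat_lit 16] [nat_lit 8,nat_lit 9,nat_lit 16] [nat_lit 0,nat_lit 1,nat_lit 10,nat_lit 11,nat_lit 14,nat_lit 15,nat_lit 4,nat_lit 5] (Cert.ro (nat_lit 1) [nat_lit 1,nat_lit 2,nat_lit 14,nat_lit 16] [nat_lit 1,nat_lit 14,nat_lit 12,nat_lit 16] [nat_lit 0,nat_lit 1,nat_lit 27,nat_lit 26,nat_lit 102,nat_lit 103,nat_lit 124,nat_lit 125,nat_lit 14,nat_lit 15,nat_lit 21,nat_lit 20,nat_lit 105,nat_lit 104,nat_lit 115,nat_lit 114] (Cert.kw (nat_lit 2) (nat_lit 0) (nat_lit 2) (nat_lit 1) )))) Cert.nil)))) (Cert.rep (nat_lit 15) [] [] [] Cert.nil Cert.nil)))) (Cert.rep (nat_lit 32) [nat_lit 2,nat_lit 80] [nat_lit 80,nat_lit 32,nat_lit 2,nat_lit 1] [nat_lit 8,nat_lit 4,nat_lit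 24] (Cert.rep (nat_lit 1) [] [] [] Cert.nil (Cert.rep (nat_lit 2) [] [] [] Cert.nil (Cert.rep (nat_lit 33) [] [] [] Cert.nil (Cert.rep (nat_lit 34) [] [] [] Cert.nil (Cert.rep (nat_lit 80) [] [] [] Cert.nil (Cert.rep (nat_lit 106) [] [] [] Cert.nil Cert.nil)))))) (Cert.rep (nat_lit 72) [nat_lit 8,nat_lit 18,nat_lit 34] [nat_lit 64,nat_lit 34,nat_lit 18,nat_lit 8,nat_lit 1] [nat_lit 4,nat_lit 2] (Cert.rep (nat_lit 1) [] [] [] Cert.nil f6_0) (Cert.rep (nat_lit 106) [nat_lit 12,nat_lit 20,nat_lit 32] [nat_lit 68,nat_lit 32,nat_lit 20,nat_lit 12,nat_lit 1] [nat_lit 4,nat_lit 2] (Cert.rep (nat_lit 1) [] [] [] Cert.nil f6_1) Cert.nil))))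
noncomputable def f6 : Cert :=
  (Cert.st (nat_lit 0) (nat_lit 4) (nat_lit 0) (Cert.st (nat_lit 0) (nat_lit 14) (nat_lit 0) (Cert.sp (nat_lit 1) (Cert.lf (Leaf.pt (nat_lit 10) (nat_lit 1) [nat_lit 8,nat_lit 4])) (Cert.sp (nat_lit 2) (Cert.lf (Leaf.pt (nat_lit 10) (nat_lit 2) [nat_lit 36,nat_lit 1])) (Cert.st (nat_lit 0) (nat_lit 2) (nat_lit 0) (Cert.sp (nat_lit 10) (Cert.lf (Leaf.pt (nat_lit 5) (nat_lit 10) [nat_lit 4])) (Cert.st (nat_lit 0) (nat_lit 10) (nat_lit 0) (Cert.nl (nat_lit 1) (Cert.sy (nat_lit 0) (Cert.s2 (nat_lit 0) (nat_lit 10) (Cert.o1 (nat_lit 0) (nat_lit 10) (Cert.fu (nat_lit 10) (nat_lit 1) (nat_lit 0) (nat_lit 0) [nat_lit 0] [nat_lit 68] [] [] [] [nat_lit 1] [[nat_lit 1]] [[nat_lit 10]] [Ins.ts (nat_lit 1) [nat_lit 0] [],Ins.fr [nat_lit 0],Ins.ts (nat_lit 1) [nat_lit 0,nat_lit 0] [],Ins.ts (nat_lit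 1) [nat_lit 0,nat_lit 0,nat_lit 1] [],Ins.ts (nat_lit 1) [nat_lit 0,nat_lit 0,nat_lit 0,nat_lit 0,nat_lit 1] [],Ins.ts (nat_lit 1) [nat_lit 0,nat_lit 0,nat_lit 0,nat_lit 0] []] [] (Cert.rep (nat_lit 1) [] [nat_lit 64,nat_lit 32,nat_lit 16,nat_lit 8,nat_lit 4,nat_lit 2,nat_lit 1] [] Cert.nil Cert.nil))) (Cert.s2 (nat_lit 0) (nat_lit 72) (Cert.o1 (nat_lit 0) (nat_lit 72) (Cert.fu (nat_lit 72) (nat_lit 1) (nat_lit 0) (nat_lit 0) [nat_lit 0] [nat_lit 42] [] [] [] [nat_lit 1] [[nat_lit 1]] [[nat_lit 72]] [Ins.ts (nat_lit 1) [nat_lit 0] [],Ins.fr [nat_lit 0],Ins.ts (nat_lit 1) [nat_lit 0,nat_lit 0] [],Ins.ts (nat_lit 1) [nat_lit 0,nat_lit 0,nat_lit 1] [],Ins.ts (nat_lit 1) [nat_lit 0,nat_lit 0,nat_lit 0,nat_lit 0,nat_lit 1] [],Ins.ts (nat_lit 1) [nat_lit 0,nat_lit 0,nat_lit 0,nat_lit 0] []] [] (Cert.rep (nat_lit 1) []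 [nat_lit 64,nat_lit 32,nat_lit 16,nat_lit 8,nat_lit 4,nat_lit 2,nat_lit 1] [] Cert.nil Cert.nil))) (Cert.s2 (nat_lit 0) (nat_lit 106) (Cert.o1 (nat_lit 0) (nat_lit 106) (Cert.fu (nat_lit 106) (nat_lit 1) (nat_lit 0) (nat_lit 0) [nat_lit 0] [nat_lit 44] [] [] [] [nat_lit 1] [[nat_lit 1]] [[nat_lit 106]] [Ins.ts (nat_lit 1) [nat_lit 0] [],Ins.fr [nat_lit 0],Ins.ts (nat_lit 1) [nat_lit 0,nat_lit 0] [],Ins.ts (nat_lit 1) [nat_lit 0,nat_lit 0,nat_lit 1] [],Ins.ts (nat_lit 1) [nat_lit 0,nat_lit 0,nat_lit 0,nat_lit 0,nat_lit 1] [],Ins.ts (nat_lit 1) [nat_lit 0,nat_lit 0,nat_lit 0,nat_lit 0] []] [] (Cert.rep (nat_lit 1) [] [nat_lit 64,nat_lit 32,nat_lit 16,nat_lit 8,nat_lit 4,nat_lit 2,nat_lit 1] [] Cert.nil Cert.nil))) (Cert.root (nat_lit 16) [] [nat_lit 8,nat_lit 4] [nat_lit 0,nat_lit 1,nat_lit 2,nat_lit 3,nat_lit 4]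 [Ins.fr [nat_lit 0],Ins.ts (nat_lit 0) [nat_lit 0,nat_lit 0] [],Ins.ts (nat_lit 1) [nat_lit 0] [],Ins.ts (nat_lit 1) [nat_lit 0,nat_lit 1] [],Ins.fr [nat_lit 1],Ins.ts (nat_lit 1) [nat_lit 0,nat_lit 0] [],Ins.ts (nat_lit 1) [nat_lit 0,nat_lit 0,nat_lit 0,nat_lit 0] [],Ins.ts (nat_lit 0) [nat_lit 1,nat_lit 0,nat_lit 1] [nat_lit 0,nat_lit 0,nat_lit 0],Ins.df [nat_lit 0,nat_lit 0],Ins.df [nat_lit 0,nat_lit 0]] f6_2)))))))))))))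
theorem fin6 : finOK DB PT 34 t34 6 t6 (nat_lit 0x30c00000303000f00000ff0c3ccff) f6 = true := by
  decide +kernel
noncomputable def f7_0 : Cert :=
  Cert.xk (nat_lit 36) (Cert.xn (nat_lit 4) (Cert.root (nat_lit 16) [] [nat_lit 8,nat_lit 4] [nat_lit 0,nat_lit 1,nat_lit 2,nat_lit 3,nat_lit 4] [Ins.fr [nat_lit 0],Ins.ts (nat_lit 0) [nat_lit 0,nat_lit 0] [],Ins.ts (nat_lit 4) [nat_lit 0] [nat_lit 0,nat_lit 0,nat_lit 0],Ins.ts (nat_lit 1) [nat_lit 0] [],Ins.fr [nat_lit 1],Ins.ts (nat_lit 1) [nat_lit 0,nat_lit 0] [],Ins.ts (nat_lit 4) [nat_lit 0] [nat_lit 0,nat_lit 0,nat_lit 0],Ins.ts (nat_lit 1) [nat_lit 0,nat_lit 0,nat_lit 0,nat_lit 0] [],Ins.ts (nat_lit 0) [nat_lit 1,nat_lit 0,nat_lit 1] [nat_lit 0,nat_lit 0,nat_lit 0],Ins.df [nat_lit 0,nat_lit 0],Ins.df [nat_lit 0,nat_lit 0]] (Cert.rep (nat_lit 4) [nat_lit 2,nat_lit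 8] [nat_lit 8,nat_lit 4,nat_lit 2,nat_lit 1] [nat_lit 128,nat_lit 64,nat_lit 32,nat_lit 16] (Cert.rep (nat_lit 1) [] [] [] Cert.nil (Cert.rep (nat_lit 2) [] [] [] Cert.nil (Cert.rep (nat_lit 10) [] [] [] Cert.nil Cert.nil))) (Cert.rep (nat_lit 14) [nat_lit 4,nat_lit 16,nat_lit 98] [nat_lit 98,nat_lit 16,nat_lit 10,nat_lit 4,nat_lit 1] [nat_lit 128,nat_lit 32,nat_lit 2] (Cert.rep (nat_lit 1) [] [] [] Cert.nil (Cert.rep (nat_lit 10) [nat_lit 4] [] [] (Cert.rep (nat_lit 108) [] [] [] (Cert.er (Cert.ro (nat_lit 0) [nat_lit 1,nat_lit 8,nat_lit 16] [nat_lit 8,nat_lit 9,nat_lit 16] [nat_lit 0,nat_lit 1,nat_lit 10,nat_lit 11,nat_lit 14,nat_lit 15,nat_lit 4,nat_lit 5] (Cert.ro (nat_lit 1) [nat_lit 1,nat_lit 2,nat_lit 14,nat_lit 16] [nat_lit 1,nat_lit 14,nat_lit 12,nat_lit 16] [nat_lit 0,nat_lit 1,nat_lit 27,nat_lit 26,nat_lit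 103,nat_lit 102,nat_lit 125,nat_lit 124,nat_lit 14,nat_lit 15,nat_lit 21,nat_lit 20,nat_lit 104,nat_lit 105,nat_lit 114,nat_lit 115] (Cert.out (nat_lit 2) [nat_lit 1,nat_lit 2,nat_lit 25,nat_lit 38,nat_lit 67,nat_lit 191,nat_lit 16] )))) (Cert.rep (nat_lit 109) [] [] [] (Cert.er (Cert.ro (nat_lit 0) [nat_lit 1,nat_lit 8,nat_lit 16] [nat_lit 8,nat_lit 9,nat_lit 16] [nat_lit 0,nat_lit 1,nat_lit 10,nat_lit 11,nat_lit 14,nat_lit 15,nat_lit 4,nat_lit 5] (Cert.ro (nat_lit 1) [nat_lit 1,nat_lit 2,nat_lit 14,nat_lit 16] [nat_lit 1,nat_lit 14,nat_lit 12,nat_lit 16] [nat_lit 0,nat_lit 1,nat_lit 27,nat_lit 26,nat_lit 102,nat_lit 103,nat_lit 124,nat_lit 125,nat_lit 14,nat_lit 15,nat_lit 21,nat_lit 20,nat_lit 105,nat_lit 104,nat_lit 115,nat_lit 114] (Cert.out (nat_lit 2) [nat_lit 1,nat_lit 2,nat_lit 25,nat_lit 38,nat_lit 67,nat_lit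 191,nat_lit 16] )))) Cert.nil)) Cert.nil)) Cert.nil)))) (Cert.xk (nat_lit 164) (Cert.xn (nat_lit 4) (Cert.s2 (nat_lit 0) (nat_lit 10) (Cert.o1 (nat_lit 0) (nat_lit 10) (Cert.fu (nat_lit 4) (nat_lit 1) (nat_lit 0) (nat_lit 0) [] [nat_lit 10,nat_lit 1,nat_lit 18,nat_lit 64] [] [] [] [nat_lit 1] [[nat_lit 1]] [[nat_lit 10]] [Ins.fr [nat_lit 0],Ins.ts (nat_lit 3) [nat_lit 0] [],Ins.ts (nat_lit 4) [nat_lit 0] [nat_lit 0,nat_lit 0,nat_lit 0],Ins.ts (nat_lit 1) [nat_lit 0] [],Ins.fr [nat_lit 1],Ins.ts (nat_lit 3) [nat_lit 0] [],Ins.ts (nat_lit 0) [nat_lit 0,nat_lit 0] [],Ins.ts (nat_lit 1) [nat_lit 0] [],Ins.ts (nat_lit 1) [nat_lit 0,nat_lit 1] [],Ins.fr [nat_lit 0,nat_lit 2],Ins.ts (nat_lit 3) [nat_lit 0] [],Ins.ts (nat_lit 0) [nat_lit 0,nat_lit 0] [nat_lit 1],Ins.fr [nat_lit 2,nat_lit 3,nat_lit 0],Ins.ts (nat_lit 0)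 [nat_lit 0,nat_lit 0] [],Ins.ts (nat_lit 4) [nat_lit 0] [nat_lit 0,nat_lit 0,nat_lit 1]] [(nat_lit 0,nat_lit 0)] (Cert.rep (nat_lit 4) [] [nat_lit 8,nat_lit 4,nat_lit 2,nat_lit 1] [nat_lit 128,nat_lit 64,nat_lit 32,nat_lit 16] (Cert.rep (nat_lit 1) [nat_lit 2,nat_lit 8] [] [] (Cert.rep (nat_lit 2) [nat_lit 4] [] [] (Cert.rep (nat_lit 36) [] [] [] Cert.nil (Cert.rep (nat_lit 37) [] [] [] Cert.nil Cert.nil)) (Cert.rep (nat_lit 10) [] [] [] Cert.nil Cert.nil)) Cert.nil) (Cert.rep (nat_lit 14) [] [nat_lit 98,nat_lit 16,nat_lit 10,nat_lit 4,nat_lit 1] [nat_lit 128,nat_lit 32,nat_lit 2] (Cert.rep (nat_lit 1) [nat_lit 4,nat_lit 16,nat_lit 98] [] [] (Cert.rep (nat_lit 10) [] [] [] Cert.nil Cert.nil) Cert.nil) Cert.nil)))) (Cert.root (nat_lit 16) [] [nat_lit 8,nat_lit 4] [nat_lit 0,nat_lit 1,nat_lit 2,nat_lit 3,nat_lit 4]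 [Ins.fr [nat_lit 0],Ins.ts (nat_lit 0) [nat_lit 0,nat_lit 0] [],Ins.ts (nat_lit 4) [nat_lit 0] [nat_lit 0,nat_lit 0,nat_lit 0],Ins.ts (nat_lit 1) [nat_lit 0] [],Ins.fr [nat_lit 1],Ins.ts (nat_lit 1) [nat_lit 0,nat_lit 0] [],Ins.ts (nat_lit 4) [nat_lit 0] [nat_lit 0,nat_lit 0,nat_lit 0],Ins.ts (nat_lit 1) [nat_lit 0,nat_lit 0,nat_lit 0,nat_lit 0] [],Ins.ts (nat_lit 0) [nat_lit 1,nat_lit 0,nat_lit 1] [nat_lit 0,nat_lit 0,nat_lit 0],Ins.df [nat_lit 0,nat_lit 0],Ins.df [nat_lit 0,nat_lit 0]] (Cert.rep (nat_lit 4) [nat_lit 2,nat_lit 8] [nat_lit 8,nat_lit 4,nat_lit 2,nat_lit 1] [nat_lit 128,nat_lit 64,nat_lit 32,nat_lit 16] (Cert.rep (nat_lit 1) [] [] [] Cert.nil (Cert.rep (nat_lit 2) [] [] [] Cert.nil (Cert.rep (nat_lit 10) [] [] [] Cert.nil Cert.nil))) (Cert.rep (nat_lit 14) [nat_lit 4,nat_lit 16,nat_lit 98] [nat_lit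 98,nat_lit 16,nat_lit 10,nat_lit 4,nat_lit 1] [nat_lit 128,nat_lit 32,nat_lit 2] (Cert.rep (nat_lit 1) [] [] [] Cert.nil (Cert.rep (nat_lit 10) [nat_lit 4] [] [] (Cert.rep (nat_lit 108) [] [] [] (Cert.er (Cert.ro (nat_lit 0) [nat_lit 1,nat_lit 8,nat_lit 16] [nat_lit 8,nat_lit 9,nat_lit 16] [nat_lit 0,nat_lit 1,nat_lit 10,nat_lit 11,nat_lit 14,nat_lit 15,nat_lit 4,nat_lit 5] (Cert.ro (nat_lit 1) [nat_lit 1,nat_lit 2,nat_lit 14,nat_lit 16] [nat_lit 1,nat_lit 14,nat_lit 12,nat_lit 16] [nat_lit 0,nat_lit 1,nat_lit 27,nat_lit 26,nat_lit 103,nat_lit 102,nat_lit 125,nat_lit 124,nat_lit 14,nat_lit 15,nat_lit 21,nat_lit 20,nat_lit 104,nat_lit 105,nat_lit 114,nat_lit 115] (Cert.kw (nat_lit 2) (nat_lit 0) (nat_lit 2) (nat_lit 1) )))) (Cert.rep (nat_lit 109) [] [] [] (Cert.er (Cert.ro (nat_lit 0) [nat_lit 1,nat_lit 8,nat_lit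 16] [nat_lit 8,nat_lit 9,nat_lit 16] [nat_lit 0,nat_lit 1,nat_lit 10,nat_lit 11,nat_lit 14,nat_lit 15,nat_lit 4,nat_lit 5] (Cert.ro (nat_lit 1) [nat_lit 1,nat_lit 2,nat_lit 14,nat_lit 16] [nat_lit 1,nat_lit 14,nat_lit 12,nat_lit 16] [nat_lit 0,nat_lit 1,nat_lit 27,nat_lit 26,nat_lit 102,nat_lit 103,nat_lit 124,nat_lit 125,nat_lit 14,nat_lit 15,nat_lit 21,nat_lit 20,nat_lit 105,nat_lit 104,nat_lit 115,nat_lit 114] (Cert.kw (nat_lit 2) (nat_lit 0) (nat_lit 2) (nat_lit 1) )))) Cert.nil)) Cert.nil)) Cert.nil))))) (Cert.xe (nat_lit 4) [nat_lit 14] [(nat_lit 0,nat_lit 8),(nat_lit 0,nat_lit 128),(nat_lit 4,nat_lit 64),(nat_lit 4,nat_lit 128),(nat_lit 8,nat_lit 128)]))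
noncomputable def f7 : Cert :=
  (Cert.st (nat_lit 0) (nat_lit 4) (nat_lit 0) (Cert.st (nat_lit 0) (nat_lit 14) (nat_lit 0) (Cert.sp (nat_lit 1) (Cert.lf (Leaf.pt (nat_lit 10) (nat_lit 1) [nat_lit 8,nat_lit 4])) (Cert.sp (nat_lit 2) (Cert.lf (Leaf.pt (nat_lit 10) (nat_lit 2) [nat_lit 36,nat_lit 1])) (Cert.st (nat_lit 0) (nat_lit 2) (nat_lit 0) (Cert.sp (nat_lit 10) (Cert.lf (Leaf.pt (nat_lit 5) (nat_lit 10) [nat_lit 4])) (Cert.st (nat_lit 0) (nat_lit 10) (nat_lit 0) (Cert.sp (nat_lit 64) (Cert.lf (Leaf.pt (nat_lit 10) (nat_lit 64) [nat_lit 182,nat_lit 1])) (Cert.st (nat_lit 0) (nat_lit 64) (nat_lit 0) (Cert.sp (nat_lit 152) (Cert.lf (Leaf.pt (nat_lit 14) (nat_lit 152) [nat_lit 1,nat_lit 2,nat_lit 88])) (Cert.st (nat_lit 0) (nat_lit 152) (nat_lit 0) (Cert.nl (nat_lit 1) (Cert.sy (nat_lit 0) (Cert.xk (nat_lit 0) (Cert.th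 (nat_lit 4) (nat_lit 4) (nat_lit 0) true [nat_lit 0] [] [] [] [nat_lit 128,nat_lit 8,nat_lit 100,nat_lit 36,nat_lit 26,nat_lit 24,nat_lit 1] [] [] [] Cert.nil) f7_0))))))))))))))
theorem fin7 : finOK DB PT 34 t34 7 t7 (nat_lit 0xf00000000000000ff00000000f00000000030c000f0c0c0f0f00000ff0c3ccff) f7 = true := by
  decide +kernel
noncomputable def f36_0 : Cert :=
  Cert.s2 (nat_lit 0) (nat_lit 69) (Cert.o1 (nat_lit 0) (nat_lit 69) (Cert.fu (nat_lit 69) (nat_lit 1) (nat_lit 0) (nat_lit 0) [nat_lit 0] [nat_lit 967,nat_lit 838] [] [] [] [nat_lit 1] [[nat_lit 1]] [[nat_lit 69]] [Ins.ts (nat_lit 1) [nat_lit 0] [],Ins.fr [nat_lit 0],Ins.ts (nat_lit 1) [nat_lit 0,nat_lit 0,nat_lit 0,nat_lit 0] [],Ins.ts (nat_lit 1) [nat_lit 0,nat_lit 0,nat_lit 0,nat_lit 0,nat_lit 1] [],Ins.ts (nat_lit 0) [nat_lit 0,nat_lit 0,nat_lit 0,nat_lit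 0,nat_lit 0,nat_lit 0,nat_lit 0,nat_lit 0] [],Ins.fr [nat_lit 1],Ins.ts (nat_lit 0) [nat_lit 0,nat_lit 1,nat_lit 0,nat_lit 1] [],Ins.ts (nat_lit 0) [nat_lit 0,nat_lit 0,nat_lit 0,nat_lit 0] [],Ins.ts (nat_lit 1) [nat_lit 0,nat_lit 0,nat_lit 2] [],Ins.ts (nat_lit 1) [nat_lit 0,nat_lit 0,nat_lit 1,nat_lit 1,nat_lit 1,nat_lit 1] [],Ins.ts (nat_lit 4) [nat_lit 0,nat_lit 0,nat_lit 2] [nat_lit 0,nat_lit 0,nat_lit 1],Ins.ts (nat_lit 1) [nat_lit 0,nat_lit 0,nat_lit 1,nat_lit 1,nat_lit 1,nat_lit 1,nat_lit 2] []] [(nat_lit 3,nat_lit 0)] (Cert.rep (nat_lit 1) [nat_lit 2,nat_lit 4,nat_lit 8,nat_lit 16,nat_lit 64,nat_lit 128,nat_lit 256,nat_lit 512] [nat_lit 512,nat_lit 256,nat_lit 128,nat_lit 64,nat_lit 32,nat_lit 16,nat_lit 8,nat_lit 4,nat_lit 2,nat_lit 1] [] (Cert.rep (nat_lit 320) [] [] [] Cert.nil (Cert.rep (nat_lit 332)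 [] [] [] Cert.nil (Cert.rep (nat_lit 518) [] [] [] Cert.nil (Cert.rep (nat_lit 519) [] [] [] Cert.nil (Cert.rep (nat_lit 522) [] [] [] Cert.nil (Cert.rep (nat_lit 523) [] [] [] Cert.nil (Cert.rep (nat_lit 578) [] [] [] Cert.nil (Cert.rep (nat_lit 590) [] [] [] Cert.nil (Cert.rep (nat_lit 591) [] [] [] Cert.nil (Cert.rep (nat_lit 594) [] [] [] Cert.nil (Cert.rep (nat_lit 606) [] [] [] Cert.nil (Cert.rep (nat_lit 607) [] [] [] Cert.nil Cert.nil)))))))))))) Cert.nil))) (Cert.s2 (nat_lit 0) (nat_lit 72) (Cert.o1 (nat_lit 0) (nat_lit 72) (Cert.fu (nat_lit 72) (nat_lit 1) (nat_lit 0) (nat_lit 0) [nat_lit 0] [nat_lit 983,nat_lit 854] [] [] [] [nat_lit 1] [[nat_lit 1]] [[nat_lit 72]] [Ins.ts (nat_lit 1) [nat_lit 0] [],Ins.fr [nat_lit 0],Ins.ts (nat_lit 1) [nat_lit 0,nat_lit 0,nat_lit 0,nat_lit 0] [],Ins.ts (nat_lit 1) [nat_lit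 0,nat_lit 0,nat_lit 0,nat_lit 0,nat_lit 1] [],Ins.ts (nat_lit 0) [nat_lit 0,nat_lit 0,nat_lit 0,nat_lit 0,nat_lit 0,nat_lit 0,nat_lit 0,nat_lit 0] [],Ins.fr [nat_lit 1],Ins.ts (nat_lit 0) [nat_lit 0,nat_lit 1,nat_lit 0,nat_lit 1] [],Ins.ts (nat_lit 0) [nat_lit 0,nat_lit 0,nat_lit 0,nat_lit 0] [],Ins.ts (nat_lit 1) [nat_lit 0,nat_lit 0,nat_lit 2] [],Ins.ts (nat_lit 1) [nat_lit 0,nat_lit 0,nat_lit 1,nat_lit 1,nat_lit 1,nat_lit 1] [],Ins.ts (nat_lit 1) [nat_lit 0,nat_lit 0] [],Ins.ts (nat_lit 3) [nat_lit 1,nat_lit 0] [],Ins.ts (nat_lit 1) [nat_lit 0,nat_lit 0,nat_lit 1,nat_lit 1,nat_lit 1,nat_lit 1,nat_lit 2] [],Ins.ts (nat_lit 0) [nat_lit 1,nat_lit 0,nat_lit 0] [nat_lit 0,nat_lit 0,nat_lit 1]] [] (Cert.rep (nat_lit 1) [nat_lit 2,nat_lit 4,nat_lit 8,nat_lit 16,nat_lit 64,nat_lit 128,nat_lit 256,nat_lit 512] [nat_lit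 512,nat_lit 256,nat_lit 128,nat_lit 64,nat_lit 32,nat_lit 16,nat_lit 8,nat_lit 4,nat_lit 2,nat_lit 1] [] (Cert.rep (nat_lit 320) [] [] [] Cert.nil (Cert.rep (nat_lit 332) [] [] [] Cert.nil (Cert.rep (nat_lit 518) [] [] [] Cert.nil (Cert.rep (nat_lit 519) [] [] [] Cert.nil (Cert.rep (nat_lit 522) [] [] [] Cert.nil (Cert.rep (nat_lit 523) [] [] [] Cert.nil (Cert.rep (nat_lit 578) [] [] [] Cert.nil (Cert.rep (nat_lit 590) [] [] [] Cert.nil (Cert.rep (nat_lit 591) [] [] [] Cert.nil (Cert.rep (nat_lit 594) [] [] [] Cert.nil (Cert.rep (nat_lit 606) [] [] [] Cert.nil (Cert.rep (nat_lit 607) [] [] [] Cert.nil Cert.nil)))))))))))) Cert.nil))) (Cert.s2 (nat_lit 0) (nat_lit 73) (Cert.o1 (nat_lit 0) (nat_lit 73) (Cert.fu (nat_lit 73) (nat_lit 1) (nat_lit 0) (nat_lit 0) [nat_lit 0] [nat_lit 983,nat_lit 854] [] [] [] [nat_lit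 1] [[nat_lit 1]] [[nat_lit 73]] [Ins.ts (nat_lit 1) [nat_lit 0] [],Ins.fr [nat_lit 0],Ins.ts (nat_lit 1) [nat_lit 0,nat_lit 0,nat_lit 0,nat_lit 0] [],Ins.ts (nat_lit 1) [nat_lit 0,nat_lit 0,nat_lit 0,nat_lit 0,nat_lit 1] [],Ins.ts (nat_lit 0) [nat_lit 0,nat_lit 0,nat_lit 0,nat_lit 0,nat_lit 0,nat_lit 0,nat_lit 0,nat_lit 0] [],Ins.fr [nat_lit 1],Ins.ts (nat_lit 0) [nat_lit 0,nat_lit 1,nat_lit 0,nat_lit 1] [],Ins.ts (nat_lit 4) [nat_lit 1,nat_lit 0] [nat_lit 0,nat_lit 0,nat_lit 1],Ins.ts (nat_lit 0) [nat_lit 0,nat_lit 0,nat_lit 0,nat_lit 0] [],Ins.ts (nat_lit 1) [nat_lit 0,nat_lit 0,nat_lit 2] [],Ins.ts (nat_lit 4) [nat_lit 1,nat_lit 1,nat_lit 1,nat_lit 0] [nat_lit 0,nat_lit 0,nat_lit 2],Ins.ts (nat_lit 4) [nat_lit 0,nat_lit 0,nat_lit 2] [nat_lit 0,nat_lit 0,nat_lit 2],Ins.ts (nat_lit 1) [nat_lit 0,nat_lit 0,nat_lit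 1,nat_lit 1,nat_lit 1,nat_lit 1,nat_lit 2] []] [(nat_lit 2,nat_lit 0),(nat_lit 3,nat_lit 0)] (Cert.rep (nat_lit 1) [nat_lit 2,nat_lit 4,nat_lit 8,nat_lit 16,nat_lit 64,nat_lit 128,nat_lit 256,nat_lit 512] [nat_lit 512,nat_lit 256,nat_lit 128,nat_lit 64,nat_lit 32,nat_lit 16,nat_lit 8,nat_lit 4,nat_lit 2,nat_lit 1] [] (Cert.rep (nat_lit 320) [] [] [] Cert.nil (Cert.rep (nat_lit 332) [] [] [] Cert.nil (Cert.rep (nat_lit 518) [] [] [] Cert.nil (Cert.rep (nat_lit 519) [] [] [] Cert.nil (Cert.rep (nat_lit 522) [] [] [] Cert.nil (Cert.rep (nat_lit 523) [] [] [] Cert.nil (Cert.rep (nat_lit 578) [] [] [] Cert.nil (Cert.rep (nat_lit 590) [] [] [] Cert.nil (Cert.rep (nat_lit 591) [] [] [] Cert.nil (Cert.rep (nat_lit 594) [] [] [] Cert.nil (Cert.rep (nat_lit 606) [] [] [] Cert.nil (Cert.rep (nat_lit 607) [] [] [] Cert.nil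 Cert.nil)))))))))))) Cert.nil))) (Cert.o1 (nat_lit 0) (nat_lit 2) (Cert.fu (nat_lit 8) (nat_lit 1) (nat_lit 0) (nat_lit 0) [] [nat_lit 2,nat_lit 1,nat_lit 4,nat_lit 32] [] [] [] [nat_lit 1] [[nat_lit 1]] [[nat_lit 2]] [Ins.fr [nat_lit 0],Ins.ts (nat_lit 4) [nat_lit 0] [nat_lit 0,nat_lit 0,nat_lit 0],Ins.ts (nat_lit 1) [nat_lit 0] [],Ins.fr [nat_lit 1],Ins.ts (nat_lit 0) [nat_lit 0,nat_lit 0] [],Ins.ts (nat_lit 3) [nat_lit 0] [],Ins.ts (nat_lit 2) [nat_lit 0,nat_lit 2] [],Ins.ts (nat_lit 1) [nat_lit 0] [],Ins.ts (nat_lit 1) [nat_lit 0,nat_lit 1] [],Ins.fr [nat_lit 2],Ins.ts (nat_lit 0) [nat_lit 0,nat_lit 0] [],Ins.ts (nat_lit 3) [nat_lit 0] [],Ins.ts (nat_lit 0) [nat_lit 1,nat_lit 0] [nat_lit 0,nat_lit 1],Ins.ts (nat_lit 1) [nat_lit 0] [],Ins.ts (nat_lit 3) [nat_lit 0,nat_lit 3] [],Ins.fr [nat_lit 1,nat_lit 3],Ins.ts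 (nat_lit 0) [nat_lit 0,nat_lit 0] [],Ins.ts (nat_lit 0) [nat_lit 1,nat_lit 2,nat_lit 0] [nat_lit 0,nat_lit 1],Ins.ts (nat_lit 4) [nat_lit 1,nat_lit 0,nat_lit 3,nat_lit 4] [nat_lit 0,nat_lit 0,nat_lit 1]] [(nat_lit 2,nat_lit 0)] (Cert.rep (nat_lit 8) [] [nat_lit 256,nat_lit 16,nat_lit 8,nat_lit 4,nat_lit 2,nat_lit 1] [nat_lit 512,nat_lit 64,nat_lit 192,nat_lit 32] (Cert.rep (nat_lit 1) [nat_lit 2,nat_lit 16,nat_lit 256] [] [] (Cert.rep (nat_lit 2) [] [] [] (Cert.rep (nat_lit 4) [] [] [] Cert.nil (Cert.rep (nat_lit 5) [] [] [] Cert.nil (Cert.rep (nat_lit 6) [] [] [] Cert.nil (Cert.rep (nat_lit 7) [] [] [] Cert.nil (Cert.rep (nat_lit 12) [] [] [] Cert.nil (Cert.rep (nat_lit 13) [] [] [] Cert.nil (Cert.rep (nat_lit 14) [] [] [] Cert.nil (Cert.rep (nat_lit 15) [] [] [] Cert.nil Cert.nil)))))))) Cert.nil) Cert.nil) Cert.nil)))))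
noncomputable def f36_1 : Cert :=
  Cert.rep (nat_lit 2) [nat_lit 2,nat_lit 4] [] [] (Cert.rep (nat_lit 260) [] [] [] (Cert.er (Cert.ro (nat_lit 0) [nat_lit 1,nat_lit 8,nat_lit 16] [nat_lit 8,nat_lit 9,nat_lit 16] [nat_lit 0,nat_lit 1,nat_lit 2,nat_lit 3,nat_lit 8,nat_lit 9,nat_lit 10,nat_lit 11] (Cert.ro (nat_lit 1) [nat_lit 1,nat_lit 2,nat_lit 14,nat_lit 16] [nat_lit 1,nat_lit 14,nat_lit 12,nat_lit 16] [nat_lit 0,nat_lit 1,nat_lit 16,nat_lit 17,nat_lit 262,nat_lit 263,nat_lit 279,nat_lit 278,nat_lit 8,nat_lit 9,nat_lit 24,nat_lit 25,nat_lit 270,nat_lit 271,nat_lit 287,nat_lit 286] (Cert.lw (nat_lit 0) (nat_lit 2) (nat_lit 1) (Cert.s2 (nat_lit 0) (nat_lit 12) (Cert.o1 (nat_lit 0) (nat_lit 12) (Cert.fu (nat_lit 8) (nat_lit 1) (nat_lit 0) (nat_lit 0) [] [nat_lit 12] [] [] [] [nat_lit 1] [[nat_lit 1]] [[nat_lit 12]]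 [Ins.fr [nat_lit 0],Ins.ts (nat_lit 4) [nat_lit 0] [nat_lit 0,nat_lit 0,nat_lit 0],Ins.ts (nat_lit 1) [nat_lit 0] [],Ins.ts (nat_lit 3) [nat_lit 0,nat_lit 1] []] [] (Cert.rep (nat_lit 8) [] [nat_lit 256,nat_lit 16,nat_lit 8,nat_lit 4,nat_lit 2,nat_lit 1] [nat_lit 512,nat_lit 64,nat_lit 192,nat_lit 32] Cert.nil Cert.nil))) (Cert.s2 (nat_lit 0) (nat_lit 14) (Cert.o1 (nat_lit 0) (nat_lit 14) (Cert.fu (nat_lit 8) (nat_lit 1) (nat_lit 0) (nat_lit 0) [] [nat_lit 14] [] [] [] [nat_lit 1] [[nat_lit 1]] [[nat_lit 14]] [Ins.fr [nat_lit 0],Ins.ts (nat_lit 4) [nat_lit 0] [nat_lit 0,nat_lit 0,nat_lit 0],Ins.ts (nat_lit 1) [nat_lit 0] [],Ins.ts (nat_lit 3) [nat_lit 0,nat_lit 1] []] [] (Cert.rep (nat_lit 8) [] [nat_lit 256,nat_lit 16,nat_lit 8,nat_lit 4,nat_lit 2,nat_lit 1] [nat_lit 512,nat_lit 64,nat_lit 192,nat_lit 32] Cert.nil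 Cert.nil))) (Cert.s2 (nat_lit 0) (nat_lit 68) (Cert.o1 (nat_lit 0) (nat_lit 68) (Cert.fu (nat_lit 68) (nat_lit 1) (nat_lit 0) (nat_lit 0) [nat_lit 0] [nat_lit 967,nat_lit 838] [] [] [] [nat_lit 1] [[nat_lit 1]] [[nat_lit 68]] [Ins.ts (nat_lit 1) [nat_lit 0] [],Ins.fr [nat_lit 0],Ins.ts (nat_lit 1) [nat_lit 0,nat_lit 0,nat_lit 0,nat_lit 0] [],Ins.ts (nat_lit 1) [nat_lit 0,nat_lit 0,nat_lit 0,nat_lit 0,nat_lit 1] [],Ins.ts (nat_lit 0) [nat_lit 0,nat_lit 0,nat_lit 0,nat_lit 0,nat_lit 0,nat_lit 0,nat_lit 0,nat_lit 0] [],Ins.fr [nat_lit 1],Ins.ts (nat_lit 0) [nat_lit 0,nat_lit 1,nat_lit 0,nat_lit 1] [],Ins.ts (nat_lit 0) [nat_lit 0,nat_lit 0,nat_lit 0,nat_lit 0] [],Ins.ts (nat_lit 1) [nat_lit 0,nat_lit 0,nat_lit 2] [],Ins.ts (nat_lit 1) [nat_lit 0,nat_lit 0,nat_lit 1,nat_lit 1,nat_lit 1,nat_lit 1] [],Ins.ts (nat_lit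 1) [nat_lit 0,nat_lit 0] [],Ins.ts (nat_lit 3) [nat_lit 1,nat_lit 0] [],Ins.ts (nat_lit 1) [nat_lit 0,nat_lit 0,nat_lit 1,nat_lit 1,nat_lit 1,nat_lit 1,nat_lit 2] [],Ins.ts (nat_lit 0) [nat_lit 1,nat_lit 0,nat_lit 0] [nat_lit 0,nat_lit 0,nat_lit 1]] [] (Cert.rep (nat_lit 1) [nat_lit 2,nat_lit 4,nat_lit 8,nat_lit 16,nat_lit 64,nat_lit 128,nat_lit 256,nat_lit 512] [nat_lit 512,nat_lit 256,nat_lit 128,nat_lit 64,nat_lit 32,nat_lit 16,nat_lit 8,nat_lit 4,nat_lit 2,nat_lit 1] [] (Cert.rep (nat_lit 320) [] [] [] Cert.nil (Cert.rep (nat_lit 332) [] [] [] Cert.nil (Cert.rep (nat_lit 518) [] [] [] Cert.nil (Cert.rep (nat_lit 519) [] [] [] Cert.nil (Cert.rep (nat_lit 522) [] [] [] Cert.nil (Cert.rep (nat_lit 523) [] [] [] Cert.nil (Cert.rep (nat_lit 578) [] [] [] Cert.nil (Cert.rep (nat_lit 590) [] [] [] Cert.nil (Cert.rep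 (nat_lit 591) [] [] [] Cert.nil (Cert.rep (nat_lit 594) [] [] [] Cert.nil (Cert.rep (nat_lit 606) [] [] [] Cert.nil (Cert.rep (nat_lit 607) [] [] [] Cert.nil Cert.nil)))))))))))) Cert.nil))) f36_0))))))) (Cert.rep (nat_lit 268) [] [] [] (Cert.er (Cert.ro (nat_lit 0) [nat_lit 1,nat_lit 8,nat_lit 16] [nat_lit 8,nat_lit 9,nat_lit 16] [nat_lit 0,nat_lit 1,nat_lit 2,nat_lit 3,nat_lit 8,nat_lit 9,nat_lit 10,nat_lit 11] (Cert.ro (nat_lit 1) [nat_lit 1,nat_lit 2,nat_lit 14,nat_lit 16] [nat_lit 1,nat_lit 14,nat_lit 12,nat_lit 16] [nat_lit 0,nat_lit 1,nat_lit 16,nat_lit 17,nat_lit 270,nat_lit 271,nat_lit 287,nat_lit 286,nat_lit 8,nat_lit 9,nat_lit 24,nat_lit 25,nat_lit 262,nat_lit 263,nat_lit 279,nat_lit 278] (Cert.fu (nat_lit 1) (nat_lit 2) (nat_lit 8) (nat_lit 1) [nat_lit 0] [nat_lit 8,nat_lit 286,nat_lit 37] [] [] [nat_lit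 256,nat_lit 32,nat_lit 16,nat_lit 8,nat_lit 4,nat_lit 2,nat_lit 1] [nat_lit 1] [[nat_lit 16,nat_lit 1]] [[nat_lit 1],[nat_lit 8,nat_lit 1],[nat_lit 286,nat_lit 1]] [Ins.ts (nat_lit 1) [nat_lit 0] [],Ins.fr [nat_lit 0],Ins.ts (nat_lit 2) [nat_lit 0] [],Ins.ts (nat_lit 4) [nat_lit 0] [nat_lit 0,nat_lit 0,nat_lit 1],Ins.ts (nat_lit 1) [nat_lit 0] [],Ins.fr [nat_lit 1],Ins.ts (nat_lit 4) [nat_lit 0] [nat_lit 0,nat_lit 0,nat_lit 2],Ins.ts (nat_lit 1) [nat_lit 0] [],Ins.ts (nat_lit 0) [nat_lit 0,nat_lit 0] [nat_lit 2],Ins.fr [nat_lit 2],Ins.ts (nat_lit 0) [nat_lit 0,nat_lit 0] [nat_lit 3],Ins.ts (nat_lit 2) [nat_lit 1,nat_lit 0,nat_lit 2] [],Ins.ts (nat_lit 0) [nat_lit 1,nat_lit 0,nat_lit 1] [nat_lit 0],Ins.ts (nat_lit 0) [nat_lit 0,nat_lit 2,nat_lit 0] [nat_lit 2],Ins.ts (nat_lit 3) [nat_lit 2,nat_lit 0] []] [] (Cert.rep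 (nat_lit 1) [nat_lit 32] [nat_lit 256,nat_lit 32,nat_lit 16,nat_lit 8,nat_lit 4,nat_lit 2,nat_lit 1] [] (Cert.rep (nat_lit 8) [nat_lit 2] [] [] (Cert.rep (nat_lit 16) [] [] [] Cert.nil Cert.nil) Cert.nil) Cert.nil))))) Cert.nil)) (Cert.rep (nat_lit 4) [] [] [] Cert.nil (Cert.rep (nat_lit 6) [nat_lit 2,nat_lit 4] [] [] (Cert.rep (nat_lit 256) [] [] [] (Cert.er (Cert.ro (nat_lit 0) [nat_lit 1,nat_lit 8,nat_lit 16] [nat_lit 8,nat_lit 9,nat_lit 16] [nat_lit 0,nat_lit 1,nat_lit 6,nat_lit 7,nat_lit 8,nat_lit 9,nat_lit 14,nat_lit 15] (Cert.ro (nat_lit 1) [nat_lit 1,nat_lit 2,nat_lit 14,nat_lit 16] [nat_lit 1,nat_lit 14,nat_lit 12,nat_lit 16] [nat_lit 0,nat_lit 1,nat_lit 17,nat_lit 16,nat_lit 262,nat_lit 263,nat_lit 278,nat_lit 279,nat_lit 8,nat_lit 9,nat_lit 25,nat_lit 24,nat_lit 270,nat_lit 271,nat_lit 286,nat_lit 287]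 (Cert.lf (Leaf.st (nat_lit 2) (nat_lit 1) (nat_lit 5) (Leaf.cf (nat_lit 14))))))) (Cert.rep (nat_lit 264) [] [] [] (Cert.er (Cert.ro (nat_lit 0) [nat_lit 1,nat_lit 8,nat_lit 16] [nat_lit 8,nat_lit 9,nat_lit 16] [nat_lit 0,nat_lit 1,nat_lit 6,nat_lit 7,nat_lit 8,nat_lit 9,nat_lit 14,nat_lit 15] (Cert.ro (nat_lit 1) [nat_lit 1,nat_lit 2,nat_lit 14,nat_lit 16] [nat_lit 1,nat_lit 14,nat_lit 12,nat_lit 16] [nat_lit 0,nat_lit 1,nat_lit 17,nat_lit 16,nat_lit 270,nat_lit 271,nat_lit 286,nat_lit 287,nat_lit 8,nat_lit 9,nat_lit 25,nat_lit 24,nat_lit 262,nat_lit 263,nat_lit 278,nat_lit 279] (Cert.lf (Leaf.st (nat_lit 2) (nat_lit 1) (nat_lit 5) (Leaf.cf (nat_lit 14))))))) Cert.nil)) (Cert.rep (nat_lit 9) [] [] [] Cert.nil (Cert.rep (nat_lit 10) [nat_lit 2,nat_lit 4] [] [] (Cert.rep (nat_lit 260) [] [] [] (Cert.er (Cert.ro (nat_lit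 0) [nat_lit 1,nat_lit 8,nat_lit 16] [nat_lit 8,nat_lit 9,nat_lit 16] [nat_lit 0,nat_lit 1,nat_lit 10,nat_lit 11,nat_lit 8,nat_lit 9,nat_lit 2,nat_lit 3] (Cert.ro (nat_lit 1) [nat_lit 1,nat_lit 2,nat_lit 14,nat_lit 16] [nat_lit 1,nat_lit 14,nat_lit 12,nat_lit 16] [nat_lit 0,nat_lit 1,nat_lit 16,nat_lit 17,nat_lit 270,nat_lit 271,nat_lit 287,nat_lit 286,nat_lit 8,nat_lit 9,nat_lit 24,nat_lit 25,nat_lit 262,nat_lit 263,nat_lit 279,nat_lit 278] (Cert.lf (Leaf.st (nat_lit 2) (nat_lit 1) (nat_lit 1) (Leaf.cf (nat_lit 1))))))) (Cert.rep (nat_lit 268) [] [] [] (Cert.er (Cert.ro (nat_lit 0) [nat_lit 1,nat_lit 8,nat_lit 16] [nat_lit 8,nat_lit 9,nat_lit 16] [nat_lit 0,nat_lit 1,nat_lit 10,nat_lit 11,nat_lit 8,nat_lit 9,nat_lit 2,nat_lit 3] (Cert.ro (nat_lit 1) [nat_lit 1,nat_lit 2,nat_lit 14,nat_lit 16] [nat_lit 1,nat_lit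 14,nat_lit 12,nat_lit 16] [nat_lit 0,nat_lit 1,nat_lit 16,nat_lit 17,nat_lit 262,nat_lit 263,nat_lit 279,nat_lit 278,nat_lit 8,nat_lit 9,nat_lit 24,nat_lit 25,nat_lit 270,nat_lit 271,nat_lit 287,nat_lit 286] (Cert.lf (Leaf.st (nat_lit 2) (nat_lit 1) (nat_lit 1) (Leaf.cf (nat_lit 1))))))) Cert.nil)) (Cert.rep (nat_lit 12) [] [] [] Cert.nil (Cert.rep (nat_lit 14) [nat_lit 2,nat_lit 4] [] [] (Cert.rep (nat_lit 256) [] [] [] (Cert.er (Cert.ro (nat_lit 0) [nat_lit 1,nat_lit 8,nat_lit 16] [nat_lit 8,nat_lit 9,nat_lit 16] [nat_lit 0,nat_lit 1,nat_lit 14,nat_lit 15,nat_lit 8,nat_lit 9,nat_lit 6,nat_lit 7] (Cert.ro (nat_lit 1) [nat_lit 1,nat_lit 2,nat_lit 14,nat_lit 16] [nat_lit 1,nat_lit 14,nat_lit 12,nat_lit 16] [nat_lit 0,nat_lit 1,nat_lit 17,nat_lit 16,nat_lit 270,nat_lit 271,nat_lit 286,nat_lit 287,nat_lit 8,nat_lit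 9,nat_lit 25,nat_lit 24,nat_lit 262,nat_lit 263,nat_lit 278,nat_lit 279] (Cert.lf (Leaf.st (nat_lit 2) (nat_lit 1) (nat_lit 5) (Leaf.cf (nat_lit 6))))))) (Cert.rep (nat_lit 264) [] [] [] (Cert.er (Cert.ro (nat_lit 0) [nat_lit 1,nat_lit 8,nat_lit 16] [nat_lit 8,nat_lit 9,nat_lit 16] [nat_lit 0,nat_lit 1,nat_lit 14,nat_lit 15,nat_lit 8,nat_lit 9,nat_lit 6,nat_lit 7] (Cert.ro (nat_lit 1) [nat_lit 1,nat_lit 2,nat_lit 14,nat_lit 16] [nat_lit 1,nat_lit 14,nat_lit 12,nat_lit 16] [nat_lit 0,nat_lit 1,nat_lit 17,nat_lit 16,nat_lit 262,nat_lit 263,nat_lit 278,nat_lit 279,nat_lit 8,nat_lit 9,nat_lit 25,nat_lit 24,nat_lit 270,nat_lit 271,nat_lit 286,nat_lit 287] (Cert.lf (Leaf.st (nat_lit 2) (nat_lit 1) (nat_lit 5) (Leaf.cf (nat_lit 6))))))) Cert.nil)) (Cert.rep (nat_lit 258) [] [] [] Cert.nil (Cert.rep (nat_lit 266) [] []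 [] Cert.nil Cert.nil))))))))
noncomputable def f36 : Cert :=
  (Cert.st (nat_lit 0) (nat_lit 8) (nat_lit 0) (Cert.sp (nat_lit 1) (Cert.lf (Leaf.pt (nat_lit 7) (nat_lit 1) [nat_lit 8,nat_lit 16])) (Cert.sp (nat_lit 2) (Cert.lf (Leaf.pt (nat_lit 0) (nat_lit 2) [nat_lit 96])) (Cert.st (nat_lit 0) (nat_lit 2) (nat_lit 0) (Cert.sp (nat_lit 4) (Cert.lf (Leaf.pt (nat_lit 7) (nat_lit 4) [nat_lit 8,nat_lit 16])) (Cert.st (nat_lit 0) (nat_lit 4) (nat_lit 0) (Cert.sp (nat_lit 12) (Cert.lf (Leaf.pt (nat_lit 7) (nat_lit 12) [nat_lit 8,nat_lit 16])) (Cert.st (nat_lit 0) (nat_lit 12) (nat_lit 0) (Cert.sp (nat_lit 14) (Cert.lf (Leaf.pt (nat_lit 11) (nat_lit 14) [nat_lit 2,nat_lit 64,nat_lit 1])) (Cert.st (nat_lit 0) (nat_lit 14) (nat_lit 0) (Cert.sp (nat_lit 44) (Cert.lf (Leaf.pt (nat_lit 11) (nat_lit 44) [nat_lit 12,nat_lit 84,nat_lit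 1])) (Cert.st (nat_lit 0) (nat_lit 44) (nat_lit 0) (Cert.sp (nat_lit 68) (Cert.lf (Leaf.st (nat_lit 1) (nat_lit 16) (nat_lit 68) (Leaf.pt (nat_lit 7) (nat_lit 68) [nat_lit 104,nat_lit 130]))) (Cert.st (nat_lit 0) (nat_lit 68) (nat_lit 0) (Cert.sp (nat_lit 69) (Cert.lf (Leaf.pt (nat_lit 11) (nat_lit 69) [nat_lit 1,nat_lit 130,nat_lit 12])) (Cert.st (nat_lit 0) (nat_lit 69) (nat_lit 0) (Cert.sp (nat_lit 72) (Cert.lf (Leaf.pt (nat_lit 11) (nat_lit 72) [nat_lit 12,nat_lit 130,nat_lit 1])) (Cert.st (nat_lit 0) (nat_lit 72) (nat_lit 0) (Cert.sp (nat_lit 73) (Cert.lf (Leaf.pt (nat_lit 11) (nat_lit 73) [nat_lit 1,nat_lit 130,nat_lit 12])) (Cert.st (nat_lit 0) (nat_lit 73) (nat_lit 0) (Cert.sp (nat_lit 266) (Cert.lf (Leaf.pt (nat_lit 7) (nat_lit 266) [nat_lit 8,nat_lit 20])) (Cert.st (nat_lit 0) (nat_lit 266) (nat_lit 0)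 (Cert.nl (nat_lit 1) (Cert.sy (nat_lit 0) (Cert.root (nat_lit 32) [] [nat_lit 8,nat_lit 4] [nat_lit 0,nat_lit 1,nat_lit 2,nat_lit 3,nat_lit 4] [Ins.fr [nat_lit 0],Ins.ts (nat_lit 0) [nat_lit 0,nat_lit 0] [],Ins.ts (nat_lit 1) [nat_lit 0] [],Ins.ts (nat_lit 1) [nat_lit 0,nat_lit 1] [],Ins.fr [nat_lit 1],Ins.ts (nat_lit 1) [nat_lit 0,nat_lit 0] [],Ins.ts (nat_lit 0) [nat_lit 1,nat_lit 0,nat_lit 1] [nat_lit 0,nat_lit 0,nat_lit 0],Ins.ts (nat_lit 1) [nat_lit 0,nat_lit 0,nat_lit 0,nat_lit 0] [],Ins.df [nat_lit 0,nat_lit 0],Ins.df [nat_lit 0,nat_lit 0]] (Cert.rep (nat_lit 8) [nat_lit 2,nat_lit 4,nat_lit 16,nat_lit 256] [nat_lit 256,nat_lit 16,nat_lit 8,nat_lit 4,nat_lit 2,nat_lit 1] [nat_lit 512,nat_lit 64,nat_lit 192,nat_lit 32] (Cert.rep (nat_lit 1) [] [] [] Cert.nil f36_1) Cert.nil))))))))))))))))))))))))))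
theorem fin36 : finOK DB PT 88 t88 36 t36 (nat_lit 0x30c03c0000c30c030000000000000000000000000000000000cc00cc0c0c0c0c0330033003300330c00c3003c00c300300000ff000000ff0c33cf00fccccffff) f36 = true := by
  decide +kernel
noncomputable def f53 : Cert :=
  (Cert.st (nat_lit 0) (nat_lit 8) (nat_lit 0) (Cert.sp (nat_lit 1) (Cert.lf (Leaf.pt (nat_lit 7) (nat_lit 1) [nat_lit 8,nat_lit 16])) (Cert.sp (nat_lit 2) (Cert.lf (Leaf.pt (nat_lit 0) (nat_lit 2) [nat_lit 96])) (Cert.st (nat_lit 0) (nat_lit 2) (nat_lit 0) (Cert.sp (nat_lit 4) (Cert.lf (Leaf.pt (nat_lit 7) (nat_lit 4) [nat_lit 8,nat_lit 16])) (Cert.st (nat_lit 0) (nat_lit 4) (nat_lit 0) (Cert.sp (nat_lit 12) (Cert.lf (Leaf.pt (nat_lit 7) (nat_lit 12) [nat_lit 8,nat_lit 16])) (Cert.sp (nat_lit 13) (Cert.lf (Leaf.pt (nat_lit 7) (nat_lit 13) [nat_lit 8,nat_lit 16])) (Cert.sp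 (nat_lit 14) (Cert.lf (Leaf.pt (nat_lit 11) (nat_lit 14) [nat_lit 2,nat_lit 64,nat_lit 1])) (Cert.st (nat_lit 0) (nat_lit 14) (nat_lit 0) (Cert.sp (nat_lit 18) (Cert.lf (Leaf.pt (nat_lit 0) (nat_lit 18) [nat_lit 132])) (Cert.st (nat_lit 0) (nat_lit 18) (nat_lit 0) (Cert.sp (nat_lit 30) (Cert.lf (Leaf.pt (nat_lit 11) (nat_lit 30) [nat_lit 12,nat_lit 128,nat_lit 1])) (Cert.st (nat_lit 0) (nat_lit 30) (nat_lit 0) (Cert.sp (nat_lit 32) (Cert.lf (Leaf.pt (nat_lit 11) (nat_lit 32) [nat_lit 18,nat_lit 128,nat_lit 1])) (Cert.st (nat_lit 0) (nat_lit 32) (nat_lit 0) (Cert.sp (nat_lit 44) (Cert.lf (Leaf.pt (nat_lit 11) (nat_lit 44) [nat_lit 12,nat_lit 84,nat_lit 1])) (Cert.st (nat_lit 0) (nat_lit 44) (nat_lit 0) (Cert.sp (nat_lit 68) (Cert.lf (Leaf.st (nat_lit 1) (nat_lit 4) (nat_lit 68) (Leaf.st (nat_lit 1) (nat_lit 128)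 (nat_lit 68) (Leaf.st (nat_lit 1) (nat_lit 144) (nat_lit 68) (Leaf.pt (nat_lit 15) (nat_lit 68) [nat_lit 2,nat_lit 13,nat_lit 32]))))) (Cert.st (nat_lit 0) (nat_lit 68) (nat_lit 0) (Cert.sp (nat_lit 69) (Cert.lf (Leaf.st (nat_lit 1) (nat_lit 4) (nat_lit 69) (Leaf.st (nat_lit 1) (nat_lit 132) (nat_lit 69) (Leaf.pt (nat_lit 8) (nat_lit 69) [nat_lit 2,nat_lit 33])))) (Cert.st (nat_lit 0) (nat_lit 69) (nat_lit 0) (Cert.nl (nat_lit 1) (Cert.sy (nat_lit 0) (Cert.root (nat_lit 32) [] [nat_lit 8,nat_lit 4] [] [Ins.fr [nat_lit 0],Ins.ts (nat_lit 0) [nat_lit 0,nat_lit 0] [],Ins.ts (nat_lit 1) [nat_lit 0] [],Ins.ts (nat_lit 1) [nat_lit 0,nat_lit 1] [],Ins.fr [nat_lit 1],Ins.ts (nat_lit 1) [nat_lit 0,nat_lit 0] [],Ins.ts (nat_lit 1) [nat_lit 0,nat_lit 0,nat_lit 0,nat_lit 0] []] (Cert.rep (nat_lit 8) [nat_lit 2,nat_lit 16] [nat_lit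 16,nat_lit 8,nat_lit 4,nat_lit 2,nat_lit 1] [nat_lit 128,nat_lit 64,nat_lit 32] (Cert.rep (nat_lit 1) [] [] [] Cert.nil (Cert.rep (nat_lit 2) [] [] [] Cert.nil (Cert.rep (nat_lit 4) [] [] [] Cert.nil (Cert.rep (nat_lit 5) [] [] [] Cert.nil (Cert.rep (nat_lit 6) [] [] [] Cert.nil (Cert.rep (nat_lit 9) [] [] [] Cert.nil (Cert.rep (nat_lit 10) [] [] [] Cert.nil (Cert.rep (nat_lit 12) [] [] [] Cert.nil (Cert.rep (nat_lit 13) [] [] [] Cert.nil (Cert.rep (nat_lit 14) [] [] [] Cert.nil (Cert.rep (nat_lit 18) [] [] [] Cert.nil (Cert.rep (nat_lit 22) [] [] [] Cert.nil (Cert.rep (nat_lit 26) [] [] [] Cert.nil (Cert.rep (nat_lit 30) [] [] [] Cert.nil Cert.nil)))))))))))))) Cert.nil))))))))))))))))))))))))))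
theorem fin53 : finOK DB PT 88 t88 53 t53 (nat_lit 0xff000000ff0c33cf00fccccffff) f53 = true := by
  decide +kernel
noncomputable def f61_0 : Cert :=
  Cert.rep (nat_lit 8) [nat_lit 2,nat_lit 16] [nat_lit 16,nat_lit 8,nat_lit 4,nat_lit 2,nat_lit 1] [nat_lit 256,nat_lit 128,nat_lit 64,nat_lit 32] (Cert.rep (nat_lit 1) [] [] [] Cert.nil (Cert.rep (nat_lit 2) [] [] [] Cert.nil (Cert.rep (nat_lit 4) [] [] [] Cert.nil (Cert.rep (nat_lit 5) [] [] [] Cert.nil (Cert.rep (nat_lit 6) [] [] [] Cert.nil (Cert.rep (nat_lit 9) [] [] [] Cert.nil (Cert.rep (nat_lit 10) [] [] [] Cert.nil (Cert.rep (nat_lit 12) [] [] [] Cert.nil (Cert.rep (nat_lit 13) [] [] [] Cert.nil (Cert.rep (nat_lit 14) [] [] [] Cert.nil (Cert.rep (nat_lit 18) [] [] [] Cert.nil (Cert.rep (nat_lit 22) [] [] [] Cert.nil (Cert.rep (nat_lit 26) [] [] [] Cert.nil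 (Cert.rep (nat_lit 30) [] [] [] Cert.nil Cert.nil)))))))))))))) (Cert.rep (nat_lit 26) [nat_lit 4,nat_lit 8,nat_lit 34,nat_lit 192] [nat_lit 192,nat_lit 34,nat_lit 18,nat_lit 8,nat_lit 4,nat_lit 1] [nat_lit 256,nat_lit 64,nat_lit 2] (Cert.rep (nat_lit 1) [] [] [] Cert.nil (Cert.rep (nat_lit 4) [nat_lit 4,nat_lit 8] [] [] (Cert.rep (nat_lit 204) [] [] [] (Cert.er (Cert.ro (nat_lit 0) [nat_lit 1,nat_lit 8,nat_lit 16] [nat_lit 8,nat_lit 9,nat_lit 16] [nat_lit 0,nat_lit 1,nat_lit 4,nat_lit 5,nat_lit 26,nat_lit 27,nat_lit 30,nat_lit 31] (Cert.ro (nat_lit 1) [nat_lit 1,nat_lit 2,nat_lit 14,nat_lit 16] [nat_lit 1,nat_lit 14,nat_lit 12,nat_lit 16] [nat_lit 0,nat_lit 1,nat_lit 42,nat_lit 43,nat_lit 200,nat_lit 201,nat_lit 227,nat_lit 226,nat_lit 26,nat_lit 27,nat_lit 49,nat_lit 48,nat_lit 210,nat_lit 211,nat_lit 248,nat_lit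 249] (Cert.lf (Leaf.st (nat_lit 2) (nat_lit 1) (nat_lit 5) (Leaf.cf (nat_lit 30))))))) (Cert.rep (nat_lit 214) [] [] [] (Cert.er (Cert.ro (nat_lit 0) [nat_lit 1,nat_lit 8,nat_lit 16] [nat_lit 8,nat_lit 9,nat_lit 16] [nat_lit 0,nat_lit 1,nat_lit 4,nat_lit 5,nat_lit 26,nat_lit 27,nat_lit 30,nat_lit 31] (Cert.ro (nat_lit 1) [nat_lit 1,nat_lit 2,nat_lit 14,nat_lit 16] [nat_lit 1,nat_lit 14,nat_lit 12,nat_lit 16] [nat_lit 0,nat_lit 1,nat_lit 42,nat_lit 43,nat_lit 210,nat_lit 211,nat_lit 248,nat_lit 249,nat_lit 26,nat_lit 27,nat_lit 49,nat_lit 48,nat_lit 200,nat_lit 201,nat_lit 227,nat_lit 226] (Cert.lf (Leaf.st (nat_lit 2) (nat_lit 1) (nat_lit 5) (Leaf.cf (nat_lit 30))))))) Cert.nil)) (Cert.rep (nat_lit 8) [nat_lit 4,nat_lit 8] [] [] (Cert.rep (nat_lit 192) [] [] [] (Cert.er (Cert.ro (nat_lit 0) [nat_lit 1,nat_lit 8,nat_lit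 16] [nat_lit 8,nat_lit 9,nat_lit 16] [nat_lit 0,nat_lit 1,nat_lit 8,nat_lit 9,nat_lit 26,nat_lit 27,nat_lit 18,nat_lit 19] (Cert.ro (nat_lit 1) [nat_lit 1,nat_lit 2,nat_lit 14,nat_lit 16] [nat_lit 1,nat_lit 14,nat_lit 12,nat_lit 16] [nat_lit 0,nat_lit 1,nat_lit 43,nat_lit 42,nat_lit 200,nat_lit 201,nat_lit 226,nat_lit 227,nat_lit 26,nat_lit 27,nat_lit 48,nat_lit 49,nat_lit 210,nat_lit 211,nat_lit 249,nat_lit 248] (Cert.lf (Leaf.st (nat_lit 2) (nat_lit 1) (nat_lit 1) (Leaf.cf (nat_lit 1))))))) (Cert.rep (nat_lit 218) [] [] [] (Cert.er (Cert.ro (nat_lit 0) [nat_lit 1,nat_lit 8,nat_lit 16] [nat_lit 8,nat_lit 9,nat_lit 16] [nat_lit 0,nat_lit 1,nat_lit 8,nat_lit 9,nat_lit 26,nat_lit 27,nat_lit 18,nat_lit 19] (Cert.ro (nat_lit 1) [nat_lit 1,nat_lit 2,nat_lit 14,nat_lit 16] [nat_lit 1,nat_lit 14,nat_lit 12,nat_lit 16]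 [nat_lit 0,nat_lit 1,nat_lit 43,nat_lit 42,nat_lit 210,nat_lit 211,nat_lit 249,nat_lit 248,nat_lit 26,nat_lit 27,nat_lit 48,nat_lit 49,nat_lit 200,nat_lit 201,nat_lit 226,nat_lit 227] (Cert.lf (Leaf.st (nat_lit 2) (nat_lit 1) (nat_lit 1) (Leaf.cf (nat_lit 1))))))) Cert.nil)) (Cert.rep (nat_lit 12) [] [] [] Cert.nil (Cert.rep (nat_lit 18) [nat_lit 4,nat_lit 8] [] [] (Cert.rep (nat_lit 192) [] [] [] (Cert.er (Cert.ro (nat_lit 0) [nat_lit 1,nat_lit 8,nat_lit 16] [nat_lit 8,nat_lit 9,nat_lit 16] [nat_lit 0,nat_lit 1,nat_lit 18,nat_lit 19,nat_lit 26,nat_lit 27,nat_lit 8,nat_lit 9] (Cert.ro (nat_lit 1) [nat_lit 1,nat_lit 2,nat_lit 14,nat_lit 16] [nat_lit 1,nat_lit 14,nat_lit 12,nat_lit 16] [nat_lit 0,nat_lit 1,nat_lit 43,nat_lit 42,nat_lit 210,nat_lit 211,nat_lit 249,nat_lit 248,nat_lit 26,nat_lit 27,nat_lit 48,nat_lit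 49,nat_lit 200,nat_lit 201,nat_lit 226,nat_lit 227] (Cert.kw (nat_lit 2) (nat_lit 0) (nat_lit 2) (nat_lit 1) )))) (Cert.rep (nat_lit 218) [] [] [] (Cert.er (Cert.ro (nat_lit 0) [nat_lit 1,nat_lit 8,nat_lit 16] [nat_lit 8,nat_lit 9,nat_lit 16] [nat_lit 0,nat_lit 1,nat_lit 18,nat_lit 19,nat_lit 26,nat_lit 27,nat_lit 8,nat_lit 9] (Cert.ro (nat_lit 1) [nat_lit 1,nat_lit 2,nat_lit 14,nat_lit 16] [nat_lit 1,nat_lit 14,nat_lit 12,nat_lit 16] [nat_lit 0,nat_lit 1,nat_lit 43,nat_lit 42,nat_lit 200,nat_lit 201,nat_lit 226,nat_lit 227,nat_lit 26,nat_lit 27,nat_lit 48,nat_lit 49,nat_lit 210,nat_lit 211,nat_lit 249,nat_lit 248] (Cert.kw (nat_lit 2) (nat_lit 0) (nat_lit 2) (nat_lit 1) )))) Cert.nil)) (Cert.rep (nat_lit 22) [] [] [] Cert.nil (Cert.rep (nat_lit 27) [] [] [] Cert.nil (Cert.rep (nat_lit 30) [nat_lit 4,nat_lit 8]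 [] [] (Cert.rep (nat_lit 204) [] [] [] (Cert.er (Cert.ro (nat_lit 0) [nat_lit 1,nat_lit 8,nat_lit 16] [nat_lit 8,nat_lit 9,nat_lit 16] [nat_lit 0,nat_lit 1,nat_lit 30,nat_lit 31,nat_lit 26,nat_lit 27,nat_lit 4,nat_lit 5] (Cert.ro (nat_lit 1) [nat_lit 1,nat_lit 2,nat_lit 14,nat_lit 16] [nat_lit 1,nat_lit 14,nat_lit 12,nat_lit 16] [nat_lit 0,nat_lit 1,nat_lit 42,nat_lit 43,nat_lit 210,nat_lit 211,nat_lit 248,nat_lit 249,nat_lit 26,nat_lit 27,nat_lit 49,nat_lit 48,nat_lit 200,nat_lit 201,nat_lit 227,nat_lit 226] (Cert.lf (Leaf.st (nat_lit 2) (nat_lit 1) (nat_lit 5) (Leaf.cf (nat_lit 4))))))) (Cert.rep (nat_lit 214) [] [] [] (Cert.er (Cert.ro (nat_lit 0) [nat_lit 1,nat_lit 8,nat_lit 16] [nat_lit 8,nat_lit 9,nat_lit 16] [nat_lit 0,nat_lit 1,nat_lit 30,nat_lit 31,nat_lit 26,nat_lit 27,nat_lit 4,nat_lit 5] (Cert.ro (nat_lit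 1) [nat_lit 1,nat_lit 2,nat_lit 14,nat_lit 16] [nat_lit 1,nat_lit 14,nat_lit 12,nat_lit 16] [nat_lit 0,nat_lit 1,nat_lit 42,nat_lit 43,nat_lit 200,nat_lit 201,nat_lit 227,nat_lit 226,nat_lit 26,nat_lit 27,nat_lit 49,nat_lit 48,nat_lit 210,nat_lit 211,nat_lit 248,nat_lit 249] (Cert.lf (Leaf.st (nat_lit 2) (nat_lit 1) (nat_lit 5) (Leaf.cf (nat_lit 4))))))) Cert.nil)) (Cert.rep (nat_lit 196) [] [] [] Cert.nil (Cert.rep (nat_lit 222) [] [] [] Cert.nil Cert.nil)))))))))) Cert.nil)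
noncomputable def f61 : Cert :=
  (Cert.st (nat_lit 0) (nat_lit 8) (nat_lit 0) (Cert.st (nat_lit 0) (nat_lit 26) (nat_lit 0) (Cert.sp (nat_lit 1) (Cert.lf (Leaf.pt (nat_lit 7) (nat_lit 1) [nat_lit 8,nat_lit 16])) (Cert.sp (nat_lit 2) (Cert.lf (Leaf.pt (nat_lit 0) (nat_lit 2) [nat_lit 96])) (Cert.st (nat_lit 0) (nat_lit 2) (nat_lit 0) (Cert.sp (nat_lit 4) (Cert.lf (Leaf.pt (nat_lit 7) (nat_lit 4) [nat_lit 8,nat_lit 16])) (Cert.st (nat_lit 0) (nat_lit 4) (nat_lit 0) (Cert.sp (nat_lit 12) (Cert.lf (Leaf.pt (nat_lit 7) (nat_lit 12) [nat_lit 8,nat_lit 16])) (Cert.st (nat_lit 0) (nat_lit 12) (nat_lit 0) (Cert.sp (nat_lit 18) (Cert.lf (Leaf.pt (nat_lit 7) (nat_lit 18) [nat_lit 146,nat_lit 36])) (Cert.st (nat_lit 0) (nat_lit 18) (nat_lit 0) (Cert.sp (nat_lit 22) (Cert.lf (Leaf.pt (nat_lit 7) (nat_lit 22) [nat_lit 26,nat_lit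 38])) (Cert.st (nat_lit 0) (nat_lit 22) (nat_lit 0) (Cert.sp (nat_lit 30) (Cert.lf (Leaf.pt (nat_lit 8) (nat_lit 30) [nat_lit 4,nat_lit 18])) (Cert.st (nat_lit 0) (nat_lit 30) (nat_lit 0) (Cert.sp (nat_lit 128) (Cert.lf (Leaf.pt (nat_lit 7) (nat_lit 128) [nat_lit 146,nat_lit 36])) (Cert.st (nat_lit 0) (nat_lit 128) (nat_lit 0) (Cert.nl (nat_lit 1) (Cert.sy (nat_lit 0) (Cert.s2 (nat_lit 0) (nat_lit 18) (Cert.o1 (nat_lit 0) (nat_lit 18) (Cert.fu (nat_lit 8) (nat_lit 1) (nat_lit 0) (nat_lit 0) [] [nat_lit 18,nat_lit 1,nat_lit 4,nat_lit 32,nat_lit 128] [] [] [] [nat_lit 1] [[nat_lit 1]] [[nat_lit 18]] [Ins.fr [nat_lit 0],Ins.ts (nat_lit 4) [nat_lit 0] [nat_lit 0,nat_lit 0,nat_lit 0],Ins.ts (nat_lit 1) [nat_lit 0] [],Ins.fr [nat_lit 1],Ins.ts (nat_lit 2) [nat_lit 0,nat_lit 2] [],Ins.ts (nat_lit 0) [nat_lit 0,nat_lit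 0] [],Ins.ts (nat_lit 1) [nat_lit 0] [],Ins.ts (nat_lit 3) [nat_lit 0] [],Ins.ts (nat_lit 1) [nat_lit 0,nat_lit 1] [],Ins.fr [nat_lit 2],Ins.ts (nat_lit 3) [nat_lit 0] [],Ins.ts (nat_lit 0) [nat_lit 0,nat_lit 0] [],Ins.ts (nat_lit 3) [nat_lit 0,nat_lit 3] [],Ins.ts (nat_lit 0) [nat_lit 1,nat_lit 0] [nat_lit 0,nat_lit 1],Ins.fr [nat_lit 1,nat_lit 3],Ins.ts (nat_lit 0) [nat_lit 0,nat_lit 0] [],Ins.ts (nat_lit 2) [nat_lit 0] [],Ins.ts (nat_lit 0) [nat_lit 1,nat_lit 2,nat_lit 0] [nat_lit 0,nat_lit 1],Ins.fr [nat_lit 0],Ins.ts (nat_lit 0) [nat_lit 0,nat_lit 0] []] [] (Cert.rep (nat_lit 8) [] [nat_lit 16,nat_lit 8,nat_lit 4,nat_lit 2,nat_lit 1] [nat_lit 256,nat_lit 128,nat_lit 64,nat_lit 32] (Cert.rep (nat_lit 1) [nat_lit 2,nat_lit 16] [] [] (Cert.rep (nat_lit 2) [] [] [] (Cert.rep (nat_lit 4) [nat_lit 4] [] [] (Cert.rep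 (nat_lit 76) [] [] [] Cert.nil (Cert.rep (nat_lit 77) [] [] [] Cert.nil Cert.nil)) (Cert.rep (nat_lit 5) [nat_lit 4] [] [] (Cert.rep (nat_lit 76) [] [] [] Cert.nil (Cert.rep (nat_lit 77) [] [] [] Cert.nil Cert.nil)) (Cert.rep (nat_lit 6) [nat_lit 4] [] [] (Cert.rep (nat_lit 76) [] [] [] Cert.nil (Cert.rep (nat_lit 77) [] [] [] Cert.nil Cert.nil)) (Cert.rep (nat_lit 7) [nat_lit 4] [] [] (Cert.rep (nat_lit 76) [] [] [] Cert.nil (Cert.rep (nat_lit 77) [] [] [] Cert.nil Cert.nil)) (Cert.rep (nat_lit 12) [] [] [] Cert.nil (Cert.rep (nat_lit 13) [] [] [] Cert.nil (Cert.rep (nat_lit 14) [] [] [] Cert.nil (Cert.rep (nat_lit 15) [] [] [] Cert.nil Cert.nil)))))))) (Cert.rep (nat_lit 18) [] [] [] (Cert.rep (nat_lit 4) [] [] [] Cert.nil (Cert.rep (nat_lit 5) [] [] [] Cert.nil (Cert.rep (nat_lit 12) [] [] [] Cert.nil (Cert.rep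 (nat_lit 13) [] [] [] Cert.nil (Cert.rep (nat_lit 22) [] [] [] Cert.nil (Cert.rep (nat_lit 23) [] [] [] Cert.nil (Cert.rep (nat_lit 30) [] [] [] Cert.nil (Cert.rep (nat_lit 31) [] [] [] Cert.nil Cert.nil)))))))) Cert.nil)) Cert.nil) (Cert.rep (nat_lit 26) [] [nat_lit 192,nat_lit 34,nat_lit 18,nat_lit 8,nat_lit 4,nat_lit 1] [nat_lit 256,nat_lit 64,nat_lit 2] (Cert.rep (nat_lit 1) [nat_lit 4,nat_lit 34,nat_lit 192] [] [] (Cert.rep (nat_lit 18) [] [] [] (Cert.rep (nat_lit 4) [] [] [] Cert.nil (Cert.rep (nat_lit 5) [] [] [] Cert.nil (Cert.rep (nat_lit 12) [] [] [] Cert.nil (Cert.rep (nat_lit 13) [] [] [] Cert.nil (Cert.rep (nat_lit 22) [] [] [] Cert.nil (Cert.rep (nat_lit 23) [] [] [] Cert.nil (Cert.rep (nat_lit 30) [] [] [] Cert.nil (Cert.rep (nat_lit 31) [] [] [] Cert.nil Cert.nil)))))))) Cert.nil) Cert.nil) Cert.nil))))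 (Cert.root (nat_lit 32) [] [nat_lit 8,nat_lit 4] [nat_lit 0,nat_lit 1,nat_lit 2,nat_lit 3,nat_lit 4] [Ins.fr [nat_lit 0],Ins.ts (nat_lit 0) [nat_lit 0,nat_lit 0] [],Ins.ts (nat_lit 1) [nat_lit 0] [],Ins.ts (nat_lit 1) [nat_lit 0,nat_lit 1] [],Ins.fr [nat_lit 1],Ins.ts (nat_lit 1) [nat_lit 0,nat_lit 0] [],Ins.ts (nat_lit 1) [nat_lit 0,nat_lit 0,nat_lit 0,nat_lit 0] [],Ins.ts (nat_lit 0) [nat_lit 1,nat_lit 0,nat_lit 1] [nat_lit 0,nat_lit 0,nat_lit 0],Ins.df [nat_lit 0,nat_lit 0],Ins.df [nat_lit 0,nat_lit 0]] f61_0)))))))))))))))))))))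
theorem fin61 : finOK DB PT 88 t88 61 t61 (nat_lit 0xc30f000c00300f00c300f00300c000f00000ff00000f00fc33cf00fccccffff) f61 = true := by
  decide +kernel
noncomputable def f67_0 : Cert :=
  Cert.rep (nat_lit 8) [nat_lit 2,nat_lit 16] [nat_lit 16,nat_lit 8,nat_lit 4,nat_lit 2,nat_lit 1] [nat_lit 256,nat_lit 128,nat_lit 64,nat_lit 32] (Cert.rep (nat_lit 1) [] [] [] Cert.nil (Cert.rep (nat_lit 2) [] [] [] Cert.nil (Cert.rep (nat_lit 4) [] [] [] Cert.nil (Cert.rep (nat_lit 5) [] [] [] Cert.nil (Cert.rep (nat_lit 6) [] [] [] Cert.nil (Cert.rep (nat_lit 9) [] [] [] Cert.nil (Cert.rep (nat_lit 10) [] [] [] Cert.nil (Cert.rep (nat_lit 12) [] [] [] Cert.nil (Cert.rep (nat_lit 13) [] [] [] Cert.nil (Cert.rep (nat_lit 14) [] [] [] Cert.nil (Cert.rep (nat_lit 18) [] [] [] Cert.nil (Cert.rep (nat_lit 22) [] [] [] Cert.nil (Cert.rep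 (nat_lit 26) [] [] [] Cert.nil (Cert.rep (nat_lit 30) [] [] [] Cert.nil Cert.nil)))))))))))))) (Cert.rep (nat_lit 26) [nat_lit 4,nat_lit 8,nat_lit 34,nat_lit 192] [nat_lit 192,nat_lit 34,nat_lit 18,nat_lit 8,nat_lit 4,nat_lit 1] [nat_lit 256,nat_lit 64,nat_lit 2] (Cert.rep (nat_lit 1) [] [] [] Cert.nil (Cert.rep (nat_lit 4) [nat_lit 4,nat_lit 8] [] [] (Cert.rep (nat_lit 204) [] [] [] (Cert.er (Cert.ro (nat_lit 0) [nat_lit 1,nat_lit 8,nat_lit 16] [nat_lit 8,nat_lit 9,nat_lit 16] [nat_lit 0,nat_lit 1,nat_lit 4,nat_lit 5,nat_lit 26,nat_lit 27,nat_lit 30,nat_lit 31] (Cert.ro (nat_lit 1) [nat_lit 1,nat_lit 2,nat_lit 14,nat_lit 16] [nat_lit 1,nat_lit 14,nat_lit 12,nat_lit 16] [nat_lit 0,nat_lit 1,nat_lit 42,nat_lit 43,nat_lit 200,nat_lit 201,nat_lit 227,nat_lit 226,nat_lit 26,nat_lit 27,nat_lit 49,nat_lit 48,nat_lit 210,nat_lit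 211,nat_lit 248,nat_lit 249] (Cert.lf (Leaf.st (nat_lit 2) (nat_lit 1) (nat_lit 5) (Leaf.cf (nat_lit 30))))))) (Cert.rep (nat_lit 214) [] [] [] (Cert.er (Cert.ro (nat_lit 0) [nat_lit 1,nat_lit 8,nat_lit 16] [nat_lit 8,nat_lit 9,nat_lit 16] [nat_lit 0,nat_lit 1,nat_lit 4,nat_lit 5,nat_lit 26,nat_lit 27,nat_lit 30,nat_lit 31] (Cert.ro (nat_lit 1) [nat_lit 1,nat_lit 2,nat_lit 14,nat_lit 16] [nat_lit 1,nat_lit 14,nat_lit 12,nat_lit 16] [nat_lit 0,nat_lit 1,nat_lit 42,nat_lit 43,nat_lit 210,nat_lit 211,nat_lit 248,nat_lit 249,nat_lit 26,nat_lit 27,nat_lit 49,nat_lit 48,nat_lit 200,nat_lit 201,nat_lit 227,nat_lit 226] (Cert.lf (Leaf.st (nat_lit 2) (nat_lit 1) (nat_lit 5) (Leaf.cf (nat_lit 30))))))) Cert.nil)) (Cert.rep (nat_lit 8) [nat_lit 4,nat_lit 8] [] [] (Cert.rep (nat_lit 192) [] [] [] (Cert.er (Cert.ro (nat_lit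 0) [nat_lit 1,nat_lit 8,nat_lit 16] [nat_lit 8,nat_lit 9,nat_lit 16] [nat_lit 0,nat_lit 1,nat_lit 8,nat_lit 9,nat_lit 26,nat_lit 27,nat_lit 18,nat_lit 19] (Cert.ro (nat_lit 1) [nat_lit 1,nat_lit 2,nat_lit 14,nat_lit 16] [nat_lit 1,nat_lit 14,nat_lit 12,nat_lit 16] [nat_lit 0,nat_lit 1,nat_lit 43,nat_lit 42,nat_lit 200,nat_lit 201,nat_lit 226,nat_lit 227,nat_lit 26,nat_lit 27,nat_lit 48,nat_lit 49,nat_lit 210,nat_lit 211,nat_lit 249,nat_lit 248] (Cert.lf (Leaf.st (nat_lit 2) (nat_lit 1) (nat_lit 1) (Leaf.cf (nat_lit 1))))))) (Cert.rep (nat_lit 218) [] [] [] (Cert.er (Cert.ro (nat_lit 0) [nat_lit 1,nat_lit 8,nat_lit 16] [nat_lit 8,nat_lit 9,nat_lit 16] [nat_lit 0,nat_lit 1,nat_lit 8,nat_lit 9,nat_lit 26,nat_lit 27,nat_lit 18,nat_lit 19] (Cert.ro (nat_lit 1) [nat_lit 1,nat_lit 2,nat_lit 14,nat_lit 16] [nat_lit 1,nat_lit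 14,nat_lit 12,nat_lit 16] [nat_lit 0,nat_lit 1,nat_lit 43,nat_lit 42,nat_lit 210,nat_lit 211,nat_lit 249,nat_lit 248,nat_lit 26,nat_lit 27,nat_lit 48,nat_lit 49,nat_lit 200,nat_lit 201,nat_lit 226,nat_lit 227] (Cert.lf (Leaf.st (nat_lit 2) (nat_lit 1) (nat_lit 1) (Leaf.cf (nat_lit 1))))))) Cert.nil)) (Cert.rep (nat_lit 12) [] [] [] Cert.nil (Cert.rep (nat_lit 18) [nat_lit 4,nat_lit 8] [] [] (Cert.rep (nat_lit 192) [] [] [] (Cert.er (Cert.ro (nat_lit 0) [nat_lit 1,nat_lit 8,nat_lit 16] [nat_lit 8,nat_lit 9,nat_lit 16] [nat_lit 0,nat_lit 1,nat_lit 18,nat_lit 19,nat_lit 26,nat_lit 27,nat_lit 8,nat_lit 9] (Cert.ro (nat_lit 1) [nat_lit 1,nat_lit 2,nat_lit 14,nat_lit 16] [nat_lit 1,nat_lit 14,nat_lit 12,nat_lit 16] [nat_lit 0,nat_lit 1,nat_lit 43,nat_lit 42,nat_lit 210,nat_lit 211,nat_lit 249,nat_lit 248,nat_lit 26,nat_lit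 27,nat_lit 48,nat_lit 49,nat_lit 200,nat_lit 201,nat_lit 226,nat_lit 227] (Cert.kw (nat_lit 2) (nat_lit 0) (nat_lit 2) (nat_lit 1) )))) (Cert.rep (nat_lit 218) [] [] [] (Cert.er (Cert.ro (nat_lit 0) [nat_lit 1,nat_lit 8,nat_lit 16] [nat_lit 8,nat_lit 9,nat_lit 16] [nat_lit 0,nat_lit 1,nat_lit 18,nat_lit 19,nat_lit 26,nat_lit 27,nat_lit 8,nat_lit 9] (Cert.ro (nat_lit 1) [nat_lit 1,nat_lit 2,nat_lit 14,nat_lit 16] [nat_lit 1,nat_lit 14,nat_lit 12,nat_lit 16] [nat_lit 0,nat_lit 1,nat_lit 43,nat_lit 42,nat_lit 200,nat_lit 201,nat_lit 226,nat_lit 227,nat_lit 26,nat_lit 27,nat_lit 48,nat_lit 49,nat_lit 210,nat_lit 211,nat_lit 249,nat_lit 248] (Cert.kw (nat_lit 2) (nat_lit 0) (nat_lit 2) (nat_lit 1) )))) Cert.nil)) (Cert.rep (nat_lit 22) [] [] [] Cert.nil (Cert.rep (nat_lit 27) [] [] [] Cert.nil (Cert.rep (nat_lit 30)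 [nat_lit 4,nat_lit 8] [] [] (Cert.rep (nat_lit 204) [] [] [] (Cert.er (Cert.ro (nat_lit 0) [nat_lit 1,nat_lit 8,nat_lit 16] [nat_lit 8,nat_lit 9,nat_lit 16] [nat_lit 0,nat_lit 1,nat_lit 30,nat_lit 31,nat_lit 26,nat_lit 27,nat_lit 4,nat_lit 5] (Cert.ro (nat_lit 1) [nat_lit 1,nat_lit 2,nat_lit 14,nat_lit 16] [nat_lit 1,nat_lit 14,nat_lit 12,nat_lit 16] [nat_lit 0,nat_lit 1,nat_lit 42,nat_lit 43,nat_lit 210,nat_lit 211,nat_lit 248,nat_lit 249,nat_lit 26,nat_lit 27,nat_lit 49,nat_lit 48,nat_lit 200,nat_lit 201,nat_lit 227,nat_lit 226] (Cert.lf (Leaf.st (nat_lit 2) (nat_lit 1) (nat_lit 5) (Leaf.cf (nat_lit 4))))))) (Cert.rep (nat_lit 214) [] [] [] (Cert.er (Cert.ro (nat_lit 0) [nat_lit 1,nat_lit 8,nat_lit 16] [nat_lit 8,nat_lit 9,nat_lit 16] [nat_lit 0,nat_lit 1,nat_lit 30,nat_lit 31,nat_lit 26,nat_lit 27,nat_lit 4,nat_lit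 5] (Cert.ro (nat_lit 1) [nat_lit 1,nat_lit 2,nat_lit 14,nat_lit 16] [nat_lit 1,nat_lit 14,nat_lit 12,nat_lit 16] [nat_lit 0,nat_lit 1,nat_lit 42,nat_lit 43,nat_lit 200,nat_lit 201,nat_lit 227,nat_lit 226,nat_lit 26,nat_lit 27,nat_lit 49,nat_lit 48,nat_lit 210,nat_lit 211,nat_lit 248,nat_lit 249] (Cert.lf (Leaf.st (nat_lit 2) (nat_lit 1) (nat_lit 5) (Leaf.cf (nat_lit 4))))))) Cert.nil)) (Cert.rep (nat_lit 196) [] [] [] Cert.nil (Cert.rep (nat_lit 222) [] [] [] Cert.nil Cert.nil)))))))))) Cert.nil)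
noncomputable def f67 : Cert :=
  (Cert.st (nat_lit 0) (nat_lit 8) (nat_lit 0) (Cert.st (nat_lit 0) (nat_lit 26) (nat_lit 0) (Cert.sp (nat_lit 1) (Cert.lf (Leaf.pt (nat_lit 7) (nat_lit 1) [nat_lit 8,nat_lit 16])) (Cert.sp (nat_lit 2) (Cert.lf (Leaf.pt (nat_lit 0) (nat_lit 2) [nat_lit 96])) (Cert.st (nat_lit 0) (nat_lit 2) (nat_lit 0) (Cert.sp (nat_lit 4) (Cert.lf (Leaf.pt (nat_lit 7) (nat_lit 4) [nat_lit 8,nat_lit 16])) (Cert.st (nat_lit 0) (nat_lit 4) (nat_lit 0) (Cert.sp (nat_lit 12) (Cert.lf (Leaf.pt (nat_lit 7) (nat_lit 12) [nat_lit 8,nat_lit 16])) (Cert.st (nat_lit 0) (nat_lit 12) (nat_lit 0) (Cert.sp (nat_lit 18) (Cert.lf (Leaf.pt (nat_lit 6) (nat_lit 18) [nat_lit 8])) (Cert.st (nat_lit 0) (nat_lit 18) (nat_lit 0) (Cert.sp (nat_lit 22) (Cert.lf (Leaf.pt (nat_lit 7) (nat_lit 22) [nat_lit 26,nat_lit 38])) (Cert.st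 (nat_lit 0) (nat_lit 22) (nat_lit 0) (Cert.sp (nat_lit 30) (Cert.lf (Leaf.pt (nat_lit 7) (nat_lit 30) [nat_lit 156,nat_lit 36])) (Cert.st (nat_lit 0) (nat_lit 30) (nat_lit 0) (Cert.sp (nat_lit 128) (Cert.lf (Leaf.pt (nat_lit 7) (nat_lit 128) [nat_lit 180,nat_lit 16])) (Cert.st (nat_lit 0) (nat_lit 128) (nat_lit 0) (Cert.sp (nat_lit 260) (Cert.lf (Leaf.st (nat_lit 1) (nat_lit 40) (nat_lit 260) (Leaf.pt (nat_lit 7) (nat_lit 260) [nat_lit 261,nat_lit 72]))) (Cert.st (nat_lit 0) (nat_lit 260) (nat_lit 0) (Cert.nl (nat_lit 1) (Cert.sy (nat_lit 0) (Cert.s2 (nat_lit 0) (nat_lit 18) (Cert.o1 (nat_lit 0) (nat_lit 18) (Cert.fu (nat_lit 8) (nat_lit 1) (nat_lit 0) (nat_lit 0) [] [nat_lit 18,nat_lit 1,nat_lit 4,nat_lit 32,nat_lit 128] [] [] [] [nat_lit 1] [[nat_lit 1]] [[nat_lit 18]] [Ins.fr [nat_lit 0],Ins.ts (nat_lit 4) [nat_lit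 0] [nat_lit 0,nat_lit 0,nat_lit 0],Ins.ts (nat_lit 1) [nat_lit 0] [],Ins.fr [nat_lit 1],Ins.ts (nat_lit 2) [nat_lit 0,nat_lit 2] [],Ins.ts (nat_lit 0) [nat_lit 0,nat_lit 0] [],Ins.ts (nat_lit 1) [nat_lit 0] [],Ins.ts (nat_lit 3) [nat_lit 0] [],Ins.ts (nat_lit 1) [nat_lit 0,nat_lit 1] [],Ins.fr [nat_lit 2],Ins.ts (nat_lit 3) [nat_lit 0] [],Ins.ts (nat_lit 0) [nat_lit 0,nat_lit 0] [],Ins.ts (nat_lit 3) [nat_lit 0,nat_lit 3] [],Ins.ts (nat_lit 0) [nat_lit 1,nat_lit 0] [nat_lit 0,nat_lit 1],Ins.fr [nat_lit 1,nat_lit 3],Ins.ts (nat_lit 0) [nat_lit 0,nat_lit 0] [],Ins.ts (nat_lit 2) [nat_lit 0] [],Ins.ts (nat_lit 0) [nat_lit 1,nat_lit 2,nat_lit 0] [nat_lit 0,nat_lit 1],Ins.fr [nat_lit 0],Ins.ts (nat_lit 0) [nat_lit 0,nat_lit 0] [],Ins.ts (nat_lit 0) [nat_lit 5,nat_lit 1,nat_lit 2] [nat_lit 0,nat_lit 2,nat_lit 0]] [] (Cert.rep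 (nat_lit 8) [] [nat_lit 16,nat_lit 8,nat_lit 4,nat_lit 2,nat_lit 1] [nat_lit 256,nat_lit 128,nat_lit 64,nat_lit 32] (Cert.rep (nat_lit 1) [nat_lit 2,nat_lit 16] [] [] (Cert.rep (nat_lit 2) [] [] [] (Cert.rep (nat_lit 4) [nat_lit 4] [] [] (Cert.rep (nat_lit 76) [] [] [] Cert.nil (Cert.rep (nat_lit 77) [] [] [] Cert.nil Cert.nil)) (Cert.rep (nat_lit 5) [nat_lit 4] [] [] (Cert.rep (nat_lit 76) [] [] [] Cert.nil (Cert.rep (nat_lit 77) [] [] [] Cert.nil Cert.nil)) (Cert.rep (nat_lit 6) [nat_lit 4] [] [] (Cert.rep (nat_lit 76) [] [] [] Cert.nil (Cert.rep (nat_lit 77) [] [] [] Cert.nil Cert.nil)) (Cert.rep (nat_lit 7) [nat_lit 4] [] [] (Cert.rep (nat_lit 76) [] [] [] Cert.nil (Cert.rep (nat_lit 77) [] [] [] Cert.nil Cert.nil)) (Cert.rep (nat_lit 12) [] [] [] Cert.nil (Cert.rep (nat_lit 13) [] [] [] Cert.nil (Cert.rep (nat_lit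 14) [] [] [] Cert.nil (Cert.rep (nat_lit 15) [] [] [] Cert.nil Cert.nil)))))))) (Cert.rep (nat_lit 18) [] [] [] (Cert.rep (nat_lit 4) [] [] [] Cert.nil (Cert.rep (nat_lit 5) [] [] [] Cert.nil (Cert.rep (nat_lit 12) [] [] [] Cert.nil (Cert.rep (nat_lit 13) [] [] [] Cert.nil (Cert.rep (nat_lit 22) [] [] [] Cert.nil (Cert.rep (nat_lit 23) [] [] [] Cert.nil (Cert.rep (nat_lit 30) [] [] [] Cert.nil (Cert.rep (nat_lit 31) [] [] [] Cert.nil Cert.nil)))))))) Cert.nil)) Cert.nil) (Cert.rep (nat_lit 26) [] [nat_lit 192,nat_lit 34,nat_lit 18,nat_lit 8,nat_lit 4,nat_lit 1] [nat_lit 256,nat_lit 64,nat_lit 2] (Cert.rep (nat_lit 1) [nat_lit 4,nat_lit 34,nat_lit 192] [] [] (Cert.rep (nat_lit 18) [] [] [] (Cert.rep (nat_lit 4) [] [] [] Cert.nil (Cert.rep (nat_lit 5) [] [] [] Cert.nil (Cert.rep (nat_lit 12) [] [] [] Cert.nil (Cert.rep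 (nat_lit 13) [] [] [] Cert.nil (Cert.rep (nat_lit 22) [] [] [] Cert.nil (Cert.rep (nat_lit 23) [] [] [] Cert.nil (Cert.rep (nat_lit 30) [] [] [] Cert.nil (Cert.rep (nat_lit 31) [] [] [] Cert.nil Cert.nil)))))))) Cert.nil) Cert.nil) Cert.nil)))) (Cert.root (nat_lit 32) [] [nat_lit 8,nat_lit 4] [nat_lit 0,nat_lit 1,nat_lit 2,nat_lit 3,nat_lit 4] [Ins.fr [nat_lit 0],Ins.ts (nat_lit 0) [nat_lit 0,nat_lit 0] [],Ins.ts (nat_lit 1) [nat_lit 0] [],Ins.ts (nat_lit 1) [nat_lit 0,nat_lit 1] [],Ins.fr [nat_lit 1],Ins.ts (nat_lit 1) [nat_lit 0,nat_lit 0] [],Ins.ts (nat_lit 1) [nat_lit 0,nat_lit 0,nat_lit 0,nat_lit 0] [],Ins.ts (nat_lit 0) [nat_lit 1,nat_lit 0,nat_lit 1] [nat_lit 0,nat_lit 0,nat_lit 0],Ins.df [nat_lit 0,nat_lit 0],Ins.df [nat_lit 0,nat_lit 0]] f67_0)))))))))))))))))))))))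
theorem fin67 : finOK DB PT 88 t88 67 t67 (nat_lit 0xf000000000f000000f000000000f00000f000000000f0000f000000000f00c30f000c00300f00c300f00300c000f00000ff00000f00fc33cf00fccccffff) f67 = true := by
  decide +kernel
noncomputable def f69_0 : Cert :=
  Cert.rep (nat_lit 8) [nat_lit 2,nat_lit 16] [nat_lit 16,nat_lit 8,nat_lit 4,nat_lit 2,nat_lit 1] [nat_lit 256,nat_lit 128,nat_lit 64,nat_lit 32] (Cert.rep (nat_lit 1) [] [] [] Cert.nil (Cert.rep (nat_lit 2) [] [] [] Cert.nil (Cert.rep (nat_lit 4) [] [] [] Cert.nil (Cert.rep (nat_lit 5) [] [] [] Cert.nil (Cert.rep (nat_lit 6) [] [] [] Cert.nil (Cert.rep (nat_lit 9) [] [] [] Cert.nil (Cert.rep (nat_lit 10) [] [] [] Cert.nil (Cert.rep (nat_lit 12) [] [] [] Cert.nil (Cert.rep (nat_lit 13) [] [] [] Cert.nil (Cert.rep (nat_lit 14) [] [] [] Cert.nil (Cert.rep (nat_lit 18) []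 [] [] Cert.nil (Cert.rep (nat_lit 22) [] [] [] Cert.nil (Cert.rep (nat_lit 26) [] [] [] Cert.nil (Cert.rep (nat_lit 30) [] [] [] Cert.nil Cert.nil)))))))))))))) (Cert.rep (nat_lit 26) [nat_lit 4,nat_lit 8,nat_lit 34,nat_lit 192] [nat_lit 192,nat_lit 34,nat_lit 18,nat_lit 8,nat_lit 4,nat_lit 1] [nat_lit 256,nat_lit 64,nat_lit 2] (Cert.rep (nat_lit 1) [] [] [] Cert.nil (Cert.rep (nat_lit 4) [nat_lit 4,nat_lit 8] [] [] (Cert.rep (nat_lit 204) [] [] [] (Cert.er (Cert.ro (nat_lit 0) [nat_lit 1,nat_lit 8,nat_lit 16] [nat_lit 8,nat_lit 9,nat_lit 16] [nat_lit 0,nat_lit 1,nat_lit 4,nat_lit 5,nat_lit 26,nat_lit 27,nat_lit 30,nat_lit 31] (Cert.ro (nat_lit 1) [nat_lit 1,nat_lit 2,nat_lit 14,nat_lit 16] [nat_lit 1,nat_lit 14,nat_lit 12,nat_lit 16] [nat_lit 0,nat_lit 1,nat_lit 42,nat_lit 43,nat_lit 200,nat_lit 201,nat_lit 227,nat_lit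 226,nat_lit 26,nat_lit 27,nat_lit 49,nat_lit 48,nat_lit 210,nat_lit 211,nat_lit 248,nat_lit 249] (Cert.lf (Leaf.st (nat_lit 2) (nat_lit 1) (nat_lit 5) (Leaf.cf (nat_lit 30))))))) (Cert.rep (nat_lit 214) [] [] [] (Cert.er (Cert.ro (nat_lit 0) [nat_lit 1,nat_lit 8,nat_lit 16] [nat_lit 8,nat_lit 9,nat_lit 16] [nat_lit 0,nat_lit 1,nat_lit 4,nat_lit 5,nat_lit 26,nat_lit 27,nat_lit 30,nat_lit 31] (Cert.ro (nat_lit 1) [nat_lit 1,nat_lit 2,nat_lit 14,nat_lit 16] [nat_lit 1,nat_lit 14,nat_lit 12,nat_lit 16] [nat_lit 0,nat_lit 1,nat_lit 42,nat_lit 43,nat_lit 210,nat_lit 211,nat_lit 248,nat_lit 249,nat_lit 26,nat_lit 27,nat_lit 49,nat_lit 48,nat_lit 200,nat_lit 201,nat_lit 227,nat_lit 226] (Cert.lf (Leaf.st (nat_lit 2) (nat_lit 1) (nat_lit 5) (Leaf.cf (nat_lit 30))))))) Cert.nil)) (Cert.rep (nat_lit 8) [nat_lit 4,nat_lit 8]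 [] [] (Cert.rep (nat_lit 192) [] [] [] (Cert.er (Cert.ro (nat_lit 0) [nat_lit 1,nat_lit 8,nat_lit 16] [nat_lit 8,nat_lit 9,nat_lit 16] [nat_lit 0,nat_lit 1,nat_lit 8,nat_lit 9,nat_lit 26,nat_lit 27,nat_lit 18,nat_lit 19] (Cert.ro (nat_lit 1) [nat_lit 1,nat_lit 2,nat_lit 14,nat_lit 16] [nat_lit 1,nat_lit 14,nat_lit 12,nat_lit 16] [nat_lit 0,nat_lit 1,nat_lit 43,nat_lit 42,nat_lit 200,nat_lit 201,nat_lit 226,nat_lit 227,nat_lit 26,nat_lit 27,nat_lit 48,nat_lit 49,nat_lit 210,nat_lit 211,nat_lit 249,nat_lit 248] (Cert.lf (Leaf.st (nat_lit 2) (nat_lit 1) (nat_lit 1) (Leaf.cf (nat_lit 1))))))) (Cert.rep (nat_lit 218) [] [] [] (Cert.er (Cert.ro (nat_lit 0) [nat_lit 1,nat_lit 8,nat_lit 16] [nat_lit 8,nat_lit 9,nat_lit 16] [nat_lit 0,nat_lit 1,nat_lit 8,nat_lit 9,nat_lit 26,nat_lit 27,nat_lit 18,nat_lit 19] (Cert.ro (nat_lit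 1) [nat_lit 1,nat_lit 2,nat_lit 14,nat_lit 16] [nat_lit 1,nat_lit 14,nat_lit 12,nat_lit 16] [nat_lit 0,nat_lit 1,nat_lit 43,nat_lit 42,nat_lit 210,nat_lit 211,nat_lit 249,nat_lit 248,nat_lit 26,nat_lit 27,nat_lit 48,nat_lit 49,nat_lit 200,nat_lit 201,nat_lit 226,nat_lit 227] (Cert.lf (Leaf.st (nat_lit 2) (nat_lit 1) (nat_lit 1) (Leaf.cf (nat_lit 1))))))) Cert.nil)) (Cert.rep (nat_lit 12) [] [] [] Cert.nil (Cert.rep (nat_lit 18) [nat_lit 4,nat_lit 8] [] [] (Cert.rep (nat_lit 192) [] [] [] (Cert.er (Cert.ro (nat_lit 0) [nat_lit 1,nat_lit 8,nat_lit 16] [nat_lit 8,nat_lit 9,nat_lit 16] [nat_lit 0,nat_lit 1,nat_lit 18,nat_lit 19,nat_lit 26,nat_lit 27,nat_lit 8,nat_lit 9] (Cert.ro (nat_lit 1) [nat_lit 1,nat_lit 2,nat_lit 14,nat_lit 16] [nat_lit 1,nat_lit 14,nat_lit 12,nat_lit 16] [nat_lit 0,nat_lit 1,nat_lit 43,nat_lit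 42,nat_lit 210,nat_lit 211,nat_lit 249,nat_lit 248,nat_lit 26,nat_lit 27,nat_lit 48,nat_lit 49,nat_lit 200,nat_lit 201,nat_lit 226,nat_lit 227] (Cert.kw (nat_lit 2) (nat_lit 0) (nat_lit 2) (nat_lit 1) )))) (Cert.rep (nat_lit 218) [] [] [] (Cert.er (Cert.ro (nat_lit 0) [nat_lit 1,nat_lit 8,nat_lit 16] [nat_lit 8,nat_lit 9,nat_lit 16] [nat_lit 0,nat_lit 1,nat_lit 18,nat_lit 19,nat_lit 26,nat_lit 27,nat_lit 8,nat_lit 9] (Cert.ro (nat_lit 1) [nat_lit 1,nat_lit 2,nat_lit 14,nat_lit 16] [nat_lit 1,nat_lit 14,nat_lit 12,nat_lit 16] [nat_lit 0,nat_lit 1,nat_lit 43,nat_lit 42,nat_lit 200,nat_lit 201,nat_lit 226,nat_lit 227,nat_lit 26,nat_lit 27,nat_lit 48,nat_lit 49,nat_lit 210,nat_lit 211,nat_lit 249,nat_lit 248] (Cert.kw (nat_lit 2) (nat_lit 0) (nat_lit 2) (nat_lit 1) )))) Cert.nil)) (Cert.rep (nat_lit 22) [] [] [] Cert.nil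 (Cert.rep (nat_lit 27) [] [] [] Cert.nil (Cert.rep (nat_lit 30) [nat_lit 4,nat_lit 8] [] [] (Cert.rep (nat_lit 204) [] [] [] (Cert.er (Cert.ro (nat_lit 0) [nat_lit 1,nat_lit 8,nat_lit 16] [nat_lit 8,nat_lit 9,nat_lit 16] [nat_lit 0,nat_lit 1,nat_lit 30,nat_lit 31,nat_lit 26,nat_lit 27,nat_lit 4,nat_lit 5] (Cert.ro (nat_lit 1) [nat_lit 1,nat_lit 2,nat_lit 14,nat_lit 16] [nat_lit 1,nat_lit 14,nat_lit 12,nat_lit 16] [nat_lit 0,nat_lit 1,nat_lit 42,nat_lit 43,nat_lit 210,nat_lit 211,nat_lit 248,nat_lit 249,nat_lit 26,nat_lit 27,nat_lit 49,nat_lit 48,nat_lit 200,nat_lit 201,nat_lit 227,nat_lit 226] (Cert.lf (Leaf.st (nat_lit 2) (nat_lit 1) (nat_lit 5) (Leaf.cf (nat_lit 4))))))) (Cert.rep (nat_lit 214) [] [] [] (Cert.er (Cert.ro (nat_lit 0) [nat_lit 1,nat_lit 8,nat_lit 16] [nat_lit 8,nat_lit 9,nat_lit 16] [nat_lit 0,nat_lit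 1,nat_lit 30,nat_lit 31,nat_lit 26,nat_lit 27,nat_lit 4,nat_lit 5] (Cert.ro (nat_lit 1) [nat_lit 1,nat_lit 2,nat_lit 14,nat_lit 16] [nat_lit 1,nat_lit 14,nat_lit 12,nat_lit 16] [nat_lit 0,nat_lit 1,nat_lit 42,nat_lit 43,nat_lit 200,nat_lit 201,nat_lit 227,nat_lit 226,nat_lit 26,nat_lit 27,nat_lit 49,nat_lit 48,nat_lit 210,nat_lit 211,nat_lit 248,nat_lit 249] (Cert.lf (Leaf.st (nat_lit 2) (nat_lit 1) (nat_lit 5) (Leaf.cf (nat_lit 4))))))) Cert.nil)) (Cert.rep (nat_lit 196) [] [] [] Cert.nil (Cert.rep (nat_lit 222) [] [] [] Cert.nil Cert.nil)))))))))) Cert.nil)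
noncomputable def f69 : Cert :=
  (Cert.st (nat_lit 0) (nat_lit 8) (nat_lit 0) (Cert.st (nat_lit 0) (nat_lit 26) (nat_lit 0) (Cert.sp (nat_lit 1) (Cert.lf (Leaf.pt (nat_lit 7) (nat_lit 1) [nat_lit 8,nat_lit 16])) (Cert.sp (nat_lit 2) (Cert.lf (Leaf.pt (nat_lit 0) (nat_lit 2) [nat_lit 96])) (Cert.st (nat_lit 0) (nat_lit 2) (nat_lit 0) (Cert.sp (nat_lit 4) (Cert.lf (Leaf.pt (nat_lit 7) (nat_lit 4) [nat_lit 8,nat_lit 16])) (Cert.st (nat_lit 0) (nat_lit 4) (nat_lit 0) (Cert.sp (nat_lit 12) (Cert.lf (Leaf.pt (nat_lit 7) (nat_lit 12) [nat_lit 8,nat_lit 16])) (Cert.st (nat_lit 0) (nat_lit 12) (nat_lit 0) (Cert.sp (nat_lit 18) (Cert.lf (Leaf.pt (nat_lit 6) (nat_lit 18) [nat_lit 8])) (Cert.st (nat_lit 0) (nat_lit 18) (nat_lit 0) (Cert.sp (nat_lit 22) (Cert.lf (Leaf.pt (nat_lit 7) (nat_lit 22) [nat_lit 26,nat_lit 38])) (Cert.st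 (nat_lit 0) (nat_lit 22) (nat_lit 0) (Cert.sp (nat_lit 30) (Cert.lf (Leaf.pt (nat_lit 8) (nat_lit 30) [nat_lit 4,nat_lit 18])) (Cert.st (nat_lit 0) (nat_lit 30) (nat_lit 0) (Cert.sp (nat_lit 128) (Cert.lf (Leaf.pt (nat_lit 0) (nat_lit 128) [nat_lit 284])) (Cert.st (nat_lit 0) (nat_lit 128) (nat_lit 0) (Cert.sp (nat_lit 196) (Cert.lf (Leaf.pt (nat_lit 7) (nat_lit 196) [nat_lit 26,nat_lit 38])) (Cert.st (nat_lit 0) (nat_lit 196) (nat_lit 0) (Cert.nl (nat_lit 1) (Cert.sy (nat_lit 0) (Cert.s2 (nat_lit 0) (nat_lit 18) (Cert.o1 (nat_lit 0) (nat_lit 18) (Cert.fu (nat_lit 18) (nat_lit 1) (nat_lit 0) (nat_lit 0) [nat_lit 0] [nat_lit 132,nat_lit 136] [] [] [] [nat_lit 1] [[nat_lit 1]] [[nat_lit 18]] [Ins.ts (nat_lit 1) [nat_lit 0] [],Ins.fr [nat_lit 0],Ins.ts (nat_lit 1) [nat_lit 0,nat_lit 0,nat_lit 0,nat_lit 0] [],Ins.ts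 (nat_lit 1) [nat_lit 0,nat_lit 0,nat_lit 0,nat_lit 0,nat_lit 1] [],Ins.fr [nat_lit 1],Ins.ts (nat_lit 0) [nat_lit 0,nat_lit 1,nat_lit 1,nat_lit 0] [],Ins.ts (nat_lit 0) [nat_lit 1,nat_lit 1,nat_lit 1] [nat_lit 0,nat_lit 1,nat_lit 0]] [] (Cert.rep (nat_lit 1) [nat_lit 4,nat_lit 8,nat_lit 16,nat_lit 32,nat_lit 64,nat_lit 128,nat_lit 256] [nat_lit 256,nat_lit 128,nat_lit 64,nat_lit 32,nat_lit 16,nat_lit 8,nat_lit 4,nat_lit 2,nat_lit 1] [] (Cert.rep (nat_lit 260) [] [] [] Cert.nil (Cert.rep (nat_lit 264) [] [] [] Cert.nil Cert.nil)) Cert.nil))) (Cert.root (nat_lit 32) [] [nat_lit 8,nat_lit 4] [nat_lit 0,nat_lit 1,nat_lit 2,nat_lit 3,nat_lit 4] [Ins.fr [nat_lit 0],Ins.ts (nat_lit 0) [nat_lit 0,nat_lit 0] [],Ins.ts (nat_lit 1) [nat_lit 0] [],Ins.ts (nat_lit 1) [nat_lit 0,nat_lit 1] [],Ins.fr [nat_lit 1],Ins.ts (nat_lit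 1) [nat_lit 0,nat_lit 0] [],Ins.ts (nat_lit 1) [nat_lit 0,nat_lit 0,nat_lit 0,nat_lit 0] [],Ins.ts (nat_lit 0) [nat_lit 1,nat_lit 0,nat_lit 1] [nat_lit 0,nat_lit 0,nat_lit 0],Ins.df [nat_lit 0,nat_lit 0],Ins.df [nat_lit 0,nat_lit 0]] f69_0)))))))))))))))))))))))
theorem fin69 : finOK DB PT 88 t88 69 t69 (nat_lit 0xc30f000c00300f00c300f00300c000f00000ff00000f00fc33cf00fccccffff) f69 = true := by
  decide +kernel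
noncomputable def f128_0 : Cert :=
  Cert.s2 (nat_lit 0) (nat_lit 92) (Cert.o1 (nat_lit 0) (nat_lit 92) (Cert.fu (nat_lit 10) (nat_lit 1) (nat_lit 0) (nat_lit 0) [] [nat_lit 92,nat_lit 1,nat_lit 16,nat_lit 32] [] [] [] [nat_lit 1] [[nat_lit 1]] [[nat_lit 92]] [Ins.fr [nat_lit 0],Ins.ts (nat_lit 3) [nat_lit 0] [],Ins.ts (nat_lit 4) [nat_lit 0] [nat_lit 0,nat_lit 0,nat_lit 0],Ins.ts (nat_lit 1) [nat_lit 0] [],Ins.fr [nat_lit 1],Ins.ts (nat_lit 3) [nat_lit 0] [],Ins.ts (nat_lit 0) [nat_lit 0,nat_lit 0] [],Ins.ts (nat_lit 1) [nat_lit 0] [],Ins.ts (nat_lit 4) [nat_lit 0] [nat_lit 0,nat_lit 0,nat_lit 1],Ins.ts (nat_lit 1) [nat_lit 0,nat_lit 1] [],Ins.fr [nat_lit 2],Ins.ts (nat_lit 2) [nat_lit 0] [],Ins.ts (nat_lit 0) [nat_lit 0,nat_lit 0] [],Ins.ts (nat_lit 0) [nat_lit 1,nat_lit 0] [nat_lit 0,nat_lit 1],Ins.ts (nat_lit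 1) [nat_lit 0] [],Ins.ts (nat_lit 4) [nat_lit 0,nat_lit 2,nat_lit 3] [nat_lit 0,nat_lit 0,nat_lit 2],Ins.ts (nat_lit 4) [nat_lit 0,nat_lit 1,nat_lit 2,nat_lit 3] [nat_lit 0,nat_lit 0,nat_lit 2],Ins.ts (nat_lit 1) [nat_lit 0,nat_lit 2,nat_lit 3] [],Ins.ts (nat_lit 1) [nat_lit 0,nat_lit 1,nat_lit 2,nat_lit 3] [],Ins.fr [nat_lit 1,nat_lit 3],Ins.ts (nat_lit 0) [nat_lit 0,nat_lit 0] [],Ins.ts (nat_lit 0) [nat_lit 1,nat_lit 2,nat_lit 0] [nat_lit 0,nat_lit 1]] [(nat_lit 2,nat_lit 0),(nat_lit 3,nat_lit 0)] (Cert.rep (nat_lit 10) [] [nat_lit 68,nat_lit 36,nat_lit 16,nat_lit 8,nat_lit 2,nat_lit 1] [nat_lit 1024,nat_lit 512,nat_lit 256,nat_lit 128,nat_lit 4] (Cert.rep (nat_lit 1) [nat_lit 2,nat_lit 16,nat_lit 36,nat_lit 68] [] [] (Cert.rep (nat_lit 26) [] [] [] Cert.nil (Cert.rep (nat_lit 60) [] [] [] Cert.nil (Cert.rep (nat_lit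 92) [] [] [] (Cert.rep (nat_lit 16) [] [] [] Cert.nil (Cert.rep (nat_lit 17) [] [] [] Cert.nil (Cert.rep (nat_lit 76) [] [] [] Cert.nil (Cert.rep (nat_lit 77) [] [] [] Cert.nil Cert.nil)))) Cert.nil))) Cert.nil) Cert.nil))) (Cert.root (nat_lit 32) [] [nat_lit 8,nat_lit 4] [nat_lit 0,nat_lit 1,nat_lit 2,nat_lit 3,nat_lit 4] [Ins.fr [nat_lit 0],Ins.ts (nat_lit 0) [nat_lit 0,nat_lit 0] [],Ins.ts (nat_lit 1) [nat_lit 0] [],Ins.ts (nat_lit 1) [nat_lit 0,nat_lit 1] [],Ins.fr [nat_lit 1],Ins.ts (nat_lit 1) [nat_lit 0,nat_lit 0] [],Ins.ts (nat_lit 0) [nat_lit 1,nat_lit 0,nat_lit 1] [nat_lit 0,nat_lit 0,nat_lit 0],Ins.ts (nat_lit 1) [nat_lit 0,nat_lit 0,nat_lit 0,nat_lit 0] [],Ins.df [nat_lit 0,nat_lit 0],Ins.df [nat_lit 0,nat_lit 0]] (Cert.rep (nat_lit 10) [nat_lit 2,nat_lit 16,nat_lit 36,nat_lit 68] [nat_lit 68,nat_lit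 36,nat_lit 16,nat_lit 8,nat_lit 2,nat_lit 1] [nat_lit 1024,nat_lit 512,nat_lit 256,nat_lit 128,nat_lit 4] (Cert.rep (nat_lit 1) [] [] [] Cert.nil (Cert.rep (nat_lit 11) [] [] [] Cert.nil (Cert.rep (nat_lit 16) [] [] [] Cert.nil (Cert.rep (nat_lit 26) [] [] [] Cert.nil (Cert.rep (nat_lit 52) [] [] [] Cert.nil (Cert.rep (nat_lit 60) [] [] [] Cert.nil (Cert.rep (nat_lit 68) [nat_lit 16,nat_lit 68] [] [] (Cert.rep (nat_lit 96) [] [] [] (Cert.er (Cert.ro (nat_lit 0) [nat_lit 1,nat_lit 8,nat_lit 16] [nat_lit 8,nat_lit 9,nat_lit 16] [nat_lit 0,nat_lit 1,nat_lit 68,nat_lit 69,nat_lit 10,nat_lit 11,nat_lit 78,nat_lit 79] (Cert.ro (nat_lit 1) [nat_lit 1,nat_lit 2,nat_lit 14,nat_lit 16] [nat_lit 1,nat_lit 14,nat_lit 12,nat_lit 16] [nat_lit 0,nat_lit 1,nat_lit 2,nat_lit 3,nat_lit 39,nat_lit 38,nat_lit 36,nat_lit 37,nat_lit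 10,nat_lit 11,nat_lit 9,nat_lit 8,nat_lit 44,nat_lit 45,nat_lit 46,nat_lit 47] (Cert.kw (nat_lit 2) (nat_lit 0) (nat_lit 2) (nat_lit 1) )))) (Cert.rep (nat_lit 104) [] [] [] (Cert.er (Cert.ro (nat_lit 0) [nat_lit 1,nat_lit 8,nat_lit 16] [nat_lit 8,nat_lit 9,nat_lit 16] [nat_lit 0,nat_lit 1,nat_lit 68,nat_lit 69,nat_lit 10,nat_lit 11,nat_lit 78,nat_lit 79] (Cert.ro (nat_lit 1) [nat_lit 1,nat_lit 2,nat_lit 14,nat_lit 16] [nat_lit 1,nat_lit 14,nat_lit 12,nat_lit 16] [nat_lit 0,nat_lit 1,nat_lit 3,nat_lit 2,nat_lit 46,nat_lit 47,nat_lit 44,nat_lit 45,nat_lit 10,nat_lit 11,nat_lit 8,nat_lit 9,nat_lit 36,nat_lit 37,nat_lit 39,nat_lit 38] (Cert.kw (nat_lit 2) (nat_lit 0) (nat_lit 2) (nat_lit 1) )))) Cert.nil)) (Cert.rep (nat_lit 76) [nat_lit 16,nat_lit 70] [] [] (Cert.rep (nat_lit 96) [] [] [] (Cert.er (Cert.ro (nat_lit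 0) [nat_lit 1,nat_lit 8,nat_lit 16] [nat_lit 8,nat_lit 9,nat_lit 16] [nat_lit 0,nat_lit 1,nat_lit 76,nat_lit 77,nat_lit 10,nat_lit 11,nat_lit 71,nat_lit 70] (Cert.ro (nat_lit 1) [nat_lit 1,nat_lit 2,nat_lit 14,nat_lit 16] [nat_lit 1,nat_lit 14,nat_lit 12,nat_lit 16] [nat_lit 0,nat_lit 1,nat_lit 2,nat_lit 3,nat_lit 47,nat_lit 46,nat_lit 44,nat_lit 45,nat_lit 10,nat_lit 11,nat_lit 9,nat_lit 8,nat_lit 37,nat_lit 36,nat_lit 39,nat_lit 38] (Cert.lf (Leaf.st (nat_lit 2) (nat_lit 1) (nat_lit 1) (Leaf.cf (nat_lit 1))))))) (Cert.rep (nat_lit 104) [] [] [] (Cert.er (Cert.ro (nat_lit 0) [nat_lit 1,nat_lit 8,nat_lit 16] [nat_lit 8,nat_lit 9,nat_lit 16] [nat_lit 0,nat_lit 1,nat_lit 76,nat_lit 77,nat_lit 10,nat_lit 11,nat_lit 71,nat_lit 70] (Cert.ro (nat_lit 1) [nat_lit 1,nat_lit 2,nat_lit 14,nat_lit 16] [nat_lit 1,nat_lit 14,nat_lit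 12,nat_lit 16] [nat_lit 0,nat_lit 1,nat_lit 3,nat_lit 2,nat_lit 39,nat_lit 38,nat_lit 37,nat_lit 36,nat_lit 10,nat_lit 11,nat_lit 8,nat_lit 9,nat_lit 44,nat_lit 45,nat_lit 47,nat_lit 46] (Cert.lf (Leaf.st (nat_lit 2) (nat_lit 1) (nat_lit 1) (Leaf.cf (nat_lit 1))))))) Cert.nil)) (Cert.rep (nat_lit 84) [nat_lit 16,nat_lit 68] [] [] (Cert.rep (nat_lit 112) [] [] [] (Cert.er (Cert.ro (nat_lit 0) [nat_lit 1,nat_lit 8,nat_lit 16] [nat_lit 8,nat_lit 9,nat_lit 16] [nat_lit 0,nat_lit 1,nat_lit 84,nat_lit 85,nat_lit 10,nat_lit 11,nat_lit 94,nat_lit 95] (Cert.ro (nat_lit 1) [nat_lit 1,nat_lit 2,nat_lit 14,nat_lit 16] [nat_lit 1,nat_lit 14,nat_lit 12,nat_lit 16] [nat_lit 0,nat_lit 1,nat_lit 3,nat_lit 2,nat_lit 39,nat_lit 38,nat_lit 37,nat_lit 36,nat_lit 10,nat_lit 11,nat_lit 8,nat_lit 9,nat_lit 44,nat_lit 45,nat_lit 47,nat_lit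 46] (Cert.lf (Leaf.st (nat_lit 2) (nat_lit 1) (nat_lit 1) (Leaf.cf (nat_lit 1))))))) (Cert.rep (nat_lit 120) [] [] [] (Cert.er (Cert.ro (nat_lit 0) [nat_lit 1,nat_lit 8,nat_lit 16] [nat_lit 8,nat_lit 9,nat_lit 16] [nat_lit 0,nat_lit 1,nat_lit 84,nat_lit 85,nat_lit 10,nat_lit 11,nat_lit 94,nat_lit 95] (Cert.ro (nat_lit 1) [nat_lit 1,nat_lit 2,nat_lit 14,nat_lit 16] [nat_lit 1,nat_lit 14,nat_lit 12,nat_lit 16] [nat_lit 0,nat_lit 1,nat_lit 2,nat_lit 3,nat_lit 46,nat_lit 47,nat_lit 45,nat_lit 44,nat_lit 10,nat_lit 11,nat_lit 9,nat_lit 8,nat_lit 36,nat_lit 37,nat_lit 38,nat_lit 39] (Cert.lf (Leaf.st (nat_lit 2) (nat_lit 1) (nat_lit 1) (Leaf.cf (nat_lit 1))))))) Cert.nil)) (Cert.rep (nat_lit 92) [nat_lit 16,nat_lit 70] [] [] (Cert.rep (nat_lit 112) [] [] [] (Cert.er (Cert.ro (nat_lit 0) [nat_lit 1,nat_lit 8,nat_lit 16]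 [nat_lit 8,nat_lit 9,nat_lit 16] [nat_lit 0,nat_lit 1,nat_lit 92,nat_lit 93,nat_lit 10,nat_lit 11,nat_lit 87,nat_lit 86] (Cert.ro (nat_lit 1) [nat_lit 1,nat_lit 2,nat_lit 14,nat_lit 16] [nat_lit 1,nat_lit 14,nat_lit 12,nat_lit 16] [nat_lit 0,nat_lit 1,nat_lit 3,nat_lit 2,nat_lit 47,nat_lit 46,nat_lit 45,nat_lit 44,nat_lit 10,nat_lit 11,nat_lit 8,nat_lit 9,nat_lit 37,nat_lit 36,nat_lit 38,nat_lit 39] (Cert.kw (nat_lit 2) (nat_lit 0) (nat_lit 2) (nat_lit 1) )))) (Cert.rep (nat_lit 120) [] [] [] (Cert.er (Cert.ro (nat_lit 0) [nat_lit 1,nat_lit 8,nat_lit 16] [nat_lit 8,nat_lit 9,nat_lit 16] [nat_lit 0,nat_lit 1,nat_lit 92,nat_lit 93,nat_lit 10,nat_lit 11,nat_lit 87,nat_lit 86] (Cert.ro (nat_lit 1) [nat_lit 1,nat_lit 2,nat_lit 14,nat_lit 16] [nat_lit 1,nat_lit 14,nat_lit 12,nat_lit 16] [nat_lit 0,nat_lit 1,nat_lit 2,nat_lit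 3,nat_lit 39,nat_lit 38,nat_lit 36,nat_lit 37,nat_lit 10,nat_lit 11,nat_lit 9,nat_lit 8,nat_lit 44,nat_lit 45,nat_lit 46,nat_lit 47] (Cert.kw (nat_lit 2) (nat_lit 0) (nat_lit 2) (nat_lit 1) )))) Cert.nil)) Cert.nil)))))))))) Cert.nil))
noncomputable def f128 : Cert :=
  (Cert.st (nat_lit 0) (nat_lit 10) (nat_lit 0) (Cert.sp (nat_lit 1) (Cert.lf (Leaf.pt (nat_lit 9) (nat_lit 1) [nat_lit 10])) (Cert.sp (nat_lit 26) (Cert.lf (Leaf.pt (nat_lit 9) (nat_lit 26) [nat_lit 10])) (Cert.st (nat_lit 0) (nat_lit 26) (nat_lit 0) (Cert.sp (nat_lit 28) (Cert.lf (Leaf.pt (nat_lit 9) (nat_lit 28) [nat_lit 12])) (Cert.st (nat_lit 0) (nat_lit 28) (nat_lit 0) (Cert.sp (nat_lit 32) (Cert.lf (Leaf.pt (nat_lit 12) (nat_lit 32) [nat_lit 26,nat_lit 196])) (Cert.st (nat_lit 0) (nat_lit 32) (nat_lit 0) (Cert.sp (nat_lit 68) (Cert.lf (Leaf.pt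 (nat_lit 9) (nat_lit 68) [nat_lit 10])) (Cert.st (nat_lit 0) (nat_lit 68) (nat_lit 0) (Cert.sp (nat_lit 92) (Cert.lf (Leaf.pt (nat_lit 9) (nat_lit 92) [nat_lit 10])) (Cert.st (nat_lit 0) (nat_lit 92) (nat_lit 0) (Cert.sp (nat_lit 258) (Cert.lf (Leaf.pt (nat_lit 12) (nat_lit 258) [nat_lit 26,nat_lit 586])) (Cert.st (nat_lit 0) (nat_lit 258) (nat_lit 0) (Cert.sp (nat_lit 584) (Cert.lf (Leaf.pt (nat_lit 19) (nat_lit 584) [nat_lit 24,nat_lit 192])) (Cert.st (nat_lit 0) (nat_lit 584) (nat_lit 0) (Cert.sp (nat_lit 652) (Cert.lf (Leaf.pt (nat_lit 12) (nat_lit 652) [nat_lit 28,nat_lit 256])) (Cert.st (nat_lit 0) (nat_lit 652) (nat_lit 0) (Cert.sp (nat_lit 653) (Cert.lf (Leaf.pt (nat_lit 12) (nat_lit 653) [nat_lit 28,nat_lit 256])) (Cert.st (nat_lit 0) (nat_lit 653) (nat_lit 0) (Cert.sp (nat_lit 1034) (Cert.lf (Leaf.pt (nat_lit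 12) (nat_lit 1034) [nat_lit 70,nat_lit 158])) (Cert.st (nat_lit 0) (nat_lit 1034) (nat_lit 0) (Cert.sp (nat_lit 1174) (Cert.lf (Leaf.pt (nat_lit 12) (nat_lit 1174) [nat_lit 94,nat_lit 158])) (Cert.st (nat_lit 0) (nat_lit 1174) (nat_lit 0) (Cert.nl (nat_lit 1) (Cert.sy (nat_lit 0) (Cert.s2 (nat_lit 0) (nat_lit 68) (Cert.o1 (nat_lit 0) (nat_lit 68) (Cert.fu (nat_lit 10) (nat_lit 1) (nat_lit 0) (nat_lit 0) [] [nat_lit 68,nat_lit 1,nat_lit 16,nat_lit 32] [] [] [] [nat_lit 1] [[nat_lit 1]] [[nat_lit 68]] [Ins.fr [nat_lit 0],Ins.ts (nat_lit 3) [nat_lit 0] [],Ins.ts (nat_lit 4) [nat_lit 0] [nat_lit 0,nat_lit 0,nat_lit 0],Ins.ts (nat_lit 1) [nat_lit 0] [],Ins.fr [nat_lit 1],Ins.ts (nat_lit 3) [nat_lit 0] [],Ins.ts (nat_lit 0) [nat_lit 0,nat_lit 0] [],Ins.ts (nat_lit 1) [nat_lit 0] [],Ins.ts (nat_lit 1) [nat_lit 0,nat_lit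 1] [],Ins.fr [nat_lit 2],Ins.ts (nat_lit 2) [nat_lit 0] [],Ins.ts (nat_lit 0) [nat_lit 0,nat_lit 0] [],Ins.ts (nat_lit 0) [nat_lit 1,nat_lit 0] [nat_lit 0,nat_lit 1],Ins.ts (nat_lit 1) [nat_lit 0] [],Ins.ts (nat_lit 1) [nat_lit 0,nat_lit 3] [],Ins.ts (nat_lit 1) [nat_lit 0,nat_lit 2,nat_lit 3] [],Ins.ts (nat_lit 1) [nat_lit 0,nat_lit 1,nat_lit 3] [],Ins.ts (nat_lit 1) [nat_lit 0,nat_lit 1,nat_lit 2,nat_lit 3] [],Ins.fr [nat_lit 1,nat_lit 3],Ins.ts (nat_lit 0) [nat_lit 0,nat_lit 0] [],Ins.ts (nat_lit 0) [nat_lit 1,nat_lit 2,nat_lit 0] [nat_lit 0,nat_lit 1]] [] (Cert.rep (nat_lit 10) [] [nat_lit 68,nat_lit 36,nat_lit 16,nat_lit 8,nat_lit 2,nat_lit 1] [nat_lit 1024,nat_lit 512,nat_lit 256,nat_lit 128,nat_lit 4] (Cert.rep (nat_lit 1) [nat_lit 2,nat_lit 16,nat_lit 36,nat_lit 68] [] [] (Cert.rep (nat_lit 26) [nat_lit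 2,nat_lit 68] [] [] (Cert.rep (nat_lit 76) [] [] [] Cert.nil (Cert.rep (nat_lit 78) [] [] [] Cert.nil (Cert.rep (nat_lit 84) [] [] [] Cert.nil (Cert.rep (nat_lit 86) [] [] [] Cert.nil Cert.nil)))) (Cert.rep (nat_lit 60) [] [] [] Cert.nil (Cert.rep (nat_lit 68) [] [] [] (Cert.rep (nat_lit 16) [] [] [] Cert.nil (Cert.rep (nat_lit 17) [] [] [] Cert.nil (Cert.rep (nat_lit 84) [] [] [] Cert.nil (Cert.rep (nat_lit 85) [] [] [] Cert.nil Cert.nil)))) (Cert.rep (nat_lit 92) [] [] [] (Cert.rep (nat_lit 16) [] [] [] Cert.nil (Cert.rep (nat_lit 17) [] [] [] Cert.nil (Cert.rep (nat_lit 76) [] [] [] Cert.nil (Cert.rep (nat_lit 77) [] [] [] Cert.nil Cert.nil)))) Cert.nil)))) Cert.nil) Cert.nil))) f128_0)))))))))))))))))))))))))))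
theorem fin128 : finOK DB PT 88 t88 128 t128 (nat_lit 0x300000003000000c0000000c0000030000000300000000003000000030000000c0000000c0000c0000000c00000000030000000300000000c0000000c0000000000000000000000c3000000c3000003c0000003c00000000000000000000000000000000000000330000003300000003300000033000000000000000000f0000000f0000000f00c0cf0f00303f000000000000000000300000c0300000c00000000000000000000000000000000f00000f0f0f0f0f0fcfc0303fc03fc03) f128 = true := by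
  decide +kernel

end Cfsg.Agent.L3S.Dat
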