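import Mathlib
import Cfsg.Agent.L33.DAll
import Cfsg.Agent.L3S.EF

/-!
Certificates for the Sylow subgroups.
-/

set_option autoImplicit false
set_option maxRecDepth 100000

namespace Cfsg.Agent.L3S.Dat

open Cfsg.Agent.L33 Cfsg.Agent.L33.Dat Cfsg.Agent.L3S

noncomputable def f1_0 : Cert :=
  Cert.s2 (nat_lit 0) (nat_lit 10) (Cert.o1 (nat_lit 0) (nat_lit 10) (Cert.fu (nat_lit 4) (nat_lit 1) (nat_lit 0) (nat_lit 0) [] [nat_lit 10,nat_lit 1,nat_lit 18,nat_lit 64] [] [] [] [nat_lit 1] [[nat_lit 1]] [[nat_lit 10]] [Ins.fr [nat_lit 0],Ins.ts (nat_lit 3) [nat_lit 0] [],Ins.ts (nat_lit 4) [nat_lit 0] [nat_lit 0,nat_lit 0,nat_lit 0],Ins.ts (nat_lit 1) [nat_lit 0] [],Ins.fr [nat_lit 1],Ins.ts (nat_lit 3) [nat_lit 0] [],Ins.ts (nat_lit 0) [nat_lit 0,nat_lit 0] [],Ins.ts (nat_lit 1) [nat_lit 0] [],Ins.ts (nat_lit 1) [nat_lit 0,nat_lit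 1] [],Ins.fr [nat_lit 0,nat_lit 2],Ins.ts (nat_lit 0) [nat_lit 0,nat_lit 0] [nat_lit 1],Ins.fr [nat_lit 2,nat_lit 3,nat_lit 0],Ins.ts (nat_lit 0) [nat_lit 0,nat_lit 0] [nat_lit 2]] [] (Cert.rep (nat_lit 4) [] [nat_lit 8,nat_lit 4,nat_lit 2,nat_lit 1] [nat_lit 128,nat_lit 64,nat_lit 32,nat_lit 16] (Cert.rep (nat_lit 1) [nat_lit 2,nat_lit 8] [] [] (Cert.rep (nat_lit 2) [nat_lit 4] [] [] (Cert.rep (nat_lit 36) [] [] [] Cert.nil (Cert.rep (nat_lit 37) [] [] [] Cert.nil Cert.nil)) (Cert.rep (nat_lit 10) [] [] [] Cert.nil Cert.nil)) Cert.nil) (Cert.rep (nat_lit 14) [] [nat_lit 98,nat_lit 16,nat_lit 10,nat_lit 4,nat_lit 1] [nat_lit 128,nat_lit 32,nat_lit 2] (Cert.rep (nat_lit 1) [nat_lit 4,nat_lit 16,nat_lit 98] [] [] (Cert.rep (nat_lit 10) [] [] [] Cert.nil Cert.nil) Cert.nil) Cert.nil)))) (Cert.root (nat_lit 16) [] [nat_lit 8,nat_lit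 4] [nat_lit 0,nat_lit 1,nat_lit 2,nat_lit 3,nat_lit 4] [Ins.fr [nat_lit 0],Ins.ts (nat_lit 0) [nat_lit 0,nat_lit 0] [],Ins.ts (nat_lit 1) [nat_lit 0] [],Ins.ts (nat_lit 1) [nat_lit 0,nat_lit 1] [],Ins.fr [nat_lit 1],Ins.ts (nat_lit 1) [nat_lit 0,nat_lit 0] [],Ins.ts (nat_lit 1) [nat_lit 0,nat_lit 0,nat_lit 0,nat_lit 0] [],Ins.ts (nat_lit 0) [nat_lit 1,nat_lit 0,nat_lit 1] [nat_lit 0,nat_lit 0,nat_lit 0],Ins.df [nat_lit 0,nat_lit 0],Ins.df [nat_lit 0,nat_lit 0]] (Cert.rep (nat_lit 4) [nat_lit 2,nat_lit 8] [nat_lit 8,nat_lit 4,nat_lit 2,nat_lit 1] [nat_lit 128,nat_lit 64,nat_lit 32,nat_lit 16] (Cert.rep (nat_lit 1) [] [] [] Cert.nil (Cert.rep (nat_lit 2) [] [] [] Cert.nil (Cert.rep (nat_lit 5) [] [] [] Cert.nil (Cert.rep (nat_lit 6) [] [] [] Cert.nil (Cert.rep (nat_lit 10) [] [] [] Cert.nil (Cert.rep (nat_lit 14) [] [] []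 Cert.nil Cert.nil)))))) (Cert.rep (nat_lit 14) [nat_lit 4,nat_lit 16,nat_lit 98] [nat_lit 98,nat_lit 16,nat_lit 10,nat_lit 4,nat_lit 1] [nat_lit 128,nat_lit 32,nat_lit 2] (Cert.rep (nat_lit 1) [] [] [] Cert.nil (Cert.rep (nat_lit 4) [nat_lit 4] [] [] (Cert.rep (nat_lit 98) [] [] [] (Cert.er (Cert.ro (nat_lit 0) [nat_lit 1,nat_lit 8,nat_lit 16] [nat_lit 8,nat_lit 9,nat_lit 16] [nat_lit 0,nat_lit 1,nat_lit 4,nat_lit 5,nat_lit 14,nat_lit 15,nat_lit 10,nat_lit 11] (Cert.ro (nat_lit 1) [nat_lit 1,nat_lit 2,nat_lit 14,nat_lit 16] [nat_lit 1,nat_lit 14,nat_lit 12,nat_lit 16] [nat_lit 0,nat_lit 1,nat_lit 27,nat_lit 26,nat_lit 102,nat_lit 103,nat_lit 124,nat_lit 125,nat_lit 14,nat_lit 15,nat_lit 21,nat_lit 20,nat_lit 105,nat_lit 104,nat_lit 115,nat_lit 114] (Cert.lf (Leaf.st (nat_lit 2) (nat_lit 1) (nat_lit 1) (Leaf.cf (nat_lit 1)))))))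 (Cert.rep (nat_lit 99) [] [] [] (Cert.er (Cert.ro (nat_lit 0) [nat_lit 1,nat_lit 8,nat_lit 16] [nat_lit 8,nat_lit 9,nat_lit 16] [nat_lit 0,nat_lit 1,nat_lit 4,nat_lit 5,nat_lit 14,nat_lit 15,nat_lit 10,nat_lit 11] (Cert.ro (nat_lit 1) [nat_lit 1,nat_lit 2,nat_lit 14,nat_lit 16] [nat_lit 1,nat_lit 14,nat_lit 12,nat_lit 16] [nat_lit 0,nat_lit 1,nat_lit 27,nat_lit 26,nat_lit 103,nat_lit 102,nat_lit 125,nat_lit 124,nat_lit 14,nat_lit 15,nat_lit 21,nat_lit 20,nat_lit 104,nat_lit 105,nat_lit 114,nat_lit 115] (Cert.lf (Leaf.st (nat_lit 2) (nat_lit 1) (nat_lit 1) (Leaf.cf (nat_lit 1))))))) (Cert.rep (nat_lit 108) [] [] [] (Cert.er (Cert.ro (nat_lit 0) [nat_lit 1,nat_lit 8,nat_lit 16] [nat_lit 8,nat_lit 9,nat_lit 16] [nat_lit 0,nat_lit 1,nat_lit 4,nat_lit 5,nat_lit 14,nat_lit 15,nat_lit 10,nat_lit 11] (Cert.ro (nat_lit 1) [nat_lit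 1,nat_lit 2,nat_lit 14,nat_lit 16] [nat_lit 1,nat_lit 14,nat_lit 12,nat_lit 16] [nat_lit 0,nat_lit 1,nat_lit 27,nat_lit 26,nat_lit 104,nat_lit 105,nat_lit 114,nat_lit 115,nat_lit 14,nat_lit 15,nat_lit 21,nat_lit 20,nat_lit 103,nat_lit 102,nat_lit 125,nat_lit 124] (Cert.lf (Leaf.st (nat_lit 2) (nat_lit 1) (nat_lit 1) (Leaf.cf (nat_lit 1))))))) (Cert.rep (nat_lit 109) [] [] [] (Cert.er (Cert.ro (nat_lit 0) [nat_lit 1,nat_lit 8,nat_lit 16] [nat_lit 8,nat_lit 9,nat_lit 16] [nat_lit 0,nat_lit 1,nat_lit 4,nat_lit 5,nat_lit 14,nat_lit 15,nat_lit 10,nat_lit 11] (Cert.ro (nat_lit 1) [nat_lit 1,nat_lit 2,nat_lit 14,nat_lit 16] [nat_lit 1,nat_lit 14,nat_lit 12,nat_lit 16] [nat_lit 0,nat_lit 1,nat_lit 27,nat_lit 26,nat_lit 105,nat_lit 104,nat_lit 115,nat_lit 114,nat_lit 14,nat_lit 15,nat_lit 21,nat_lit 20,nat_lit 102,nat_lit 103,nat_lit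 124,nat_lit 125] (Cert.lf (Leaf.st (nat_lit 2) (nat_lit 1) (nat_lit 1) (Leaf.cf (nat_lit 1))))))) Cert.nil)))) (Cert.rep (nat_lit 10) [nat_lit 4] [] [] (Cert.rep (nat_lit 98) [] [] [] (Cert.er (Cert.ro (nat_lit 0) [nat_lit 1,nat_lit 8,nat_lit 16] [nat_lit 8,nat_lit 9,nat_lit 16] [nat_lit 0,nat_lit 1,nat_lit 10,nat_lit 11,nat_lit 14,nat_lit 15,nat_lit 4,nat_lit 5] (Cert.ro (nat_lit 1) [nat_lit 1,nat_lit 2,nat_lit 14,nat_lit 16] [nat_lit 1,nat_lit 14,nat_lit 12,nat_lit 16] [nat_lit 0,nat_lit 1,nat_lit 27,nat_lit 26,nat_lit 105,nat_lit 104,nat_lit 115,nat_lit 114,nat_lit 14,nat_lit 15,nat_lit 21,nat_lit 20,nat_lit 102,nat_lit 103,nat_lit 124,nat_lit 125] (Cert.kw (nat_lit 2) (nat_lit 0) (nat_lit 2) (nat_lit 1) )))) (Cert.rep (nat_lit 99) [] [] [] (Cert.er (Cert.ro (nat_lit 0) [nat_lit 1,nat_lit 8,nat_lit 16] [nat_lit 8,nat_lit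 9,nat_lit 16] [nat_lit 0,nat_lit 1,nat_lit 10,nat_lit 11,nat_lit 14,nat_lit 15,nat_lit 4,nat_lit 5] (Cert.ro (nat_lit 1) [nat_lit 1,nat_lit 2,nat_lit 14,nat_lit 16] [nat_lit 1,nat_lit 14,nat_lit 12,nat_lit 16] [nat_lit 0,nat_lit 1,nat_lit 27,nat_lit 26,nat_lit 104,nat_lit 105,nat_lit 114,nat_lit 115,nat_lit 14,nat_lit 15,nat_lit 21,nat_lit 20,nat_lit 103,nat_lit 102,nat_lit 125,nat_lit 124] (Cert.kw (nat_lit 2) (nat_lit 0) (nat_lit 2) (nat_lit 1) )))) (Cert.rep (nat_lit 108) [] [] [] (Cert.er (Cert.ro (nat_lit 0) [nat_lit 1,nat_lit 8,nat_lit 16] [nat_lit 8,nat_lit 9,nat_lit 16] [nat_lit 0,nat_lit 1,nat_lit 10,nat_lit 11,nat_lit 14,nat_lit 15,nat_lit 4,nat_lit 5] (Cert.ro (nat_lit 1) [nat_lit 1,nat_lit 2,nat_lit 14,nat_lit 16] [nat_lit 1,nat_lit 14,nat_lit 12,nat_lit 16] [nat_lit 0,nat_lit 1,nat_lit 27,nat_lit 26,nat_lit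 103,nat_lit 102,nat_lit 125,nat_lit 124,nat_lit 14,nat_lit 15,nat_lit 21,nat_lit 20,nat_lit 104,nat_lit 105,nat_lit 114,nat_lit 115] (Cert.kw (nat_lit 2) (nat_lit 0) (nat_lit 2) (nat_lit 1) )))) (Cert.rep (nat_lit 109) [] [] [] (Cert.er (Cert.ro (nat_lit 0) [nat_lit 1,nat_lit 8,nat_lit 16] [nat_lit 8,nat_lit 9,nat_lit 16] [nat_lit 0,nat_lit 1,nat_lit 10,nat_lit 11,nat_lit 14,nat_lit 15,nat_lit 4,nat_lit 5] (Cert.ro (nat_lit 1) [nat_lit 1,nat_lit 2,nat_lit 14,nat_lit 16] [nat_lit 1,nat_lit 14,nat_lit 12,nat_lit 16] [nat_lit 0,nat_lit 1,nat_lit 27,nat_lit 26,nat_lit 102,nat_lit 103,nat_lit 124,nat_lit 125,nat_lit 14,nat_lit 15,nat_lit 21,nat_lit 20,nat_lit 105,nat_lit 104,nat_lit 115,nat_lit 114] (Cert.kw (nat_lit 2) (nat_lit 0) (nat_lit 2) (nat_lit 1) )))) Cert.nil)))) (Cert.rep (nat_lit 15) [] [] [] Cert.nil Cert.nil))))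 Cert.nil)))
noncomputable def f1 : Cert :=
  (Cert.st (nat_lit 0) (nat_lit 4) (nat_lit 0) (Cert.st (nat_lit 0) (nat_lit 14) (nat_lit 0) (Cert.sp (nat_lit 1) (Cert.lf (Leaf.pt (nat_lit 10) (nat_lit 1) [nat_lit 8,nat_lit 4])) (Cert.sp (nat_lit 2) (Cert.lf (Leaf.pt (nat_lit 10) (nat_lit 2) [nat_lit 36,nat_lit 1])) (Cert.st (nat_lit 0) (nat_lit 2) (nat_lit 0) (Cert.sp (nat_lit 10) (Cert.lf (Leaf.pt (nat_lit 5) (nat_lit 10) [nat_lit 4])) (Cert.st (nat_lit 0) (nat_lit 10) (nat_lit 0) (Cert.nl (nat_lit 1) (Cert.sy (nat_lit 0) f1_0)))))))))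
theorem fin1 : finOK DB PT 34 t34 1 t1 (nat_lit 0x30c00000303000f00000ff0c3ccff) f1 = true := by
  decide +kernel
noncomputable def f10 : Cert :=
  (Cert.st (nat_lit 0) (nat_lit 4) (nat_lit 0) (Cert.st (nat_lit 0) (nat_lit 14) (nat_lit 0) (Cert.sp (nat_lit 1) (Cert.lf (Leaf.pt (nat_lit 10) (nat_lit 1) [nat_lit 8,nat_lit 4])) (Cert.sp (nat_lit 2) (Cert.lf (Leaf.pt (nat_lit 10) (nat_lit 2) [nat_lit 36,nat_lit 1])) (Cert.st (nat_lit 0) (nat_lit 2) (nat_lit 0) (Cert.sp (nat_lit 10) (Cert.lf (Leaf.pt (nat_lit 5) (nat_lit 10) [nat_lit 4])) (Cert.st (nat_lit 0) (nat_lit 10) (nat_lit 0) (Cert.nl (nat_lit 1) (Cert.sy (nat_lit 0) (Cert.root (nat_lit 16) [] [nat_lit 8,nat_lit 4] [] [Ins.fr [nat_lit 0],Ins.ts (nat_lit 1) [nat_lit 0] [],Ins.ts (nat_lit 0) [nat_lit 0,nat_lit 0] [],Ins.ts (nat_lit 1) [nat_lit 0,nat_lit 1] [],Ins.fr [nat_lit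 1],Ins.ts (nat_lit 1) [nat_lit 0,nat_lit 0] [],Ins.ts (nat_lit 1) [nat_lit 0,nat_lit 0,nat_lit 0,nat_lit 0] []] (Cert.rep (nat_lit 4) [nat_lit 2,nat_lit 8] [nat_lit 8,nat_lit 4,nat_lit 2,nat_lit 1] [nat_lit 32,nat_lit 16] (Cert.rep (nat_lit 1) [] [] [] Cert.nil (Cert.rep (nat_lit 2) [] [] [] Cert.nil (Cert.rep (nat_lit 5) [] [] [] Cert.nil (Cert.rep (nat_lit 6) [] [] [] Cert.nil (Cert.rep (nat_lit 10) [] [] [] Cert.nil (Cert.rep (nat_lit 14) [] [] [] Cert.nil Cert.nil)))))) (Cert.rep (nat_lit 14) [nat_lit 4,nat_lit 16] [nat_lit 16,nat_lit 10,nat_lit 4,nat_lit 1] [nat_lit 32,nat_lit 2] (Cert.rep (nat_lit 1) [] [] [] Cert.nil (Cert.rep (nat_lit 4) [] [] [] Cert.nil (Cert.rep (nat_lit 10) [] [] [] Cert.nil (Cert.rep (nat_lit 15) [] [] [] Cert.nil (Cert.rep (nat_lit 16) [] [] [] Cert.nil (Cert.rep (nat_lit 30) [] [] [] Cert.nil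 Cert.nil)))))) (Cert.rep (nat_lit 28) [nat_lit 2,nat_lit 8] [nat_lit 20,nat_lit 8,nat_lit 2,nat_lit 1] [nat_lit 32,nat_lit 4] (Cert.rep (nat_lit 1) [] [] [] Cert.nil (Cert.rep (nat_lit 2) [] [] [] Cert.nil (Cert.rep (nat_lit 10) [] [] [] Cert.nil (Cert.rep (nat_lit 22) [] [] [] Cert.nil (Cert.rep (nat_lit 29) [] [] [] Cert.nil (Cert.rep (nat_lit 30) [] [] [] Cert.nil Cert.nil)))))) (Cert.rep (nat_lit 32) [] [nat_lit 32,nat_lit 2,nat_lit 1] [nat_lit 8,nat_lit 24,nat_lit 4] (Cert.rep (nat_lit 1) [] [] [] Cert.nil (Cert.rep (nat_lit 2) [] [] [] Cert.nil (Cert.rep (nat_lit 3) [] [] [] Cert.nil (Cert.rep (nat_lit 33) [] [] [] Cert.nil (Cert.rep (nat_lit 34) [] [] [] Cert.nil (Cert.rep (nat_lit 35) [] [] [] Cert.nil Cert.nil)))))) Cert.nil))))))))))))))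
theorem fin10 : finOK DB PT 34 t34 10 t10 (nat_lit 0xf00000ff0c3ccff) f10 = true := by
  decide +kernel
noncomputable def f26 : Cert :=
  (Cert.st (nat_lit 0) (nat_lit 4) (nat_lit 0) (Cert.sp (nat_lit 1) (Cert.lf (Leaf.pt (nat_lit 10) (nat_lit 1) [nat_lit 8,nat_lit 4])) (Cert.sp (nat_lit 2) (Cert.lf (Leaf.pt (nat_lit 10) (nat_lit 2) [nat_lit 36,nat_lit 1])) (Cert.st (nat_lit 0) (nat_lit 2) (nat_lit 0) (Cert.sp (nat_lit 10) (Cert.lf (Leaf.pt (nat_lit 10) (nat_lit 10) [nat_lit 84,nat_lit 1])) (Cert.st (nat_lit 0) (nat_lit 10) (nat_lit 0) (Cert.sp (nat_lit 28) (Cert.lf (Leaf.pt (nat_lit 10) (nat_lit 28) [nat_lit 40,nat_lit 1])) (Cert.st (nat_lit 0) (nat_lit 28) (nat_lit 0) (Cert.sp (nat_lit 32) (Cert.lf (Leaf.pt (nat_lit 14) (nat_lit 32) [nat_lit 1,nat_lit 2,nat_lit 28])) (Cert.st (nat_lit 0) (nat_lit 32) (nat_lit 0) (Cert.sp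 (nat_lit 70) (Cert.lf (Leaf.pt (nat_lit 14) (nat_lit 70) [nat_lit 1,nat_lit 10,nat_lit 22])) (Cert.st (nat_lit 0) (nat_lit 70) (nat_lit 0) (Cert.nl (nat_lit 1) (Cert.sy (nat_lit 0) (Cert.root (nat_lit 16) [] [nat_lit 8,nat_lit 4] [] [Ins.fr [nat_lit 0],Ins.ts (nat_lit 1) [nat_lit 0] [],Ins.ts (nat_lit 0) [nat_lit 0,nat_lit 0] [],Ins.ts (nat_lit 1) [nat_lit 0,nat_lit 1] [],Ins.fr [nat_lit 1],Ins.ts (nat_lit 1) [nat_lit 0,nat_lit 0] [],Ins.ts (nat_lit 1) [nat_lit 0,nat_lit 0,nat_lit 0,nat_lit 0] []] (Cert.rep (nat_lit 4) [nat_lit 2,nat_lit 8] [nat_lit 8,nat_lit 4,nat_lit 2,nat_lit 1] [nat_lit 64,nat_lit 32,nat_lit 16] (Cert.rep (nat_lit 1) [] [] [] Cert.nil (Cert.rep (nat_lit 2) [] [] [] Cert.nil (Cert.rep (nat_lit 5) [] [] [] Cert.nil (Cert.rep (nat_lit 6) [] [] [] Cert.nil (Cert.rep (nat_lit 10) [] [] [] Cert.nil (Cert.rep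 (nat_lit 14) [] [] [] Cert.nil Cert.nil)))))) Cert.nil))))))))))))))))
theorem fin26 : finOK DB PT 34 t34 26 t26 (nat_lit 0xc0330c0f000000ff0c3ccff) f26 = true := by
  decide +kernel
noncomputable def f54 : Cert :=
  (Cert.st (nat_lit 0) (nat_lit 8) (nat_lit 0) (Cert.st (nat_lit 0) (nat_lit 26) (nat_lit 0) (Cert.sp (nat_lit 1) (Cert.lf (Leaf.pt (nat_lit 7) (nat_lit 1) [nat_lit 8,nat_lit 16])) (Cert.sp (nat_lit 2) (Cert.lf (Leaf.pt (nat_lit 0) (nat_lit 2) [nat_lit 96])) (Cert.st (nat_lit 0) (nat_lit 2) (nat_lit 0) (Cert.sp (nat_lit 4) (Cert.lf (Leaf.pt (nat_lit 7) (nat_lit 4) [nat_lit 8,nat_lit 16])) (Cert.st (nat_lit 0) (nat_lit 4) (nat_lit 0) (Cert.sp (nat_lit 12) (Cert.lf (Leaf.pt (nat_lit 7) (nat_lit 12) [nat_lit 8,nat_lit 16])) (Cert.sp (nat_lit 13) (Cert.lf (Leaf.pt (nat_lit 7) (nat_lit 13) [nat_lit 8,nat_lit 16]))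 (Cert.sp (nat_lit 14) (Cert.lf (Leaf.pt (nat_lit 0) (nat_lit 14) [nat_lit 64])) (Cert.st (nat_lit 0) (nat_lit 14) (nat_lit 0) (Cert.sp (nat_lit 18) (Cert.lf (Leaf.pt (nat_lit 6) (nat_lit 18) [nat_lit 8])) (Cert.st (nat_lit 0) (nat_lit 18) (nat_lit 0) (Cert.sp (nat_lit 22) (Cert.lf (Leaf.pt (nat_lit 7) (nat_lit 22) [nat_lit 26,nat_lit 38])) (Cert.st (nat_lit 0) (nat_lit 22) (nat_lit 0) (Cert.sp (nat_lit 30) (Cert.lf (Leaf.pt (nat_lit 8) (nat_lit 30) [nat_lit 4,nat_lit 18])) (Cert.st (nat_lit 0) (nat_lit 30) (nat_lit 0) (Cert.sp (nat_lit 32) (Cert.lf (Leaf.pt (nat_lit 0) (nat_lit 32) [nat_lit 84])) (Cert.st (nat_lit 0) (nat_lit 32) (nat_lit 0) (Cert.sp (nat_lit 34) (Cert.lf (Leaf.pt (nat_lit 0) (nat_lit 34) [nat_lit 80])) (Cert.st (nat_lit 0) (nat_lit 34) (nat_lit 0) (Cert.sp (nat_lit 44) (Cert.lf (Leaf.pt (nat_lit 0) (nat_lit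 44) [nat_lit 86])) (Cert.st (nat_lit 0) (nat_lit 44) (nat_lit 0) (Cert.sp (nat_lit 46) (Cert.lf (Leaf.pt (nat_lit 0) (nat_lit 46) [nat_lit 80])) (Cert.st (nat_lit 0) (nat_lit 46) (nat_lit 0) (Cert.sp (nat_lit 68) (Cert.lf (Leaf.st (nat_lit 1) (nat_lit 4) (nat_lit 68) (Leaf.st (nat_lit 1) (nat_lit 16) (nat_lit 68) (Leaf.st (nat_lit 1) (nat_lit 20) (nat_lit 68) (Leaf.pt (nat_lit 15) (nat_lit 68) [nat_lit 2,nat_lit 45,nat_lit 46]))))) (Cert.st (nat_lit 0) (nat_lit 68) (nat_lit 0) (Cert.sp (nat_lit 69) (Cert.lf (Leaf.st (nat_lit 1) (nat_lit 4) (nat_lit 69) (Leaf.st (nat_lit 1) (nat_lit 20) (nat_lit 69) (Leaf.pt (nat_lit 8) (nat_lit 69) [nat_lit 2,nat_lit 44])))) (Cert.st (nat_lit 0) (nat_lit 69) (nat_lit 0) (Cert.sp (nat_lit 72) (Cert.lf (Leaf.st (nat_lit 1) (nat_lit 4) (nat_lit 72) (Leaf.st (nat_lit 1) (nat_lit 16) (nat_lit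 72) (Leaf.st (nat_lit 1) (nat_lit 20) (nat_lit 72) (Leaf.pt (nat_lit 15) (nat_lit 72) [nat_lit 2,nat_lit 45,nat_lit 46]))))) (Cert.st (nat_lit 0) (nat_lit 72) (nat_lit 0) (Cert.sp (nat_lit 73) (Cert.lf (Leaf.st (nat_lit 1) (nat_lit 4) (nat_lit 73) (Leaf.st (nat_lit 1) (nat_lit 20) (nat_lit 73) (Leaf.pt (nat_lit 8) (nat_lit 73) [nat_lit 2,nat_lit 44])))) (Cert.st (nat_lit 0) (nat_lit 73) (nat_lit 0) (Cert.nl (nat_lit 1) (Cert.sy (nat_lit 0) (Cert.root (nat_lit 32) [] [nat_lit 8,nat_lit 4] [] [Ins.fr [nat_lit 0],Ins.ts (nat_lit 0) [nat_lit 0,nat_lit 0] [],Ins.ts (nat_lit 1) [nat_lit 0] [],Ins.ts (nat_lit 1) [nat_lit 0,nat_lit 1] [],Ins.fr [nat_lit 1],Ins.ts (nat_lit 1) [nat_lit 0,nat_lit 0] [],Ins.ts (nat_lit 1) [nat_lit 0,nat_lit 0,nat_lit 0,nat_lit 0] []] (Cert.rep (nat_lit 8) [nat_lit 2,nat_lit 16] [nat_lit 16,nat_lit 8,nat_lit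 4,nat_lit 2,nat_lit 1] [nat_lit 64,nat_lit 32] (Cert.rep (nat_lit 1) [] [] [] Cert.nil (Cert.rep (nat_lit 2) [] [] [] Cert.nil (Cert.rep (nat_lit 4) [] [] [] Cert.nil (Cert.rep (nat_lit 5) [] [] [] Cert.nil (Cert.rep (nat_lit 6) [] [] [] Cert.nil (Cert.rep (nat_lit 9) [] [] [] Cert.nil (Cert.rep (nat_lit 10) [] [] [] Cert.nil (Cert.rep (nat_lit 12) [] [] [] Cert.nil (Cert.rep (nat_lit 13) [] [] [] Cert.nil (Cert.rep (nat_lit 14) [] [] [] Cert.nil (Cert.rep (nat_lit 18) [] [] [] Cert.nil (Cert.rep (nat_lit 22) [] [] [] Cert.nil (Cert.rep (nat_lit 26) [] [] [] Cert.nil (Cert.rep (nat_lit 30) [] [] [] Cert.nil Cert.nil)))))))))))))) (Cert.rep (nat_lit 26) [nat_lit 4,nat_lit 34] [nat_lit 34,nat_lit 18,nat_lit 8,nat_lit 4,nat_lit 1] [nat_lit 64,nat_lit 2] (Cert.rep (nat_lit 1) [] [] [] Cert.nil (Cert.rep (nat_lit 4) [] [] []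 Cert.nil (Cert.rep (nat_lit 8) [] [] [] Cert.nil (Cert.rep (nat_lit 12) [] [] [] Cert.nil (Cert.rep (nat_lit 13) [] [] [] Cert.nil (Cert.rep (nat_lit 18) [] [] [] Cert.nil (Cert.rep (nat_lit 22) [] [] [] Cert.nil (Cert.rep (nat_lit 23) [] [] [] Cert.nil (Cert.rep (nat_lit 27) [] [] [] Cert.nil (Cert.rep (nat_lit 30) [] [] [] Cert.nil (Cert.rep (nat_lit 34) [] [] [] Cert.nil (Cert.rep (nat_lit 46) [] [] [] Cert.nil (Cert.rep (nat_lit 52) [] [] [] Cert.nil (Cert.rep (nat_lit 56) [] [] [] Cert.nil Cert.nil)))))))))))))) Cert.nil))))))))))))))))))))))))))))))))))))))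
theorem fin54 : finOK DB PT 88 t88 54 t54 (nat_lit 0xff000000ff0c33cf00fccccffff) f54 = true := by
  decide +kernel
noncomputable def f70_0 : Cert :=
  Cert.rep (nat_lit 8) [nat_lit 2,nat_lit 16] [nat_lit 16,nat_lit 8,nat_lit 4,nat_lit 2,nat_lit 1] [nat_lit 256,nat_lit 128,nat_lit 64,nat_lit 32] (Cert.rep (nat_lit 1) [] [] [] Cert.nil (Cert.rep (nat_lit 2) [] [] [] Cert.nil (Cert.rep (nat_lit 4) [] [] [] Cert.nil (Cert.rep (nat_lit 5) [] [] [] Cert.nil (Cert.rep (nat_lit 6) [] [] [] Cert.nil (Cert.rep (nat_lit 9) [] [] [] Cert.nil (Cert.rep (nat_lit 10) [] [] [] Cert.nil (Cert.rep (nat_lit 12) [] [] [] Cert.nil (Cert.rep (nat_lit 13) [] [] [] Cert.nil (Cert.rep (nat_lit 14) [] [] [] Cert.nil (Cert.rep (nat_lit 18) [] [] [] Cert.nil (Cert.rep (nat_lit 22) [] [] [] Cert.nil (Cert.rep (nat_lit 26) [] [] [] Cert.nil (Cert.rep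 (nat_lit 30) [] [] [] Cert.nil Cert.nil)))))))))))))) (Cert.rep (nat_lit 26) [nat_lit 4,nat_lit 8,nat_lit 34,nat_lit 192] [nat_lit 192,nat_lit 34,nat_lit 18,nat_lit 8,nat_lit 4,nat_lit 1] [nat_lit 256,nat_lit 64,nat_lit 2] (Cert.rep (nat_lit 1) [] [] [] Cert.nil (Cert.rep (nat_lit 4) [nat_lit 4,nat_lit 8] [] [] (Cert.rep (nat_lit 204) [] [] [] (Cert.er (Cert.ro (nat_lit 0) [nat_lit 1,nat_lit 8,nat_lit 16] [nat_lit 8,nat_lit 9,nat_lit 16] [nat_lit 0,nat_lit 1,nat_lit 4,nat_lit 5,nat_lit 26,nat_lit 27,nat_lit 30,nat_lit 31] (Cert.ro (nat_lit 1) [nat_lit 1,nat_lit 2,nat_lit 14,nat_lit 16] [nat_lit 1,nat_lit 14,nat_lit 12,nat_lit 16] [nat_lit 0,nat_lit 1,nat_lit 42,nat_lit 43,nat_lit 200,nat_lit 201,nat_lit 227,nat_lit 226,nat_lit 26,nat_lit 27,nat_lit 49,nat_lit 48,nat_lit 210,nat_lit 211,nat_lit 248,nat_lit 249] (Cert.lf (Leaf.st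 (nat_lit 2) (nat_lit 1) (nat_lit 5) (Leaf.cf (nat_lit 30))))))) (Cert.rep (nat_lit 214) [] [] [] (Cert.er (Cert.ro (nat_lit 0) [nat_lit 1,nat_lit 8,nat_lit 16] [nat_lit 8,nat_lit 9,nat_lit 16] [nat_lit 0,nat_lit 1,nat_lit 4,nat_lit 5,nat_lit 26,nat_lit 27,nat_lit 30,nat_lit 31] (Cert.ro (nat_lit 1) [nat_lit 1,nat_lit 2,nat_lit 14,nat_lit 16] [nat_lit 1,nat_lit 14,nat_lit 12,nat_lit 16] [nat_lit 0,nat_lit 1,nat_lit 42,nat_lit 43,nat_lit 210,nat_lit 211,nat_lit 248,nat_lit 249,nat_lit 26,nat_lit 27,nat_lit 49,nat_lit 48,nat_lit 200,nat_lit 201,nat_lit 227,nat_lit 226] (Cert.lf (Leaf.st (nat_lit 2) (nat_lit 1) (nat_lit 5) (Leaf.cf (nat_lit 30))))))) Cert.nil)) (Cert.rep (nat_lit 8) [nat_lit 4,nat_lit 8] [] [] (Cert.rep (nat_lit 192) [] [] [] (Cert.er (Cert.ro (nat_lit 0) [nat_lit 1,nat_lit 8,nat_lit 16] [nat_lit 8,nat_lit 9,nat_lit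 16] [nat_lit 0,nat_lit 1,nat_lit 8,nat_lit 9,nat_lit 26,nat_lit 27,nat_lit 18,nat_lit 19] (Cert.ro (nat_lit 1) [nat_lit 1,nat_lit 2,nat_lit 14,nat_lit 16] [nat_lit 1,nat_lit 14,nat_lit 12,nat_lit 16] [nat_lit 0,nat_lit 1,nat_lit 43,nat_lit 42,nat_lit 200,nat_lit 201,nat_lit 226,nat_lit 227,nat_lit 26,nat_lit 27,nat_lit 48,nat_lit 49,nat_lit 210,nat_lit 211,nat_lit 249,nat_lit 248] (Cert.lf (Leaf.st (nat_lit 2) (nat_lit 1) (nat_lit 1) (Leaf.cf (nat_lit 1))))))) (Cert.rep (nat_lit 218) [] [] [] (Cert.er (Cert.ro (nat_lit 0) [nat_lit 1,nat_lit 8,nat_lit 16] [nat_lit 8,nat_lit 9,nat_lit 16] [nat_lit 0,nat_lit 1,nat_lit 8,nat_lit 9,nat_lit 26,nat_lit 27,nat_lit 18,nat_lit 19] (Cert.ro (nat_lit 1) [nat_lit 1,nat_lit 2,nat_lit 14,nat_lit 16] [nat_lit 1,nat_lit 14,nat_lit 12,nat_lit 16] [nat_lit 0,nat_lit 1,nat_lit 43,nat_lit 42,nat_lit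 210,nat_lit 211,nat_lit 249,nat_lit 248,nat_lit 26,nat_lit 27,nat_lit 48,nat_lit 49,nat_lit 200,nat_lit 201,nat_lit 226,nat_lit 227] (Cert.lf (Leaf.st (nat_lit 2) (nat_lit 1) (nat_lit 1) (Leaf.cf (nat_lit 1))))))) Cert.nil)) (Cert.rep (nat_lit 12) [] [] [] Cert.nil (Cert.rep (nat_lit 18) [nat_lit 4,nat_lit 8] [] [] (Cert.rep (nat_lit 192) [] [] [] (Cert.er (Cert.ro (nat_lit 0) [nat_lit 1,nat_lit 8,nat_lit 16] [nat_lit 8,nat_lit 9,nat_lit 16] [nat_lit 0,nat_lit 1,nat_lit 18,nat_lit 19,nat_lit 26,nat_lit 27,nat_lit 8,nat_lit 9] (Cert.ro (nat_lit 1) [nat_lit 1,nat_lit 2,nat_lit 14,nat_lit 16] [nat_lit 1,nat_lit 14,nat_lit 12,nat_lit 16] [nat_lit 0,nat_lit 1,nat_lit 43,nat_lit 42,nat_lit 210,nat_lit 211,nat_lit 249,nat_lit 248,nat_lit 26,nat_lit 27,nat_lit 48,nat_lit 49,nat_lit 200,nat_lit 201,nat_lit 226,nat_lit 227] (Cert.kw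 (nat_lit 2) (nat_lit 0) (nat_lit 2) (nat_lit 1) )))) (Cert.rep (nat_lit 218) [] [] [] (Cert.er (Cert.ro (nat_lit 0) [nat_lit 1,nat_lit 8,nat_lit 16] [nat_lit 8,nat_lit 9,nat_lit 16] [nat_lit 0,nat_lit 1,nat_lit 18,nat_lit 19,nat_lit 26,nat_lit 27,nat_lit 8,nat_lit 9] (Cert.ro (nat_lit 1) [nat_lit 1,nat_lit 2,nat_lit 14,nat_lit 16] [nat_lit 1,nat_lit 14,nat_lit 12,nat_lit 16] [nat_lit 0,nat_lit 1,nat_lit 43,nat_lit 42,nat_lit 200,nat_lit 201,nat_lit 226,nat_lit 227,nat_lit 26,nat_lit 27,nat_lit 48,nat_lit 49,nat_lit 210,nat_lit 211,nat_lit 249,nat_lit 248] (Cert.kw (nat_lit 2) (nat_lit 0) (nat_lit 2) (nat_lit 1) )))) Cert.nil)) (Cert.rep (nat_lit 22) [] [] [] Cert.nil (Cert.rep (nat_lit 27) [] [] [] Cert.nil (Cert.rep (nat_lit 30) [nat_lit 4,nat_lit 8] [] [] (Cert.rep (nat_lit 204) [] [] [] (Cert.er (Cert.ro (nat_lit 0) [nat_lit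 1,nat_lit 8,nat_lit 16] [nat_lit 8,nat_lit 9,nat_lit 16] [nat_lit 0,nat_lit 1,nat_lit 30,nat_lit 31,nat_lit 26,nat_lit 27,nat_lit 4,nat_lit 5] (Cert.ro (nat_lit 1) [nat_lit 1,nat_lit 2,nat_lit 14,nat_lit 16] [nat_lit 1,nat_lit 14,nat_lit 12,nat_lit 16] [nat_lit 0,nat_lit 1,nat_lit 42,nat_lit 43,nat_lit 210,nat_lit 211,nat_lit 248,nat_lit 249,nat_lit 26,nat_lit 27,nat_lit 49,nat_lit 48,nat_lit 200,nat_lit 201,nat_lit 227,nat_lit 226] (Cert.lf (Leaf.st (nat_lit 2) (nat_lit 1) (nat_lit 5) (Leaf.cf (nat_lit 4))))))) (Cert.rep (nat_lit 214) [] [] [] (Cert.er (Cert.ro (nat_lit 0) [nat_lit 1,nat_lit 8,nat_lit 16] [nat_lit 8,nat_lit 9,nat_lit 16] [nat_lit 0,nat_lit 1,nat_lit 30,nat_lit 31,nat_lit 26,nat_lit 27,nat_lit 4,nat_lit 5] (Cert.ro (nat_lit 1) [nat_lit 1,nat_lit 2,nat_lit 14,nat_lit 16] [nat_lit 1,nat_lit 14,nat_lit 12,nat_lit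 16] [nat_lit 0,nat_lit 1,nat_lit 42,nat_lit 43,nat_lit 200,nat_lit 201,nat_lit 227,nat_lit 226,nat_lit 26,nat_lit 27,nat_lit 49,nat_lit 48,nat_lit 210,nat_lit 211,nat_lit 248,nat_lit 249] (Cert.lf (Leaf.st (nat_lit 2) (nat_lit 1) (nat_lit 5) (Leaf.cf (nat_lit 4))))))) Cert.nil)) (Cert.rep (nat_lit 196) [] [] [] Cert.nil (Cert.rep (nat_lit 222) [] [] [] Cert.nil Cert.nil)))))))))) Cert.nil)
noncomputable def f70 : Cert :=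
  (Cert.st (nat_lit 0) (nat_lit 8) (nat_lit 0) (Cert.st (nat_lit 0) (nat_lit 26) (nat_lit 0) (Cert.sp (nat_lit 1) (Cert.lf (Leaf.pt (nat_lit 7) (nat_lit 1) [nat_lit 8,nat_lit 16])) (Cert.sp (nat_lit 2) (Cert.lf (Leaf.pt (nat_lit 0) (nat_lit 2) [nat_lit 96])) (Cert.st (nat_lit 0) (nat_lit 2) (nat_lit 0) (Cert.sp (nat_lit 4) (Cert.lf (Leaf.pt (nat_lit 7) (nat_lit 4) [nat_lit 8,nat_lit 16])) (Cert.st (nat_lit 0) (nat_lit 4) (nat_lit 0) (Cert.sp (nat_lit 12) (Cert.lf (Leaf.pt (nat_lit 7) (nat_lit 12) [nat_lit 8,nat_lit 16])) (Cert.st (nat_lit 0) (nat_lit 12) (nat_lit 0) (Cert.sp (nat_lit 18) (Cert.lf (Leaf.pt (nat_lit 6) (nat_lit 18) [nat_lit 8])) (Cert.st (nat_lit 0) (nat_lit 18) (nat_lit 0) (Cert.sp (nat_lit 22) (Cert.lf (Leaf.pt (nat_lit 7) (nat_lit 22) [nat_lit 26,nat_lit 38])) (Cert.st (nat_lit 0) (nat_lit 22) (nat_lit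 0) (Cert.sp (nat_lit 30) (Cert.lf (Leaf.pt (nat_lit 8) (nat_lit 30) [nat_lit 4,nat_lit 18])) (Cert.st (nat_lit 0) (nat_lit 30) (nat_lit 0) (Cert.sp (nat_lit 128) (Cert.lf (Leaf.st (nat_lit 1) (nat_lit 68) (nat_lit 128) (Leaf.pt (nat_lit 7) (nat_lit 128) [nat_lit 130,nat_lit 36]))) (Cert.st (nat_lit 0) (nat_lit 128) (nat_lit 0) (Cert.sp (nat_lit 196) (Cert.lf (Leaf.pt (nat_lit 7) (nat_lit 196) [nat_lit 26,nat_lit 38])) (Cert.st (nat_lit 0) (nat_lit 196) (nat_lit 0) (Cert.sp (nat_lit 260) (Cert.lf (Leaf.st (nat_lit 1) (nat_lit 36) (nat_lit 260) (Leaf.pt (nat_lit 7) (nat_lit 260) [nat_lit 261,nat_lit 68]))) (Cert.st (nat_lit 0) (nat_lit 260) (nat_lit 0) (Cert.sp (nat_lit 288) (Cert.lf (Leaf.st (nat_lit 1) (nat_lit 36) (nat_lit 288) (Leaf.pt (nat_lit 7) (nat_lit 288) [nat_lit 289,nat_lit 68]))) (Cert.st (nat_lit 0) (nat_lit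 288) (nat_lit 0) (Cert.nl (nat_lit 1) (Cert.sy (nat_lit 0) (Cert.s2 (nat_lit 0) (nat_lit 18) (Cert.o1 (nat_lit 0) (nat_lit 18) (Cert.fu (nat_lit 8) (nat_lit 1) (nat_lit 0) (nat_lit 0) [] [nat_lit 18,nat_lit 1,nat_lit 4,nat_lit 32,nat_lit 128] [] [] [] [nat_lit 1] [[nat_lit 1]] [[nat_lit 18]] [Ins.fr [nat_lit 0],Ins.ts (nat_lit 4) [nat_lit 0] [nat_lit 0,nat_lit 0,nat_lit 0],Ins.ts (nat_lit 1) [nat_lit 0] [],Ins.fr [nat_lit 1],Ins.ts (nat_lit 2) [nat_lit 0,nat_lit 2] [],Ins.ts (nat_lit 0) [nat_lit 0,nat_lit 0] [],Ins.ts (nat_lit 1) [nat_lit 0] [],Ins.ts (nat_lit 3) [nat_lit 0] [],Ins.ts (nat_lit 1) [nat_lit 0,nat_lit 1] [],Ins.fr [nat_lit 2],Ins.ts (nat_lit 3) [nat_lit 0] [],Ins.ts (nat_lit 0) [nat_lit 0,nat_lit 0] [],Ins.ts (nat_lit 3) [nat_lit 0,nat_lit 3] [],Ins.ts (nat_lit 0) [nat_lit 1,nat_lit 0] [nat_lit 0,nat_lit 1],Ins.fr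 [nat_lit 1,nat_lit 3],Ins.ts (nat_lit 0) [nat_lit 0,nat_lit 0] [],Ins.ts (nat_lit 2) [nat_lit 0] [],Ins.ts (nat_lit 0) [nat_lit 1,nat_lit 2,nat_lit 0] [nat_lit 0,nat_lit 1],Ins.fr [nat_lit 0],Ins.ts (nat_lit 0) [nat_lit 0,nat_lit 0] [],Ins.ts (nat_lit 0) [nat_lit 5,nat_lit 1,nat_lit 2] [nat_lit 0,nat_lit 2,nat_lit 0]] [] (Cert.rep (nat_lit 8) [] [nat_lit 16,nat_lit 8,nat_lit 4,nat_lit 2,nat_lit 1] [nat_lit 256,nat_lit 128,nat_lit 64,nat_lit 32] (Cert.rep (nat_lit 1) [nat_lit 2,nat_lit 16] [] [] (Cert.rep (nat_lit 2) [] [] [] (Cert.rep (nat_lit 4) [nat_lit 4] [] [] (Cert.rep (nat_lit 76) [] [] [] Cert.nil (Cert.rep (nat_lit 77) [] [] [] Cert.nil Cert.nil)) (Cert.rep (nat_lit 5) [nat_lit 4] [] [] (Cert.rep (nat_lit 76) [] [] [] Cert.nil (Cert.rep (nat_lit 77) [] [] [] Cert.nil Cert.nil)) (Cert.rep (nat_lit 6) [nat_lit 4] []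 [] (Cert.rep (nat_lit 76) [] [] [] Cert.nil (Cert.rep (nat_lit 77) [] [] [] Cert.nil Cert.nil)) (Cert.rep (nat_lit 7) [nat_lit 4] [] [] (Cert.rep (nat_lit 76) [] [] [] Cert.nil (Cert.rep (nat_lit 77) [] [] [] Cert.nil Cert.nil)) (Cert.rep (nat_lit 12) [] [] [] Cert.nil (Cert.rep (nat_lit 13) [] [] [] Cert.nil (Cert.rep (nat_lit 14) [] [] [] Cert.nil (Cert.rep (nat_lit 15) [] [] [] Cert.nil Cert.nil)))))))) (Cert.rep (nat_lit 18) [] [] [] (Cert.rep (nat_lit 4) [] [] [] Cert.nil (Cert.rep (nat_lit 5) [] [] [] Cert.nil (Cert.rep (nat_lit 12) [] [] [] Cert.nil (Cert.rep (nat_lit 13) [] [] [] Cert.nil (Cert.rep (nat_lit 22) [] [] [] Cert.nil (Cert.rep (nat_lit 23) [] [] [] Cert.nil (Cert.rep (nat_lit 30) [] [] [] Cert.nil (Cert.rep (nat_lit 31) [] [] [] Cert.nil Cert.nil)))))))) Cert.nil)) Cert.nil) (Cert.rep (nat_lit 26) []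 [nat_lit 192,nat_lit 34,nat_lit 18,nat_lit 8,nat_lit 4,nat_lit 1] [nat_lit 256,nat_lit 64,nat_lit 2] (Cert.rep (nat_lit 1) [nat_lit 4,nat_lit 34,nat_lit 192] [] [] (Cert.rep (nat_lit 18) [] [] [] (Cert.rep (nat_lit 4) [] [] [] Cert.nil (Cert.rep (nat_lit 5) [] [] [] Cert.nil (Cert.rep (nat_lit 12) [] [] [] Cert.nil (Cert.rep (nat_lit 13) [] [] [] Cert.nil (Cert.rep (nat_lit 22) [] [] [] Cert.nil (Cert.rep (nat_lit 23) [] [] [] Cert.nil (Cert.rep (nat_lit 30) [] [] [] Cert.nil (Cert.rep (nat_lit 31) [] [] [] Cert.nil Cert.nil)))))))) Cert.nil) Cert.nil) Cert.nil)))) (Cert.root (nat_lit 32) [] [nat_lit 8,nat_lit 4] [nat_lit 0,nat_lit 1,nat_lit 2,nat_lit 3,nat_lit 4] [Ins.fr [nat_lit 0],Ins.ts (nat_lit 0) [nat_lit 0,nat_lit 0] [],Ins.ts (nat_lit 1) [nat_lit 0] [],Ins.ts (nat_lit 1) [nat_lit 0,nat_lit 1] [],Ins.fr [nat_lit 1],Ins.ts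 (nat_lit 1) [nat_lit 0,nat_lit 0] [],Ins.ts (nat_lit 1) [nat_lit 0,nat_lit 0,nat_lit 0,nat_lit 0] [],Ins.ts (nat_lit 0) [nat_lit 1,nat_lit 0,nat_lit 1] [nat_lit 0,nat_lit 0,nat_lit 0],Ins.df [nat_lit 0,nat_lit 0],Ins.df [nat_lit 0,nat_lit 0]] f70_0)))))))))))))))))))))))))))
theorem fin70 : finOK DB PT 88 t88 70 t70 (nat_lit 0xf000000f0000000f00000000f0000000f000000f0000000000f000000f00c30f000c00300f00c300f00300c000f00000ff00000f00fc33cf00fccccffff) f70 = true := by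
  decide +kernel
noncomputable def f75_0 : Cert :=
  Cert.rep (nat_lit 8) [nat_lit 2,nat_lit 16] [nat_lit 16,nat_lit 8,nat_lit 4,nat_lit 2,nat_lit 1] [nat_lit 256,nat_lit 128,nat_lit 64,nat_lit 32] (Cert.rep (nat_lit 1) [] [] [] Cert.nil (Cert.rep (nat_lit 2) [] [] [] Cert.nil (Cert.rep (nat_lit 4) [] [] [] Cert.nil (Cert.rep (nat_lit 5) [] [] [] Cert.nil (Cert.rep (nat_lit 6) [] [] [] Cert.nil (Cert.rep (nat_lit 9) [] [] [] Cert.nil (Cert.rep (nat_lit 10) [] [] [] Cert.nil (Cert.rep (nat_lit 12) [] [] [] Cert.nil (Cert.rep (nat_lit 13) [] [] [] Cert.nil (Cert.rep (nat_lit 14) [] [] [] Cert.nil (Cert.rep (nat_lit 18) [] [] [] Cert.nil (Cert.rep (nat_lit 22) [] [] [] Cert.nil (Cert.rep (nat_lit 26) [] [] [] Cert.nil (Cert.rep (nat_lit 30) [] [] [] Cert.nil Cert.nil)))))))))))))) (Cert.rep (nat_lit 26) [nat_lit 4,nat_lit 8,nat_lit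 34,nat_lit 192] [nat_lit 192,nat_lit 34,nat_lit 18,nat_lit 8,nat_lit 4,nat_lit 1] [nat_lit 256,nat_lit 64,nat_lit 2] (Cert.rep (nat_lit 1) [] [] [] Cert.nil (Cert.rep (nat_lit 4) [nat_lit 4,nat_lit 8] [] [] (Cert.rep (nat_lit 204) [] [] [] (Cert.er (Cert.ro (nat_lit 0) [nat_lit 1,nat_lit 8,nat_lit 16] [nat_lit 8,nat_lit 9,nat_lit 16] [nat_lit 0,nat_lit 1,nat_lit 4,nat_lit 5,nat_lit 26,nat_lit 27,nat_lit 30,nat_lit 31] (Cert.ro (nat_lit 1) [nat_lit 1,nat_lit 2,nat_lit 14,nat_lit 16] [nat_lit 1,nat_lit 14,nat_lit 12,nat_lit 16] [nat_lit 0,nat_lit 1,nat_lit 42,nat_lit 43,nat_lit 200,nat_lit 201,nat_lit 227,nat_lit 226,nat_lit 26,nat_lit 27,nat_lit 49,nat_lit 48,nat_lit 210,nat_lit 211,nat_lit 248,nat_lit 249] (Cert.lf (Leaf.st (nat_lit 2) (nat_lit 1) (nat_lit 5) (Leaf.cf (nat_lit 30))))))) (Cert.rep (nat_lit 214) [] [] [] (Cert.er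 (Cert.ro (nat_lit 0) [nat_lit 1,nat_lit 8,nat_lit 16] [nat_lit 8,nat_lit 9,nat_lit 16] [nat_lit 0,nat_lit 1,nat_lit 4,nat_lit 5,nat_lit 26,nat_lit 27,nat_lit 30,nat_lit 31] (Cert.ro (nat_lit 1) [nat_lit 1,nat_lit 2,nat_lit 14,nat_lit 16] [nat_lit 1,nat_lit 14,nat_lit 12,nat_lit 16] [nat_lit 0,nat_lit 1,nat_lit 42,nat_lit 43,nat_lit 210,nat_lit 211,nat_lit 248,nat_lit 249,nat_lit 26,nat_lit 27,nat_lit 49,nat_lit 48,nat_lit 200,nat_lit 201,nat_lit 227,nat_lit 226] (Cert.lf (Leaf.st (nat_lit 2) (nat_lit 1) (nat_lit 5) (Leaf.cf (nat_lit 30))))))) Cert.nil)) (Cert.rep (nat_lit 8) [nat_lit 4,nat_lit 8] [] [] (Cert.rep (nat_lit 192) [] [] [] (Cert.er (Cert.ro (nat_lit 0) [nat_lit 1,nat_lit 8,nat_lit 16] [nat_lit 8,nat_lit 9,nat_lit 16] [nat_lit 0,nat_lit 1,nat_lit 8,nat_lit 9,nat_lit 26,nat_lit 27,nat_lit 18,nat_lit 19] (Cert.ro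 (nat_lit 1) [nat_lit 1,nat_lit 2,nat_lit 14,nat_lit 16] [nat_lit 1,nat_lit 14,nat_lit 12,nat_lit 16] [nat_lit 0,nat_lit 1,nat_lit 43,nat_lit 42,nat_lit 200,nat_lit 201,nat_lit 226,nat_lit 227,nat_lit 26,nat_lit 27,nat_lit 48,nat_lit 49,nat_lit 210,nat_lit 211,nat_lit 249,nat_lit 248] (Cert.lf (Leaf.st (nat_lit 2) (nat_lit 1) (nat_lit 1) (Leaf.cf (nat_lit 1))))))) (Cert.rep (nat_lit 218) [] [] [] (Cert.er (Cert.ro (nat_lit 0) [nat_lit 1,nat_lit 8,nat_lit 16] [nat_lit 8,nat_lit 9,nat_lit 16] [nat_lit 0,nat_lit 1,nat_lit 8,nat_lit 9,nat_lit 26,nat_lit 27,nat_lit 18,nat_lit 19] (Cert.ro (nat_lit 1) [nat_lit 1,nat_lit 2,nat_lit 14,nat_lit 16] [nat_lit 1,nat_lit 14,nat_lit 12,nat_lit 16] [nat_lit 0,nat_lit 1,nat_lit 43,nat_lit 42,nat_lit 210,nat_lit 211,nat_lit 249,nat_lit 248,nat_lit 26,nat_lit 27,nat_lit 48,nat_lit 49,nat_lit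 200,nat_lit 201,nat_lit 226,nat_lit 227] (Cert.lf (Leaf.st (nat_lit 2) (nat_lit 1) (nat_lit 1) (Leaf.cf (nat_lit 1))))))) Cert.nil)) (Cert.rep (nat_lit 12) [] [] [] Cert.nil (Cert.rep (nat_lit 18) [nat_lit 4,nat_lit 8] [] [] (Cert.rep (nat_lit 192) [] [] [] (Cert.er (Cert.ro (nat_lit 0) [nat_lit 1,nat_lit 8,nat_lit 16] [nat_lit 8,nat_lit 9,nat_lit 16] [nat_lit 0,nat_lit 1,nat_lit 18,nat_lit 19,nat_lit 26,nat_lit 27,nat_lit 8,nat_lit 9] (Cert.ro (nat_lit 1) [nat_lit 1,nat_lit 2,nat_lit 14,nat_lit 16] [nat_lit 1,nat_lit 14,nat_lit 12,nat_lit 16] [nat_lit 0,nat_lit 1,nat_lit 43,nat_lit 42,nat_lit 210,nat_lit 211,nat_lit 249,nat_lit 248,nat_lit 26,nat_lit 27,nat_lit 48,nat_lit 49,nat_lit 200,nat_lit 201,nat_lit 226,nat_lit 227] (Cert.kw (nat_lit 2) (nat_lit 0) (nat_lit 2) (nat_lit 1) )))) (Cert.rep (nat_lit 218) [] [] [] (Cert.er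 (Cert.ro (nat_lit 0) [nat_lit 1,nat_lit 8,nat_lit 16] [nat_lit 8,nat_lit 9,nat_lit 16] [nat_lit 0,nat_lit 1,nat_lit 18,nat_lit 19,nat_lit 26,nat_lit 27,nat_lit 8,nat_lit 9] (Cert.ro (nat_lit 1) [nat_lit 1,nat_lit 2,nat_lit 14,nat_lit 16] [nat_lit 1,nat_lit 14,nat_lit 12,nat_lit 16] [nat_lit 0,nat_lit 1,nat_lit 43,nat_lit 42,nat_lit 200,nat_lit 201,nat_lit 226,nat_lit 227,nat_lit 26,nat_lit 27,nat_lit 48,nat_lit 49,nat_lit 210,nat_lit 211,nat_lit 249,nat_lit 248] (Cert.kw (nat_lit 2) (nat_lit 0) (nat_lit 2) (nat_lit 1) )))) Cert.nil)) (Cert.rep (nat_lit 22) [] [] [] Cert.nil (Cert.rep (nat_lit 27) [] [] [] Cert.nil (Cert.rep (nat_lit 30) [nat_lit 4,nat_lit 8] [] [] (Cert.rep (nat_lit 204) [] [] [] (Cert.er (Cert.ro (nat_lit 0) [nat_lit 1,nat_lit 8,nat_lit 16] [nat_lit 8,nat_lit 9,nat_lit 16] [nat_lit 0,nat_lit 1,nat_lit 30,nat_lit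 31,nat_lit 26,nat_lit 27,nat_lit 4,nat_lit 5] (Cert.ro (nat_lit 1) [nat_lit 1,nat_lit 2,nat_lit 14,nat_lit 16] [nat_lit 1,nat_lit 14,nat_lit 12,nat_lit 16] [nat_lit 0,nat_lit 1,nat_lit 42,nat_lit 43,nat_lit 210,nat_lit 211,nat_lit 248,nat_lit 249,nat_lit 26,nat_lit 27,nat_lit 49,nat_lit 48,nat_lit 200,nat_lit 201,nat_lit 227,nat_lit 226] (Cert.lf (Leaf.st (nat_lit 2) (nat_lit 1) (nat_lit 5) (Leaf.cf (nat_lit 4))))))) (Cert.rep (nat_lit 214) [] [] [] (Cert.er (Cert.ro (nat_lit 0) [nat_lit 1,nat_lit 8,nat_lit 16] [nat_lit 8,nat_lit 9,nat_lit 16] [nat_lit 0,nat_lit 1,nat_lit 30,nat_lit 31,nat_lit 26,nat_lit 27,nat_lit 4,nat_lit 5] (Cert.ro (nat_lit 1) [nat_lit 1,nat_lit 2,nat_lit 14,nat_lit 16] [nat_lit 1,nat_lit 14,nat_lit 12,nat_lit 16] [nat_lit 0,nat_lit 1,nat_lit 42,nat_lit 43,nat_lit 200,nat_lit 201,nat_lit 227,nat_lit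 226,nat_lit 26,nat_lit 27,nat_lit 49,nat_lit 48,nat_lit 210,nat_lit 211,nat_lit 248,nat_lit 249] (Cert.lf (Leaf.st (nat_lit 2) (nat_lit 1) (nat_lit 5) (Leaf.cf (nat_lit 4))))))) Cert.nil)) (Cert.rep (nat_lit 196) [] [] [] Cert.nil (Cert.rep (nat_lit 222) [] [] [] Cert.nil Cert.nil)))))))))) Cert.nil)
noncomputable def f75 : Cert :=
  (Cert.st (nat_lit 0) (nat_lit 8) (nat_lit 0) (Cert.st (nat_lit 0) (nat_lit 26) (nat_lit 0) (Cert.sp (nat_lit 1) (Cert.lf (Leaf.pt (nat_lit 7) (nat_lit 1) [nat_lit 8,nat_lit 16])) (Cert.sp (nat_lit 2) (Cert.lf (Leaf.pt (nat_lit 0) (nat_lit 2) [nat_lit 96])) (Cert.st (nat_lit 0) (nat_lit 2) (nat_lit 0) (Cert.sp (nat_lit 4) (Cert.lf (Leaf.pt (nat_lit 7) (nat_lit 4) [nat_lit 8,nat_lit 16])) (Cert.st (nat_lit 0) (nat_lit 4) (nat_lit 0) (Cert.sp (nat_lit 12) (Cert.lf (Leaf.pt (nat_lit 7) (nat_lit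 12) [nat_lit 8,nat_lit 16])) (Cert.st (nat_lit 0) (nat_lit 12) (nat_lit 0) (Cert.sp (nat_lit 18) (Cert.lf (Leaf.pt (nat_lit 6) (nat_lit 18) [nat_lit 8])) (Cert.st (nat_lit 0) (nat_lit 18) (nat_lit 0) (Cert.sp (nat_lit 22) (Cert.lf (Leaf.pt (nat_lit 7) (nat_lit 22) [nat_lit 26,nat_lit 38])) (Cert.st (nat_lit 0) (nat_lit 22) (nat_lit 0) (Cert.sp (nat_lit 30) (Cert.lf (Leaf.pt (nat_lit 8) (nat_lit 30) [nat_lit 4,nat_lit 18])) (Cert.st (nat_lit 0) (nat_lit 30) (nat_lit 0) (Cert.sp (nat_lit 128) (Cert.lf (Leaf.st (nat_lit 1) (nat_lit 68) (nat_lit 128) (Leaf.pt (nat_lit 7) (nat_lit 128) [nat_lit 130,nat_lit 36]))) (Cert.st (nat_lit 0) (nat_lit 128) (nat_lit 0) (Cert.sp (nat_lit 196) (Cert.lf (Leaf.pt (nat_lit 7) (nat_lit 196) [nat_lit 26,nat_lit 38])) (Cert.st (nat_lit 0) (nat_lit 196) (nat_lit 0) (Cert.nl (nat_lit 1) (Cert.sy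 (nat_lit 0) (Cert.s2 (nat_lit 0) (nat_lit 18) (Cert.o1 (nat_lit 0) (nat_lit 18) (Cert.fu (nat_lit 8) (nat_lit 1) (nat_lit 0) (nat_lit 0) [] [nat_lit 18,nat_lit 1,nat_lit 4,nat_lit 32,nat_lit 128] [] [] [] [nat_lit 1] [[nat_lit 1]] [[nat_lit 18]] [Ins.fr [nat_lit 0],Ins.ts (nat_lit 4) [nat_lit 0] [nat_lit 0,nat_lit 0,nat_lit 0],Ins.ts (nat_lit 1) [nat_lit 0] [],Ins.fr [nat_lit 1],Ins.ts (nat_lit 2) [nat_lit 0,nat_lit 2] [],Ins.ts (nat_lit 0) [nat_lit 0,nat_lit 0] [],Ins.ts (nat_lit 1) [nat_lit 0] [],Ins.ts (nat_lit 3) [nat_lit 0] [],Ins.ts (nat_lit 1) [nat_lit 0,nat_lit 1] [],Ins.fr [nat_lit 2],Ins.ts (nat_lit 3) [nat_lit 0] [],Ins.ts (nat_lit 0) [nat_lit 0,nat_lit 0] [],Ins.ts (nat_lit 3) [nat_lit 0,nat_lit 3] [],Ins.ts (nat_lit 0) [nat_lit 1,nat_lit 0] [nat_lit 0,nat_lit 1],Ins.fr [nat_lit 1,nat_lit 3],Ins.ts (nat_lit 0)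 [nat_lit 0,nat_lit 0] [],Ins.ts (nat_lit 2) [nat_lit 0] [],Ins.ts (nat_lit 0) [nat_lit 1,nat_lit 2,nat_lit 0] [nat_lit 0,nat_lit 1],Ins.fr [nat_lit 0],Ins.ts (nat_lit 0) [nat_lit 0,nat_lit 0] []] [] (Cert.rep (nat_lit 8) [] [nat_lit 16,nat_lit 8,nat_lit 4,nat_lit 2,nat_lit 1] [nat_lit 256,nat_lit 128,nat_lit 64,nat_lit 32] (Cert.rep (nat_lit 1) [nat_lit 2,nat_lit 16] [] [] (Cert.rep (nat_lit 2) [] [] [] (Cert.rep (nat_lit 4) [nat_lit 4] [] [] (Cert.rep (nat_lit 64) [] [] [] Cert.nil (Cert.rep (nat_lit 65) [] [] [] Cert.nil Cert.nil)) (Cert.rep (nat_lit 5) [nat_lit 4] [] [] (Cert.rep (nat_lit 64) [] [] [] Cert.nil (Cert.rep (nat_lit 65) [] [] [] Cert.nil Cert.nil)) (Cert.rep (nat_lit 6) [nat_lit 4] [] [] (Cert.rep (nat_lit 64) [] [] [] Cert.nil (Cert.rep (nat_lit 65) [] [] [] Cert.nil Cert.nil)) (Cert.rep (nat_lit 7) [nat_lit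 4] [] [] (Cert.rep (nat_lit 64) [] [] [] Cert.nil (Cert.rep (nat_lit 65) [] [] [] Cert.nil Cert.nil)) (Cert.rep (nat_lit 12) [] [] [] Cert.nil (Cert.rep (nat_lit 13) [] [] [] Cert.nil (Cert.rep (nat_lit 14) [] [] [] Cert.nil (Cert.rep (nat_lit 15) [] [] [] Cert.nil Cert.nil)))))))) (Cert.rep (nat_lit 18) [] [] [] (Cert.rep (nat_lit 4) [] [] [] Cert.nil (Cert.rep (nat_lit 5) [] [] [] Cert.nil (Cert.rep (nat_lit 12) [] [] [] Cert.nil (Cert.rep (nat_lit 13) [] [] [] Cert.nil (Cert.rep (nat_lit 22) [] [] [] Cert.nil (Cert.rep (nat_lit 23) [] [] [] Cert.nil (Cert.rep (nat_lit 30) [] [] [] Cert.nil (Cert.rep (nat_lit 31) [] [] [] Cert.nil Cert.nil)))))))) Cert.nil)) Cert.nil) (Cert.rep (nat_lit 26) [] [nat_lit 192,nat_lit 34,nat_lit 18,nat_lit 8,nat_lit 4,nat_lit 1] [nat_lit 256,nat_lit 64,nat_lit 2] (Cert.rep (nat_lit 1) [nat_lit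 4,nat_lit 34,nat_lit 192] [] [] (Cert.rep (nat_lit 18) [] [] [] (Cert.rep (nat_lit 4) [] [] [] Cert.nil (Cert.rep (nat_lit 5) [] [] [] Cert.nil (Cert.rep (nat_lit 12) [] [] [] Cert.nil (Cert.rep (nat_lit 13) [] [] [] Cert.nil (Cert.rep (nat_lit 22) [] [] [] Cert.nil (Cert.rep (nat_lit 23) [] [] [] Cert.nil (Cert.rep (nat_lit 30) [] [] [] Cert.nil (Cert.rep (nat_lit 31) [] [] [] Cert.nil Cert.nil)))))))) Cert.nil) Cert.nil) Cert.nil)))) (Cert.root (nat_lit 32) [] [nat_lit 8,nat_lit 4] [nat_lit 0,nat_lit 1,nat_lit 2,nat_lit 3,nat_lit 4] [Ins.fr [nat_lit 0],Ins.ts (nat_lit 0) [nat_lit 0,nat_lit 0] [],Ins.ts (nat_lit 1) [nat_lit 0] [],Ins.ts (nat_lit 1) [nat_lit 0,nat_lit 1] [],Ins.fr [nat_lit 1],Ins.ts (nat_lit 1) [nat_lit 0,nat_lit 0] [],Ins.ts (nat_lit 1) [nat_lit 0,nat_lit 0,nat_lit 0,nat_lit 0] [],Ins.ts (nat_lit 0) [nat_lit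 1,nat_lit 0,nat_lit 1] [nat_lit 0,nat_lit 0,nat_lit 0],Ins.df [nat_lit 0,nat_lit 0],Ins.df [nat_lit 0,nat_lit 0]] f75_0)))))))))))))))))))))))
theorem fin75 : finOK DB PT 88 t88 75 t75 (nat_lit 0xc30f000c00300f00c300f00300c000f00000ff00000f00fc33cf00fccccffff) f75 = true := by
  decide +kernel
noncomputable def f86_0 : Cert :=
  Cert.xk (nat_lit 32) (Cert.xn (nat_lit 32) (Cert.lw (nat_lit 0) (nat_lit 1) (nat_lit 1) (Cert.root (nat_lit 32) [] [nat_lit 8,nat_lit 4] [nat_lit 0,nat_lit 1,nat_lit 2,nat_lit 3,nat_lit 4] [Ins.fr [nat_lit 0],Ins.ts (nat_lit 4) [nat_lit 0] [nat_lit 0,nat_lit 0,nat_lit 0],Ins.ts (nat_lit 0) [nat_lit 0,nat_lit 0] [],Ins.ts (nat_lit 1) [nat_lit 0] [],Ins.fr [nat_lit 1],Ins.ts (nat_lit 1) [nat_lit 0,nat_lit 0] [],Ins.ts (nat_lit 4) [nat_lit 0] [nat_lit 0,nat_lit 0,nat_lit 0],Ins.ts (nat_lit 0) [nat_lit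 1,nat_lit 0,nat_lit 1] [nat_lit 0,nat_lit 0,nat_lit 0],Ins.ts (nat_lit 1) [nat_lit 0,nat_lit 0,nat_lit 0,nat_lit 0] [],Ins.df [nat_lit 0,nat_lit 0],Ins.df [nat_lit 0,nat_lit 0]] (Cert.rep (nat_lit 32) [nat_lit 2,nat_lit 4,nat_lit 8,nat_lit 16] [nat_lit 32,nat_lit 16,nat_lit 8,nat_lit 4,nat_lit 2,nat_lit 1] [] (Cert.rep (nat_lit 1) [] [] [] Cert.nil (Cert.rep (nat_lit 8) [nat_lit 8,nat_lit 16] [] [] (Cert.rep (nat_lit 4) [] [] [] (Cert.er (Cert.ro (nat_lit 0) [nat_lit 1,nat_lit 8,nat_lit 16] [nat_lit 8,nat_lit 9,nat_lit 16] [nat_lit 0,nat_lit 1,nat_lit 8,nat_lit 9,nat_lit 32,nat_lit 33,nat_lit 40,nat_lit 41] (Cert.ro (nat_lit 1) [nat_lit 1,nat_lit 2,nat_lit 14,nat_lit 16] [nat_lit 1,nat_lit 14,nat_lit 12,nat_lit 16] [nat_lit 0,nat_lit 1,nat_lit 2,nat_lit 3,nat_lit 14,nat_lit 15,nat_lit 13,nat_lit 12,nat_lit 32,nat_lit 33,nat_lit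 34,nat_lit 35,nat_lit 46,nat_lit 47,nat_lit 45,nat_lit 44] (Cert.th (nat_lit 16) (nat_lit 16) (nat_lit 0) true [nat_lit 0] [nat_lit 2] [] [] [nat_lit 8,nat_lit 4,nat_lit 2,nat_lit 1] [] [Ins.ts (nat_lit 1) [nat_lit 0] [],Ins.fr [nat_lit 0],Ins.ts (nat_lit 1) [nat_lit 0,nat_lit 0] [],Ins.ts (nat_lit 4) [nat_lit 0] [nat_lit 0,nat_lit 0,nat_lit 1],Ins.ts (nat_lit 1) [nat_lit 0,nat_lit 0,nat_lit 1] [],Ins.ts (nat_lit 0) [nat_lit 0,nat_lit 0,nat_lit 0,nat_lit 0] []] [(nat_lit 0,nat_lit 0)] (Cert.rep (nat_lit 1) [] [nat_lit 32,nat_lit 16,nat_lit 8,nat_lit 4,nat_lit 2,nat_lit 1] [] Cert.nil (Cert.rep (nat_lit 8) [] [nat_lit 32,nat_lit 16,nat_lit 8,nat_lit 1] [nat_lit 4,nat_lit 2] Cert.nil Cert.nil)))))) Cert.nil) (Cert.rep (nat_lit 16) [] [] [] Cert.nil (Cert.rep (nat_lit 24) [nat_lit 8,nat_lit 16] [] [] (Cert.rep (nat_lit 20)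 [] [] [] (Cert.er (Cert.ro (nat_lit 0) [nat_lit 1,nat_lit 8,nat_lit 16] [nat_lit 8,nat_lit 9,nat_lit 16] [nat_lit 0,nat_lit 1,nat_lit 24,nat_lit 25,nat_lit 32,nat_lit 33,nat_lit 56,nat_lit 57] (Cert.ro (nat_lit 1) [nat_lit 1,nat_lit 2,nat_lit 14,nat_lit 16] [nat_lit 1,nat_lit 14,nat_lit 12,nat_lit 16] [nat_lit 0,nat_lit 1,nat_lit 3,nat_lit 2,nat_lit 15,nat_lit 14,nat_lit 13,nat_lit 12,nat_lit 32,nat_lit 33,nat_lit 35,nat_lit 34,nat_lit 47,nat_lit 46,nat_lit 45,nat_lit 44] (Cert.lf (Leaf.st (nat_lit 2) (nat_lit 1) (nat_lit 5) (Leaf.cf (nat_lit 56))))))) Cert.nil) (Cert.rep (nat_lit 28) [] [] [] Cert.nil Cert.nil))))) (Cert.rep (nat_lit 33) [nat_lit 2,nat_lit 4,nat_lit 8,nat_lit 16] [nat_lit 32,nat_lit 16,nat_lit 8,nat_lit 4,nat_lit 2,nat_lit 1] [] (Cert.rep (nat_lit 1) [] [] [] Cert.nil (Cert.rep (nat_lit 8) [nat_lit 8,nat_lit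 16] [] [] (Cert.rep (nat_lit 4) [] [] [] (Cert.er (Cert.ro (nat_lit 0) [nat_lit 1,nat_lit 8,nat_lit 16] [nat_lit 8,nat_lit 9,nat_lit 16] [nat_lit 0,nat_lit 1,nat_lit 8,nat_lit 9,nat_lit 33,nat_lit 32,nat_lit 41,nat_lit 40] (Cert.ro (nat_lit 1) [nat_lit 1,nat_lit 2,nat_lit 14,nat_lit 16] [nat_lit 1,nat_lit 14,nat_lit 12,nat_lit 16] [nat_lit 0,nat_lit 1,nat_lit 2,nat_lit 3,nat_lit 14,nat_lit 15,nat_lit 13,nat_lit 12,nat_lit 33,nat_lit 32,nat_lit 35,nat_lit 34,nat_lit 47,nat_lit 46,nat_lit 44,nat_lit 45] (Cert.th (nat_lit 16) (nat_lit 16) (nat_lit 0) true [nat_lit 0] [nat_lit 2] [] [] [nat_lit 8,nat_lit 4,nat_lit 2,nat_lit 1] [] [Ins.ts (nat_lit 1) [nat_lit 0] [],Ins.fr [nat_lit 0],Ins.ts (nat_lit 1) [nat_lit 0,nat_lit 0] [],Ins.ts (nat_lit 4) [nat_lit 0] [nat_lit 0,nat_lit 0,nat_lit 1],Ins.ts (nat_lit 1) [nat_lit 0,nat_lit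 0,nat_lit 1] [],Ins.ts (nat_lit 0) [nat_lit 0,nat_lit 0,nat_lit 0,nat_lit 0] []] [(nat_lit 0,nat_lit 0)] (Cert.rep (nat_lit 1) [] [nat_lit 32,nat_lit 16,nat_lit 8,nat_lit 4,nat_lit 2,nat_lit 1] [] Cert.nil (Cert.rep (nat_lit 8) [] [nat_lit 32,nat_lit 16,nat_lit 8,nat_lit 1] [nat_lit 4,nat_lit 2] Cert.nil Cert.nil)))))) Cert.nil) (Cert.rep (nat_lit 16) [] [] [] Cert.nil (Cert.rep (nat_lit 24) [nat_lit 8,nat_lit 16] [] [] (Cert.rep (nat_lit 20) [] [] [] (Cert.er (Cert.ro (nat_lit 0) [nat_lit 1,nat_lit 8,nat_lit 16] [nat_lit 8,nat_lit 9,nat_lit 16] [nat_lit 0,nat_lit 1,nat_lit 24,nat_lit 25,nat_lit 33,nat_lit 32,nat_lit 57,nat_lit 56] (Cert.ro (nat_lit 1) [nat_lit 1,nat_lit 2,nat_lit 14,nat_lit 16] [nat_lit 1,nat_lit 14,nat_lit 12,nat_lit 16] [nat_lit 0,nat_lit 1,nat_lit 3,nat_lit 2,nat_lit 15,nat_lit 14,nat_lit 13,nat_lit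 12,nat_lit 33,nat_lit 32,nat_lit 34,nat_lit 35,nat_lit 46,nat_lit 47,nat_lit 44,nat_lit 45] (Cert.lf (Leaf.st (nat_lit 2) (nat_lit 1) (nat_lit 5) (Leaf.cf (nat_lit 57))))))) Cert.nil) (Cert.rep (nat_lit 28) [] [] [] Cert.nil Cert.nil))))) (Cert.rep (nat_lit 40) [] [nat_lit 32,nat_lit 16,nat_lit 8,nat_lit 1] [nat_lit 4,nat_lit 2] (Cert.rep (nat_lit 1) [] [] [] Cert.nil (Cert.rep (nat_lit 8) [] [] [] Cert.nil (Cert.rep (nat_lit 9) [] [] [] Cert.nil (Cert.rep (nat_lit 16) [] [] [] Cert.nil (Cert.rep (nat_lit 17) [] [] [] Cert.nil (Cert.rep (nat_lit 24) [] [] [] Cert.nil (Cert.rep (nat_lit 25) [] [] [] Cert.nil Cert.nil))))))) Cert.nil)))))) (Cert.xk (nat_lit 36) (Cert.xn (nat_lit 32) (Cert.kw (nat_lit 0) (nat_lit 0) (nat_lit 2) (nat_lit 2) )) (Cert.xk (nat_lit 48) (Cert.xn (nat_lit 32) (Cert.lw (nat_lit 0) (nat_lit 1) (nat_lit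 1) (Cert.root (nat_lit 32) [] [nat_lit 8,nat_lit 4] [nat_lit 0,nat_lit 1,nat_lit 2,nat_lit 3,nat_lit 4] [Ins.fr [nat_lit 0],Ins.ts (nat_lit 4) [nat_lit 0] [nat_lit 0,nat_lit 0,nat_lit 0],Ins.ts (nat_lit 0) [nat_lit 0,nat_lit 0] [],Ins.ts (nat_lit 1) [nat_lit 0] [],Ins.fr [nat_lit 1],Ins.ts (nat_lit 1) [nat_lit 0,nat_lit 0] [],Ins.ts (nat_lit 4) [nat_lit 0] [nat_lit 0,nat_lit 0,nat_lit 0],Ins.ts (nat_lit 0) [nat_lit 1,nat_lit 0,nat_lit 1] [nat_lit 0,nat_lit 0,nat_lit 0],Ins.ts (nat_lit 1) [nat_lit 0,nat_lit 0,nat_lit 0,nat_lit 0] [],Ins.df [nat_lit 0,nat_lit 0],Ins.df [nat_lit 0,nat_lit 0]] (Cert.rep (nat_lit 32) [nat_lit 2,nat_lit 4,nat_lit 8,nat_lit 16] [nat_lit 32,nat_lit 16,nat_lit 8,nat_lit 4,nat_lit 2,nat_lit 1] [] (Cert.rep (nat_lit 1) [] [] [] Cert.nil (Cert.rep (nat_lit 8) [nat_lit 8,nat_lit 16] [] [] (Cert.rep (nat_lit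 4) [] [] [] (Cert.er (Cert.ro (nat_lit 0) [nat_lit 1,nat_lit 8,nat_lit 16] [nat_lit 8,nat_lit 9,nat_lit 16] [nat_lit 0,nat_lit 1,nat_lit 8,nat_lit 9,nat_lit 32,nat_lit 33,nat_lit 40,nat_lit 41] (Cert.ro (nat_lit 1) [nat_lit 1,nat_lit 2,nat_lit 14,nat_lit 16] [nat_lit 1,nat_lit 14,nat_lit 12,nat_lit 16] [nat_lit 0,nat_lit 1,nat_lit 2,nat_lit 3,nat_lit 14,nat_lit 15,nat_lit 13,nat_lit 12,nat_lit 32,nat_lit 33,nat_lit 34,nat_lit 35,nat_lit 46,nat_lit 47,nat_lit 45,nat_lit 44] (Cert.th (nat_lit 48) (nat_lit 48) (nat_lit 0) true [nat_lit 0] [nat_lit 2] [] [] [nat_lit 8,nat_lit 4,nat_lit 2,nat_lit 1] [] [Ins.ts (nat_lit 1) [nat_lit 0] [],Ins.fr [nat_lit 0],Ins.ts (nat_lit 1) [nat_lit 0,nat_lit 0] [],Ins.ts (nat_lit 4) [nat_lit 0] [nat_lit 0,nat_lit 0,nat_lit 1],Ins.ts (nat_lit 1) [nat_lit 0,nat_lit 0,nat_lit 1] [],Ins.ts (nat_lit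 0) [nat_lit 0,nat_lit 0,nat_lit 0,nat_lit 0] []] [(nat_lit 0,nat_lit 0)] (Cert.rep (nat_lit 1) [] [nat_lit 32,nat_lit 16,nat_lit 8,nat_lit 4,nat_lit 2,nat_lit 1] [] Cert.nil (Cert.rep (nat_lit 8) [] [nat_lit 32,nat_lit 16,nat_lit 8,nat_lit 1] [nat_lit 4,nat_lit 2] Cert.nil Cert.nil)))))) Cert.nil) (Cert.rep (nat_lit 48) [] [] [] Cert.nil (Cert.rep (nat_lit 56) [nat_lit 8,nat_lit 16] [] [] (Cert.rep (nat_lit 52) [] [] [] (Cert.er (Cert.ro (nat_lit 0) [nat_lit 1,nat_lit 8,nat_lit 16] [nat_lit 8,nat_lit 9,nat_lit 16] [nat_lit 0,nat_lit 1,nat_lit 56,nat_lit 57,nat_lit 32,nat_lit 33,nat_lit 24,nat_lit 25] (Cert.ro (nat_lit 1) [nat_lit 1,nat_lit 2,nat_lit 14,nat_lit 16] [nat_lit 1,nat_lit 14,nat_lit 12,nat_lit 16] [nat_lit 0,nat_lit 1,nat_lit 3,nat_lit 2,nat_lit 15,nat_lit 14,nat_lit 13,nat_lit 12,nat_lit 32,nat_lit 33,nat_lit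 35,nat_lit 34,nat_lit 47,nat_lit 46,nat_lit 45,nat_lit 44] (Cert.lf (Leaf.st (nat_lit 2) (nat_lit 1) (nat_lit 5) (Leaf.cf (nat_lit 24))))))) Cert.nil) (Cert.rep (nat_lit 60) [] [] [] Cert.nil Cert.nil))))) (Cert.rep (nat_lit 33) [nat_lit 2,nat_lit 4,nat_lit 8,nat_lit 16] [nat_lit 32,nat_lit 16,nat_lit 8,nat_lit 4,nat_lit 2,nat_lit 1] [] (Cert.rep (nat_lit 1) [] [] [] Cert.nil (Cert.rep (nat_lit 8) [nat_lit 8,nat_lit 16] [] [] (Cert.rep (nat_lit 4) [] [] [] (Cert.er (Cert.ro (nat_lit 0) [nat_lit 1,nat_lit 8,nat_lit 16] [nat_lit 8,nat_lit 9,nat_lit 16] [nat_lit 0,nat_lit 1,nat_lit 8,nat_lit 9,nat_lit 33,nat_lit 32,nat_lit 41,nat_lit 40] (Cert.ro (nat_lit 1) [nat_lit 1,nat_lit 2,nat_lit 14,nat_lit 16] [nat_lit 1,nat_lit 14,nat_lit 12,nat_lit 16] [nat_lit 0,nat_lit 1,nat_lit 2,nat_lit 3,nat_lit 14,nat_lit 15,nat_lit 13,nat_lit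 12,nat_lit 33,nat_lit 32,nat_lit 35,nat_lit 34,nat_lit 47,nat_lit 46,nat_lit 44,nat_lit 45] (Cert.th (nat_lit 48) (nat_lit 48) (nat_lit 0) true [nat_lit 0] [nat_lit 2] [] [] [nat_lit 8,nat_lit 4,nat_lit 2,nat_lit 1] [] [Ins.ts (nat_lit 1) [nat_lit 0] [],Ins.fr [nat_lit 0],Ins.ts (nat_lit 1) [nat_lit 0,nat_lit 0] [],Ins.ts (nat_lit 4) [nat_lit 0] [nat_lit 0,nat_lit 0,nat_lit 1],Ins.ts (nat_lit 1) [nat_lit 0,nat_lit 0,nat_lit 1] [],Ins.ts (nat_lit 0) [nat_lit 0,nat_lit 0,nat_lit 0,nat_lit 0] []] [(nat_lit 0,nat_lit 0)] (Cert.rep (nat_lit 1) [] [nat_lit 32,nat_lit 16,nat_lit 8,nat_lit 4,nat_lit 2,nat_lit 1] [] Cert.nil (Cert.rep (nat_lit 8) [] [nat_lit 32,nat_lit 16,nat_lit 8,nat_lit 1] [nat_lit 4,nat_lit 2] Cert.nil Cert.nil)))))) Cert.nil) (Cert.rep (nat_lit 48) [] [] [] Cert.nil (Cert.rep (nat_lit 56) [nat_lit 8,nat_lit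 16] [] [] (Cert.rep (nat_lit 52) [] [] [] (Cert.er (Cert.ro (nat_lit 0) [nat_lit 1,nat_lit 8,nat_lit 16] [nat_lit 8,nat_lit 9,nat_lit 16] [nat_lit 0,nat_lit 1,nat_lit 56,nat_lit 57,nat_lit 33,nat_lit 32,nat_lit 25,nat_lit 24] (Cert.ro (nat_lit 1) [nat_lit 1,nat_lit 2,nat_lit 14,nat_lit 16] [nat_lit 1,nat_lit 14,nat_lit 12,nat_lit 16] [nat_lit 0,nat_lit 1,nat_lit 3,nat_lit 2,nat_lit 15,nat_lit 14,nat_lit 13,nat_lit 12,nat_lit 33,nat_lit 32,nat_lit 34,nat_lit 35,nat_lit 46,nat_lit 47,nat_lit 44,nat_lit 45] (Cert.lf (Leaf.st (nat_lit 2) (nat_lit 1) (nat_lit 5) (Leaf.cf (nat_lit 25))))))) Cert.nil) (Cert.rep (nat_lit 60) [] [] [] Cert.nil Cert.nil))))) (Cert.rep (nat_lit 40) [] [nat_lit 32,nat_lit 16,nat_lit 8,nat_lit 1] [nat_lit 4,nat_lit 2] (Cert.rep (nat_lit 1) [] [] [] Cert.nil (Cert.rep (nat_lit 8) [] [] [] Cert.nil (Cert.rep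 (nat_lit 9) [] [] [] Cert.nil (Cert.rep (nat_lit 48) [] [] [] Cert.nil (Cert.rep (nat_lit 49) [] [] [] Cert.nil (Cert.rep (nat_lit 56) [] [] [] Cert.nil (Cert.rep (nat_lit 57) [] [] [] Cert.nil Cert.nil))))))) Cert.nil)))))) (Cert.xk (nat_lit 52) (Cert.xn (nat_lit 32) (Cert.kw (nat_lit 0) (nat_lit 0) (nat_lit 2) (nat_lit 2) )) (Cert.xe (nat_lit 32) [nat_lit 40] [(nat_lit 0,nat_lit 2),(nat_lit 0,nat_lit 4)]))))
noncomputable def f86 : Cert :=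
  (Cert.st (nat_lit 0) (nat_lit 16) (nat_lit 0) (Cert.st (nat_lit 0) (nat_lit 48) (nat_lit 0) (Cert.st (nat_lit 2) (nat_lit 0) (nat_lit 1) (Cert.st (nat_lit 0) (nat_lit 8) (nat_lit 0) (Cert.st (nat_lit 2) (nat_lit 0) (nat_lit 5) (Cert.st (nat_lit 0) (nat_lit 24) (nat_lit 0) (Cert.st (nat_lit 2) (nat_lit 0) (nat_lit 9) (Cert.st (nat_lit 0) (nat_lit 40) (nat_lit 0) (Cert.st (nat_lit 2) (nat_lit 0) (nat_lit 13) (Cert.st (nat_lit 0) (nat_lit 56) (nat_lit 0) (Cert.st (nat_lit 2) (nat_lit 1) (nat_lit 10) (Cert.st (nat_lit 0) (nat_lit 28) (nat_lit 0) (Cert.st (nat_lit 2) (nat_lit 1) (nat_lit 26) (Cert.st (nat_lit 0) (nat_lit 60) (nat_lit 0) (Cert.nl (nat_lit 1) (Cert.sy (nat_lit 0) (Cert.xk (nat_lit 0) (Cert.th (nat_lit 32) (nat_lit 32) (nat_lit 0) true [nat_lit 0] [] [] [] [nat_lit 16,nat_lit 8,nat_lit 4,nat_lit 2,nat_lit 1] []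 [] [] Cert.nil) f86_0)))))))))))))))))
theorem fin86 : finOK DB PT 88 t88 86 t86 (nat_lit 0xff030f03ff030f03) f86 = true := by
  decide +kernel
noncomputable def f94_0 : Cert :=
  Cert.s2 (nat_lit 0) (nat_lit 92) (Cert.o1 (nat_lit 0) (nat_lit 92) (Cert.fu (nat_lit 10) (nat_lit 1) (nat_lit 0) (nat_lit 0) [] [nat_lit 92,nat_lit 1,nat_lit 16,nat_lit 32] [] [] [] [nat_lit 1] [[nat_lit 1]] [[nat_lit 92]] [Ins.fr [nat_lit 0],Ins.ts (nat_lit 3) [nat_lit 0] [],Ins.ts (nat_lit 4) [nat_lit 0] [nat_lit 0,nat_lit 0,nat_lit 0],Ins.ts (nat_lit 1) [nat_lit 0] [],Ins.fr [nat_lit 1],Ins.ts (nat_lit 3) [nat_lit 0] [],Ins.ts (nat_lit 0) [nat_lit 0,nat_lit 0] [],Ins.ts (nat_lit 1) [nat_lit 0] [],Ins.ts (nat_lit 4) [nat_lit 0] [nat_lit 0,nat_lit 0,nat_lit 1],Ins.ts (nat_lit 1) [nat_lit 0,nat_lit 1] [],Ins.fr [nat_lit 2],Ins.ts (nat_lit 2) [nat_lit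 0] [],Ins.ts (nat_lit 0) [nat_lit 0,nat_lit 0] [],Ins.ts (nat_lit 0) [nat_lit 1,nat_lit 0] [nat_lit 0,nat_lit 1],Ins.ts (nat_lit 1) [nat_lit 0] [],Ins.ts (nat_lit 4) [nat_lit 0,nat_lit 2,nat_lit 3] [nat_lit 0,nat_lit 0,nat_lit 2],Ins.ts (nat_lit 4) [nat_lit 0,nat_lit 1,nat_lit 2,nat_lit 3] [nat_lit 0,nat_lit 0,nat_lit 2],Ins.ts (nat_lit 1) [nat_lit 0,nat_lit 2,nat_lit 3] [],Ins.ts (nat_lit 1) [nat_lit 0,nat_lit 1,nat_lit 2,nat_lit 3] [],Ins.fr [nat_lit 1,nat_lit 3],Ins.ts (nat_lit 0) [nat_lit 0,nat_lit 0] [],Ins.ts (nat_lit 0) [nat_lit 1,nat_lit 2,nat_lit 0] [nat_lit 0,nat_lit 1]] [(nat_lit 2,nat_lit 0),(nat_lit 3,nat_lit 0)] (Cert.rep (nat_lit 10) [] [nat_lit 68,nat_lit 36,nat_lit 16,nat_lit 8,nat_lit 2,nat_lit 1] [nat_lit 1024,nat_lit 512,nat_lit 256,nat_lit 128,nat_lit 4] (Cert.rep (nat_lit 1) [nat_lit 2,nat_lit 16,nat_lit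 36,nat_lit 68] [] [] (Cert.rep (nat_lit 26) [] [] [] Cert.nil (Cert.rep (nat_lit 60) [] [] [] Cert.nil (Cert.rep (nat_lit 92) [] [] [] (Cert.rep (nat_lit 16) [] [] [] Cert.nil (Cert.rep (nat_lit 17) [] [] [] Cert.nil (Cert.rep (nat_lit 76) [] [] [] Cert.nil (Cert.rep (nat_lit 77) [] [] [] Cert.nil Cert.nil)))) Cert.nil))) Cert.nil) Cert.nil))) (Cert.root (nat_lit 32) [] [nat_lit 8,nat_lit 4] [nat_lit 0,nat_lit 1,nat_lit 2,nat_lit 3,nat_lit 4] [Ins.fr [nat_lit 0],Ins.ts (nat_lit 0) [nat_lit 0,nat_lit 0] [],Ins.ts (nat_lit 1) [nat_lit 0] [],Ins.ts (nat_lit 1) [nat_lit 0,nat_lit 1] [],Ins.fr [nat_lit 1],Ins.ts (nat_lit 1) [nat_lit 0,nat_lit 0] [],Ins.ts (nat_lit 0) [nat_lit 1,nat_lit 0,nat_lit 1] [nat_lit 0,nat_lit 0,nat_lit 0],Ins.ts (nat_lit 1) [nat_lit 0,nat_lit 0,nat_lit 0,nat_lit 0] [],Ins.df [nat_lit 0,nat_lit 0],Ins.df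 [nat_lit 0,nat_lit 0]] (Cert.rep (nat_lit 10) [nat_lit 2,nat_lit 16,nat_lit 36,nat_lit 68] [nat_lit 68,nat_lit 36,nat_lit 16,nat_lit 8,nat_lit 2,nat_lit 1] [nat_lit 1024,nat_lit 512,nat_lit 256,nat_lit 128,nat_lit 4] (Cert.rep (nat_lit 1) [] [] [] Cert.nil (Cert.rep (nat_lit 11) [] [] [] Cert.nil (Cert.rep (nat_lit 16) [] [] [] Cert.nil (Cert.rep (nat_lit 26) [] [] [] Cert.nil (Cert.rep (nat_lit 52) [] [] [] Cert.nil (Cert.rep (nat_lit 60) [] [] [] Cert.nil (Cert.rep (nat_lit 68) [nat_lit 16,nat_lit 68] [] [] (Cert.rep (nat_lit 96) [] [] [] (Cert.er (Cert.ro (nat_lit 0) [nat_lit 1,nat_lit 8,nat_lit 16] [nat_lit 8,nat_lit 9,nat_lit 16] [nat_lit 0,nat_lit 1,nat_lit 68,nat_lit 69,nat_lit 10,nat_lit 11,nat_lit 78,nat_lit 79] (Cert.ro (nat_lit 1) [nat_lit 1,nat_lit 2,nat_lit 14,nat_lit 16] [nat_lit 1,nat_lit 14,nat_lit 12,nat_lit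 16] [nat_lit 0,nat_lit 1,nat_lit 2,nat_lit 3,nat_lit 39,nat_lit 38,nat_lit 36,nat_lit 37,nat_lit 10,nat_lit 11,nat_lit 9,nat_lit 8,nat_lit 44,nat_lit 45,nat_lit 46,nat_lit 47] (Cert.kw (nat_lit 2) (nat_lit 0) (nat_lit 2) (nat_lit 1) )))) (Cert.rep (nat_lit 104) [] [] [] (Cert.er (Cert.ro (nat_lit 0) [nat_lit 1,nat_lit 8,nat_lit 16] [nat_lit 8,nat_lit 9,nat_lit 16] [nat_lit 0,nat_lit 1,nat_lit 68,nat_lit 69,nat_lit 10,nat_lit 11,nat_lit 78,nat_lit 79] (Cert.ro (nat_lit 1) [nat_lit 1,nat_lit 2,nat_lit 14,nat_lit 16] [nat_lit 1,nat_lit 14,nat_lit 12,nat_lit 16] [nat_lit 0,nat_lit 1,nat_lit 3,nat_lit 2,nat_lit 46,nat_lit 47,nat_lit 44,nat_lit 45,nat_lit 10,nat_lit 11,nat_lit 8,nat_lit 9,nat_lit 36,nat_lit 37,nat_lit 39,nat_lit 38] (Cert.kw (nat_lit 2) (nat_lit 0) (nat_lit 2) (nat_lit 1) )))) Cert.nil)) (Cert.rep (nat_lit 76)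 [nat_lit 16,nat_lit 70] [] [] (Cert.rep (nat_lit 96) [] [] [] (Cert.er (Cert.ro (nat_lit 0) [nat_lit 1,nat_lit 8,nat_lit 16] [nat_lit 8,nat_lit 9,nat_lit 16] [nat_lit 0,nat_lit 1,nat_lit 76,nat_lit 77,nat_lit 10,nat_lit 11,nat_lit 71,nat_lit 70] (Cert.ro (nat_lit 1) [nat_lit 1,nat_lit 2,nat_lit 14,nat_lit 16] [nat_lit 1,nat_lit 14,nat_lit 12,nat_lit 16] [nat_lit 0,nat_lit 1,nat_lit 2,nat_lit 3,nat_lit 47,nat_lit 46,nat_lit 44,nat_lit 45,nat_lit 10,nat_lit 11,nat_lit 9,nat_lit 8,nat_lit 37,nat_lit 36,nat_lit 39,nat_lit 38] (Cert.lf (Leaf.st (nat_lit 2) (nat_lit 1) (nat_lit 1) (Leaf.cf (nat_lit 1))))))) (Cert.rep (nat_lit 104) [] [] [] (Cert.er (Cert.ro (nat_lit 0) [nat_lit 1,nat_lit 8,nat_lit 16] [nat_lit 8,nat_lit 9,nat_lit 16] [nat_lit 0,nat_lit 1,nat_lit 76,nat_lit 77,nat_lit 10,nat_lit 11,nat_lit 71,nat_lit 70] (Cert.ro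 (nat_lit 1) [nat_lit 1,nat_lit 2,nat_lit 14,nat_lit 16] [nat_lit 1,nat_lit 14,nat_lit 12,nat_lit 16] [nat_lit 0,nat_lit 1,nat_lit 3,nat_lit 2,nat_lit 39,nat_lit 38,nat_lit 37,nat_lit 36,nat_lit 10,nat_lit 11,nat_lit 8,nat_lit 9,nat_lit 44,nat_lit 45,nat_lit 47,nat_lit 46] (Cert.lf (Leaf.st (nat_lit 2) (nat_lit 1) (nat_lit 1) (Leaf.cf (nat_lit 1))))))) Cert.nil)) (Cert.rep (nat_lit 84) [nat_lit 16,nat_lit 68] [] [] (Cert.rep (nat_lit 112) [] [] [] (Cert.er (Cert.ro (nat_lit 0) [nat_lit 1,nat_lit 8,nat_lit 16] [nat_lit 8,nat_lit 9,nat_lit 16] [nat_lit 0,nat_lit 1,nat_lit 84,nat_lit 85,nat_lit 10,nat_lit 11,nat_lit 94,nat_lit 95] (Cert.ro (nat_lit 1) [nat_lit 1,nat_lit 2,nat_lit 14,nat_lit 16] [nat_lit 1,nat_lit 14,nat_lit 12,nat_lit 16] [nat_lit 0,nat_lit 1,nat_lit 3,nat_lit 2,nat_lit 39,nat_lit 38,nat_lit 37,nat_lit 36,nat_lit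 10,nat_lit 11,nat_lit 8,nat_lit 9,nat_lit 44,nat_lit 45,nat_lit 47,nat_lit 46] (Cert.lf (Leaf.st (nat_lit 2) (nat_lit 1) (nat_lit 1) (Leaf.cf (nat_lit 1))))))) (Cert.rep (nat_lit 120) [] [] [] (Cert.er (Cert.ro (nat_lit 0) [nat_lit 1,nat_lit 8,nat_lit 16] [nat_lit 8,nat_lit 9,nat_lit 16] [nat_lit 0,nat_lit 1,nat_lit 84,nat_lit 85,nat_lit 10,nat_lit 11,nat_lit 94,nat_lit 95] (Cert.ro (nat_lit 1) [nat_lit 1,nat_lit 2,nat_lit 14,nat_lit 16] [nat_lit 1,nat_lit 14,nat_lit 12,nat_lit 16] [nat_lit 0,nat_lit 1,nat_lit 2,nat_lit 3,nat_lit 46,nat_lit 47,nat_lit 45,nat_lit 44,nat_lit 10,nat_lit 11,nat_lit 9,nat_lit 8,nat_lit 36,nat_lit 37,nat_lit 38,nat_lit 39] (Cert.lf (Leaf.st (nat_lit 2) (nat_lit 1) (nat_lit 1) (Leaf.cf (nat_lit 1))))))) Cert.nil)) (Cert.rep (nat_lit 92) [nat_lit 16,nat_lit 70] [] [] (Cert.rep (nat_lit 112) [] []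 [] (Cert.er (Cert.ro (nat_lit 0) [nat_lit 1,nat_lit 8,nat_lit 16] [nat_lit 8,nat_lit 9,nat_lit 16] [nat_lit 0,nat_lit 1,nat_lit 92,nat_lit 93,nat_lit 10,nat_lit 11,nat_lit 87,nat_lit 86] (Cert.ro (nat_lit 1) [nat_lit 1,nat_lit 2,nat_lit 14,nat_lit 16] [nat_lit 1,nat_lit 14,nat_lit 12,nat_lit 16] [nat_lit 0,nat_lit 1,nat_lit 3,nat_lit 2,nat_lit 47,nat_lit 46,nat_lit 45,nat_lit 44,nat_lit 10,nat_lit 11,nat_lit 8,nat_lit 9,nat_lit 37,nat_lit 36,nat_lit 38,nat_lit 39] (Cert.kw (nat_lit 2) (nat_lit 0) (nat_lit 2) (nat_lit 1) )))) (Cert.rep (nat_lit 120) [] [] [] (Cert.er (Cert.ro (nat_lit 0) [nat_lit 1,nat_lit 8,nat_lit 16] [nat_lit 8,nat_lit 9,nat_lit 16] [nat_lit 0,nat_lit 1,nat_lit 92,nat_lit 93,nat_lit 10,nat_lit 11,nat_lit 87,nat_lit 86] (Cert.ro (nat_lit 1) [nat_lit 1,nat_lit 2,nat_lit 14,nat_lit 16] [nat_lit 1,nat_lit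 14,nat_lit 12,nat_lit 16] [nat_lit 0,nat_lit 1,nat_lit 2,nat_lit 3,nat_lit 39,nat_lit 38,nat_lit 36,nat_lit 37,nat_lit 10,nat_lit 11,nat_lit 9,nat_lit 8,nat_lit 44,nat_lit 45,nat_lit 46,nat_lit 47] (Cert.kw (nat_lit 2) (nat_lit 0) (nat_lit 2) (nat_lit 1) )))) Cert.nil)) Cert.nil)))))))))) Cert.nil))
noncomputable def f94 : Cert :=
  (Cert.st (nat_lit 0) (nat_lit 10) (nat_lit 0) (Cert.sp (nat_lit 1) (Cert.lf (Leaf.pt (nat_lit 9) (nat_lit 1) [nat_lit 10])) (Cert.sp (nat_lit 26) (Cert.lf (Leaf.pt (nat_lit 9) (nat_lit 26) [nat_lit 10])) (Cert.st (nat_lit 0) (nat_lit 26) (nat_lit 0) (Cert.sp (nat_lit 28) (Cert.lf (Leaf.pt (nat_lit 9) (nat_lit 28) [nat_lit 12])) (Cert.st (nat_lit 0) (nat_lit 28) (nat_lit 0) (Cert.sp (nat_lit 32) (Cert.lf (Leaf.pt (nat_lit 12) (nat_lit 32) [nat_lit 26,nat_lit 196])) (Cert.st (nat_lit 0) (nat_lit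 32) (nat_lit 0) (Cert.sp (nat_lit 68) (Cert.lf (Leaf.pt (nat_lit 9) (nat_lit 68) [nat_lit 10])) (Cert.st (nat_lit 0) (nat_lit 68) (nat_lit 0) (Cert.sp (nat_lit 92) (Cert.lf (Leaf.pt (nat_lit 9) (nat_lit 92) [nat_lit 10])) (Cert.st (nat_lit 0) (nat_lit 92) (nat_lit 0) (Cert.sp (nat_lit 132) (Cert.lf (Leaf.pt (nat_lit 12) (nat_lit 132) [nat_lit 26,nat_lit 1290])) (Cert.st (nat_lit 0) (nat_lit 132) (nat_lit 0) (Cert.sp (nat_lit 256) (Cert.lf (Leaf.pt (nat_lit 13) (nat_lit 256) [nat_lit 68])) (Cert.st (nat_lit 0) (nat_lit 256) (nat_lit 0) (Cert.sp (nat_lit 257) (Cert.lf (Leaf.pt (nat_lit 13) (nat_lit 257) [nat_lit 1])) (Cert.st (nat_lit 0) (nat_lit 257) (nat_lit 0) (Cert.sp (nat_lit 584) (Cert.lf (Leaf.pt (nat_lit 19) (nat_lit 584) [nat_lit 24,nat_lit 192])) (Cert.st (nat_lit 0) (nat_lit 584) (nat_lit 0) (Cert.sp (nat_lit 648)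 (Cert.lf (Leaf.pt (nat_lit 12) (nat_lit 648) [nat_lit 28,nat_lit 258])) (Cert.st (nat_lit 0) (nat_lit 648) (nat_lit 0) (Cert.sp (nat_lit 649) (Cert.lf (Leaf.pt (nat_lit 12) (nat_lit 649) [nat_lit 28,nat_lit 258])) (Cert.st (nat_lit 0) (nat_lit 649) (nat_lit 0) (Cert.sp (nat_lit 1034) (Cert.lf (Leaf.pt (nat_lit 12) (nat_lit 1034) [nat_lit 660,nat_lit 258])) (Cert.st (nat_lit 0) (nat_lit 1034) (nat_lit 0) (Cert.sp (nat_lit 1174) (Cert.lf (Leaf.pt (nat_lit 12) (nat_lit 1174) [nat_lit 648,nat_lit 280])) (Cert.st (nat_lit 0) (nat_lit 1174) (nat_lit 0) (Cert.sp (nat_lit 1560) (Cert.lf (Leaf.pt (nat_lit 12) (nat_lit 1560) [nat_lit 256,nat_lit 586])) (Cert.st (nat_lit 0) (nat_lit 1560) (nat_lit 0) (Cert.sp (nat_lit 1664) (Cert.lf (Leaf.pt (nat_lit 12) (nat_lit 1664) [nat_lit 282,nat_lit 652])) (Cert.st (nat_lit 0) (nat_lit 1664)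 (nat_lit 0) (Cert.nl (nat_lit 1) (Cert.sy (nat_lit 0) (Cert.s2 (nat_lit 0) (nat_lit 68) (Cert.o1 (nat_lit 0) (nat_lit 68) (Cert.fu (nat_lit 10) (nat_lit 1) (nat_lit 0) (nat_lit 0) [] [nat_lit 68,nat_lit 1,nat_lit 16,nat_lit 32,nat_lit 256] [] [] [] [nat_lit 1] [[nat_lit 1]] [[nat_lit 68]] [Ins.fr [nat_lit 0],Ins.ts (nat_lit 3) [nat_lit 0] [],Ins.ts (nat_lit 4) [nat_lit 0] [nat_lit 0,nat_lit 0,nat_lit 0],Ins.ts (nat_lit 1) [nat_lit 0] [],Ins.fr [nat_lit 1],Ins.ts (nat_lit 3) [nat_lit 0] [],Ins.ts (nat_lit 0) [nat_lit 0,nat_lit 0] [],Ins.ts (nat_lit 1) [nat_lit 0] [],Ins.ts (nat_lit 1) [nat_lit 0,nat_lit 1] [],Ins.fr [nat_lit 2],Ins.ts (nat_lit 2) [nat_lit 0] [],Ins.ts (nat_lit 0) [nat_lit 0,nat_lit 0] [],Ins.ts (nat_lit 0) [nat_lit 1,nat_lit 0] [nat_lit 0,nat_lit 1],Ins.ts (nat_lit 1) [nat_lit 0] [],Ins.ts (nat_lit 1) [nat_lit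 0,nat_lit 3] [],Ins.ts (nat_lit 1) [nat_lit 0,nat_lit 2,nat_lit 3] [],Ins.ts (nat_lit 1) [nat_lit 0,nat_lit 1,nat_lit 3] [],Ins.ts (nat_lit 1) [nat_lit 0,nat_lit 1,nat_lit 2,nat_lit 3] [],Ins.fr [nat_lit 1,nat_lit 3],Ins.ts (nat_lit 0) [nat_lit 0,nat_lit 0] [],Ins.ts (nat_lit 0) [nat_lit 1,nat_lit 2,nat_lit 0] [nat_lit 0,nat_lit 1],Ins.fr [nat_lit 1],Ins.ts (nat_lit 0) [nat_lit 0,nat_lit 0] [],Ins.ts (nat_lit 0) [nat_lit 3,nat_lit 0] [nat_lit 0,nat_lit 3]] [] (Cert.rep (nat_lit 10) [] [nat_lit 68,nat_lit 36,nat_lit 16,nat_lit 8,nat_lit 2,nat_lit 1] [nat_lit 1024,nat_lit 512,nat_lit 256,nat_lit 128,nat_lit 4] (Cert.rep (nat_lit 1) [nat_lit 2,nat_lit 16,nat_lit 36,nat_lit 68] [] [] (Cert.rep (nat_lit 26) [nat_lit 2,nat_lit 68] [] [] (Cert.rep (nat_lit 76) [nat_lit 10] [] [] (Cert.rep (nat_lit 256) [] [] [] Cert.nil (Cert.rep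 (nat_lit 257) [] [] [] Cert.nil (Cert.rep (nat_lit 326) [] [] [] Cert.nil (Cert.rep (nat_lit 327) [] [] [] Cert.nil Cert.nil)))) (Cert.rep (nat_lit 78) [nat_lit 10] [] [] (Cert.rep (nat_lit 256) [] [] [] Cert.nil (Cert.rep (nat_lit 257) [] [] [] Cert.nil (Cert.rep (nat_lit 324) [] [] [] Cert.nil (Cert.rep (nat_lit 325) [] [] [] Cert.nil Cert.nil)))) (Cert.rep (nat_lit 84) [nat_lit 10] [] [] (Cert.rep (nat_lit 256) [] [] [] Cert.nil (Cert.rep (nat_lit 257) [] [] [] Cert.nil (Cert.rep (nat_lit 324) [] [] [] Cert.nil (Cert.rep (nat_lit 325) [] [] [] Cert.nil Cert.nil)))) (Cert.rep (nat_lit 86) [nat_lit 10] [] [] (Cert.rep (nat_lit 256) [] [] [] Cert.nil (Cert.rep (nat_lit 257) [] [] [] Cert.nil (Cert.rep (nat_lit 326) [] [] [] Cert.nil (Cert.rep (nat_lit 327) [] [] [] Cert.nil Cert.nil)))) Cert.nil)))) (Cert.rep (nat_lit 60)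 [] [] [] Cert.nil (Cert.rep (nat_lit 68) [] [] [] (Cert.rep (nat_lit 16) [] [] [] Cert.nil (Cert.rep (nat_lit 17) [] [] [] Cert.nil (Cert.rep (nat_lit 84) [] [] [] Cert.nil (Cert.rep (nat_lit 85) [] [] [] Cert.nil Cert.nil)))) (Cert.rep (nat_lit 92) [] [] [] (Cert.rep (nat_lit 16) [] [] [] Cert.nil (Cert.rep (nat_lit 17) [] [] [] Cert.nil (Cert.rep (nat_lit 76) [] [] [] Cert.nil (Cert.rep (nat_lit 77) [] [] [] Cert.nil Cert.nil)))) Cert.nil)))) Cert.nil) Cert.nil))) f94_0)))))))))))))))))))))))))))))))))))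
theorem fin94 : finOK DB PT 88 t88 94 t94 (nat_lit 0xf0000000f0000000f0000000f0000000000000f0000000f0f0000000f0000000f0000000f0000000000000f0000000f0f0000000f0000000f0000000f00000000000300000003000000c0000000c0000030000000300000000003000000030000000c0000000c0000c0000000c00000000030000000300000000c0000000c0000000000000000000000c3000000c30000c0030000c0030000000000000000000000000000000000003003000030030000003300000033000000000000000000f0000000f0000000f00c0cf0f00303f0f00000f0f00000f00c0000030c0000030000000000000000f00000f0f00000f0f00000f0f0f0f0f0fcfc0303fc03fc03) f94 = true := by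
  decide +kernel
noncomputable def f96_0 : Cert :=
  Cert.s2 (nat_lit 0) (nat_lit 92) (Cert.o1 (nat_lit 0) (nat_lit 92) (Cert.fu (nat_lit 10) (nat_lit 1) (nat_lit 0) (nat_lit 0) [] [nat_lit 92,nat_lit 1,nat_lit 16,nat_lit 32] [] [] [] [nat_lit 1] [[nat_lit 1]] [[nat_lit 92]] [Ins.fr [nat_lit 0],Ins.ts (nat_lit 3) [nat_lit 0] [],Ins.ts (nat_lit 4) [nat_lit 0] [nat_lit 0,nat_lit 0,nat_lit 0],Ins.ts (nat_lit 1) [nat_lit 0] [],Ins.fr [nat_lit 1],Ins.ts (nat_lit 3) [nat_lit 0] [],Ins.ts (nat_lit 0) [nat_lit 0,nat_lit 0] [],Ins.ts (nat_lit 1) [nat_lit 0] [],Ins.ts (nat_lit 4) [nat_lit 0] [nat_lit 0,nat_lit 0,nat_lit 1],Ins.ts (nat_lit 1) [nat_lit 0,nat_lit 1] [],Ins.fr [nat_lit 2],Ins.ts (nat_lit 2) [nat_lit 0] [],Ins.ts (nat_lit 0) [nat_lit 0,nat_lit 0] [],Ins.ts (nat_lit 0) [nat_lit 1,nat_lit 0] [nat_lit 0,nat_lit 1],Ins.ts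 (nat_lit 1) [nat_lit 0] [],Ins.ts (nat_lit 4) [nat_lit 0,nat_lit 2,nat_lit 3] [nat_lit 0,nat_lit 0,nat_lit 2],Ins.ts (nat_lit 4) [nat_lit 0,nat_lit 1,nat_lit 2,nat_lit 3] [nat_lit 0,nat_lit 0,nat_lit 2],Ins.ts (nat_lit 1) [nat_lit 0,nat_lit 2,nat_lit 3] [],Ins.ts (nat_lit 1) [nat_lit 0,nat_lit 1,nat_lit 2,nat_lit 3] [],Ins.fr [nat_lit 1,nat_lit 3],Ins.ts (nat_lit 0) [nat_lit 0,nat_lit 0] [],Ins.ts (nat_lit 0) [nat_lit 1,nat_lit 2,nat_lit 0] [nat_lit 0,nat_lit 1]] [(nat_lit 2,nat_lit 0),(nat_lit 3,nat_lit 0)] (Cert.rep (nat_lit 10) [] [nat_lit 68,nat_lit 36,nat_lit 16,nat_lit 8,nat_lit 2,nat_lit 1] [nat_lit 1024,nat_lit 512,nat_lit 256,nat_lit 128,nat_lit 4] (Cert.rep (nat_lit 1) [nat_lit 2,nat_lit 16,nat_lit 36,nat_lit 68] [] [] (Cert.rep (nat_lit 26) [] [] [] Cert.nil (Cert.rep (nat_lit 60) [] [] [] Cert.nil (Cert.rep (nat_lit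 92) [] [] [] (Cert.rep (nat_lit 16) [] [] [] Cert.nil (Cert.rep (nat_lit 17) [] [] [] Cert.nil (Cert.rep (nat_lit 76) [] [] [] Cert.nil (Cert.rep (nat_lit 77) [] [] [] Cert.nil Cert.nil)))) Cert.nil))) Cert.nil) Cert.nil))) (Cert.root (nat_lit 32) [] [nat_lit 8,nat_lit 4] [nat_lit 0,nat_lit 1,nat_lit 2,nat_lit 3,nat_lit 4] [Ins.fr [nat_lit 0],Ins.ts (nat_lit 0) [nat_lit 0,nat_lit 0] [],Ins.ts (nat_lit 1) [nat_lit 0] [],Ins.ts (nat_lit 1) [nat_lit 0,nat_lit 1] [],Ins.fr [nat_lit 1],Ins.ts (nat_lit 1) [nat_lit 0,nat_lit 0] [],Ins.ts (nat_lit 0) [nat_lit 1,nat_lit 0,nat_lit 1] [nat_lit 0,nat_lit 0,nat_lit 0],Ins.ts (nat_lit 1) [nat_lit 0,nat_lit 0,nat_lit 0,nat_lit 0] [],Ins.df [nat_lit 0,nat_lit 0],Ins.df [nat_lit 0,nat_lit 0]] (Cert.rep (nat_lit 10) [nat_lit 2,nat_lit 16,nat_lit 36,nat_lit 68] [nat_lit 68,nat_lit 36,nat_lit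 16,nat_lit 8,nat_lit 2,nat_lit 1] [nat_lit 1024,nat_lit 512,nat_lit 256,nat_lit 128,nat_lit 4] (Cert.rep (nat_lit 1) [] [] [] Cert.nil (Cert.rep (nat_lit 11) [] [] [] Cert.nil (Cert.rep (nat_lit 16) [] [] [] Cert.nil (Cert.rep (nat_lit 26) [] [] [] Cert.nil (Cert.rep (nat_lit 52) [] [] [] Cert.nil (Cert.rep (nat_lit 60) [] [] [] Cert.nil (Cert.rep (nat_lit 68) [nat_lit 16,nat_lit 68] [] [] (Cert.rep (nat_lit 96) [] [] [] (Cert.er (Cert.ro (nat_lit 0) [nat_lit 1,nat_lit 8,nat_lit 16] [nat_lit 8,nat_lit 9,nat_lit 16] [nat_lit 0,nat_lit 1,nat_lit 68,nat_lit 69,nat_lit 10,nat_lit 11,nat_lit 78,nat_lit 79] (Cert.ro (nat_lit 1) [nat_lit 1,nat_lit 2,nat_lit 14,nat_lit 16] [nat_lit 1,nat_lit 14,nat_lit 12,nat_lit 16] [nat_lit 0,nat_lit 1,nat_lit 2,nat_lit 3,nat_lit 39,nat_lit 38,nat_lit 36,nat_lit 37,nat_lit 10,nat_lit 11,nat_lit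 9,nat_lit 8,nat_lit 44,nat_lit 45,nat_lit 46,nat_lit 47] (Cert.kw (nat_lit 2) (nat_lit 0) (nat_lit 2) (nat_lit 1) )))) (Cert.rep (nat_lit 104) [] [] [] (Cert.er (Cert.ro (nat_lit 0) [nat_lit 1,nat_lit 8,nat_lit 16] [nat_lit 8,nat_lit 9,nat_lit 16] [nat_lit 0,nat_lit 1,nat_lit 68,nat_lit 69,nat_lit 10,nat_lit 11,nat_lit 78,nat_lit 79] (Cert.ro (nat_lit 1) [nat_lit 1,nat_lit 2,nat_lit 14,nat_lit 16] [nat_lit 1,nat_lit 14,nat_lit 12,nat_lit 16] [nat_lit 0,nat_lit 1,nat_lit 3,nat_lit 2,nat_lit 46,nat_lit 47,nat_lit 44,nat_lit 45,nat_lit 10,nat_lit 11,nat_lit 8,nat_lit 9,nat_lit 36,nat_lit 37,nat_lit 39,nat_lit 38] (Cert.kw (nat_lit 2) (nat_lit 0) (nat_lit 2) (nat_lit 1) )))) Cert.nil)) (Cert.rep (nat_lit 76) [nat_lit 16,nat_lit 70] [] [] (Cert.rep (nat_lit 96) [] [] [] (Cert.er (Cert.ro (nat_lit 0) [nat_lit 1,nat_lit 8,nat_lit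 16] [nat_lit 8,nat_lit 9,nat_lit 16] [nat_lit 0,nat_lit 1,nat_lit 76,nat_lit 77,nat_lit 10,nat_lit 11,nat_lit 71,nat_lit 70] (Cert.ro (nat_lit 1) [nat_lit 1,nat_lit 2,nat_lit 14,nat_lit 16] [nat_lit 1,nat_lit 14,nat_lit 12,nat_lit 16] [nat_lit 0,nat_lit 1,nat_lit 2,nat_lit 3,nat_lit 47,nat_lit 46,nat_lit 44,nat_lit 45,nat_lit 10,nat_lit 11,nat_lit 9,nat_lit 8,nat_lit 37,nat_lit 36,nat_lit 39,nat_lit 38] (Cert.lf (Leaf.st (nat_lit 2) (nat_lit 1) (nat_lit 1) (Leaf.cf (nat_lit 1))))))) (Cert.rep (nat_lit 104) [] [] [] (Cert.er (Cert.ro (nat_lit 0) [nat_lit 1,nat_lit 8,nat_lit 16] [nat_lit 8,nat_lit 9,nat_lit 16] [nat_lit 0,nat_lit 1,nat_lit 76,nat_lit 77,nat_lit 10,nat_lit 11,nat_lit 71,nat_lit 70] (Cert.ro (nat_lit 1) [nat_lit 1,nat_lit 2,nat_lit 14,nat_lit 16] [nat_lit 1,nat_lit 14,nat_lit 12,nat_lit 16] [nat_lit 0,nat_lit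 1,nat_lit 3,nat_lit 2,nat_lit 39,nat_lit 38,nat_lit 37,nat_lit 36,nat_lit 10,nat_lit 11,nat_lit 8,nat_lit 9,nat_lit 44,nat_lit 45,nat_lit 47,nat_lit 46] (Cert.lf (Leaf.st (nat_lit 2) (nat_lit 1) (nat_lit 1) (Leaf.cf (nat_lit 1))))))) Cert.nil)) (Cert.rep (nat_lit 84) [nat_lit 16,nat_lit 68] [] [] (Cert.rep (nat_lit 112) [] [] [] (Cert.er (Cert.ro (nat_lit 0) [nat_lit 1,nat_lit 8,nat_lit 16] [nat_lit 8,nat_lit 9,nat_lit 16] [nat_lit 0,nat_lit 1,nat_lit 84,nat_lit 85,nat_lit 10,nat_lit 11,nat_lit 94,nat_lit 95] (Cert.ro (nat_lit 1) [nat_lit 1,nat_lit 2,nat_lit 14,nat_lit 16] [nat_lit 1,nat_lit 14,nat_lit 12,nat_lit 16] [nat_lit 0,nat_lit 1,nat_lit 3,nat_lit 2,nat_lit 39,nat_lit 38,nat_lit 37,nat_lit 36,nat_lit 10,nat_lit 11,nat_lit 8,nat_lit 9,nat_lit 44,nat_lit 45,nat_lit 47,nat_lit 46] (Cert.lf (Leaf.st (nat_lit 2) (nat_lit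 1) (nat_lit 1) (Leaf.cf (nat_lit 1))))))) (Cert.rep (nat_lit 120) [] [] [] (Cert.er (Cert.ro (nat_lit 0) [nat_lit 1,nat_lit 8,nat_lit 16] [nat_lit 8,nat_lit 9,nat_lit 16] [nat_lit 0,nat_lit 1,nat_lit 84,nat_lit 85,nat_lit 10,nat_lit 11,nat_lit 94,nat_lit 95] (Cert.ro (nat_lit 1) [nat_lit 1,nat_lit 2,nat_lit 14,nat_lit 16] [nat_lit 1,nat_lit 14,nat_lit 12,nat_lit 16] [nat_lit 0,nat_lit 1,nat_lit 2,nat_lit 3,nat_lit 46,nat_lit 47,nat_lit 45,nat_lit 44,nat_lit 10,nat_lit 11,nat_lit 9,nat_lit 8,nat_lit 36,nat_lit 37,nat_lit 38,nat_lit 39] (Cert.lf (Leaf.st (nat_lit 2) (nat_lit 1) (nat_lit 1) (Leaf.cf (nat_lit 1))))))) Cert.nil)) (Cert.rep (nat_lit 92) [nat_lit 16,nat_lit 70] [] [] (Cert.rep (nat_lit 112) [] [] [] (Cert.er (Cert.ro (nat_lit 0) [nat_lit 1,nat_lit 8,nat_lit 16] [nat_lit 8,nat_lit 9,nat_lit 16] [nat_lit 0,nat_lit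 1,nat_lit 92,nat_lit 93,nat_lit 10,nat_lit 11,nat_lit 87,nat_lit 86] (Cert.ro (nat_lit 1) [nat_lit 1,nat_lit 2,nat_lit 14,nat_lit 16] [nat_lit 1,nat_lit 14,nat_lit 12,nat_lit 16] [nat_lit 0,nat_lit 1,nat_lit 3,nat_lit 2,nat_lit 47,nat_lit 46,nat_lit 45,nat_lit 44,nat_lit 10,nat_lit 11,nat_lit 8,nat_lit 9,nat_lit 37,nat_lit 36,nat_lit 38,nat_lit 39] (Cert.kw (nat_lit 2) (nat_lit 0) (nat_lit 2) (nat_lit 1) )))) (Cert.rep (nat_lit 120) [] [] [] (Cert.er (Cert.ro (nat_lit 0) [nat_lit 1,nat_lit 8,nat_lit 16] [nat_lit 8,nat_lit 9,nat_lit 16] [nat_lit 0,nat_lit 1,nat_lit 92,nat_lit 93,nat_lit 10,nat_lit 11,nat_lit 87,nat_lit 86] (Cert.ro (nat_lit 1) [nat_lit 1,nat_lit 2,nat_lit 14,nat_lit 16] [nat_lit 1,nat_lit 14,nat_lit 12,nat_lit 16] [nat_lit 0,nat_lit 1,nat_lit 2,nat_lit 3,nat_lit 39,nat_lit 38,nat_lit 36,nat_lit 37,nat_lit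 10,nat_lit 11,nat_lit 9,nat_lit 8,nat_lit 44,nat_lit 45,nat_lit 46,nat_lit 47] (Cert.kw (nat_lit 2) (nat_lit 0) (nat_lit 2) (nat_lit 1) )))) Cert.nil)) Cert.nil)))))))))) Cert.nil))
noncomputable def f96 : Cert :=
  (Cert.st (nat_lit 0) (nat_lit 10) (nat_lit 0) (Cert.sp (nat_lit 1) (Cert.lf (Leaf.pt (nat_lit 9) (nat_lit 1) [nat_lit 10])) (Cert.sp (nat_lit 26) (Cert.lf (Leaf.pt (nat_lit 9) (nat_lit 26) [nat_lit 10])) (Cert.st (nat_lit 0) (nat_lit 26) (nat_lit 0) (Cert.sp (nat_lit 28) (Cert.lf (Leaf.pt (nat_lit 9) (nat_lit 28) [nat_lit 12])) (Cert.st (nat_lit 0) (nat_lit 28) (nat_lit 0) (Cert.sp (nat_lit 32) (Cert.lf (Leaf.pt (nat_lit 12) (nat_lit 32) [nat_lit 26,nat_lit 196])) (Cert.st (nat_lit 0) (nat_lit 32) (nat_lit 0) (Cert.sp (nat_lit 68) (Cert.lf (Leaf.pt (nat_lit 9) (nat_lit 68) [nat_lit 10])) (Cert.st (nat_lit 0)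 (nat_lit 68) (nat_lit 0) (Cert.sp (nat_lit 92) (Cert.lf (Leaf.pt (nat_lit 9) (nat_lit 92) [nat_lit 10])) (Cert.st (nat_lit 0) (nat_lit 92) (nat_lit 0) (Cert.sp (nat_lit 132) (Cert.lf (Leaf.pt (nat_lit 12) (nat_lit 132) [nat_lit 26,nat_lit 1290])) (Cert.st (nat_lit 0) (nat_lit 132) (nat_lit 0) (Cert.sp (nat_lit 256) (Cert.lf (Leaf.pt (nat_lit 13) (nat_lit 256) [nat_lit 68])) (Cert.st (nat_lit 0) (nat_lit 256) (nat_lit 0) (Cert.sp (nat_lit 257) (Cert.lf (Leaf.pt (nat_lit 13) (nat_lit 257) [nat_lit 1])) (Cert.st (nat_lit 0) (nat_lit 257) (nat_lit 0) (Cert.sp (nat_lit 584) (Cert.lf (Leaf.pt (nat_lit 12) (nat_lit 584) [nat_lit 282,nat_lit 1102])) (Cert.st (nat_lit 0) (nat_lit 584) (nat_lit 0) (Cert.sp (nat_lit 648) (Cert.lf (Leaf.pt (nat_lit 12) (nat_lit 648) [nat_lit 28,nat_lit 258])) (Cert.st (nat_lit 0) (nat_lit 648) (nat_lit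 0) (Cert.sp (nat_lit 1034) (Cert.lf (Leaf.pt (nat_lit 19) (nat_lit 1034) [nat_lit 192,nat_lit 258])) (Cert.st (nat_lit 0) (nat_lit 1034) (nat_lit 0) (Cert.sp (nat_lit 1174) (Cert.lf (Leaf.pt (nat_lit 13) (nat_lit 1174) [nat_lit 132])) (Cert.st (nat_lit 0) (nat_lit 1174) (nat_lit 0) (Cert.nl (nat_lit 1) (Cert.sy (nat_lit 0) (Cert.s2 (nat_lit 0) (nat_lit 68) (Cert.o1 (nat_lit 0) (nat_lit 68) (Cert.fu (nat_lit 10) (nat_lit 1) (nat_lit 0) (nat_lit 0) [] [nat_lit 68,nat_lit 1,nat_lit 16,nat_lit 32,nat_lit 256] [] [] [] [nat_lit 1] [[nat_lit 1]] [[nat_lit 68]] [Ins.fr [nat_lit 0],Ins.ts (nat_lit 3) [nat_lit 0] [],Ins.ts (nat_lit 4) [nat_lit 0] [nat_lit 0,nat_lit 0,nat_lit 0],Ins.ts (nat_lit 1) [nat_lit 0] [],Ins.fr [nat_lit 1],Ins.ts (nat_lit 3) [nat_lit 0] [],Ins.ts (nat_lit 0) [nat_lit 0,nat_lit 0] [],Ins.ts (nat_lit 1) [nat_lit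 0] [],Ins.ts (nat_lit 1) [nat_lit 0,nat_lit 1] [],Ins.fr [nat_lit 2],Ins.ts (nat_lit 2) [nat_lit 0] [],Ins.ts (nat_lit 0) [nat_lit 0,nat_lit 0] [],Ins.ts (nat_lit 0) [nat_lit 1,nat_lit 0] [nat_lit 0,nat_lit 1],Ins.ts (nat_lit 1) [nat_lit 0] [],Ins.ts (nat_lit 1) [nat_lit 0,nat_lit 3] [],Ins.ts (nat_lit 1) [nat_lit 0,nat_lit 2,nat_lit 3] [],Ins.ts (nat_lit 1) [nat_lit 0,nat_lit 1,nat_lit 3] [],Ins.ts (nat_lit 1) [nat_lit 0,nat_lit 1,nat_lit 2,nat_lit 3] [],Ins.fr [nat_lit 1,nat_lit 3],Ins.ts (nat_lit 0) [nat_lit 0,nat_lit 0] [],Ins.ts (nat_lit 0) [nat_lit 1,nat_lit 2,nat_lit 0] [nat_lit 0,nat_lit 1],Ins.fr [nat_lit 1],Ins.ts (nat_lit 0) [nat_lit 0,nat_lit 0] [],Ins.ts (nat_lit 0) [nat_lit 3,nat_lit 0] [nat_lit 0,nat_lit 3]] [] (Cert.rep (nat_lit 10) [] [nat_lit 68,nat_lit 36,nat_lit 16,nat_lit 8,nat_lit 2,nat_lit 1] [nat_lit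 1024,nat_lit 512,nat_lit 256,nat_lit 128,nat_lit 4] (Cert.rep (nat_lit 1) [nat_lit 2,nat_lit 16,nat_lit 36,nat_lit 68] [] [] (Cert.rep (nat_lit 26) [nat_lit 2,nat_lit 68] [] [] (Cert.rep (nat_lit 76) [nat_lit 10] [] [] (Cert.rep (nat_lit 256) [] [] [] Cert.nil (Cert.rep (nat_lit 257) [] [] [] Cert.nil (Cert.rep (nat_lit 326) [] [] [] Cert.nil (Cert.rep (nat_lit 327) [] [] [] Cert.nil Cert.nil)))) (Cert.rep (nat_lit 78) [nat_lit 10] [] [] (Cert.rep (nat_lit 256) [] [] [] Cert.nil (Cert.rep (nat_lit 257) [] [] [] Cert.nil (Cert.rep (nat_lit 324) [] [] [] Cert.nil (Cert.rep (nat_lit 325) [] [] [] Cert.nil Cert.nil)))) (Cert.rep (nat_lit 84) [nat_lit 10] [] [] (Cert.rep (nat_lit 256) [] [] [] Cert.nil (Cert.rep (nat_lit 257) [] [] [] Cert.nil (Cert.rep (nat_lit 324) [] [] [] Cert.nil (Cert.rep (nat_lit 325) [] [] [] Cert.nil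 Cert.nil)))) (Cert.rep (nat_lit 86) [nat_lit 10] [] [] (Cert.rep (nat_lit 256) [] [] [] Cert.nil (Cert.rep (nat_lit 257) [] [] [] Cert.nil (Cert.rep (nat_lit 326) [] [] [] Cert.nil (Cert.rep (nat_lit 327) [] [] [] Cert.nil Cert.nil)))) Cert.nil)))) (Cert.rep (nat_lit 60) [] [] [] Cert.nil (Cert.rep (nat_lit 68) [] [] [] (Cert.rep (nat_lit 16) [] [] [] Cert.nil (Cert.rep (nat_lit 17) [] [] [] Cert.nil (Cert.rep (nat_lit 84) [] [] [] Cert.nil (Cert.rep (nat_lit 85) [] [] [] Cert.nil Cert.nil)))) (Cert.rep (nat_lit 92) [] [] [] (Cert.rep (nat_lit 16) [] [] [] Cert.nil (Cert.rep (nat_lit 17) [] [] [] Cert.nil (Cert.rep (nat_lit 76) [] [] [] Cert.nil (Cert.rep (nat_lit 77) [] [] [] Cert.nil Cert.nil)))) Cert.nil)))) Cert.nil) Cert.nil))) f96_0)))))))))))))))))))))))))))))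
theorem fin96 : finOK DB PT 88 t88 96 t96 (nat_lit 0x300000003000000c0000000c0000030000000300000000003000000030000000c0000000c0000c0000000c00000000030000000300000000c0000000c0000000000000000000000c3000000c30000c0030000c0030000000000000000000000000000000000003003000030030000003300000033000000000000000000f0000000f0000000f00c0cf0f00303f0f00000f0f00000f00c0000030c0000030000000000000000f00000f0f00000f0f00000f0f0f0f0f0fcfc0303fc03fc03) f96 = true := by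
  decide +kernel
noncomputable def f105_0 : Cert :=
  Cert.s2 (nat_lit 0) (nat_lit 68) (Cert.o1 (nat_lit 0) (nat_lit 68) (Cert.fu (nat_lit 10) (nat_lit 1) (nat_lit 0) (nat_lit 0) [] [nat_lit 68,nat_lit 1,nat_lit 16,nat_lit 32,nat_lit 256] [] [] [] [nat_lit 1] [[nat_lit 1]] [[nat_lit 68]] [Ins.fr [nat_lit 0],Ins.ts (nat_lit 3) [nat_lit 0] [],Ins.ts (nat_lit 4) [nat_lit 0] [nat_lit 0,nat_lit 0,nat_lit 0],Ins.ts (nat_lit 1) [nat_lit 0] [],Ins.fr [nat_lit 1],Ins.ts (nat_lit 3) [nat_lit 0] [],Ins.ts (nat_lit 0) [nat_lit 0,nat_lit 0] [],Ins.ts (nat_lit 1) [nat_lit 0] [],Ins.ts (nat_lit 1) [nat_lit 0,nat_lit 1] [],Ins.fr [nat_lit 2],Ins.ts (nat_lit 2) [nat_lit 0] [],Ins.ts (nat_lit 0) [nat_lit 0,nat_lit 0] [],Ins.ts (nat_lit 0) [nat_lit 1,nat_lit 0] [nat_lit 0,nat_lit 1],Ins.ts (nat_lit 1) [nat_lit 0] [],Ins.ts (nat_lit 1) [nat_lit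 0,nat_lit 3] [],Ins.ts (nat_lit 1) [nat_lit 0,nat_lit 2,nat_lit 3] [],Ins.ts (nat_lit 1) [nat_lit 0,nat_lit 1,nat_lit 3] [],Ins.ts (nat_lit 1) [nat_lit 0,nat_lit 1,nat_lit 2,nat_lit 3] [],Ins.fr [nat_lit 1,nat_lit 3],Ins.ts (nat_lit 0) [nat_lit 0,nat_lit 0] [],Ins.ts (nat_lit 0) [nat_lit 1,nat_lit 2,nat_lit 0] [nat_lit 0,nat_lit 1],Ins.fr [nat_lit 1],Ins.ts (nat_lit 0) [nat_lit 0,nat_lit 0] []] [] (Cert.rep (nat_lit 10) [] [nat_lit 68,nat_lit 36,nat_lit 16,nat_lit 8,nat_lit 2,nat_lit 1] [nat_lit 1024,nat_lit 512,nat_lit 256,nat_lit 128,nat_lit 4] (Cert.rep (nat_lit 1) [nat_lit 2,nat_lit 16,nat_lit 36,nat_lit 68] [] [] (Cert.rep (nat_lit 26) [nat_lit 2,nat_lit 68] [] [] (Cert.rep (nat_lit 76) [nat_lit 10] [] [] (Cert.rep (nat_lit 256) [] [] [] Cert.nil (Cert.rep (nat_lit 257) [] [] [] Cert.nil (Cert.rep (nat_lit 326) [] []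 [] Cert.nil (Cert.rep (nat_lit 327) [] [] [] Cert.nil Cert.nil)))) (Cert.rep (nat_lit 78) [nat_lit 10] [] [] (Cert.rep (nat_lit 256) [] [] [] Cert.nil (Cert.rep (nat_lit 257) [] [] [] Cert.nil (Cert.rep (nat_lit 324) [] [] [] Cert.nil (Cert.rep (nat_lit 325) [] [] [] Cert.nil Cert.nil)))) (Cert.rep (nat_lit 84) [nat_lit 10] [] [] (Cert.rep (nat_lit 256) [] [] [] Cert.nil (Cert.rep (nat_lit 257) [] [] [] Cert.nil (Cert.rep (nat_lit 324) [] [] [] Cert.nil (Cert.rep (nat_lit 325) [] [] [] Cert.nil Cert.nil)))) (Cert.rep (nat_lit 86) [nat_lit 10] [] [] (Cert.rep (nat_lit 256) [] [] [] Cert.nil (Cert.rep (nat_lit 257) [] [] [] Cert.nil (Cert.rep (nat_lit 326) [] [] [] Cert.nil (Cert.rep (nat_lit 327) [] [] [] Cert.nil Cert.nil)))) Cert.nil)))) (Cert.rep (nat_lit 60) [] [] [] Cert.nil (Cert.rep (nat_lit 68) [] [] [] (Cert.rep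 (nat_lit 16) [] [] [] Cert.nil (Cert.rep (nat_lit 17) [] [] [] Cert.nil (Cert.rep (nat_lit 84) [] [] [] Cert.nil (Cert.rep (nat_lit 85) [] [] [] Cert.nil Cert.nil)))) (Cert.rep (nat_lit 92) [] [] [] (Cert.rep (nat_lit 16) [] [] [] Cert.nil (Cert.rep (nat_lit 17) [] [] [] Cert.nil (Cert.rep (nat_lit 76) [] [] [] Cert.nil (Cert.rep (nat_lit 77) [] [] [] Cert.nil Cert.nil)))) Cert.nil)))) Cert.nil) Cert.nil))) (Cert.root (nat_lit 32) [] [nat_lit 8,nat_lit 4] [nat_lit 0,nat_lit 1,nat_lit 2,nat_lit 3,nat_lit 4] [Ins.fr [nat_lit 0],Ins.ts (nat_lit 0) [nat_lit 0,nat_lit 0] [],Ins.ts (nat_lit 1) [nat_lit 0] [],Ins.ts (nat_lit 1) [nat_lit 0,nat_lit 1] [],Ins.fr [nat_lit 1],Ins.ts (nat_lit 1) [nat_lit 0,nat_lit 0] [],Ins.ts (nat_lit 0) [nat_lit 1,nat_lit 0,nat_lit 1] [nat_lit 0,nat_lit 0,nat_lit 0],Ins.ts (nat_lit 1) [nat_lit 0,nat_lit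 0,nat_lit 0,nat_lit 0] [],Ins.df [nat_lit 0,nat_lit 0],Ins.df [nat_lit 0,nat_lit 0]] (Cert.rep (nat_lit 10) [nat_lit 2,nat_lit 16,nat_lit 36,nat_lit 68] [nat_lit 68,nat_lit 36,nat_lit 16,nat_lit 8,nat_lit 2,nat_lit 1] [nat_lit 1024,nat_lit 512,nat_lit 256,nat_lit 128,nat_lit 4] (Cert.rep (nat_lit 1) [] [] [] Cert.nil (Cert.rep (nat_lit 11) [] [] [] Cert.nil (Cert.rep (nat_lit 16) [] [] [] Cert.nil (Cert.rep (nat_lit 26) [] [] [] Cert.nil (Cert.rep (nat_lit 52) [] [] [] Cert.nil (Cert.rep (nat_lit 60) [] [] [] Cert.nil (Cert.rep (nat_lit 68) [nat_lit 16,nat_lit 68] [] [] (Cert.rep (nat_lit 96) [] [] [] (Cert.er (Cert.ro (nat_lit 0) [nat_lit 1,nat_lit 8,nat_lit 16] [nat_lit 8,nat_lit 9,nat_lit 16] [nat_lit 0,nat_lit 1,nat_lit 68,nat_lit 69,nat_lit 10,nat_lit 11,nat_lit 78,nat_lit 79] (Cert.ro (nat_lit 1) [nat_lit 1,nat_lit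 2,nat_lit 14,nat_lit 16] [nat_lit 1,nat_lit 14,nat_lit 12,nat_lit 16] [nat_lit 0,nat_lit 1,nat_lit 2,nat_lit 3,nat_lit 39,nat_lit 38,nat_lit 36,nat_lit 37,nat_lit 10,nat_lit 11,nat_lit 9,nat_lit 8,nat_lit 44,nat_lit 45,nat_lit 46,nat_lit 47] (Cert.kw (nat_lit 2) (nat_lit 0) (nat_lit 2) (nat_lit 1) )))) (Cert.rep (nat_lit 104) [] [] [] (Cert.er (Cert.ro (nat_lit 0) [nat_lit 1,nat_lit 8,nat_lit 16] [nat_lit 8,nat_lit 9,nat_lit 16] [nat_lit 0,nat_lit 1,nat_lit 68,nat_lit 69,nat_lit 10,nat_lit 11,nat_lit 78,nat_lit 79] (Cert.ro (nat_lit 1) [nat_lit 1,nat_lit 2,nat_lit 14,nat_lit 16] [nat_lit 1,nat_lit 14,nat_lit 12,nat_lit 16] [nat_lit 0,nat_lit 1,nat_lit 3,nat_lit 2,nat_lit 46,nat_lit 47,nat_lit 44,nat_lit 45,nat_lit 10,nat_lit 11,nat_lit 8,nat_lit 9,nat_lit 36,nat_lit 37,nat_lit 39,nat_lit 38] (Cert.kw (nat_lit 2) (nat_lit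 0) (nat_lit 2) (nat_lit 1) )))) Cert.nil)) (Cert.rep (nat_lit 76) [nat_lit 16,nat_lit 70] [] [] (Cert.rep (nat_lit 96) [] [] [] (Cert.er (Cert.ro (nat_lit 0) [nat_lit 1,nat_lit 8,nat_lit 16] [nat_lit 8,nat_lit 9,nat_lit 16] [nat_lit 0,nat_lit 1,nat_lit 76,nat_lit 77,nat_lit 10,nat_lit 11,nat_lit 71,nat_lit 70] (Cert.ro (nat_lit 1) [nat_lit 1,nat_lit 2,nat_lit 14,nat_lit 16] [nat_lit 1,nat_lit 14,nat_lit 12,nat_lit 16] [nat_lit 0,nat_lit 1,nat_lit 2,nat_lit 3,nat_lit 47,nat_lit 46,nat_lit 44,nat_lit 45,nat_lit 10,nat_lit 11,nat_lit 9,nat_lit 8,nat_lit 37,nat_lit 36,nat_lit 39,nat_lit 38] (Cert.lf (Leaf.st (nat_lit 2) (nat_lit 1) (nat_lit 1) (Leaf.cf (nat_lit 1))))))) (Cert.rep (nat_lit 104) [] [] [] (Cert.er (Cert.ro (nat_lit 0) [nat_lit 1,nat_lit 8,nat_lit 16] [nat_lit 8,nat_lit 9,nat_lit 16] [nat_lit 0,nat_lit 1,nat_lit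 76,nat_lit 77,nat_lit 10,nat_lit 11,nat_lit 71,nat_lit 70] (Cert.ro (nat_lit 1) [nat_lit 1,nat_lit 2,nat_lit 14,nat_lit 16] [nat_lit 1,nat_lit 14,nat_lit 12,nat_lit 16] [nat_lit 0,nat_lit 1,nat_lit 3,nat_lit 2,nat_lit 39,nat_lit 38,nat_lit 37,nat_lit 36,nat_lit 10,nat_lit 11,nat_lit 8,nat_lit 9,nat_lit 44,nat_lit 45,nat_lit 47,nat_lit 46] (Cert.lf (Leaf.st (nat_lit 2) (nat_lit 1) (nat_lit 1) (Leaf.cf (nat_lit 1))))))) Cert.nil)) (Cert.rep (nat_lit 84) [nat_lit 16,nat_lit 68] [] [] (Cert.rep (nat_lit 112) [] [] [] (Cert.er (Cert.ro (nat_lit 0) [nat_lit 1,nat_lit 8,nat_lit 16] [nat_lit 8,nat_lit 9,nat_lit 16] [nat_lit 0,nat_lit 1,nat_lit 84,nat_lit 85,nat_lit 10,nat_lit 11,nat_lit 94,nat_lit 95] (Cert.ro (nat_lit 1) [nat_lit 1,nat_lit 2,nat_lit 14,nat_lit 16] [nat_lit 1,nat_lit 14,nat_lit 12,nat_lit 16] [nat_lit 0,nat_lit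 1,nat_lit 3,nat_lit 2,nat_lit 39,nat_lit 38,nat_lit 37,nat_lit 36,nat_lit 10,nat_lit 11,nat_lit 8,nat_lit 9,nat_lit 44,nat_lit 45,nat_lit 47,nat_lit 46] (Cert.lf (Leaf.st (nat_lit 2) (nat_lit 1) (nat_lit 1) (Leaf.cf (nat_lit 1))))))) (Cert.rep (nat_lit 120) [] [] [] (Cert.er (Cert.ro (nat_lit 0) [nat_lit 1,nat_lit 8,nat_lit 16] [nat_lit 8,nat_lit 9,nat_lit 16] [nat_lit 0,nat_lit 1,nat_lit 84,nat_lit 85,nat_lit 10,nat_lit 11,nat_lit 94,nat_lit 95] (Cert.ro (nat_lit 1) [nat_lit 1,nat_lit 2,nat_lit 14,nat_lit 16] [nat_lit 1,nat_lit 14,nat_lit 12,nat_lit 16] [nat_lit 0,nat_lit 1,nat_lit 2,nat_lit 3,nat_lit 46,nat_lit 47,nat_lit 45,nat_lit 44,nat_lit 10,nat_lit 11,nat_lit 9,nat_lit 8,nat_lit 36,nat_lit 37,nat_lit 38,nat_lit 39] (Cert.lf (Leaf.st (nat_lit 2) (nat_lit 1) (nat_lit 1) (Leaf.cf (nat_lit 1))))))) Cert.nil)) (Cert.rep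 (nat_lit 92) [nat_lit 16,nat_lit 70] [] [] (Cert.rep (nat_lit 112) [] [] [] (Cert.er (Cert.ro (nat_lit 0) [nat_lit 1,nat_lit 8,nat_lit 16] [nat_lit 8,nat_lit 9,nat_lit 16] [nat_lit 0,nat_lit 1,nat_lit 92,nat_lit 93,nat_lit 10,nat_lit 11,nat_lit 87,nat_lit 86] (Cert.ro (nat_lit 1) [nat_lit 1,nat_lit 2,nat_lit 14,nat_lit 16] [nat_lit 1,nat_lit 14,nat_lit 12,nat_lit 16] [nat_lit 0,nat_lit 1,nat_lit 3,nat_lit 2,nat_lit 47,nat_lit 46,nat_lit 45,nat_lit 44,nat_lit 10,nat_lit 11,nat_lit 8,nat_lit 9,nat_lit 37,nat_lit 36,nat_lit 38,nat_lit 39] (Cert.kw (nat_lit 2) (nat_lit 0) (nat_lit 2) (nat_lit 1) )))) (Cert.rep (nat_lit 120) [] [] [] (Cert.er (Cert.ro (nat_lit 0) [nat_lit 1,nat_lit 8,nat_lit 16] [nat_lit 8,nat_lit 9,nat_lit 16] [nat_lit 0,nat_lit 1,nat_lit 92,nat_lit 93,nat_lit 10,nat_lit 11,nat_lit 87,nat_lit 86] (Cert.ro (nat_lit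 1) [nat_lit 1,nat_lit 2,nat_lit 14,nat_lit 16] [nat_lit 1,nat_lit 14,nat_lit 12,nat_lit 16] [nat_lit 0,nat_lit 1,nat_lit 2,nat_lit 3,nat_lit 39,nat_lit 38,nat_lit 36,nat_lit 37,nat_lit 10,nat_lit 11,nat_lit 9,nat_lit 8,nat_lit 44,nat_lit 45,nat_lit 46,nat_lit 47] (Cert.kw (nat_lit 2) (nat_lit 0) (nat_lit 2) (nat_lit 1) )))) Cert.nil)) Cert.nil)))))))))) Cert.nil))
noncomputable def f105 : Cert :=
  (Cert.st (nat_lit 0) (nat_lit 10) (nat_lit 0) (Cert.sp (nat_lit 1) (Cert.lf (Leaf.pt (nat_lit 9) (nat_lit 1) [nat_lit 10])) (Cert.sp (nat_lit 26) (Cert.lf (Leaf.pt (nat_lit 9) (nat_lit 26) [nat_lit 10])) (Cert.st (nat_lit 0) (nat_lit 26) (nat_lit 0) (Cert.sp (nat_lit 28) (Cert.lf (Leaf.pt (nat_lit 9) (nat_lit 28) [nat_lit 12])) (Cert.st (nat_lit 0) (nat_lit 28) (nat_lit 0) (Cert.sp (nat_lit 32) (Cert.lf (Leaf.pt (nat_lit 12) (nat_lit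 32) [nat_lit 26,nat_lit 196])) (Cert.st (nat_lit 0) (nat_lit 32) (nat_lit 0) (Cert.sp (nat_lit 68) (Cert.lf (Leaf.pt (nat_lit 9) (nat_lit 68) [nat_lit 10])) (Cert.st (nat_lit 0) (nat_lit 68) (nat_lit 0) (Cert.sp (nat_lit 132) (Cert.lf (Leaf.pt (nat_lit 12) (nat_lit 132) [nat_lit 32,nat_lit 1102])) (Cert.st (nat_lit 0) (nat_lit 132) (nat_lit 0) (Cert.sp (nat_lit 256) (Cert.lf (Leaf.pt (nat_lit 13) (nat_lit 256) [nat_lit 68])) (Cert.st (nat_lit 0) (nat_lit 256) (nat_lit 0) (Cert.sp (nat_lit 257) (Cert.lf (Leaf.pt (nat_lit 13) (nat_lit 257) [nat_lit 1])) (Cert.st (nat_lit 0) (nat_lit 257) (nat_lit 0) (Cert.sp (nat_lit 584) (Cert.lf (Leaf.pt (nat_lit 19) (nat_lit 584) [nat_lit 24,nat_lit 192])) (Cert.st (nat_lit 0) (nat_lit 584) (nat_lit 0) (Cert.sp (nat_lit 648) (Cert.lf (Leaf.pt (nat_lit 12) (nat_lit 648) [nat_lit 28,nat_lit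 258])) (Cert.st (nat_lit 0) (nat_lit 648) (nat_lit 0) (Cert.nl (nat_lit 1) (Cert.sy (nat_lit 0) f105_0))))))))))))))))))))))
theorem fin105 : finOK DB PT 88 t88 105 t105 (nat_lit 0xc3000000c30000c0030000c0030000000000000000000000000000000000003003000030030000003300000033000000000000000000f0000000f0000000f00c0cf0f00303f0f00000f0f00000f00c0000030c0000030000000000000000f00000f0f00000f0f00000f0f0f0f0f0fcfc0303fc03fc03) f105 = true := by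
  decide +kernel
noncomputable def f127_0 : Cert :=
  Cert.s2 (nat_lit 0) (nat_lit 92) (Cert.o1 (nat_lit 0) (nat_lit 92) (Cert.fu (nat_lit 10) (nat_lit 1) (nat_lit 0) (nat_lit 0) [] [nat_lit 92,nat_lit 1,nat_lit 16,nat_lit 32] [] [] [] [nat_lit 1] [[nat_lit 1]] [[nat_lit 92]] [Ins.fr [nat_lit 0],Ins.ts (nat_lit 3) [nat_lit 0] [],Ins.ts (nat_lit 4) [nat_lit 0] [nat_lit 0,nat_lit 0,nat_lit 0],Ins.ts (nat_lit 1) [nat_lit 0] [],Ins.fr [nat_lit 1],Ins.ts (nat_lit 3) [nat_lit 0] [],Ins.ts (nat_lit 0) [nat_lit 0,nat_lit 0] [],Ins.ts (nat_lit 1) [nat_lit 0] [],Ins.ts (nat_lit 4) [nat_lit 0] [nat_lit 0,nat_lit 0,nat_lit 1],Ins.ts (nat_lit 1) [nat_lit 0,nat_lit 1] [],Ins.fr [nat_lit 2],Ins.ts (nat_lit 2) [nat_lit 0] [],Ins.ts (nat_lit 0) [nat_lit 0,nat_lit 0] [],Ins.ts (nat_lit 0) [nat_lit 1,nat_lit 0] [nat_lit 0,nat_lit 1],Ins.ts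 (nat_lit 1) [nat_lit 0] [],Ins.ts (nat_lit 4) [nat_lit 0,nat_lit 2,nat_lit 3] [nat_lit 0,nat_lit 0,nat_lit 2],Ins.ts (nat_lit 4) [nat_lit 0,nat_lit 1,nat_lit 2,nat_lit 3] [nat_lit 0,nat_lit 0,nat_lit 2],Ins.ts (nat_lit 1) [nat_lit 0,nat_lit 2,nat_lit 3] [],Ins.ts (nat_lit 1) [nat_lit 0,nat_lit 1,nat_lit 2,nat_lit 3] [],Ins.fr [nat_lit 1,nat_lit 3],Ins.ts (nat_lit 0) [nat_lit 0,nat_lit 0] [],Ins.ts (nat_lit 0) [nat_lit 1,nat_lit 2,nat_lit 0] [nat_lit 0,nat_lit 1]] [(nat_lit 2,nat_lit 0),(nat_lit 3,nat_lit 0)] (Cert.rep (nat_lit 10) [] [nat_lit 68,nat_lit 36,nat_lit 16,nat_lit 8,nat_lit 2,nat_lit 1] [nat_lit 1024,nat_lit 512,nat_lit 256,nat_lit 128,nat_lit 4] (Cert.rep (nat_lit 1) [nat_lit 2,nat_lit 16,nat_lit 36,nat_lit 68] [] [] (Cert.rep (nat_lit 26) [] [] [] Cert.nil (Cert.rep (nat_lit 60) [] [] [] Cert.nil (Cert.rep (nat_lit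 92) [] [] [] (Cert.rep (nat_lit 16) [] [] [] Cert.nil (Cert.rep (nat_lit 17) [] [] [] Cert.nil (Cert.rep (nat_lit 76) [] [] [] Cert.nil (Cert.rep (nat_lit 77) [] [] [] Cert.nil Cert.nil)))) Cert.nil))) Cert.nil) Cert.nil))) (Cert.root (nat_lit 32) [] [nat_lit 8,nat_lit 4] [nat_lit 0,nat_lit 1,nat_lit 2,nat_lit 3,nat_lit 4] [Ins.fr [nat_lit 0],Ins.ts (nat_lit 0) [nat_lit 0,nat_lit 0] [],Ins.ts (nat_lit 1) [nat_lit 0] [],Ins.ts (nat_lit 1) [nat_lit 0,nat_lit 1] [],Ins.fr [nat_lit 1],Ins.ts (nat_lit 1) [nat_lit 0,nat_lit 0] [],Ins.ts (nat_lit 0) [nat_lit 1,nat_lit 0,nat_lit 1] [nat_lit 0,nat_lit 0,nat_lit 0],Ins.ts (nat_lit 1) [nat_lit 0,nat_lit 0,nat_lit 0,nat_lit 0] [],Ins.df [nat_lit 0,nat_lit 0],Ins.df [nat_lit 0,nat_lit 0]] (Cert.rep (nat_lit 10) [nat_lit 2,nat_lit 16,nat_lit 36,nat_lit 68] [nat_lit 68,nat_lit 36,nat_lit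 16,nat_lit 8,nat_lit 2,nat_lit 1] [nat_lit 1024,nat_lit 512,nat_lit 256,nat_lit 128,nat_lit 4] (Cert.rep (nat_lit 1) [] [] [] Cert.nil (Cert.rep (nat_lit 11) [] [] [] Cert.nil (Cert.rep (nat_lit 16) [] [] [] Cert.nil (Cert.rep (nat_lit 26) [] [] [] Cert.nil (Cert.rep (nat_lit 52) [] [] [] Cert.nil (Cert.rep (nat_lit 60) [] [] [] Cert.nil (Cert.rep (nat_lit 68) [nat_lit 16,nat_lit 68] [] [] (Cert.rep (nat_lit 96) [] [] [] (Cert.er (Cert.ro (nat_lit 0) [nat_lit 1,nat_lit 8,nat_lit 16] [nat_lit 8,nat_lit 9,nat_lit 16] [nat_lit 0,nat_lit 1,nat_lit 68,nat_lit 69,nat_lit 10,nat_lit 11,nat_lit 78,nat_lit 79] (Cert.ro (nat_lit 1) [nat_lit 1,nat_lit 2,nat_lit 14,nat_lit 16] [nat_lit 1,nat_lit 14,nat_lit 12,nat_lit 16] [nat_lit 0,nat_lit 1,nat_lit 2,nat_lit 3,nat_lit 39,nat_lit 38,nat_lit 36,nat_lit 37,nat_lit 10,nat_lit 11,nat_lit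 9,nat_lit 8,nat_lit 44,nat_lit 45,nat_lit 46,nat_lit 47] (Cert.kw (nat_lit 2) (nat_lit 0) (nat_lit 2) (nat_lit 1) )))) (Cert.rep (nat_lit 104) [] [] [] (Cert.er (Cert.ro (nat_lit 0) [nat_lit 1,nat_lit 8,nat_lit 16] [nat_lit 8,nat_lit 9,nat_lit 16] [nat_lit 0,nat_lit 1,nat_lit 68,nat_lit 69,nat_lit 10,nat_lit 11,nat_lit 78,nat_lit 79] (Cert.ro (nat_lit 1) [nat_lit 1,nat_lit 2,nat_lit 14,nat_lit 16] [nat_lit 1,nat_lit 14,nat_lit 12,nat_lit 16] [nat_lit 0,nat_lit 1,nat_lit 3,nat_lit 2,nat_lit 46,nat_lit 47,nat_lit 44,nat_lit 45,nat_lit 10,nat_lit 11,nat_lit 8,nat_lit 9,nat_lit 36,nat_lit 37,nat_lit 39,nat_lit 38] (Cert.kw (nat_lit 2) (nat_lit 0) (nat_lit 2) (nat_lit 1) )))) Cert.nil)) (Cert.rep (nat_lit 76) [nat_lit 16,nat_lit 70] [] [] (Cert.rep (nat_lit 96) [] [] [] (Cert.er (Cert.ro (nat_lit 0) [nat_lit 1,nat_lit 8,nat_lit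 16] [nat_lit 8,nat_lit 9,nat_lit 16] [nat_lit 0,nat_lit 1,nat_lit 76,nat_lit 77,nat_lit 10,nat_lit 11,nat_lit 71,nat_lit 70] (Cert.ro (nat_lit 1) [nat_lit 1,nat_lit 2,nat_lit 14,nat_lit 16] [nat_lit 1,nat_lit 14,nat_lit 12,nat_lit 16] [nat_lit 0,nat_lit 1,nat_lit 2,nat_lit 3,nat_lit 47,nat_lit 46,nat_lit 44,nat_lit 45,nat_lit 10,nat_lit 11,nat_lit 9,nat_lit 8,nat_lit 37,nat_lit 36,nat_lit 39,nat_lit 38] (Cert.lf (Leaf.st (nat_lit 2) (nat_lit 1) (nat_lit 1) (Leaf.cf (nat_lit 1))))))) (Cert.rep (nat_lit 104) [] [] [] (Cert.er (Cert.ro (nat_lit 0) [nat_lit 1,nat_lit 8,nat_lit 16] [nat_lit 8,nat_lit 9,nat_lit 16] [nat_lit 0,nat_lit 1,nat_lit 76,nat_lit 77,nat_lit 10,nat_lit 11,nat_lit 71,nat_lit 70] (Cert.ro (nat_lit 1) [nat_lit 1,nat_lit 2,nat_lit 14,nat_lit 16] [nat_lit 1,nat_lit 14,nat_lit 12,nat_lit 16] [nat_lit 0,nat_lit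 1,nat_lit 3,nat_lit 2,nat_lit 39,nat_lit 38,nat_lit 37,nat_lit 36,nat_lit 10,nat_lit 11,nat_lit 8,nat_lit 9,nat_lit 44,nat_lit 45,nat_lit 47,nat_lit 46] (Cert.lf (Leaf.st (nat_lit 2) (nat_lit 1) (nat_lit 1) (Leaf.cf (nat_lit 1))))))) Cert.nil)) (Cert.rep (nat_lit 84) [nat_lit 16,nat_lit 68] [] [] (Cert.rep (nat_lit 112) [] [] [] (Cert.er (Cert.ro (nat_lit 0) [nat_lit 1,nat_lit 8,nat_lit 16] [nat_lit 8,nat_lit 9,nat_lit 16] [nat_lit 0,nat_lit 1,nat_lit 84,nat_lit 85,nat_lit 10,nat_lit 11,nat_lit 94,nat_lit 95] (Cert.ro (nat_lit 1) [nat_lit 1,nat_lit 2,nat_lit 14,nat_lit 16] [nat_lit 1,nat_lit 14,nat_lit 12,nat_lit 16] [nat_lit 0,nat_lit 1,nat_lit 3,nat_lit 2,nat_lit 39,nat_lit 38,nat_lit 37,nat_lit 36,nat_lit 10,nat_lit 11,nat_lit 8,nat_lit 9,nat_lit 44,nat_lit 45,nat_lit 47,nat_lit 46] (Cert.lf (Leaf.st (nat_lit 2) (nat_lit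 1) (nat_lit 1) (Leaf.cf (nat_lit 1))))))) (Cert.rep (nat_lit 120) [] [] [] (Cert.er (Cert.ro (nat_lit 0) [nat_lit 1,nat_lit 8,nat_lit 16] [nat_lit 8,nat_lit 9,nat_lit 16] [nat_lit 0,nat_lit 1,nat_lit 84,nat_lit 85,nat_lit 10,nat_lit 11,nat_lit 94,nat_lit 95] (Cert.ro (nat_lit 1) [nat_lit 1,nat_lit 2,nat_lit 14,nat_lit 16] [nat_lit 1,nat_lit 14,nat_lit 12,nat_lit 16] [nat_lit 0,nat_lit 1,nat_lit 2,nat_lit 3,nat_lit 46,nat_lit 47,nat_lit 45,nat_lit 44,nat_lit 10,nat_lit 11,nat_lit 9,nat_lit 8,nat_lit 36,nat_lit 37,nat_lit 38,nat_lit 39] (Cert.lf (Leaf.st (nat_lit 2) (nat_lit 1) (nat_lit 1) (Leaf.cf (nat_lit 1))))))) Cert.nil)) (Cert.rep (nat_lit 92) [nat_lit 16,nat_lit 70] [] [] (Cert.rep (nat_lit 112) [] [] [] (Cert.er (Cert.ro (nat_lit 0) [nat_lit 1,nat_lit 8,nat_lit 16] [nat_lit 8,nat_lit 9,nat_lit 16] [nat_lit 0,nat_lit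 1,nat_lit 92,nat_lit 93,nat_lit 10,nat_lit 11,nat_lit 87,nat_lit 86] (Cert.ro (nat_lit 1) [nat_lit 1,nat_lit 2,nat_lit 14,nat_lit 16] [nat_lit 1,nat_lit 14,nat_lit 12,nat_lit 16] [nat_lit 0,nat_lit 1,nat_lit 3,nat_lit 2,nat_lit 47,nat_lit 46,nat_lit 45,nat_lit 44,nat_lit 10,nat_lit 11,nat_lit 8,nat_lit 9,nat_lit 37,nat_lit 36,nat_lit 38,nat_lit 39] (Cert.kw (nat_lit 2) (nat_lit 0) (nat_lit 2) (nat_lit 1) )))) (Cert.rep (nat_lit 120) [] [] [] (Cert.er (Cert.ro (nat_lit 0) [nat_lit 1,nat_lit 8,nat_lit 16] [nat_lit 8,nat_lit 9,nat_lit 16] [nat_lit 0,nat_lit 1,nat_lit 92,nat_lit 93,nat_lit 10,nat_lit 11,nat_lit 87,nat_lit 86] (Cert.ro (nat_lit 1) [nat_lit 1,nat_lit 2,nat_lit 14,nat_lit 16] [nat_lit 1,nat_lit 14,nat_lit 12,nat_lit 16] [nat_lit 0,nat_lit 1,nat_lit 2,nat_lit 3,nat_lit 39,nat_lit 38,nat_lit 36,nat_lit 37,nat_lit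 10,nat_lit 11,nat_lit 9,nat_lit 8,nat_lit 44,nat_lit 45,nat_lit 46,nat_lit 47] (Cert.kw (nat_lit 2) (nat_lit 0) (nat_lit 2) (nat_lit 1) )))) Cert.nil)) Cert.nil)))))))))) Cert.nil))
noncomputable def f127 : Cert :=
  (Cert.st (nat_lit 0) (nat_lit 10) (nat_lit 0) (Cert.sp (nat_lit 1) (Cert.lf (Leaf.pt (nat_lit 9) (nat_lit 1) [nat_lit 10])) (Cert.sp (nat_lit 26) (Cert.lf (Leaf.pt (nat_lit 9) (nat_lit 26) [nat_lit 10])) (Cert.st (nat_lit 0) (nat_lit 26) (nat_lit 0) (Cert.sp (nat_lit 28) (Cert.lf (Leaf.pt (nat_lit 9) (nat_lit 28) [nat_lit 12])) (Cert.st (nat_lit 0) (nat_lit 28) (nat_lit 0) (Cert.sp (nat_lit 32) (Cert.lf (Leaf.pt (nat_lit 12) (nat_lit 32) [nat_lit 26,nat_lit 196])) (Cert.st (nat_lit 0) (nat_lit 32) (nat_lit 0) (Cert.sp (nat_lit 68) (Cert.lf (Leaf.pt (nat_lit 9) (nat_lit 68) [nat_lit 10])) (Cert.st (nat_lit 0)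 (nat_lit 68) (nat_lit 0) (Cert.sp (nat_lit 92) (Cert.lf (Leaf.pt (nat_lit 9) (nat_lit 92) [nat_lit 10])) (Cert.st (nat_lit 0) (nat_lit 92) (nat_lit 0) (Cert.sp (nat_lit 258) (Cert.lf (Leaf.pt (nat_lit 12) (nat_lit 258) [nat_lit 26,nat_lit 586])) (Cert.st (nat_lit 0) (nat_lit 258) (nat_lit 0) (Cert.sp (nat_lit 584) (Cert.lf (Leaf.pt (nat_lit 19) (nat_lit 584) [nat_lit 24,nat_lit 192])) (Cert.st (nat_lit 0) (nat_lit 584) (nat_lit 0) (Cert.sp (nat_lit 652) (Cert.lf (Leaf.pt (nat_lit 12) (nat_lit 652) [nat_lit 28,nat_lit 256])) (Cert.st (nat_lit 0) (nat_lit 652) (nat_lit 0) (Cert.sp (nat_lit 653) (Cert.lf (Leaf.pt (nat_lit 12) (nat_lit 653) [nat_lit 28,nat_lit 256])) (Cert.st (nat_lit 0) (nat_lit 653) (nat_lit 0) (Cert.sp (nat_lit 1040) (Cert.lf (Leaf.pt (nat_lit 12) (nat_lit 1040) [nat_lit 70,nat_lit 158])) (Cert.st (nat_lit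 0) (nat_lit 1040) (nat_lit 0) (Cert.sp (nat_lit 1164) (Cert.lf (Leaf.pt (nat_lit 12) (nat_lit 1164) [nat_lit 94,nat_lit 158])) (Cert.st (nat_lit 0) (nat_lit 1164) (nat_lit 0) (Cert.sp (nat_lit 1560) (Cert.lf (Leaf.pt (nat_lit 12) (nat_lit 1560) [nat_lit 584,nat_lit 218])) (Cert.st (nat_lit 0) (nat_lit 1560) (nat_lit 0) (Cert.sp (nat_lit 1664) (Cert.lf (Leaf.pt (nat_lit 12) (nat_lit 1664) [nat_lit 652,nat_lit 194])) (Cert.st (nat_lit 0) (nat_lit 1664) (nat_lit 0) (Cert.nl (nat_lit 1) (Cert.sy (nat_lit 0) (Cert.s2 (nat_lit 0) (nat_lit 68) (Cert.o1 (nat_lit 0) (nat_lit 68) (Cert.fu (nat_lit 10) (nat_lit 1) (nat_lit 0) (nat_lit 0) [] [nat_lit 68,nat_lit 1,nat_lit 16,nat_lit 32] [] [] [] [nat_lit 1] [[nat_lit 1]] [[nat_lit 68]] [Ins.fr [nat_lit 0],Ins.ts (nat_lit 3) [nat_lit 0] [],Ins.ts (nat_lit 4) [nat_lit 0] [nat_lit 0,nat_lit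 0,nat_lit 0],Ins.ts (nat_lit 1) [nat_lit 0] [],Ins.fr [nat_lit 1],Ins.ts (nat_lit 3) [nat_lit 0] [],Ins.ts (nat_lit 0) [nat_lit 0,nat_lit 0] [],Ins.ts (nat_lit 1) [nat_lit 0] [],Ins.ts (nat_lit 1) [nat_lit 0,nat_lit 1] [],Ins.fr [nat_lit 2],Ins.ts (nat_lit 2) [nat_lit 0] [],Ins.ts (nat_lit 0) [nat_lit 0,nat_lit 0] [],Ins.ts (nat_lit 0) [nat_lit 1,nat_lit 0] [nat_lit 0,nat_lit 1],Ins.ts (nat_lit 1) [nat_lit 0] [],Ins.ts (nat_lit 1) [nat_lit 0,nat_lit 3] [],Ins.ts (nat_lit 1) [nat_lit 0,nat_lit 2,nat_lit 3] [],Ins.ts (nat_lit 1) [nat_lit 0,nat_lit 1,nat_lit 3] [],Ins.ts (nat_lit 1) [nat_lit 0,nat_lit 1,nat_lit 2,nat_lit 3] [],Ins.fr [nat_lit 1,nat_lit 3],Ins.ts (nat_lit 0) [nat_lit 0,nat_lit 0] [],Ins.ts (nat_lit 0) [nat_lit 1,nat_lit 2,nat_lit 0] [nat_lit 0,nat_lit 1]] [] (Cert.rep (nat_lit 10) [] [nat_lit 68,nat_lit 36,nat_lit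 16,nat_lit 8,nat_lit 2,nat_lit 1] [nat_lit 1024,nat_lit 512,nat_lit 256,nat_lit 128,nat_lit 4] (Cert.rep (nat_lit 1) [nat_lit 2,nat_lit 16,nat_lit 36,nat_lit 68] [] [] (Cert.rep (nat_lit 26) [nat_lit 2,nat_lit 68] [] [] (Cert.rep (nat_lit 76) [] [] [] Cert.nil (Cert.rep (nat_lit 78) [] [] [] Cert.nil (Cert.rep (nat_lit 84) [] [] [] Cert.nil (Cert.rep (nat_lit 86) [] [] [] Cert.nil Cert.nil)))) (Cert.rep (nat_lit 60) [] [] [] Cert.nil (Cert.rep (nat_lit 68) [] [] [] (Cert.rep (nat_lit 16) [] [] [] Cert.nil (Cert.rep (nat_lit 17) [] [] [] Cert.nil (Cert.rep (nat_lit 84) [] [] [] Cert.nil (Cert.rep (nat_lit 85) [] [] [] Cert.nil Cert.nil)))) (Cert.rep (nat_lit 92) [] [] [] (Cert.rep (nat_lit 16) [] [] [] Cert.nil (Cert.rep (nat_lit 17) [] [] [] Cert.nil (Cert.rep (nat_lit 76) [] [] [] Cert.nil (Cert.rep (nat_lit 77) [] [] []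 Cert.nil Cert.nil)))) Cert.nil)))) Cert.nil) Cert.nil))) f127_0)))))))))))))))))))))))))))))))
theorem fin127 : finOK DB PT 88 t88 127 t127 (nat_lit 0xf0000000f0000000f0000000f0000000000000f0000000f0f0000000f0000000f0000000f0000000000000f0000000f0f0000000f0000000f0000000f000000000c0000000c000000300000003000000000c0000000c000000c0000000c00000003000000030000000030000000300000c0000000c00000000300000003000000000000000000000000c3000000c3000003c0000003c00000000000000000000000000000000000000330000003300000003300000033000000000000000000f0000000f0000000f00c0cf0f00303f000000000000000000300000c0300000c00000000000000000000000000000000f00000f0f0f0f0f0fcfc0303fc03fc03) f127 = true := by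
  decide +kernel
noncomputable def f133_0 : Cert :=
  Cert.s2 (nat_lit 0) (nat_lit 92) (Cert.o1 (nat_lit 0) (nat_lit 92) (Cert.fu (nat_lit 10) (nat_lit 1) (nat_lit 0) (nat_lit 0) [] [nat_lit 92,nat_lit 1,nat_lit 16,nat_lit 32] [] [] [] [nat_lit 1] [[nat_lit 1]] [[nat_lit 92]] [Ins.fr [nat_lit 0],Ins.ts (nat_lit 3) [nat_lit 0] [],Ins.ts (nat_lit 4) [nat_lit 0] [nat_lit 0,nat_lit 0,nat_lit 0],Ins.ts (nat_lit 1) [nat_lit 0] [],Ins.fr [nat_lit 1],Ins.ts (nat_lit 3) [nat_lit 0] [],Ins.ts (nat_lit 0) [nat_lit 0,nat_lit 0] [],Ins.ts (nat_lit 1) [nat_lit 0] [],Ins.ts (nat_lit 4) [nat_lit 0] [nat_lit 0,nat_lit 0,nat_lit 1],Ins.ts (nat_lit 1) [nat_lit 0,nat_lit 1] [],Ins.fr [nat_lit 2],Ins.ts (nat_lit 2) [nat_lit 0] [],Ins.ts (nat_lit 0) [nat_lit 0,nat_lit 0] [],Ins.ts (nat_lit 0) [nat_lit 1,nat_lit 0] [nat_lit 0,nat_lit 1],Ins.ts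 (nat_lit 1) [nat_lit 0] [],Ins.ts (nat_lit 4) [nat_lit 0,nat_lit 2,nat_lit 3] [nat_lit 0,nat_lit 0,nat_lit 2],Ins.ts (nat_lit 4) [nat_lit 0,nat_lit 1,nat_lit 2,nat_lit 3] [nat_lit 0,nat_lit 0,nat_lit 2],Ins.ts (nat_lit 1) [nat_lit 0,nat_lit 2,nat_lit 3] [],Ins.ts (nat_lit 1) [nat_lit 0,nat_lit 1,nat_lit 2,nat_lit 3] [],Ins.fr [nat_lit 1,nat_lit 3],Ins.ts (nat_lit 0) [nat_lit 0,nat_lit 0] []] [(nat_lit 2,nat_lit 0),(nat_lit 3,nat_lit 0)] (Cert.rep (nat_lit 10) [] [nat_lit 68,nat_lit 36,nat_lit 16,nat_lit 8,nat_lit 2,nat_lit 1] [nat_lit 1024,nat_lit 512,nat_lit 256,nat_lit 128,nat_lit 4] (Cert.rep (nat_lit 1) [nat_lit 2,nat_lit 16,nat_lit 36,nat_lit 68] [] [] (Cert.rep (nat_lit 26) [] [] [] Cert.nil (Cert.rep (nat_lit 60) [] [] [] Cert.nil (Cert.rep (nat_lit 92) [] [] [] (Cert.rep (nat_lit 16) [] [] [] Cert.nil (Cert.rep (nat_lit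 17) [] [] [] Cert.nil (Cert.rep (nat_lit 76) [] [] [] Cert.nil (Cert.rep (nat_lit 77) [] [] [] Cert.nil Cert.nil)))) Cert.nil))) Cert.nil) Cert.nil))) (Cert.root (nat_lit 32) [] [nat_lit 8,nat_lit 4] [nat_lit 0,nat_lit 1,nat_lit 2,nat_lit 3,nat_lit 4] [Ins.fr [nat_lit 0],Ins.ts (nat_lit 0) [nat_lit 0,nat_lit 0] [],Ins.ts (nat_lit 1) [nat_lit 0] [],Ins.ts (nat_lit 1) [nat_lit 0,nat_lit 1] [],Ins.fr [nat_lit 1],Ins.ts (nat_lit 1) [nat_lit 0,nat_lit 0] [],Ins.ts (nat_lit 0) [nat_lit 1,nat_lit 0,nat_lit 1] [nat_lit 0,nat_lit 0,nat_lit 0],Ins.ts (nat_lit 1) [nat_lit 0,nat_lit 0,nat_lit 0,nat_lit 0] [],Ins.df [nat_lit 0,nat_lit 0],Ins.df [nat_lit 0,nat_lit 0]] (Cert.rep (nat_lit 10) [nat_lit 2,nat_lit 16,nat_lit 36,nat_lit 68] [nat_lit 68,nat_lit 36,nat_lit 16,nat_lit 8,nat_lit 2,nat_lit 1] [nat_lit 1024,nat_lit 512,nat_lit 256,nat_lit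 128,nat_lit 4] (Cert.rep (nat_lit 1) [] [] [] Cert.nil (Cert.rep (nat_lit 11) [] [] [] Cert.nil (Cert.rep (nat_lit 16) [] [] [] Cert.nil (Cert.rep (nat_lit 26) [] [] [] Cert.nil (Cert.rep (nat_lit 52) [] [] [] Cert.nil (Cert.rep (nat_lit 60) [] [] [] Cert.nil (Cert.rep (nat_lit 68) [nat_lit 16,nat_lit 68] [] [] (Cert.rep (nat_lit 96) [] [] [] (Cert.er (Cert.ro (nat_lit 0) [nat_lit 1,nat_lit 8,nat_lit 16] [nat_lit 8,nat_lit 9,nat_lit 16] [nat_lit 0,nat_lit 1,nat_lit 68,nat_lit 69,nat_lit 10,nat_lit 11,nat_lit 78,nat_lit 79] (Cert.ro (nat_lit 1) [nat_lit 1,nat_lit 2,nat_lit 14,nat_lit 16] [nat_lit 1,nat_lit 14,nat_lit 12,nat_lit 16] [nat_lit 0,nat_lit 1,nat_lit 2,nat_lit 3,nat_lit 39,nat_lit 38,nat_lit 36,nat_lit 37,nat_lit 10,nat_lit 11,nat_lit 9,nat_lit 8,nat_lit 44,nat_lit 45,nat_lit 46,nat_lit 47] (Cert.kw (nat_lit 2)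 (nat_lit 0) (nat_lit 2) (nat_lit 1) )))) (Cert.rep (nat_lit 104) [] [] [] (Cert.er (Cert.ro (nat_lit 0) [nat_lit 1,nat_lit 8,nat_lit 16] [nat_lit 8,nat_lit 9,nat_lit 16] [nat_lit 0,nat_lit 1,nat_lit 68,nat_lit 69,nat_lit 10,nat_lit 11,nat_lit 78,nat_lit 79] (Cert.ro (nat_lit 1) [nat_lit 1,nat_lit 2,nat_lit 14,nat_lit 16] [nat_lit 1,nat_lit 14,nat_lit 12,nat_lit 16] [nat_lit 0,nat_lit 1,nat_lit 3,nat_lit 2,nat_lit 46,nat_lit 47,nat_lit 44,nat_lit 45,nat_lit 10,nat_lit 11,nat_lit 8,nat_lit 9,nat_lit 36,nat_lit 37,nat_lit 39,nat_lit 38] (Cert.kw (nat_lit 2) (nat_lit 0) (nat_lit 2) (nat_lit 1) )))) Cert.nil)) (Cert.rep (nat_lit 76) [nat_lit 16,nat_lit 70] [] [] (Cert.rep (nat_lit 96) [] [] [] (Cert.er (Cert.ro (nat_lit 0) [nat_lit 1,nat_lit 8,nat_lit 16] [nat_lit 8,nat_lit 9,nat_lit 16] [nat_lit 0,nat_lit 1,nat_lit 76,nat_lit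 77,nat_lit 10,nat_lit 11,nat_lit 71,nat_lit 70] (Cert.ro (nat_lit 1) [nat_lit 1,nat_lit 2,nat_lit 14,nat_lit 16] [nat_lit 1,nat_lit 14,nat_lit 12,nat_lit 16] [nat_lit 0,nat_lit 1,nat_lit 2,nat_lit 3,nat_lit 47,nat_lit 46,nat_lit 44,nat_lit 45,nat_lit 10,nat_lit 11,nat_lit 9,nat_lit 8,nat_lit 37,nat_lit 36,nat_lit 39,nat_lit 38] (Cert.lf (Leaf.st (nat_lit 2) (nat_lit 1) (nat_lit 1) (Leaf.cf (nat_lit 1))))))) (Cert.rep (nat_lit 104) [] [] [] (Cert.er (Cert.ro (nat_lit 0) [nat_lit 1,nat_lit 8,nat_lit 16] [nat_lit 8,nat_lit 9,nat_lit 16] [nat_lit 0,nat_lit 1,nat_lit 76,nat_lit 77,nat_lit 10,nat_lit 11,nat_lit 71,nat_lit 70] (Cert.ro (nat_lit 1) [nat_lit 1,nat_lit 2,nat_lit 14,nat_lit 16] [nat_lit 1,nat_lit 14,nat_lit 12,nat_lit 16] [nat_lit 0,nat_lit 1,nat_lit 3,nat_lit 2,nat_lit 39,nat_lit 38,nat_lit 37,nat_lit 36,nat_lit 10,nat_lit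 11,nat_lit 8,nat_lit 9,nat_lit 44,nat_lit 45,nat_lit 47,nat_lit 46] (Cert.lf (Leaf.st (nat_lit 2) (nat_lit 1) (nat_lit 1) (Leaf.cf (nat_lit 1))))))) Cert.nil)) (Cert.rep (nat_lit 84) [nat_lit 16,nat_lit 68] [] [] (Cert.rep (nat_lit 112) [] [] [] (Cert.er (Cert.ro (nat_lit 0) [nat_lit 1,nat_lit 8,nat_lit 16] [nat_lit 8,nat_lit 9,nat_lit 16] [nat_lit 0,nat_lit 1,nat_lit 84,nat_lit 85,nat_lit 10,nat_lit 11,nat_lit 94,nat_lit 95] (Cert.ro (nat_lit 1) [nat_lit 1,nat_lit 2,nat_lit 14,nat_lit 16] [nat_lit 1,nat_lit 14,nat_lit 12,nat_lit 16] [nat_lit 0,nat_lit 1,nat_lit 3,nat_lit 2,nat_lit 39,nat_lit 38,nat_lit 37,nat_lit 36,nat_lit 10,nat_lit 11,nat_lit 8,nat_lit 9,nat_lit 44,nat_lit 45,nat_lit 47,nat_lit 46] (Cert.lf (Leaf.st (nat_lit 2) (nat_lit 1) (nat_lit 1) (Leaf.cf (nat_lit 1))))))) (Cert.rep (nat_lit 120) [] [] [] (Cert.er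 (Cert.ro (nat_lit 0) [nat_lit 1,nat_lit 8,nat_lit 16] [nat_lit 8,nat_lit 9,nat_lit 16] [nat_lit 0,nat_lit 1,nat_lit 84,nat_lit 85,nat_lit 10,nat_lit 11,nat_lit 94,nat_lit 95] (Cert.ro (nat_lit 1) [nat_lit 1,nat_lit 2,nat_lit 14,nat_lit 16] [nat_lit 1,nat_lit 14,nat_lit 12,nat_lit 16] [nat_lit 0,nat_lit 1,nat_lit 2,nat_lit 3,nat_lit 46,nat_lit 47,nat_lit 45,nat_lit 44,nat_lit 10,nat_lit 11,nat_lit 9,nat_lit 8,nat_lit 36,nat_lit 37,nat_lit 38,nat_lit 39] (Cert.lf (Leaf.st (nat_lit 2) (nat_lit 1) (nat_lit 1) (Leaf.cf (nat_lit 1))))))) Cert.nil)) (Cert.rep (nat_lit 92) [nat_lit 16,nat_lit 70] [] [] (Cert.rep (nat_lit 112) [] [] [] (Cert.er (Cert.ro (nat_lit 0) [nat_lit 1,nat_lit 8,nat_lit 16] [nat_lit 8,nat_lit 9,nat_lit 16] [nat_lit 0,nat_lit 1,nat_lit 92,nat_lit 93,nat_lit 10,nat_lit 11,nat_lit 87,nat_lit 86] (Cert.ro (nat_lit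 1) [nat_lit 1,nat_lit 2,nat_lit 14,nat_lit 16] [nat_lit 1,nat_lit 14,nat_lit 12,nat_lit 16] [nat_lit 0,nat_lit 1,nat_lit 3,nat_lit 2,nat_lit 47,nat_lit 46,nat_lit 45,nat_lit 44,nat_lit 10,nat_lit 11,nat_lit 8,nat_lit 9,nat_lit 37,nat_lit 36,nat_lit 38,nat_lit 39] (Cert.kw (nat_lit 2) (nat_lit 0) (nat_lit 2) (nat_lit 1) )))) (Cert.rep (nat_lit 120) [] [] [] (Cert.er (Cert.ro (nat_lit 0) [nat_lit 1,nat_lit 8,nat_lit 16] [nat_lit 8,nat_lit 9,nat_lit 16] [nat_lit 0,nat_lit 1,nat_lit 92,nat_lit 93,nat_lit 10,nat_lit 11,nat_lit 87,nat_lit 86] (Cert.ro (nat_lit 1) [nat_lit 1,nat_lit 2,nat_lit 14,nat_lit 16] [nat_lit 1,nat_lit 14,nat_lit 12,nat_lit 16] [nat_lit 0,nat_lit 1,nat_lit 2,nat_lit 3,nat_lit 39,nat_lit 38,nat_lit 36,nat_lit 37,nat_lit 10,nat_lit 11,nat_lit 9,nat_lit 8,nat_lit 44,nat_lit 45,nat_lit 46,nat_lit 47] (Cert.kw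 (nat_lit 2) (nat_lit 0) (nat_lit 2) (nat_lit 1) )))) Cert.nil)) Cert.nil)))))))))) Cert.nil))
noncomputable def f133 : Cert :=
  (Cert.st (nat_lit 0) (nat_lit 10) (nat_lit 0) (Cert.sp (nat_lit 1) (Cert.lf (Leaf.pt (nat_lit 9) (nat_lit 1) [nat_lit 10])) (Cert.sp (nat_lit 26) (Cert.lf (Leaf.pt (nat_lit 9) (nat_lit 26) [nat_lit 10])) (Cert.st (nat_lit 0) (nat_lit 26) (nat_lit 0) (Cert.sp (nat_lit 28) (Cert.lf (Leaf.pt (nat_lit 9) (nat_lit 28) [nat_lit 12])) (Cert.st (nat_lit 0) (nat_lit 28) (nat_lit 0) (Cert.sp (nat_lit 32) (Cert.lf (Leaf.pt (nat_lit 12) (nat_lit 32) [nat_lit 26,nat_lit 196])) (Cert.st (nat_lit 0) (nat_lit 32) (nat_lit 0) (Cert.sp (nat_lit 68) (Cert.lf (Leaf.pt (nat_lit 9) (nat_lit 68) [nat_lit 10])) (Cert.st (nat_lit 0) (nat_lit 68) (nat_lit 0) (Cert.sp (nat_lit 92) (Cert.lf (Leaf.pt (nat_lit 9) (nat_lit 92)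 [nat_lit 10])) (Cert.st (nat_lit 0) (nat_lit 92) (nat_lit 0) (Cert.sp (nat_lit 258) (Cert.lf (Leaf.pt (nat_lit 12) (nat_lit 258) [nat_lit 26,nat_lit 586])) (Cert.st (nat_lit 0) (nat_lit 258) (nat_lit 0) (Cert.sp (nat_lit 584) (Cert.lf (Leaf.pt (nat_lit 19) (nat_lit 584) [nat_lit 24,nat_lit 192])) (Cert.st (nat_lit 0) (nat_lit 584) (nat_lit 0) (Cert.sp (nat_lit 652) (Cert.lf (Leaf.pt (nat_lit 12) (nat_lit 652) [nat_lit 28,nat_lit 256])) (Cert.st (nat_lit 0) (nat_lit 652) (nat_lit 0) (Cert.sp (nat_lit 1552) (Cert.lf (Leaf.pt (nat_lit 12) (nat_lit 1552) [nat_lit 280,nat_lit 592])) (Cert.st (nat_lit 0) (nat_lit 1552) (nat_lit 0) (Cert.sp (nat_lit 1672) (Cert.lf (Leaf.pt (nat_lit 12) (nat_lit 1672) [nat_lit 258,nat_lit 596])) (Cert.st (nat_lit 0) (nat_lit 1672) (nat_lit 0) (Cert.nl (nat_lit 1) (Cert.sy (nat_lit 0) (Cert.s2 (nat_lit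 0) (nat_lit 68) (Cert.o1 (nat_lit 0) (nat_lit 68) (Cert.fu (nat_lit 10) (nat_lit 1) (nat_lit 0) (nat_lit 0) [] [nat_lit 68,nat_lit 1,nat_lit 16,nat_lit 32] [] [] [] [nat_lit 1] [[nat_lit 1]] [[nat_lit 68]] [Ins.fr [nat_lit 0],Ins.ts (nat_lit 3) [nat_lit 0] [],Ins.ts (nat_lit 4) [nat_lit 0] [nat_lit 0,nat_lit 0,nat_lit 0],Ins.ts (nat_lit 1) [nat_lit 0] [],Ins.fr [nat_lit 1],Ins.ts (nat_lit 3) [nat_lit 0] [],Ins.ts (nat_lit 0) [nat_lit 0,nat_lit 0] [],Ins.ts (nat_lit 1) [nat_lit 0] [],Ins.ts (nat_lit 1) [nat_lit 0,nat_lit 1] [],Ins.fr [nat_lit 2],Ins.ts (nat_lit 2) [nat_lit 0] [],Ins.ts (nat_lit 0) [nat_lit 0,nat_lit 0] [],Ins.ts (nat_lit 0) [nat_lit 1,nat_lit 0] [nat_lit 0,nat_lit 1],Ins.ts (nat_lit 1) [nat_lit 0] [],Ins.ts (nat_lit 1) [nat_lit 0,nat_lit 3] [],Ins.ts (nat_lit 1) [nat_lit 0,nat_lit 2,nat_lit 3] [],Ins.ts (nat_lit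 1) [nat_lit 0,nat_lit 1,nat_lit 3] [],Ins.ts (nat_lit 1) [nat_lit 0,nat_lit 1,nat_lit 2,nat_lit 3] [],Ins.fr [nat_lit 1,nat_lit 3],Ins.ts (nat_lit 0) [nat_lit 0,nat_lit 0] [],Ins.ts (nat_lit 0) [nat_lit 1,nat_lit 2,nat_lit 0] [nat_lit 0,nat_lit 1]] [] (Cert.rep (nat_lit 10) [] [nat_lit 68,nat_lit 36,nat_lit 16,nat_lit 8,nat_lit 2,nat_lit 1] [nat_lit 1024,nat_lit 512,nat_lit 256,nat_lit 128,nat_lit 4] (Cert.rep (nat_lit 1) [nat_lit 2,nat_lit 16,nat_lit 36,nat_lit 68] [] [] (Cert.rep (nat_lit 26) [nat_lit 2,nat_lit 68] [] [] (Cert.rep (nat_lit 76) [] [] [] Cert.nil (Cert.rep (nat_lit 78) [] [] [] Cert.nil (Cert.rep (nat_lit 84) [] [] [] Cert.nil (Cert.rep (nat_lit 86) [] [] [] Cert.nil Cert.nil)))) (Cert.rep (nat_lit 60) [] [] [] Cert.nil (Cert.rep (nat_lit 68) [] [] [] (Cert.rep (nat_lit 16) [] [] [] Cert.nil (Cert.rep (nat_lit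 17) [] [] [] Cert.nil (Cert.rep (nat_lit 84) [] [] [] Cert.nil (Cert.rep (nat_lit 85) [] [] [] Cert.nil Cert.nil)))) (Cert.rep (nat_lit 92) [] [] [] (Cert.rep (nat_lit 16) [] [] [] Cert.nil (Cert.rep (nat_lit 17) [] [] [] Cert.nil (Cert.rep (nat_lit 76) [] [] [] Cert.nil (Cert.rep (nat_lit 77) [] [] [] Cert.nil Cert.nil)))) Cert.nil)))) Cert.nil) Cert.nil))) f133_0)))))))))))))))))))))))))
theorem fin133 : finOK DB PT 88 t88 133 t133 (nat_lit 0xf0000000f0000000f0000000f000000000f0000000f00000f0000000f0000000f0000000f000000000f0000000f00000f0000000f0000000f0000000f00000000000000000000000000000000000000000000000000000000000000000000000000000000000000000000000000000000000000000000000000000000000000000000000000000000c3000000c3000003c0000003c00000000000000000000000000000000000000330000003300000003300000033000000000000000000f0000000f0000000f00c0cf0f00303f000000000000000000300000c0300000c00000000000000000000000000000000f00000f0f0f0f0f0fcfc0303fc03fc03)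 f133 = true := by
  decide +kernel
noncomputable def f134_0 : Cert :=
  Cert.s2 (nat_lit 0) (nat_lit 92) (Cert.o1 (nat_lit 0) (nat_lit 92) (Cert.fu (nat_lit 10) (nat_lit 1) (nat_lit 0) (nat_lit 0) [] [nat_lit 92,nat_lit 1,nat_lit 16,nat_lit 32,nat_lit 256] [] [] [] [nat_lit 1] [[nat_lit 1]] [[nat_lit 92]] [Ins.fr [nat_lit 0],Ins.ts (nat_lit 3) [nat_lit 0] [],Ins.ts (nat_lit 4) [nat_lit 0] [nat_lit 0,nat_lit 0,nat_lit 0],Ins.ts (nat_lit 1) [nat_lit 0] [],Ins.fr [nat_lit 1],Ins.ts (nat_lit 3) [nat_lit 0] [],Ins.ts (nat_lit 0) [nat_lit 0,nat_lit 0] [],Ins.ts (nat_lit 1) [nat_lit 0] [],Ins.ts (nat_lit 4) [nat_lit 0] [nat_lit 0,nat_lit 0,nat_lit 1],Ins.ts (nat_lit 1) [nat_lit 0,nat_lit 1] [],Ins.fr [nat_lit 2],Ins.ts (nat_lit 2) [nat_lit 0] [],Ins.ts (nat_lit 0) [nat_lit 0,nat_lit 0] [],Ins.ts (nat_lit 0) [nat_lit 1,nat_lit 0]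 [nat_lit 0,nat_lit 1],Ins.ts (nat_lit 1) [nat_lit 0] [],Ins.ts (nat_lit 4) [nat_lit 0,nat_lit 2,nat_lit 3] [nat_lit 0,nat_lit 0,nat_lit 2],Ins.ts (nat_lit 4) [nat_lit 0,nat_lit 1,nat_lit 2,nat_lit 3] [nat_lit 0,nat_lit 0,nat_lit 2],Ins.ts (nat_lit 1) [nat_lit 0,nat_lit 2,nat_lit 3] [],Ins.ts (nat_lit 1) [nat_lit 0,nat_lit 1,nat_lit 2,nat_lit 3] [],Ins.fr [nat_lit 1,nat_lit 3],Ins.ts (nat_lit 0) [nat_lit 0,nat_lit 0] [],Ins.fr [nat_lit 1],Ins.ts (nat_lit 0) [nat_lit 0,nat_lit 0] [nat_lit 3]] [(nat_lit 2,nat_lit 0),(nat_lit 3,nat_lit 0)] (Cert.rep (nat_lit 10) [] [nat_lit 68,nat_lit 36,nat_lit 16,nat_lit 8,nat_lit 2,nat_lit 1] [nat_lit 1024,nat_lit 512,nat_lit 256,nat_lit 128,nat_lit 4] (Cert.rep (nat_lit 1) [nat_lit 2,nat_lit 16,nat_lit 36,nat_lit 68] [] [] (Cert.rep (nat_lit 26) [] [] [] Cert.nil (Cert.rep (nat_lit 60) []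 [] [] Cert.nil (Cert.rep (nat_lit 92) [] [] [] (Cert.rep (nat_lit 16) [nat_lit 10] [] [] (Cert.rep (nat_lit 1185) [] [] [] Cert.nil (Cert.rep (nat_lit 1184) [] [] [] Cert.nil (Cert.rep (nat_lit 1211) [] [] [] Cert.nil (Cert.rep (nat_lit 1210) [] [] [] Cert.nil Cert.nil)))) (Cert.rep (nat_lit 17) [nat_lit 10] [] [] (Cert.rep (nat_lit 1185) [] [] [] Cert.nil (Cert.rep (nat_lit 1184) [] [] [] Cert.nil (Cert.rep (nat_lit 1211) [] [] [] Cert.nil (Cert.rep (nat_lit 1210) [] [] [] Cert.nil Cert.nil)))) (Cert.rep (nat_lit 76) [nat_lit 10] [] [] (Cert.rep (nat_lit 1185) [] [] [] Cert.nil (Cert.rep (nat_lit 1184) [] [] [] Cert.nil (Cert.rep (nat_lit 1211) [] [] [] Cert.nil (Cert.rep (nat_lit 1210) [] [] [] Cert.nil Cert.nil)))) (Cert.rep (nat_lit 77) [nat_lit 10] [] [] (Cert.rep (nat_lit 1185) [] [] [] Cert.nil (Cert.rep (nat_lit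 1184) [] [] [] Cert.nil (Cert.rep (nat_lit 1211) [] [] [] Cert.nil (Cert.rep (nat_lit 1210) [] [] [] Cert.nil Cert.nil)))) Cert.nil)))) Cert.nil))) Cert.nil) Cert.nil))) (Cert.root (nat_lit 32) [] [nat_lit 8,nat_lit 4] [nat_lit 0,nat_lit 1,nat_lit 2,nat_lit 3,nat_lit 4] [Ins.fr [nat_lit 0],Ins.ts (nat_lit 0) [nat_lit 0,nat_lit 0] [],Ins.ts (nat_lit 1) [nat_lit 0] [],Ins.ts (nat_lit 1) [nat_lit 0,nat_lit 1] [],Ins.fr [nat_lit 1],Ins.ts (nat_lit 1) [nat_lit 0,nat_lit 0] [],Ins.ts (nat_lit 0) [nat_lit 1,nat_lit 0,nat_lit 1] [nat_lit 0,nat_lit 0,nat_lit 0],Ins.ts (nat_lit 1) [nat_lit 0,nat_lit 0,nat_lit 0,nat_lit 0] [],Ins.df [nat_lit 0,nat_lit 0],Ins.df [nat_lit 0,nat_lit 0]] (Cert.rep (nat_lit 10) [nat_lit 2,nat_lit 16,nat_lit 36,nat_lit 68] [nat_lit 68,nat_lit 36,nat_lit 16,nat_lit 8,nat_lit 2,nat_lit 1] [nat_lit 1024,nat_lit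 512,nat_lit 256,nat_lit 128,nat_lit 4] (Cert.rep (nat_lit 1) [] [] [] Cert.nil (Cert.rep (nat_lit 11) [] [] [] Cert.nil (Cert.rep (nat_lit 16) [] [] [] Cert.nil (Cert.rep (nat_lit 26) [] [] [] Cert.nil (Cert.rep (nat_lit 52) [] [] [] Cert.nil (Cert.rep (nat_lit 60) [] [] [] Cert.nil (Cert.rep (nat_lit 68) [nat_lit 16,nat_lit 68] [] [] (Cert.rep (nat_lit 96) [] [] [] (Cert.er (Cert.ro (nat_lit 0) [nat_lit 1,nat_lit 8,nat_lit 16] [nat_lit 8,nat_lit 9,nat_lit 16] [nat_lit 0,nat_lit 1,nat_lit 68,nat_lit 69,nat_lit 10,nat_lit 11,nat_lit 78,nat_lit 79] (Cert.ro (nat_lit 1) [nat_lit 1,nat_lit 2,nat_lit 14,nat_lit 16] [nat_lit 1,nat_lit 14,nat_lit 12,nat_lit 16] [nat_lit 0,nat_lit 1,nat_lit 2,nat_lit 3,nat_lit 39,nat_lit 38,nat_lit 36,nat_lit 37,nat_lit 10,nat_lit 11,nat_lit 9,nat_lit 8,nat_lit 44,nat_lit 45,nat_lit 46,nat_lit 47]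 (Cert.kw (nat_lit 2) (nat_lit 0) (nat_lit 2) (nat_lit 1) )))) (Cert.rep (nat_lit 104) [] [] [] (Cert.er (Cert.ro (nat_lit 0) [nat_lit 1,nat_lit 8,nat_lit 16] [nat_lit 8,nat_lit 9,nat_lit 16] [nat_lit 0,nat_lit 1,nat_lit 68,nat_lit 69,nat_lit 10,nat_lit 11,nat_lit 78,nat_lit 79] (Cert.ro (nat_lit 1) [nat_lit 1,nat_lit 2,nat_lit 14,nat_lit 16] [nat_lit 1,nat_lit 14,nat_lit 12,nat_lit 16] [nat_lit 0,nat_lit 1,nat_lit 3,nat_lit 2,nat_lit 46,nat_lit 47,nat_lit 44,nat_lit 45,nat_lit 10,nat_lit 11,nat_lit 8,nat_lit 9,nat_lit 36,nat_lit 37,nat_lit 39,nat_lit 38] (Cert.kw (nat_lit 2) (nat_lit 0) (nat_lit 2) (nat_lit 1) )))) Cert.nil)) (Cert.rep (nat_lit 76) [nat_lit 16,nat_lit 70] [] [] (Cert.rep (nat_lit 96) [] [] [] (Cert.er (Cert.ro (nat_lit 0) [nat_lit 1,nat_lit 8,nat_lit 16] [nat_lit 8,nat_lit 9,nat_lit 16] [nat_lit 0,nat_lit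 1,nat_lit 76,nat_lit 77,nat_lit 10,nat_lit 11,nat_lit 71,nat_lit 70] (Cert.ro (nat_lit 1) [nat_lit 1,nat_lit 2,nat_lit 14,nat_lit 16] [nat_lit 1,nat_lit 14,nat_lit 12,nat_lit 16] [nat_lit 0,nat_lit 1,nat_lit 2,nat_lit 3,nat_lit 47,nat_lit 46,nat_lit 44,nat_lit 45,nat_lit 10,nat_lit 11,nat_lit 9,nat_lit 8,nat_lit 37,nat_lit 36,nat_lit 39,nat_lit 38] (Cert.lf (Leaf.st (nat_lit 2) (nat_lit 1) (nat_lit 1) (Leaf.cf (nat_lit 1))))))) (Cert.rep (nat_lit 104) [] [] [] (Cert.er (Cert.ro (nat_lit 0) [nat_lit 1,nat_lit 8,nat_lit 16] [nat_lit 8,nat_lit 9,nat_lit 16] [nat_lit 0,nat_lit 1,nat_lit 76,nat_lit 77,nat_lit 10,nat_lit 11,nat_lit 71,nat_lit 70] (Cert.ro (nat_lit 1) [nat_lit 1,nat_lit 2,nat_lit 14,nat_lit 16] [nat_lit 1,nat_lit 14,nat_lit 12,nat_lit 16] [nat_lit 0,nat_lit 1,nat_lit 3,nat_lit 2,nat_lit 39,nat_lit 38,nat_lit 37,nat_lit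 36,nat_lit 10,nat_lit 11,nat_lit 8,nat_lit 9,nat_lit 44,nat_lit 45,nat_lit 47,nat_lit 46] (Cert.lf (Leaf.st (nat_lit 2) (nat_lit 1) (nat_lit 1) (Leaf.cf (nat_lit 1))))))) Cert.nil)) (Cert.rep (nat_lit 84) [nat_lit 16,nat_lit 68] [] [] (Cert.rep (nat_lit 112) [] [] [] (Cert.er (Cert.ro (nat_lit 0) [nat_lit 1,nat_lit 8,nat_lit 16] [nat_lit 8,nat_lit 9,nat_lit 16] [nat_lit 0,nat_lit 1,nat_lit 84,nat_lit 85,nat_lit 10,nat_lit 11,nat_lit 94,nat_lit 95] (Cert.ro (nat_lit 1) [nat_lit 1,nat_lit 2,nat_lit 14,nat_lit 16] [nat_lit 1,nat_lit 14,nat_lit 12,nat_lit 16] [nat_lit 0,nat_lit 1,nat_lit 3,nat_lit 2,nat_lit 39,nat_lit 38,nat_lit 37,nat_lit 36,nat_lit 10,nat_lit 11,nat_lit 8,nat_lit 9,nat_lit 44,nat_lit 45,nat_lit 47,nat_lit 46] (Cert.lf (Leaf.st (nat_lit 2) (nat_lit 1) (nat_lit 1) (Leaf.cf (nat_lit 1))))))) (Cert.rep (nat_lit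 120) [] [] [] (Cert.er (Cert.ro (nat_lit 0) [nat_lit 1,nat_lit 8,nat_lit 16] [nat_lit 8,nat_lit 9,nat_lit 16] [nat_lit 0,nat_lit 1,nat_lit 84,nat_lit 85,nat_lit 10,nat_lit 11,nat_lit 94,nat_lit 95] (Cert.ro (nat_lit 1) [nat_lit 1,nat_lit 2,nat_lit 14,nat_lit 16] [nat_lit 1,nat_lit 14,nat_lit 12,nat_lit 16] [nat_lit 0,nat_lit 1,nat_lit 2,nat_lit 3,nat_lit 46,nat_lit 47,nat_lit 45,nat_lit 44,nat_lit 10,nat_lit 11,nat_lit 9,nat_lit 8,nat_lit 36,nat_lit 37,nat_lit 38,nat_lit 39] (Cert.lf (Leaf.st (nat_lit 2) (nat_lit 1) (nat_lit 1) (Leaf.cf (nat_lit 1))))))) Cert.nil)) (Cert.rep (nat_lit 92) [nat_lit 16,nat_lit 70] [] [] (Cert.rep (nat_lit 112) [] [] [] (Cert.er (Cert.ro (nat_lit 0) [nat_lit 1,nat_lit 8,nat_lit 16] [nat_lit 8,nat_lit 9,nat_lit 16] [nat_lit 0,nat_lit 1,nat_lit 92,nat_lit 93,nat_lit 10,nat_lit 11,nat_lit 87,nat_lit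 86] (Cert.ro (nat_lit 1) [nat_lit 1,nat_lit 2,nat_lit 14,nat_lit 16] [nat_lit 1,nat_lit 14,nat_lit 12,nat_lit 16] [nat_lit 0,nat_lit 1,nat_lit 3,nat_lit 2,nat_lit 47,nat_lit 46,nat_lit 45,nat_lit 44,nat_lit 10,nat_lit 11,nat_lit 8,nat_lit 9,nat_lit 37,nat_lit 36,nat_lit 38,nat_lit 39] (Cert.kw (nat_lit 2) (nat_lit 0) (nat_lit 2) (nat_lit 1) )))) (Cert.rep (nat_lit 120) [] [] [] (Cert.er (Cert.ro (nat_lit 0) [nat_lit 1,nat_lit 8,nat_lit 16] [nat_lit 8,nat_lit 9,nat_lit 16] [nat_lit 0,nat_lit 1,nat_lit 92,nat_lit 93,nat_lit 10,nat_lit 11,nat_lit 87,nat_lit 86] (Cert.ro (nat_lit 1) [nat_lit 1,nat_lit 2,nat_lit 14,nat_lit 16] [nat_lit 1,nat_lit 14,nat_lit 12,nat_lit 16] [nat_lit 0,nat_lit 1,nat_lit 2,nat_lit 3,nat_lit 39,nat_lit 38,nat_lit 36,nat_lit 37,nat_lit 10,nat_lit 11,nat_lit 9,nat_lit 8,nat_lit 44,nat_lit 45,nat_lit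 46,nat_lit 47] (Cert.kw (nat_lit 2) (nat_lit 0) (nat_lit 2) (nat_lit 1) )))) Cert.nil)) Cert.nil)))))))))) Cert.nil))
noncomputable def f134 : Cert :=
  (Cert.st (nat_lit 0) (nat_lit 10) (nat_lit 0) (Cert.sp (nat_lit 1) (Cert.lf (Leaf.pt (nat_lit 9) (nat_lit 1) [nat_lit 10])) (Cert.sp (nat_lit 26) (Cert.lf (Leaf.pt (nat_lit 9) (nat_lit 26) [nat_lit 10])) (Cert.st (nat_lit 0) (nat_lit 26) (nat_lit 0) (Cert.sp (nat_lit 28) (Cert.lf (Leaf.pt (nat_lit 9) (nat_lit 28) [nat_lit 12])) (Cert.st (nat_lit 0) (nat_lit 28) (nat_lit 0) (Cert.sp (nat_lit 32) (Cert.lf (Leaf.pt (nat_lit 12) (nat_lit 32) [nat_lit 26,nat_lit 196])) (Cert.st (nat_lit 0) (nat_lit 32) (nat_lit 0) (Cert.sp (nat_lit 68) (Cert.lf (Leaf.pt (nat_lit 9) (nat_lit 68) [nat_lit 10])) (Cert.st (nat_lit 0) (nat_lit 68) (nat_lit 0) (Cert.sp (nat_lit 92) (Cert.lf (Leaf.pt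 (nat_lit 9) (nat_lit 92) [nat_lit 10])) (Cert.st (nat_lit 0) (nat_lit 92) (nat_lit 0) (Cert.sp (nat_lit 258) (Cert.lf (Leaf.pt (nat_lit 12) (nat_lit 258) [nat_lit 26,nat_lit 586])) (Cert.st (nat_lit 0) (nat_lit 258) (nat_lit 0) (Cert.sp (nat_lit 584) (Cert.lf (Leaf.pt (nat_lit 19) (nat_lit 584) [nat_lit 24,nat_lit 192])) (Cert.st (nat_lit 0) (nat_lit 584) (nat_lit 0) (Cert.sp (nat_lit 652) (Cert.lf (Leaf.pt (nat_lit 12) (nat_lit 652) [nat_lit 28,nat_lit 256])) (Cert.st (nat_lit 0) (nat_lit 652) (nat_lit 0) (Cert.sp (nat_lit 1030) (Cert.lf (Leaf.pt (nat_lit 12) (nat_lit 1030) [nat_lit 26,nat_lit 590])) (Cert.st (nat_lit 0) (nat_lit 1030) (nat_lit 0) (Cert.sp (nat_lit 1052) (Cert.lf (Leaf.pt (nat_lit 12) (nat_lit 1052) [nat_lit 26,nat_lit 654])) (Cert.st (nat_lit 0) (nat_lit 1052) (nat_lit 0) (Cert.sp (nat_lit 1152) (Cert.lf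 (Leaf.pt (nat_lit 12) (nat_lit 1152) [nat_lit 26,nat_lit 648])) (Cert.st (nat_lit 0) (nat_lit 1152) (nat_lit 0) (Cert.sp (nat_lit 1178) (Cert.lf (Leaf.pt (nat_lit 12) (nat_lit 1178) [nat_lit 26,nat_lit 586])) (Cert.st (nat_lit 0) (nat_lit 1178) (nat_lit 0) (Cert.nl (nat_lit 1) (Cert.sy (nat_lit 0) (Cert.s2 (nat_lit 0) (nat_lit 68) (Cert.o1 (nat_lit 0) (nat_lit 68) (Cert.fu (nat_lit 10) (nat_lit 1) (nat_lit 0) (nat_lit 0) [] [nat_lit 68,nat_lit 1,nat_lit 16,nat_lit 32,nat_lit 256] [] [] [] [nat_lit 1] [[nat_lit 1]] [[nat_lit 68]] [Ins.fr [nat_lit 0],Ins.ts (nat_lit 3) [nat_lit 0] [],Ins.ts (nat_lit 4) [nat_lit 0] [nat_lit 0,nat_lit 0,nat_lit 0],Ins.ts (nat_lit 1) [nat_lit 0] [],Ins.fr [nat_lit 1],Ins.ts (nat_lit 3) [nat_lit 0] [],Ins.ts (nat_lit 0) [nat_lit 0,nat_lit 0] [],Ins.ts (nat_lit 1) [nat_lit 0] [],Ins.ts (nat_lit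 1) [nat_lit 0,nat_lit 1] [],Ins.fr [nat_lit 2],Ins.ts (nat_lit 2) [nat_lit 0] [],Ins.ts (nat_lit 0) [nat_lit 0,nat_lit 0] [],Ins.ts (nat_lit 0) [nat_lit 1,nat_lit 0] [nat_lit 0,nat_lit 1],Ins.ts (nat_lit 1) [nat_lit 0] [],Ins.ts (nat_lit 1) [nat_lit 0,nat_lit 3] [],Ins.ts (nat_lit 1) [nat_lit 0,nat_lit 2,nat_lit 3] [],Ins.ts (nat_lit 1) [nat_lit 0,nat_lit 1,nat_lit 3] [],Ins.ts (nat_lit 1) [nat_lit 0,nat_lit 1,nat_lit 2,nat_lit 3] [],Ins.fr [nat_lit 1,nat_lit 3],Ins.ts (nat_lit 0) [nat_lit 0,nat_lit 0] [],Ins.ts (nat_lit 0) [nat_lit 1,nat_lit 2,nat_lit 0] [nat_lit 0,nat_lit 1],Ins.fr [nat_lit 1],Ins.ts (nat_lit 0) [nat_lit 0,nat_lit 0] [nat_lit 3]] [] (Cert.rep (nat_lit 10) [] [nat_lit 68,nat_lit 36,nat_lit 16,nat_lit 8,nat_lit 2,nat_lit 1] [nat_lit 1024,nat_lit 512,nat_lit 256,nat_lit 128,nat_lit 4] (Cert.rep (nat_lit 1)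 [nat_lit 2,nat_lit 16,nat_lit 36,nat_lit 68] [] [] (Cert.rep (nat_lit 26) [nat_lit 2,nat_lit 68] [] [] (Cert.rep (nat_lit 76) [] [] [] Cert.nil (Cert.rep (nat_lit 78) [] [] [] Cert.nil (Cert.rep (nat_lit 84) [] [] [] Cert.nil (Cert.rep (nat_lit 86) [] [] [] Cert.nil Cert.nil)))) (Cert.rep (nat_lit 60) [] [] [] Cert.nil (Cert.rep (nat_lit 68) [] [] [] (Cert.rep (nat_lit 16) [nat_lit 10] [] [] (Cert.rep (nat_lit 1030) [] [] [] Cert.nil (Cert.rep (nat_lit 1031) [] [] [] Cert.nil (Cert.rep (nat_lit 1052) [] [] [] Cert.nil (Cert.rep (nat_lit 1053) [] [] [] Cert.nil Cert.nil)))) (Cert.rep (nat_lit 17) [nat_lit 10] [] [] (Cert.rep (nat_lit 1030) [] [] [] Cert.nil (Cert.rep (nat_lit 1031) [] [] [] Cert.nil (Cert.rep (nat_lit 1052) [] [] [] Cert.nil (Cert.rep (nat_lit 1053) [] [] [] Cert.nil Cert.nil)))) (Cert.rep (nat_lit 84) [nat_lit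 10] [] [] (Cert.rep (nat_lit 1030) [] [] [] Cert.nil (Cert.rep (nat_lit 1031) [] [] [] Cert.nil (Cert.rep (nat_lit 1052) [] [] [] Cert.nil (Cert.rep (nat_lit 1053) [] [] [] Cert.nil Cert.nil)))) (Cert.rep (nat_lit 85) [nat_lit 10] [] [] (Cert.rep (nat_lit 1030) [] [] [] Cert.nil (Cert.rep (nat_lit 1031) [] [] [] Cert.nil (Cert.rep (nat_lit 1052) [] [] [] Cert.nil (Cert.rep (nat_lit 1053) [] [] [] Cert.nil Cert.nil)))) Cert.nil)))) (Cert.rep (nat_lit 92) [] [] [] (Cert.rep (nat_lit 16) [nat_lit 10] [] [] (Cert.rep (nat_lit 1185) [] [] [] Cert.nil (Cert.rep (nat_lit 1184) [] [] [] Cert.nil (Cert.rep (nat_lit 1211) [] [] [] Cert.nil (Cert.rep (nat_lit 1210) [] [] [] Cert.nil Cert.nil)))) (Cert.rep (nat_lit 17) [nat_lit 10] [] [] (Cert.rep (nat_lit 1185) [] [] [] Cert.nil (Cert.rep (nat_lit 1184) [] [] [] Cert.nil (Cert.rep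 (nat_lit 1211) [] [] [] Cert.nil (Cert.rep (nat_lit 1210) [] [] [] Cert.nil Cert.nil)))) (Cert.rep (nat_lit 76) [nat_lit 10] [] [] (Cert.rep (nat_lit 1185) [] [] [] Cert.nil (Cert.rep (nat_lit 1184) [] [] [] Cert.nil (Cert.rep (nat_lit 1211) [] [] [] Cert.nil (Cert.rep (nat_lit 1210) [] [] [] Cert.nil Cert.nil)))) (Cert.rep (nat_lit 77) [nat_lit 10] [] [] (Cert.rep (nat_lit 1185) [] [] [] Cert.nil (Cert.rep (nat_lit 1184) [] [] [] Cert.nil (Cert.rep (nat_lit 1211) [] [] [] Cert.nil (Cert.rep (nat_lit 1210) [] [] [] Cert.nil Cert.nil)))) Cert.nil)))) Cert.nil)))) Cert.nil) Cert.nil))) f134_0)))))))))))))))))))))))))))))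
theorem fin134 : finOK DB PT 88 t88 134 t134 (nat_lit 0x300000c0300000c00c0000030c0000030c0000030c000003300000c0300000c0300000c0300000c00c0000030c0000030c0000030c000003300000c0300000c000000000000000000000c3000000c3000003c0000003c00000000000000000000000000000000000000330000003300000003300000033000000000000000000f0000000f0000000f00c0cf0f00303f000000000000000000300000c0300000c00000000000000000000000000000000f00000f0f0f0f0f0fcfc0303fc03fc03) f134 = true := by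
  decide +kernel
noncomputable def f136_0 : Cert :=
  Cert.s2 (nat_lit 0) (nat_lit 92) (Cert.o1 (nat_lit 0) (nat_lit 92) (Cert.fu (nat_lit 10) (nat_lit 1) (nat_lit 0) (nat_lit 0) [] [nat_lit 92,nat_lit 1,nat_lit 16,nat_lit 32,nat_lit 256] [] [] [] [nat_lit 1] [[nat_lit 1]] [[nat_lit 92]] [Ins.fr [nat_lit 0],Ins.ts (nat_lit 3) [nat_lit 0] [],Ins.ts (nat_lit 4) [nat_lit 0] [nat_lit 0,nat_lit 0,nat_lit 0],Ins.ts (nat_lit 1) [nat_lit 0] [],Ins.fr [nat_lit 1],Ins.ts (nat_lit 3) [nat_lit 0] [],Ins.ts (nat_lit 0) [nat_lit 0,nat_lit 0] [],Ins.ts (nat_lit 1) [nat_lit 0] [],Ins.ts (nat_lit 4) [nat_lit 0] [nat_lit 0,nat_lit 0,nat_lit 1],Ins.ts (nat_lit 1) [nat_lit 0,nat_lit 1] [],Ins.fr [nat_lit 2],Ins.ts (nat_lit 2) [nat_lit 0] [],Ins.ts (nat_lit 0) [nat_lit 0,nat_lit 0] [],Ins.ts (nat_lit 0) [nat_lit 1,nat_lit 0] [nat_lit 0,nat_lit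 1],Ins.ts (nat_lit 1) [nat_lit 0] [],Ins.ts (nat_lit 4) [nat_lit 0,nat_lit 2,nat_lit 3] [nat_lit 0,nat_lit 0,nat_lit 2],Ins.ts (nat_lit 4) [nat_lit 0,nat_lit 1,nat_lit 2,nat_lit 3] [nat_lit 0,nat_lit 0,nat_lit 2],Ins.ts (nat_lit 1) [nat_lit 0,nat_lit 2,nat_lit 3] [],Ins.ts (nat_lit 1) [nat_lit 0,nat_lit 1,nat_lit 2,nat_lit 3] [],Ins.fr [nat_lit 1,nat_lit 3],Ins.ts (nat_lit 0) [nat_lit 0,nat_lit 0] [],Ins.fr [nat_lit 1],Ins.ts (nat_lit 0) [nat_lit 0,nat_lit 0] [nat_lit 3]] [(nat_lit 2,nat_lit 0),(nat_lit 3,nat_lit 0)] (Cert.rep (nat_lit 10) [] [nat_lit 68,nat_lit 36,nat_lit 16,nat_lit 8,nat_lit 2,nat_lit 1] [nat_lit 1024,nat_lit 512,nat_lit 256,nat_lit 128,nat_lit 4] (Cert.rep (nat_lit 1) [nat_lit 2,nat_lit 16,nat_lit 36,nat_lit 68] [] [] (Cert.rep (nat_lit 26) [] [] [] Cert.nil (Cert.rep (nat_lit 60) [] [] [] Cert.nil (Cert.rep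 (nat_lit 92) [] [] [] (Cert.rep (nat_lit 16) [nat_lit 10] [] [] (Cert.rep (nat_lit 1185) [] [] [] Cert.nil (Cert.rep (nat_lit 1184) [] [] [] Cert.nil (Cert.rep (nat_lit 1211) [] [] [] Cert.nil (Cert.rep (nat_lit 1210) [] [] [] Cert.nil Cert.nil)))) (Cert.rep (nat_lit 17) [nat_lit 10] [] [] (Cert.rep (nat_lit 1185) [] [] [] Cert.nil (Cert.rep (nat_lit 1184) [] [] [] Cert.nil (Cert.rep (nat_lit 1211) [] [] [] Cert.nil (Cert.rep (nat_lit 1210) [] [] [] Cert.nil Cert.nil)))) (Cert.rep (nat_lit 76) [nat_lit 10] [] [] (Cert.rep (nat_lit 1185) [] [] [] Cert.nil (Cert.rep (nat_lit 1184) [] [] [] Cert.nil (Cert.rep (nat_lit 1211) [] [] [] Cert.nil (Cert.rep (nat_lit 1210) [] [] [] Cert.nil Cert.nil)))) (Cert.rep (nat_lit 77) [nat_lit 10] [] [] (Cert.rep (nat_lit 1185) [] [] [] Cert.nil (Cert.rep (nat_lit 1184) [] [] [] Cert.nil (Cert.rep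 (nat_lit 1211) [] [] [] Cert.nil (Cert.rep (nat_lit 1210) [] [] [] Cert.nil Cert.nil)))) Cert.nil)))) Cert.nil))) Cert.nil) Cert.nil))) (Cert.root (nat_lit 32) [] [nat_lit 8,nat_lit 4] [nat_lit 0,nat_lit 1,nat_lit 2,nat_lit 3,nat_lit 4] [Ins.fr [nat_lit 0],Ins.ts (nat_lit 0) [nat_lit 0,nat_lit 0] [],Ins.ts (nat_lit 1) [nat_lit 0] [],Ins.ts (nat_lit 1) [nat_lit 0,nat_lit 1] [],Ins.fr [nat_lit 1],Ins.ts (nat_lit 1) [nat_lit 0,nat_lit 0] [],Ins.ts (nat_lit 0) [nat_lit 1,nat_lit 0,nat_lit 1] [nat_lit 0,nat_lit 0,nat_lit 0],Ins.ts (nat_lit 1) [nat_lit 0,nat_lit 0,nat_lit 0,nat_lit 0] [],Ins.df [nat_lit 0,nat_lit 0],Ins.df [nat_lit 0,nat_lit 0]] (Cert.rep (nat_lit 10) [nat_lit 2,nat_lit 16,nat_lit 36,nat_lit 68] [nat_lit 68,nat_lit 36,nat_lit 16,nat_lit 8,nat_lit 2,nat_lit 1] [nat_lit 1024,nat_lit 512,nat_lit 256,nat_lit 128,nat_lit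 4] (Cert.rep (nat_lit 1) [] [] [] Cert.nil (Cert.rep (nat_lit 11) [] [] [] Cert.nil (Cert.rep (nat_lit 16) [] [] [] Cert.nil (Cert.rep (nat_lit 26) [] [] [] Cert.nil (Cert.rep (nat_lit 52) [] [] [] Cert.nil (Cert.rep (nat_lit 60) [] [] [] Cert.nil (Cert.rep (nat_lit 68) [nat_lit 16,nat_lit 68] [] [] (Cert.rep (nat_lit 96) [] [] [] (Cert.er (Cert.ro (nat_lit 0) [nat_lit 1,nat_lit 8,nat_lit 16] [nat_lit 8,nat_lit 9,nat_lit 16] [nat_lit 0,nat_lit 1,nat_lit 68,nat_lit 69,nat_lit 10,nat_lit 11,nat_lit 78,nat_lit 79] (Cert.ro (nat_lit 1) [nat_lit 1,nat_lit 2,nat_lit 14,nat_lit 16] [nat_lit 1,nat_lit 14,nat_lit 12,nat_lit 16] [nat_lit 0,nat_lit 1,nat_lit 2,nat_lit 3,nat_lit 39,nat_lit 38,nat_lit 36,nat_lit 37,nat_lit 10,nat_lit 11,nat_lit 9,nat_lit 8,nat_lit 44,nat_lit 45,nat_lit 46,nat_lit 47] (Cert.kw (nat_lit 2) (nat_lit 0)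 (nat_lit 2) (nat_lit 1) )))) (Cert.rep (nat_lit 104) [] [] [] (Cert.er (Cert.ro (nat_lit 0) [nat_lit 1,nat_lit 8,nat_lit 16] [nat_lit 8,nat_lit 9,nat_lit 16] [nat_lit 0,nat_lit 1,nat_lit 68,nat_lit 69,nat_lit 10,nat_lit 11,nat_lit 78,nat_lit 79] (Cert.ro (nat_lit 1) [nat_lit 1,nat_lit 2,nat_lit 14,nat_lit 16] [nat_lit 1,nat_lit 14,nat_lit 12,nat_lit 16] [nat_lit 0,nat_lit 1,nat_lit 3,nat_lit 2,nat_lit 46,nat_lit 47,nat_lit 44,nat_lit 45,nat_lit 10,nat_lit 11,nat_lit 8,nat_lit 9,nat_lit 36,nat_lit 37,nat_lit 39,nat_lit 38] (Cert.kw (nat_lit 2) (nat_lit 0) (nat_lit 2) (nat_lit 1) )))) Cert.nil)) (Cert.rep (nat_lit 76) [nat_lit 16,nat_lit 70] [] [] (Cert.rep (nat_lit 96) [] [] [] (Cert.er (Cert.ro (nat_lit 0) [nat_lit 1,nat_lit 8,nat_lit 16] [nat_lit 8,nat_lit 9,nat_lit 16] [nat_lit 0,nat_lit 1,nat_lit 76,nat_lit 77,nat_lit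 10,nat_lit 11,nat_lit 71,nat_lit 70] (Cert.ro (nat_lit 1) [nat_lit 1,nat_lit 2,nat_lit 14,nat_lit 16] [nat_lit 1,nat_lit 14,nat_lit 12,nat_lit 16] [nat_lit 0,nat_lit 1,nat_lit 2,nat_lit 3,nat_lit 47,nat_lit 46,nat_lit 44,nat_lit 45,nat_lit 10,nat_lit 11,nat_lit 9,nat_lit 8,nat_lit 37,nat_lit 36,nat_lit 39,nat_lit 38] (Cert.lf (Leaf.st (nat_lit 2) (nat_lit 1) (nat_lit 1) (Leaf.cf (nat_lit 1))))))) (Cert.rep (nat_lit 104) [] [] [] (Cert.er (Cert.ro (nat_lit 0) [nat_lit 1,nat_lit 8,nat_lit 16] [nat_lit 8,nat_lit 9,nat_lit 16] [nat_lit 0,nat_lit 1,nat_lit 76,nat_lit 77,nat_lit 10,nat_lit 11,nat_lit 71,nat_lit 70] (Cert.ro (nat_lit 1) [nat_lit 1,nat_lit 2,nat_lit 14,nat_lit 16] [nat_lit 1,nat_lit 14,nat_lit 12,nat_lit 16] [nat_lit 0,nat_lit 1,nat_lit 3,nat_lit 2,nat_lit 39,nat_lit 38,nat_lit 37,nat_lit 36,nat_lit 10,nat_lit 11,nat_lit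 8,nat_lit 9,nat_lit 44,nat_lit 45,nat_lit 47,nat_lit 46] (Cert.lf (Leaf.st (nat_lit 2) (nat_lit 1) (nat_lit 1) (Leaf.cf (nat_lit 1))))))) Cert.nil)) (Cert.rep (nat_lit 84) [nat_lit 16,nat_lit 68] [] [] (Cert.rep (nat_lit 112) [] [] [] (Cert.er (Cert.ro (nat_lit 0) [nat_lit 1,nat_lit 8,nat_lit 16] [nat_lit 8,nat_lit 9,nat_lit 16] [nat_lit 0,nat_lit 1,nat_lit 84,nat_lit 85,nat_lit 10,nat_lit 11,nat_lit 94,nat_lit 95] (Cert.ro (nat_lit 1) [nat_lit 1,nat_lit 2,nat_lit 14,nat_lit 16] [nat_lit 1,nat_lit 14,nat_lit 12,nat_lit 16] [nat_lit 0,nat_lit 1,nat_lit 3,nat_lit 2,nat_lit 39,nat_lit 38,nat_lit 37,nat_lit 36,nat_lit 10,nat_lit 11,nat_lit 8,nat_lit 9,nat_lit 44,nat_lit 45,nat_lit 47,nat_lit 46] (Cert.lf (Leaf.st (nat_lit 2) (nat_lit 1) (nat_lit 1) (Leaf.cf (nat_lit 1))))))) (Cert.rep (nat_lit 120) [] [] [] (Cert.er (Cert.ro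 (nat_lit 0) [nat_lit 1,nat_lit 8,nat_lit 16] [nat_lit 8,nat_lit 9,nat_lit 16] [nat_lit 0,nat_lit 1,nat_lit 84,nat_lit 85,nat_lit 10,nat_lit 11,nat_lit 94,nat_lit 95] (Cert.ro (nat_lit 1) [nat_lit 1,nat_lit 2,nat_lit 14,nat_lit 16] [nat_lit 1,nat_lit 14,nat_lit 12,nat_lit 16] [nat_lit 0,nat_lit 1,nat_lit 2,nat_lit 3,nat_lit 46,nat_lit 47,nat_lit 45,nat_lit 44,nat_lit 10,nat_lit 11,nat_lit 9,nat_lit 8,nat_lit 36,nat_lit 37,nat_lit 38,nat_lit 39] (Cert.lf (Leaf.st (nat_lit 2) (nat_lit 1) (nat_lit 1) (Leaf.cf (nat_lit 1))))))) Cert.nil)) (Cert.rep (nat_lit 92) [nat_lit 16,nat_lit 70] [] [] (Cert.rep (nat_lit 112) [] [] [] (Cert.er (Cert.ro (nat_lit 0) [nat_lit 1,nat_lit 8,nat_lit 16] [nat_lit 8,nat_lit 9,nat_lit 16] [nat_lit 0,nat_lit 1,nat_lit 92,nat_lit 93,nat_lit 10,nat_lit 11,nat_lit 87,nat_lit 86] (Cert.ro (nat_lit 1) [nat_lit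 1,nat_lit 2,nat_lit 14,nat_lit 16] [nat_lit 1,nat_lit 14,nat_lit 12,nat_lit 16] [nat_lit 0,nat_lit 1,nat_lit 3,nat_lit 2,nat_lit 47,nat_lit 46,nat_lit 45,nat_lit 44,nat_lit 10,nat_lit 11,nat_lit 8,nat_lit 9,nat_lit 37,nat_lit 36,nat_lit 38,nat_lit 39] (Cert.kw (nat_lit 2) (nat_lit 0) (nat_lit 2) (nat_lit 1) )))) (Cert.rep (nat_lit 120) [] [] [] (Cert.er (Cert.ro (nat_lit 0) [nat_lit 1,nat_lit 8,nat_lit 16] [nat_lit 8,nat_lit 9,nat_lit 16] [nat_lit 0,nat_lit 1,nat_lit 92,nat_lit 93,nat_lit 10,nat_lit 11,nat_lit 87,nat_lit 86] (Cert.ro (nat_lit 1) [nat_lit 1,nat_lit 2,nat_lit 14,nat_lit 16] [nat_lit 1,nat_lit 14,nat_lit 12,nat_lit 16] [nat_lit 0,nat_lit 1,nat_lit 2,nat_lit 3,nat_lit 39,nat_lit 38,nat_lit 36,nat_lit 37,nat_lit 10,nat_lit 11,nat_lit 9,nat_lit 8,nat_lit 44,nat_lit 45,nat_lit 46,nat_lit 47] (Cert.kw (nat_lit 2)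 (nat_lit 0) (nat_lit 2) (nat_lit 1) )))) Cert.nil)) Cert.nil)))))))))) Cert.nil))
noncomputable def f136 : Cert :=
  (Cert.st (nat_lit 0) (nat_lit 10) (nat_lit 0) (Cert.sp (nat_lit 1) (Cert.lf (Leaf.pt (nat_lit 9) (nat_lit 1) [nat_lit 10])) (Cert.sp (nat_lit 26) (Cert.lf (Leaf.pt (nat_lit 9) (nat_lit 26) [nat_lit 10])) (Cert.st (nat_lit 0) (nat_lit 26) (nat_lit 0) (Cert.sp (nat_lit 28) (Cert.lf (Leaf.pt (nat_lit 9) (nat_lit 28) [nat_lit 12])) (Cert.st (nat_lit 0) (nat_lit 28) (nat_lit 0) (Cert.sp (nat_lit 32) (Cert.lf (Leaf.pt (nat_lit 12) (nat_lit 32) [nat_lit 26,nat_lit 196])) (Cert.st (nat_lit 0) (nat_lit 32) (nat_lit 0) (Cert.sp (nat_lit 68) (Cert.lf (Leaf.pt (nat_lit 9) (nat_lit 68) [nat_lit 10])) (Cert.st (nat_lit 0) (nat_lit 68) (nat_lit 0) (Cert.sp (nat_lit 92) (Cert.lf (Leaf.pt (nat_lit 9) (nat_lit 92) [nat_lit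 10])) (Cert.st (nat_lit 0) (nat_lit 92) (nat_lit 0) (Cert.sp (nat_lit 258) (Cert.lf (Leaf.pt (nat_lit 12) (nat_lit 258) [nat_lit 26,nat_lit 586])) (Cert.st (nat_lit 0) (nat_lit 258) (nat_lit 0) (Cert.sp (nat_lit 584) (Cert.lf (Leaf.pt (nat_lit 19) (nat_lit 584) [nat_lit 24,nat_lit 192])) (Cert.st (nat_lit 0) (nat_lit 584) (nat_lit 0) (Cert.sp (nat_lit 652) (Cert.lf (Leaf.pt (nat_lit 12) (nat_lit 652) [nat_lit 28,nat_lit 256])) (Cert.st (nat_lit 0) (nat_lit 652) (nat_lit 0) (Cert.sp (nat_lit 653) (Cert.lf (Leaf.pt (nat_lit 12) (nat_lit 653) [nat_lit 28,nat_lit 256])) (Cert.st (nat_lit 0) (nat_lit 653) (nat_lit 0) (Cert.sp (nat_lit 1152) (Cert.lf (Leaf.pt (nat_lit 12) (nat_lit 1152) [nat_lit 70,nat_lit 132])) (Cert.st (nat_lit 0) (nat_lit 1152) (nat_lit 0) (Cert.sp (nat_lit 1178) (Cert.lf (Leaf.pt (nat_lit 12) (nat_lit 1178)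 [nat_lit 26,nat_lit 586])) (Cert.st (nat_lit 0) (nat_lit 1178) (nat_lit 0) (Cert.sp (nat_lit 1179) (Cert.lf (Leaf.pt (nat_lit 12) (nat_lit 1179) [nat_lit 26,nat_lit 586])) (Cert.st (nat_lit 0) (nat_lit 1179) (nat_lit 0) (Cert.sp (nat_lit 1552) (Cert.lf (Leaf.pt (nat_lit 13) (nat_lit 1552) [nat_lit 848])) (Cert.st (nat_lit 0) (nat_lit 1552) (nat_lit 0) (Cert.nl (nat_lit 1) (Cert.sy (nat_lit 0) (Cert.s2 (nat_lit 0) (nat_lit 68) (Cert.o1 (nat_lit 0) (nat_lit 68) (Cert.fu (nat_lit 10) (nat_lit 1) (nat_lit 0) (nat_lit 0) [] [nat_lit 68,nat_lit 1,nat_lit 16,nat_lit 32,nat_lit 256] [] [] [] [nat_lit 1] [[nat_lit 1]] [[nat_lit 68]] [Ins.fr [nat_lit 0],Ins.ts (nat_lit 3) [nat_lit 0] [],Ins.ts (nat_lit 4) [nat_lit 0] [nat_lit 0,nat_lit 0,nat_lit 0],Ins.ts (nat_lit 1) [nat_lit 0] [],Ins.fr [nat_lit 1],Ins.ts (nat_lit 3) [nat_lit 0]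 [],Ins.ts (nat_lit 0) [nat_lit 0,nat_lit 0] [],Ins.ts (nat_lit 1) [nat_lit 0] [],Ins.ts (nat_lit 1) [nat_lit 0,nat_lit 1] [],Ins.fr [nat_lit 2],Ins.ts (nat_lit 2) [nat_lit 0] [],Ins.ts (nat_lit 0) [nat_lit 0,nat_lit 0] [],Ins.ts (nat_lit 0) [nat_lit 1,nat_lit 0] [nat_lit 0,nat_lit 1],Ins.ts (nat_lit 1) [nat_lit 0] [],Ins.ts (nat_lit 1) [nat_lit 0,nat_lit 3] [],Ins.ts (nat_lit 1) [nat_lit 0,nat_lit 2,nat_lit 3] [],Ins.ts (nat_lit 1) [nat_lit 0,nat_lit 1,nat_lit 3] [],Ins.ts (nat_lit 1) [nat_lit 0,nat_lit 1,nat_lit 2,nat_lit 3] [],Ins.fr [nat_lit 1,nat_lit 3],Ins.ts (nat_lit 0) [nat_lit 0,nat_lit 0] [],Ins.ts (nat_lit 0) [nat_lit 1,nat_lit 2,nat_lit 0] [nat_lit 0,nat_lit 1],Ins.fr [nat_lit 1],Ins.ts (nat_lit 0) [nat_lit 0,nat_lit 0] [nat_lit 3]] [] (Cert.rep (nat_lit 10) [] [nat_lit 68,nat_lit 36,nat_lit 16,nat_lit 8,nat_lit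 2,nat_lit 1] [nat_lit 1024,nat_lit 512,nat_lit 256,nat_lit 128,nat_lit 4] (Cert.rep (nat_lit 1) [nat_lit 2,nat_lit 16,nat_lit 36,nat_lit 68] [] [] (Cert.rep (nat_lit 26) [nat_lit 2,nat_lit 68] [] [] (Cert.rep (nat_lit 76) [] [] [] Cert.nil (Cert.rep (nat_lit 78) [] [] [] Cert.nil (Cert.rep (nat_lit 84) [] [] [] Cert.nil (Cert.rep (nat_lit 86) [] [] [] Cert.nil Cert.nil)))) (Cert.rep (nat_lit 60) [] [] [] Cert.nil (Cert.rep (nat_lit 68) [] [] [] (Cert.rep (nat_lit 16) [] [] [] Cert.nil (Cert.rep (nat_lit 17) [] [] [] Cert.nil (Cert.rep (nat_lit 84) [] [] [] Cert.nil (Cert.rep (nat_lit 85) [] [] [] Cert.nil Cert.nil)))) (Cert.rep (nat_lit 92) [] [] [] (Cert.rep (nat_lit 16) [nat_lit 10] [] [] (Cert.rep (nat_lit 1185) [] [] [] Cert.nil (Cert.rep (nat_lit 1184) [] [] [] Cert.nil (Cert.rep (nat_lit 1211) [] [] [] Cert.nil (Cert.rep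 (nat_lit 1210) [] [] [] Cert.nil Cert.nil)))) (Cert.rep (nat_lit 17) [nat_lit 10] [] [] (Cert.rep (nat_lit 1185) [] [] [] Cert.nil (Cert.rep (nat_lit 1184) [] [] [] Cert.nil (Cert.rep (nat_lit 1211) [] [] [] Cert.nil (Cert.rep (nat_lit 1210) [] [] [] Cert.nil Cert.nil)))) (Cert.rep (nat_lit 76) [nat_lit 10] [] [] (Cert.rep (nat_lit 1185) [] [] [] Cert.nil (Cert.rep (nat_lit 1184) [] [] [] Cert.nil (Cert.rep (nat_lit 1211) [] [] [] Cert.nil (Cert.rep (nat_lit 1210) [] [] [] Cert.nil Cert.nil)))) (Cert.rep (nat_lit 77) [nat_lit 10] [] [] (Cert.rep (nat_lit 1185) [] [] [] Cert.nil (Cert.rep (nat_lit 1184) [] [] [] Cert.nil (Cert.rep (nat_lit 1211) [] [] [] Cert.nil (Cert.rep (nat_lit 1210) [] [] [] Cert.nil Cert.nil)))) Cert.nil)))) Cert.nil)))) Cert.nil) Cert.nil))) f136_0)))))))))))))))))))))))))))))))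
theorem fin136 : finOK DB PT 88 t88 136 t136 (nat_lit 0xf0000000f0000000f0000000f00000000000000000000000000000000000000000000000000000000000000000000000f0000000f0000000f0000000f0000000000000000000000000000000000000c0000030c000003300000c0300000c0300000c0300000c00c0000030c0000030000000000000000000000000000000000000000000000000000c3000000c3000003c0000003c00000000000000000000000000000000000000330000003300000003300000033000000000000000000f0000000f0000000f00c0cf0f00303f000000000000000000300000c0300000c00000000000000000000000000000000f00000f0f0f0f0f0fcfc0303fc03fc03) f136 = true := by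
  decide +kernel
noncomputable def f198_0 : Cert :=
  Cert.rep (nat_lit 68) [nat_lit 16,nat_lit 68] [] [] (Cert.rep (nat_lit 104) [] [] [] (Cert.rep (nat_lit 16) [] [] [] (Cert.er (Cert.ro (nat_lit 0) [nat_lit 1,nat_lit 8,nat_lit 16,nat_lit 32] [nat_lit 8,nat_lit 9,nat_lit 16,nat_lit 32] [nat_lit 0,nat_lit 1,nat_lit 68,nat_lit 69,nat_lit 16,nat_lit 17,nat_lit 84,nat_lit 85,nat_lit 10,nat_lit 11,nat_lit 78,nat_lit 79,nat_lit 26,nat_lit 27,nat_lit 94,nat_lit 95] (Cert.ro (nat_lit 1) [nat_lit 1,nat_lit 2,nat_lit 14,nat_lit 18,nat_lit 32] [nat_lit 1,nat_lit 14,nat_lit 12,nat_lit 18,nat_lit 32] [nat_lit 0,nat_lit 1,nat_lit 3,nat_lit 2,nat_lit 46,nat_lit 47,nat_lit 44,nat_lit 45,nat_lit 19,nat_lit 18,nat_lit 17,nat_lit 16,nat_lit 60,nat_lit 61,nat_lit 63,nat_lit 62,nat_lit 10,nat_lit 11,nat_lit 8,nat_lit 9,nat_lit 36,nat_lit 37,nat_lit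 39,nat_lit 38,nat_lit 24,nat_lit 25,nat_lit 27,nat_lit 26,nat_lit 55,nat_lit 54,nat_lit 53,nat_lit 52] (Cert.out (nat_lit 4) [nat_lit 1,nat_lit 41,nat_lit 161,nat_lit 48,nat_lit 3,nat_lit 464,nat_lit 46,nat_lit 563,nat_lit 68,nat_lit 10] )))) (Cert.rep (nat_lit 17) [] [] [] (Cert.er (Cert.ro (nat_lit 0) [nat_lit 1,nat_lit 8,nat_lit 16,nat_lit 32] [nat_lit 8,nat_lit 9,nat_lit 16,nat_lit 32] [nat_lit 0,nat_lit 1,nat_lit 68,nat_lit 69,nat_lit 17,nat_lit 16,nat_lit 85,nat_lit 84,nat_lit 10,nat_lit 11,nat_lit 78,nat_lit 79,nat_lit 27,nat_lit 26,nat_lit 95,nat_lit 94] (Cert.ro (nat_lit 1) [nat_lit 1,nat_lit 2,nat_lit 14,nat_lit 18,nat_lit 32] [nat_lit 1,nat_lit 14,nat_lit 12,nat_lit 18,nat_lit 32] [nat_lit 0,nat_lit 1,nat_lit 3,nat_lit 2,nat_lit 46,nat_lit 47,nat_lit 44,nat_lit 45,nat_lit 18,nat_lit 19,nat_lit 16,nat_lit 17,nat_lit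 61,nat_lit 60,nat_lit 62,nat_lit 63,nat_lit 10,nat_lit 11,nat_lit 8,nat_lit 9,nat_lit 36,nat_lit 37,nat_lit 39,nat_lit 38,nat_lit 25,nat_lit 24,nat_lit 26,nat_lit 27,nat_lit 54,nat_lit 55,nat_lit 52,nat_lit 53] (Cert.out (nat_lit 4) [nat_lit 1,nat_lit 41,nat_lit 144,nat_lit 49,nat_lit 3,nat_lit 464,nat_lit 46,nat_lit 563,nat_lit 68,nat_lit 10] )))) (Cert.rep (nat_lit 26) [] [] [] (Cert.er (Cert.ro (nat_lit 0) [nat_lit 1,nat_lit 8,nat_lit 16,nat_lit 32] [nat_lit 8,nat_lit 9,nat_lit 16,nat_lit 32] [nat_lit 0,nat_lit 1,nat_lit 68,nat_lit 69,nat_lit 26,nat_lit 27,nat_lit 94,nat_lit 95,nat_lit 10,nat_lit 11,nat_lit 78,nat_lit 79,nat_lit 16,nat_lit 17,nat_lit 84,nat_lit 85] (Cert.ro (nat_lit 1) [nat_lit 1,nat_lit 2,nat_lit 14,nat_lit 18,nat_lit 32] [nat_lit 1,nat_lit 14,nat_lit 12,nat_lit 18,nat_lit 32] [nat_lit 0,nat_lit 1,nat_lit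 3,nat_lit 2,nat_lit 46,nat_lit 47,nat_lit 44,nat_lit 45,nat_lit 24,nat_lit 25,nat_lit 27,nat_lit 26,nat_lit 55,nat_lit 54,nat_lit 53,nat_lit 52,nat_lit 10,nat_lit 11,nat_lit 8,nat_lit 9,nat_lit 36,nat_lit 37,nat_lit 39,nat_lit 38,nat_lit 19,nat_lit 18,nat_lit 17,nat_lit 16,nat_lit 60,nat_lit 61,nat_lit 63,nat_lit 62] (Cert.out (nat_lit 4) [nat_lit 1,nat_lit 41,nat_lit 161,nat_lit 48,nat_lit 3,nat_lit 464,nat_lit 46,nat_lit 563,nat_lit 68,nat_lit 10] )))) (Cert.rep (nat_lit 27) [] [] [] (Cert.er (Cert.ro (nat_lit 0) [nat_lit 1,nat_lit 8,nat_lit 16,nat_lit 32] [nat_lit 8,nat_lit 9,nat_lit 16,nat_lit 32] [nat_lit 0,nat_lit 1,nat_lit 68,nat_lit 69,nat_lit 27,nat_lit 26,nat_lit 95,nat_lit 94,nat_lit 10,nat_lit 11,nat_lit 78,nat_lit 79,nat_lit 17,nat_lit 16,nat_lit 85,nat_lit 84] (Cert.ro (nat_lit 1) [nat_lit 1,nat_lit 2,nat_lit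 14,nat_lit 18,nat_lit 32] [nat_lit 1,nat_lit 14,nat_lit 12,nat_lit 18,nat_lit 32] [nat_lit 0,nat_lit 1,nat_lit 3,nat_lit 2,nat_lit 46,nat_lit 47,nat_lit 44,nat_lit 45,nat_lit 25,nat_lit 24,nat_lit 26,nat_lit 27,nat_lit 54,nat_lit 55,nat_lit 52,nat_lit 53,nat_lit 10,nat_lit 11,nat_lit 8,nat_lit 9,nat_lit 36,nat_lit 37,nat_lit 39,nat_lit 38,nat_lit 18,nat_lit 19,nat_lit 16,nat_lit 17,nat_lit 61,nat_lit 60,nat_lit 62,nat_lit 63] (Cert.out (nat_lit 4) [nat_lit 1,nat_lit 41,nat_lit 144,nat_lit 49,nat_lit 3,nat_lit 464,nat_lit 46,nat_lit 563,nat_lit 68,nat_lit 10] )))) Cert.nil)))) Cert.nil) (Cert.rep (nat_lit 92) [nat_lit 16,nat_lit 70] [] [] (Cert.rep (nat_lit 112) [] [] [] (Cert.rep (nat_lit 16) [] [] [] (Cert.er (Cert.ro (nat_lit 0) [nat_lit 1,nat_lit 8,nat_lit 16,nat_lit 32] [nat_lit 8,nat_lit 9,nat_lit 16,nat_lit 32] [nat_lit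 0,nat_lit 1,nat_lit 92,nat_lit 93,nat_lit 16,nat_lit 17,nat_lit 76,nat_lit 77,nat_lit 10,nat_lit 11,nat_lit 87,nat_lit 86,nat_lit 26,nat_lit 27,nat_lit 71,nat_lit 70] (Cert.ro (nat_lit 1) [nat_lit 1,nat_lit 2,nat_lit 14,nat_lit 18,nat_lit 32] [nat_lit 1,nat_lit 14,nat_lit 12,nat_lit 18,nat_lit 32] [nat_lit 0,nat_lit 1,nat_lit 3,nat_lit 2,nat_lit 47,nat_lit 46,nat_lit 45,nat_lit 44,nat_lit 19,nat_lit 18,nat_lit 17,nat_lit 16,nat_lit 61,nat_lit 60,nat_lit 62,nat_lit 63,nat_lit 10,nat_lit 11,nat_lit 8,nat_lit 9,nat_lit 37,nat_lit 36,nat_lit 38,nat_lit 39,nat_lit 24,nat_lit 25,nat_lit 27,nat_lit 26,nat_lit 54,nat_lit 55,nat_lit 52,nat_lit 53] (Cert.out (nat_lit 4) [nat_lit 1,nat_lit 41,nat_lit 185,nat_lit 48,nat_lit 3,nat_lit 464,nat_lit 47,nat_lit 538,nat_lit 92,nat_lit 10] )))) (Cert.rep (nat_lit 17) [] [] [] (Cert.er (Cert.ro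 (nat_lit 0) [nat_lit 1,nat_lit 8,nat_lit 16,nat_lit 32] [nat_lit 8,nat_lit 9,nat_lit 16,nat_lit 32] [nat_lit 0,nat_lit 1,nat_lit 92,nat_lit 93,nat_lit 17,nat_lit 16,nat_lit 77,nat_lit 76,nat_lit 10,nat_lit 11,nat_lit 87,nat_lit 86,nat_lit 27,nat_lit 26,nat_lit 70,nat_lit 71] (Cert.ro (nat_lit 1) [nat_lit 1,nat_lit 2,nat_lit 14,nat_lit 18,nat_lit 32] [nat_lit 1,nat_lit 14,nat_lit 12,nat_lit 18,nat_lit 32] [nat_lit 0,nat_lit 1,nat_lit 3,nat_lit 2,nat_lit 47,nat_lit 46,nat_lit 45,nat_lit 44,nat_lit 18,nat_lit 19,nat_lit 16,nat_lit 17,nat_lit 60,nat_lit 61,nat_lit 63,nat_lit 62,nat_lit 10,nat_lit 11,nat_lit 8,nat_lit 9,nat_lit 37,nat_lit 36,nat_lit 38,nat_lit 39,nat_lit 25,nat_lit 24,nat_lit 26,nat_lit 27,nat_lit 55,nat_lit 54,nat_lit 53,nat_lit 52] (Cert.out (nat_lit 4) [nat_lit 1,nat_lit 41,nat_lit 136,nat_lit 49,nat_lit 3,nat_lit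 464,nat_lit 47,nat_lit 538,nat_lit 92,nat_lit 10] )))) (Cert.rep (nat_lit 26) [] [] [] (Cert.er (Cert.ro (nat_lit 0) [nat_lit 1,nat_lit 8,nat_lit 16,nat_lit 32] [nat_lit 8,nat_lit 9,nat_lit 16,nat_lit 32] [nat_lit 0,nat_lit 1,nat_lit 92,nat_lit 93,nat_lit 26,nat_lit 27,nat_lit 71,nat_lit 70,nat_lit 10,nat_lit 11,nat_lit 87,nat_lit 86,nat_lit 16,nat_lit 17,nat_lit 76,nat_lit 77] (Cert.ro (nat_lit 1) [nat_lit 1,nat_lit 2,nat_lit 14,nat_lit 18,nat_lit 32] [nat_lit 1,nat_lit 14,nat_lit 12,nat_lit 18,nat_lit 32] [nat_lit 0,nat_lit 1,nat_lit 3,nat_lit 2,nat_lit 47,nat_lit 46,nat_lit 45,nat_lit 44,nat_lit 24,nat_lit 25,nat_lit 27,nat_lit 26,nat_lit 54,nat_lit 55,nat_lit 52,nat_lit 53,nat_lit 10,nat_lit 11,nat_lit 8,nat_lit 9,nat_lit 37,nat_lit 36,nat_lit 38,nat_lit 39,nat_lit 19,nat_lit 18,nat_lit 17,nat_lit 16,nat_lit 61,nat_lit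 60,nat_lit 62,nat_lit 63] (Cert.out (nat_lit 4) [nat_lit 1,nat_lit 41,nat_lit 185,nat_lit 48,nat_lit 3,nat_lit 464,nat_lit 47,nat_lit 538,nat_lit 92,nat_lit 10] )))) (Cert.rep (nat_lit 27) [] [] [] (Cert.er (Cert.ro (nat_lit 0) [nat_lit 1,nat_lit 8,nat_lit 16,nat_lit 32] [nat_lit 8,nat_lit 9,nat_lit 16,nat_lit 32] [nat_lit 0,nat_lit 1,nat_lit 92,nat_lit 93,nat_lit 27,nat_lit 26,nat_lit 70,nat_lit 71,nat_lit 10,nat_lit 11,nat_lit 87,nat_lit 86,nat_lit 17,nat_lit 16,nat_lit 77,nat_lit 76] (Cert.ro (nat_lit 1) [nat_lit 1,nat_lit 2,nat_lit 14,nat_lit 18,nat_lit 32] [nat_lit 1,nat_lit 14,nat_lit 12,nat_lit 18,nat_lit 32] [nat_lit 0,nat_lit 1,nat_lit 3,nat_lit 2,nat_lit 47,nat_lit 46,nat_lit 45,nat_lit 44,nat_lit 25,nat_lit 24,nat_lit 26,nat_lit 27,nat_lit 55,nat_lit 54,nat_lit 53,nat_lit 52,nat_lit 10,nat_lit 11,nat_lit 8,nat_lit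 9,nat_lit 37,nat_lit 36,nat_lit 38,nat_lit 39,nat_lit 18,nat_lit 19,nat_lit 16,nat_lit 17,nat_lit 60,nat_lit 61,nat_lit 63,nat_lit 62] (Cert.out (nat_lit 4) [nat_lit 1,nat_lit 41,nat_lit 136,nat_lit 49,nat_lit 3,nat_lit 464,nat_lit 47,nat_lit 538,nat_lit 92,nat_lit 10] )))) Cert.nil)))) Cert.nil) Cert.nil)
noncomputable def f198_1 : Cert :=
  Cert.rep (nat_lit 68) [nat_lit 16,nat_lit 68] [] [] (Cert.rep (nat_lit 104) [] [] [] (Cert.er (Cert.ro (nat_lit 0) [nat_lit 1,nat_lit 8,nat_lit 16] [nat_lit 8,nat_lit 9,nat_lit 16] [nat_lit 0,nat_lit 1,nat_lit 68,nat_lit 69,nat_lit 10,nat_lit 11,nat_lit 78,nat_lit 79] (Cert.ro (nat_lit 1) [nat_lit 1,nat_lit 2,nat_lit 14,nat_lit 16] [nat_lit 1,nat_lit 14,nat_lit 12,nat_lit 16] [nat_lit 0,nat_lit 1,nat_lit 3,nat_lit 2,nat_lit 46,nat_lit 47,nat_lit 44,nat_lit 45,nat_lit 10,nat_lit 11,nat_lit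 8,nat_lit 9,nat_lit 36,nat_lit 37,nat_lit 39,nat_lit 38] (Cert.lw (nat_lit 0) (nat_lit 2) (nat_lit 1) (Cert.s2 (nat_lit 0) (nat_lit 40) (Cert.o1 (nat_lit 0) (nat_lit 40) (Cert.fu (nat_lit 40) (nat_lit 1) (nat_lit 0) (nat_lit 0) [nat_lit 0] [nat_lit 293,nat_lit 882] [] [] [] [nat_lit 1] [[nat_lit 1]] [[nat_lit 40]] [Ins.ts (nat_lit 1) [nat_lit 0] [],Ins.fr [nat_lit 0],Ins.ts (nat_lit 4) [nat_lit 0] [nat_lit 0,nat_lit 0,nat_lit 1],Ins.ts (nat_lit 1) [nat_lit 0,nat_lit 0,nat_lit 0,nat_lit 0] [],Ins.ts (nat_lit 1) [nat_lit 0,nat_lit 0,nat_lit 0,nat_lit 0,nat_lit 1] [],Ins.fr [nat_lit 1],Ins.ts (nat_lit 0) [nat_lit 0,nat_lit 0] [nat_lit 2],Ins.ts (nat_lit 4) [nat_lit 0] [nat_lit 0,nat_lit 0,nat_lit 2],Ins.ts (nat_lit 0) [nat_lit 1,nat_lit 1,nat_lit 0,nat_lit 1,nat_lit 1] [nat_lit 0]] [(nat_lit 0,nat_lit 0),(nat_lit 1,nat_lit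 0)] (Cert.rep (nat_lit 1) [nat_lit 2,nat_lit 4,nat_lit 8,nat_lit 64,nat_lit 128,nat_lit 256,nat_lit 512] [nat_lit 512,nat_lit 256,nat_lit 128,nat_lit 64,nat_lit 32,nat_lit 16,nat_lit 8,nat_lit 4,nat_lit 2,nat_lit 1] [] (Cert.rep (nat_lit 704) [] [] [] Cert.nil (Cert.rep (nat_lit 705) [] [] [] Cert.nil Cert.nil)) Cert.nil))) (Cert.o1 (nat_lit 0) (nat_lit 68) (Cert.fu (nat_lit 68) (nat_lit 1) (nat_lit 0) (nat_lit 0) [nat_lit 0] [nat_lit 128] [] [] [] [nat_lit 1] [[nat_lit 1]] [[nat_lit 68]] [Ins.ts (nat_lit 1) [nat_lit 0] [],Ins.fr [nat_lit 0],Ins.ts (nat_lit 4) [nat_lit 0] [nat_lit 0,nat_lit 0,nat_lit 1],Ins.ts (nat_lit 1) [nat_lit 0,nat_lit 0,nat_lit 0,nat_lit 0] [],Ins.ts (nat_lit 1) [nat_lit 0,nat_lit 0,nat_lit 0,nat_lit 0,nat_lit 1] [],Ins.ts (nat_lit 4) [nat_lit 0,nat_lit 0,nat_lit 0,nat_lit 0] [nat_lit 0,nat_lit 0,nat_lit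 2]] [(nat_lit 0,nat_lit 0),(nat_lit 2,nat_lit 0)] (Cert.rep (nat_lit 1) [] [nat_lit 512,nat_lit 256,nat_lit 128,nat_lit 64,nat_lit 32,nat_lit 16,nat_lit 8,nat_lit 4,nat_lit 2,nat_lit 1] [] Cert.nil Cert.nil)))))))) Cert.nil) (Cert.rep (nat_lit 92) [nat_lit 16,nat_lit 70] [] [] (Cert.rep (nat_lit 112) [] [] [] (Cert.er (Cert.ro (nat_lit 0) [nat_lit 1,nat_lit 8,nat_lit 16] [nat_lit 8,nat_lit 9,nat_lit 16] [nat_lit 0,nat_lit 1,nat_lit 92,nat_lit 93,nat_lit 10,nat_lit 11,nat_lit 87,nat_lit 86] (Cert.ro (nat_lit 1) [nat_lit 1,nat_lit 2,nat_lit 14,nat_lit 16] [nat_lit 1,nat_lit 14,nat_lit 12,nat_lit 16] [nat_lit 0,nat_lit 1,nat_lit 3,nat_lit 2,nat_lit 47,nat_lit 46,nat_lit 45,nat_lit 44,nat_lit 10,nat_lit 11,nat_lit 8,nat_lit 9,nat_lit 37,nat_lit 36,nat_lit 38,nat_lit 39] (Cert.lw (nat_lit 0) (nat_lit 2) (nat_lit 1) (Cert.s2 (nat_lit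 0) (nat_lit 26) (Cert.o1 (nat_lit 0) (nat_lit 26) (Cert.fu (nat_lit 10) (nat_lit 1) (nat_lit 0) (nat_lit 0) [] [nat_lit 26,nat_lit 2] [] [] [] [nat_lit 1] [[nat_lit 1]] [[nat_lit 26]] [Ins.fr [nat_lit 0],Ins.ts (nat_lit 3) [nat_lit 0] [],Ins.ts (nat_lit 4) [nat_lit 0] [nat_lit 0,nat_lit 0,nat_lit 0],Ins.ts (nat_lit 1) [nat_lit 0] [],Ins.fr [nat_lit 1],Ins.ts (nat_lit 3) [nat_lit 0] [],Ins.ts (nat_lit 1) [nat_lit 0,nat_lit 0] [],Ins.ts (nat_lit 4) [nat_lit 0] [nat_lit 0,nat_lit 0,nat_lit 1],Ins.ts (nat_lit 1) [nat_lit 0,nat_lit 0,nat_lit 1] [],Ins.ts (nat_lit 0) [nat_lit 0,nat_lit 0,nat_lit 0,nat_lit 0] []] [(nat_lit 0,nat_lit 0)] (Cert.rep (nat_lit 10) [] [nat_lit 68,nat_lit 36,nat_lit 16,nat_lit 8,nat_lit 2,nat_lit 1] [nat_lit 512,nat_lit 256,nat_lit 128,nat_lit 4] (Cert.rep (nat_lit 1) [] [] [] Cert.nil Cert.nil) (Cert.rep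 (nat_lit 76) [] [nat_lit 70,nat_lit 34,nat_lit 16,nat_lit 10,nat_lit 1] [nat_lit 512,nat_lit 256,nat_lit 128,nat_lit 4,nat_lit 2] (Cert.rep (nat_lit 1) [] [] [] Cert.nil Cert.nil) Cert.nil)))) (Cert.s2 (nat_lit 0) (nat_lit 40) (Cert.o1 (nat_lit 0) (nat_lit 40) (Cert.fu (nat_lit 40) (nat_lit 1) (nat_lit 0) (nat_lit 0) [nat_lit 0] [nat_lit 293,nat_lit 882] [] [] [] [nat_lit 1] [[nat_lit 1]] [[nat_lit 40]] [Ins.ts (nat_lit 1) [nat_lit 0] [],Ins.fr [nat_lit 0],Ins.ts (nat_lit 4) [nat_lit 0] [nat_lit 0,nat_lit 0,nat_lit 1],Ins.ts (nat_lit 1) [nat_lit 0,nat_lit 0,nat_lit 0,nat_lit 0] [],Ins.ts (nat_lit 1) [nat_lit 0,nat_lit 0,nat_lit 0,nat_lit 0,nat_lit 1] [],Ins.fr [nat_lit 1],Ins.ts (nat_lit 0) [nat_lit 0,nat_lit 0] [nat_lit 2],Ins.ts (nat_lit 4) [nat_lit 0] [nat_lit 0,nat_lit 0,nat_lit 2],Ins.ts (nat_lit 0) [nat_lit 1,nat_lit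 1,nat_lit 0,nat_lit 1,nat_lit 1] [nat_lit 0]] [(nat_lit 0,nat_lit 0),(nat_lit 1,nat_lit 0)] (Cert.rep (nat_lit 1) [nat_lit 2,nat_lit 4,nat_lit 8,nat_lit 64,nat_lit 128,nat_lit 256,nat_lit 512] [nat_lit 512,nat_lit 256,nat_lit 128,nat_lit 64,nat_lit 32,nat_lit 16,nat_lit 8,nat_lit 4,nat_lit 2,nat_lit 1] [] (Cert.rep (nat_lit 704) [] [] [] Cert.nil (Cert.rep (nat_lit 705) [] [] [] Cert.nil Cert.nil)) Cert.nil))) (Cert.nl (nat_lit 10) (Cert.sy (nat_lit 0) (Cert.o1 (nat_lit 0) (nat_lit 76) (Cert.fu (nat_lit 76) (nat_lit 4) (nat_lit 10) (nat_lit 0) [nat_lit 0] [nat_lit 41,nat_lit 117,nat_lit 127] [] [] [nat_lit 68,nat_lit 36,nat_lit 16,nat_lit 8,nat_lit 2,nat_lit 1] [nat_lit 1] [] [[nat_lit 76]] [Ins.fr [nat_lit 0],Ins.ts (nat_lit 3) [nat_lit 0] [],Ins.ts (nat_lit 0) [nat_lit 0,nat_lit 0] [],Ins.ts (nat_lit 4) [nat_lit 0] [nat_lit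 0,nat_lit 0,nat_lit 1],Ins.ts (nat_lit 1) [nat_lit 0] [],Ins.fr [nat_lit 1],Ins.ts (nat_lit 3) [nat_lit 0] [],Ins.ts (nat_lit 1) [nat_lit 0,nat_lit 0] [],Ins.ts (nat_lit 4) [nat_lit 0] [nat_lit 0,nat_lit 0,nat_lit 2],Ins.ts (nat_lit 0) [nat_lit 0,nat_lit 1,nat_lit 0] [nat_lit 1],Ins.ts (nat_lit 0) [nat_lit 0,nat_lit 0,nat_lit 0,nat_lit 0] [],Ins.ts (nat_lit 4) [nat_lit 1,nat_lit 0] [nat_lit 0,nat_lit 0,nat_lit 3],Ins.fr [nat_lit 2],Ins.ts (nat_lit 2) [nat_lit 0] [],Ins.ts (nat_lit 0) [nat_lit 0,nat_lit 0] [],Ins.ts (nat_lit 0) [nat_lit 2,nat_lit 0] [nat_lit 0,nat_lit 2],Ins.ts (nat_lit 0) [nat_lit 1,nat_lit 0,nat_lit 1] [nat_lit 0],Ins.ts (nat_lit 1) [nat_lit 0,nat_lit 2,nat_lit 3] [],Ins.ts (nat_lit 4) [nat_lit 0,nat_lit 3] [nat_lit 0,nat_lit 0,nat_lit 1],Ins.ts (nat_lit 4) [nat_lit 0,nat_lit 2,nat_lit 3] [nat_lit 0,nat_lit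 0,nat_lit 1]] [(nat_lit 3,nat_lit 2),(nat_lit 0,nat_lit 0),(nat_lit 2,nat_lit 2)] (Cert.rep (nat_lit 10) [nat_lit 2,nat_lit 16,nat_lit 36,nat_lit 68] [nat_lit 68,nat_lit 36,nat_lit 16,nat_lit 8,nat_lit 2,nat_lit 1] [] (Cert.rep (nat_lit 26) [nat_lit 2,nat_lit 68] [] [] (Cert.rep (nat_lit 44) [] [] [] Cert.nil Cert.nil) (Cert.rep (nat_lit 52) [nat_lit 38] [] [] (Cert.rep (nat_lit 2) [] [] [] Cert.nil Cert.nil) (Cert.rep (nat_lit 68) [nat_lit 68] [] [] (Cert.rep (nat_lit 2) [] [] [] Cert.nil (Cert.rep (nat_lit 24) [] [] [] Cert.nil Cert.nil)) Cert.nil))) Cert.nil))))))))))) Cert.nil) Cert.nil)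
noncomputable def f198_2 : Cert :=
  Cert.rep (nat_lit 68) [nat_lit 16,nat_lit 68] [] [] (Cert.rep (nat_lit 104) [] [] [] (Cert.er (Cert.ro (nat_lit 0) [nat_lit 1,nat_lit 8,nat_lit 16] [nat_lit 8,nat_lit 9,nat_lit 16] [nat_lit 0,nat_lit 1,nat_lit 68,nat_lit 69,nat_lit 10,nat_lit 11,nat_lit 78,nat_lit 79] (Cert.ro (nat_lit 1) [nat_lit 1,nat_lit 2,nat_lit 14,nat_lit 16] [nat_lit 1,nat_lit 14,nat_lit 12,nat_lit 16] [nat_lit 0,nat_lit 1,nat_lit 3,nat_lit 2,nat_lit 46,nat_lit 47,nat_lit 44,nat_lit 45,nat_lit 10,nat_lit 11,nat_lit 8,nat_lit 9,nat_lit 36,nat_lit 37,nat_lit 39,nat_lit 38] (Cert.th (nat_lit 1) (nat_lit 192) (nat_lit 1) true [nat_lit 1] [nat_lit 192,nat_lit 64] [] [] [nat_lit 696,nat_lit 64,nat_lit 464,nat_lit 48,nat_lit 42,nat_lit 4,nat_lit 2,nat_lit 1] [] [Ins.ts (nat_lit 1) [nat_lit 0] [],Ins.fr [nat_lit 0],Ins.ts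 (nat_lit 4) [nat_lit 0] [nat_lit 0,nat_lit 0,nat_lit 0],Ins.ts (nat_lit 1) [nat_lit 0,nat_lit 0] [],Ins.ts (nat_lit 0) [nat_lit 0,nat_lit 0,nat_lit 0,nat_lit 0] [],Ins.ts (nat_lit 1) [nat_lit 0,nat_lit 0,nat_lit 1] [],Ins.fr [nat_lit 1],Ins.ts (nat_lit 4) [nat_lit 0] [nat_lit 0,nat_lit 0,nat_lit 1],Ins.ts (nat_lit 0) [nat_lit 1,nat_lit 0] [nat_lit 0,nat_lit 1],Ins.ts (nat_lit 0) [nat_lit 0,nat_lit 0,nat_lit 0,nat_lit 0] [nat_lit 2]] [(nat_lit 0,nat_lit 0)] (Cert.rep (nat_lit 1) [nat_lit 2,nat_lit 4,nat_lit 8,nat_lit 16,nat_lit 64,nat_lit 128,nat_lit 256,nat_lit 512] [nat_lit 512,nat_lit 256,nat_lit 128,nat_lit 64,nat_lit 32,nat_lit 16,nat_lit 8,nat_lit 4,nat_lit 2,nat_lit 1] [] (Cert.rep (nat_lit 456) [] [] [] Cert.nil (Cert.rep (nat_lit 464) [] [] [] Cert.nil (Cert.rep (nat_lit 465) [] [] [] Cert.nil (Cert.rep (nat_lit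 650) [] [] [] Cert.nil (Cert.rep (nat_lit 652) [] [] [] Cert.nil Cert.nil))))) (Cert.rep (nat_lit 26) [nat_lit 2,nat_lit 8,nat_lit 68,nat_lit 132] [nat_lit 256,nat_lit 132,nat_lit 68,nat_lit 32,nat_lit 16,nat_lit 8,nat_lit 2,nat_lit 1] [nat_lit 512,nat_lit 4] (Cert.rep (nat_lit 2) [] [] [] Cert.nil (Cert.rep (nat_lit 24) [] [] [] Cert.nil (Cert.rep (nat_lit 42) [] [] [] Cert.nil (Cert.rep (nat_lit 48) [] [] [] Cert.nil (Cert.rep (nat_lit 108) [] [] [] Cert.nil (Cert.rep (nat_lit 116) [] [] [] Cert.nil (Cert.rep (nat_lit 456) [] [] [] Cert.nil (Cert.rep (nat_lit 457) [] [] [] Cert.nil (Cert.rep (nat_lit 464) [] [] [] Cert.nil (Cert.rep (nat_lit 465) [] [] [] Cert.nil Cert.nil)))))))))) (Cert.rep (nat_lit 28) [nat_lit 8,nat_lit 130] [nat_lit 832,nat_lit 130,nat_lit 32,nat_lit 16,nat_lit 8,nat_lit 4,nat_lit 1] [nat_lit 64,nat_lit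 320,nat_lit 2] (Cert.rep (nat_lit 4) [] [] [] Cert.nil (Cert.rep (nat_lit 24) [] [] [] Cert.nil (Cert.rep (nat_lit 44) [] [] [] Cert.nil (Cert.rep (nat_lit 48) [] [] [] Cert.nil Cert.nil)))) (Cert.rep (nat_lit 40) [nat_lit 2,nat_lit 4,nat_lit 24,nat_lit 72,nat_lit 136,nat_lit 264,nat_lit 512] [nat_lit 512,nat_lit 264,nat_lit 136,nat_lit 72,nat_lit 40,nat_lit 24,nat_lit 4,nat_lit 2,nat_lit 1] [nat_lit 8] (Cert.rep (nat_lit 2) [] [] [] Cert.nil (Cert.rep (nat_lit 4) [] [] [] Cert.nil (Cert.rep (nat_lit 24) [] [] [] Cert.nil (Cert.rep (nat_lit 48) [] [] [] Cert.nil (Cert.rep (nat_lit 458) [] [] [] Cert.nil (Cert.rep (nat_lit 464) [] [] [] Cert.nil (Cert.rep (nat_lit 465) [] [] [] Cert.nil (Cert.rep (nat_lit 468) [] [] [] Cert.nil (Cert.rep (nat_lit 652) [] [] [] Cert.nil (Cert.rep (nat_lit 660) [] [] [] Cert.nil Cert.nil))))))))))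 (Cert.rep (nat_lit 68) [nat_lit 10,nat_lit 16,nat_lit 128,nat_lit 256] [nat_lit 256,nat_lit 128,nat_lit 68,nat_lit 32,nat_lit 16,nat_lit 10,nat_lit 1] [nat_lit 512,nat_lit 4,nat_lit 2] (Cert.rep (nat_lit 42) [] [] [] Cert.nil (Cert.rep (nat_lit 48) [] [] [] Cert.nil (Cert.rep (nat_lit 110) [] [] [] Cert.nil (Cert.rep (nat_lit 116) [] [] [] Cert.nil (Cert.rep (nat_lit 400) [] [] [] Cert.nil (Cert.rep (nat_lit 468) [] [] [] Cert.nil Cert.nil)))))) (Cert.rep (nat_lit 92) [nat_lit 10,nat_lit 16,nat_lit 130,nat_lit 256] [nat_lit 256,nat_lit 130,nat_lit 70,nat_lit 32,nat_lit 16,nat_lit 10,nat_lit 1] [nat_lit 512,nat_lit 4,nat_lit 2] (Cert.rep (nat_lit 42) [] [] [] Cert.nil (Cert.rep (nat_lit 48) [] [] [] Cert.nil (Cert.rep (nat_lit 108) [] [] [] Cert.nil (Cert.rep (nat_lit 118) [] [] [] Cert.nil (Cert.rep (nat_lit 392) [] [] []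 Cert.nil (Cert.rep (nat_lit 468) [] [] [] Cert.nil Cert.nil)))))) (Cert.rep (nat_lit 460) [nat_lit 24,nat_lit 70,nat_lit 138,nat_lit 514] [nat_lit 514,nat_lit 256,nat_lit 138,nat_lit 70,nat_lit 40,nat_lit 24,nat_lit 1] [nat_lit 8,nat_lit 4,nat_lit 2] (Cert.rep (nat_lit 24) [] [] [] Cert.nil (Cert.rep (nat_lit 48) [] [] [] Cert.nil (Cert.rep (nat_lit 110) [] [] [] Cert.nil (Cert.rep (nat_lit 118) [] [] [] Cert.nil (Cert.rep (nat_lit 468) [] [] [] Cert.nil (Cert.rep (nat_lit 508) [] [] [] Cert.nil Cert.nil)))))) (Cert.rep (nat_lit 648) [nat_lit 30] [nat_lit 518,nat_lit 322,nat_lit 142,nat_lit 40,nat_lit 30,nat_lit 1] [nat_lit 64,nat_lit 8,nat_lit 4,nat_lit 2] (Cert.rep (nat_lit 466) [] [] [] Cert.nil (Cert.rep (nat_lit 467) [] [] [] Cert.nil (Cert.rep (nat_lit 858) [] [] [] Cert.nil (Cert.rep (nat_lit 859) [] [] [] Cert.nil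 Cert.nil)))) (Cert.rep (nat_lit 654) [nat_lit 30] [nat_lit 512,nat_lit 320,nat_lit 142,nat_lit 40,nat_lit 30,nat_lit 1] [nat_lit 64,nat_lit 8,nat_lit 4,nat_lit 2] (Cert.rep (nat_lit 464) [] [] [] Cert.nil (Cert.rep (nat_lit 465) [] [] [] Cert.nil (Cert.rep (nat_lit 862) [] [] [] Cert.nil (Cert.rep (nat_lit 863) [] [] [] Cert.nil Cert.nil)))) Cert.nil))))))))))))) Cert.nil) (Cert.rep (nat_lit 92) [nat_lit 16,nat_lit 70] [] [] (Cert.rep (nat_lit 112) [] [] [] (Cert.er (Cert.ro (nat_lit 0) [nat_lit 1,nat_lit 8,nat_lit 16] [nat_lit 8,nat_lit 9,nat_lit 16] [nat_lit 0,nat_lit 1,nat_lit 92,nat_lit 93,nat_lit 10,nat_lit 11,nat_lit 87,nat_lit 86] (Cert.ro (nat_lit 1) [nat_lit 1,nat_lit 2,nat_lit 14,nat_lit 16] [nat_lit 1,nat_lit 14,nat_lit 12,nat_lit 16] [nat_lit 0,nat_lit 1,nat_lit 3,nat_lit 2,nat_lit 47,nat_lit 46,nat_lit 45,nat_lit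 44,nat_lit 10,nat_lit 11,nat_lit 8,nat_lit 9,nat_lit 37,nat_lit 36,nat_lit 38,nat_lit 39] (Cert.th (nat_lit 1) (nat_lit 192) (nat_lit 1) true [nat_lit 1] [nat_lit 192,nat_lit 64] [] [] [nat_lit 696,nat_lit 64,nat_lit 464,nat_lit 48,nat_lit 42,nat_lit 4,nat_lit 2,nat_lit 1] [] [Ins.ts (nat_lit 1) [nat_lit 0] [],Ins.fr [nat_lit 0],Ins.ts (nat_lit 4) [nat_lit 0] [nat_lit 0,nat_lit 0,nat_lit 0],Ins.ts (nat_lit 1) [nat_lit 0,nat_lit 0] [],Ins.ts (nat_lit 0) [nat_lit 0,nat_lit 0,nat_lit 0,nat_lit 0] [],Ins.ts (nat_lit 1) [nat_lit 0,nat_lit 0,nat_lit 1] [],Ins.fr [nat_lit 1],Ins.ts (nat_lit 4) [nat_lit 0] [nat_lit 0,nat_lit 0,nat_lit 1],Ins.ts (nat_lit 0) [nat_lit 1,nat_lit 0] [nat_lit 0,nat_lit 1],Ins.ts (nat_lit 0) [nat_lit 0,nat_lit 0,nat_lit 0,nat_lit 0] [nat_lit 2]] [(nat_lit 0,nat_lit 0)] (Cert.rep (nat_lit 1) [nat_lit 2,nat_lit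 4,nat_lit 8,nat_lit 16,nat_lit 64,nat_lit 128,nat_lit 256,nat_lit 512] [nat_lit 512,nat_lit 256,nat_lit 128,nat_lit 64,nat_lit 32,nat_lit 16,nat_lit 8,nat_lit 4,nat_lit 2,nat_lit 1] [] (Cert.rep (nat_lit 456) [] [] [] Cert.nil (Cert.rep (nat_lit 464) [] [] [] Cert.nil (Cert.rep (nat_lit 465) [] [] [] Cert.nil (Cert.rep (nat_lit 650) [] [] [] Cert.nil (Cert.rep (nat_lit 652) [] [] [] Cert.nil Cert.nil))))) (Cert.rep (nat_lit 26) [nat_lit 2,nat_lit 8,nat_lit 68,nat_lit 132] [nat_lit 256,nat_lit 132,nat_lit 68,nat_lit 32,nat_lit 16,nat_lit 8,nat_lit 2,nat_lit 1] [nat_lit 512,nat_lit 4] (Cert.rep (nat_lit 2) [] [] [] Cert.nil (Cert.rep (nat_lit 24) [] [] [] Cert.nil (Cert.rep (nat_lit 42) [] [] [] Cert.nil (Cert.rep (nat_lit 48) [] [] [] Cert.nil (Cert.rep (nat_lit 108) [] [] [] Cert.nil (Cert.rep (nat_lit 116) [] [] [] Cert.nil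 (Cert.rep (nat_lit 456) [] [] [] Cert.nil (Cert.rep (nat_lit 457) [] [] [] Cert.nil (Cert.rep (nat_lit 464) [] [] [] Cert.nil (Cert.rep (nat_lit 465) [] [] [] Cert.nil Cert.nil)))))))))) (Cert.rep (nat_lit 28) [nat_lit 8,nat_lit 130] [nat_lit 832,nat_lit 130,nat_lit 32,nat_lit 16,nat_lit 8,nat_lit 4,nat_lit 1] [nat_lit 64,nat_lit 320,nat_lit 2] (Cert.rep (nat_lit 4) [] [] [] Cert.nil (Cert.rep (nat_lit 24) [] [] [] Cert.nil (Cert.rep (nat_lit 44) [] [] [] Cert.nil (Cert.rep (nat_lit 48) [] [] [] Cert.nil Cert.nil)))) (Cert.rep (nat_lit 40) [nat_lit 2,nat_lit 4,nat_lit 24,nat_lit 72,nat_lit 136,nat_lit 264,nat_lit 512] [nat_lit 512,nat_lit 264,nat_lit 136,nat_lit 72,nat_lit 40,nat_lit 24,nat_lit 4,nat_lit 2,nat_lit 1] [nat_lit 8] (Cert.rep (nat_lit 2) [] [] [] Cert.nil (Cert.rep (nat_lit 4) [] [] [] Cert.nil (Cert.rep (nat_lit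 24) [] [] [] Cert.nil (Cert.rep (nat_lit 48) [] [] [] Cert.nil (Cert.rep (nat_lit 458) [] [] [] Cert.nil (Cert.rep (nat_lit 464) [] [] [] Cert.nil (Cert.rep (nat_lit 465) [] [] [] Cert.nil (Cert.rep (nat_lit 468) [] [] [] Cert.nil (Cert.rep (nat_lit 652) [] [] [] Cert.nil (Cert.rep (nat_lit 660) [] [] [] Cert.nil Cert.nil)))))))))) (Cert.rep (nat_lit 68) [nat_lit 10,nat_lit 16,nat_lit 128,nat_lit 256] [nat_lit 256,nat_lit 128,nat_lit 68,nat_lit 32,nat_lit 16,nat_lit 10,nat_lit 1] [nat_lit 512,nat_lit 4,nat_lit 2] (Cert.rep (nat_lit 42) [] [] [] Cert.nil (Cert.rep (nat_lit 48) [] [] [] Cert.nil (Cert.rep (nat_lit 110) [] [] [] Cert.nil (Cert.rep (nat_lit 116) [] [] [] Cert.nil (Cert.rep (nat_lit 400) [] [] [] Cert.nil (Cert.rep (nat_lit 468) [] [] [] Cert.nil Cert.nil)))))) (Cert.rep (nat_lit 92) [nat_lit 10,nat_lit 16,nat_lit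 130,nat_lit 256] [nat_lit 256,nat_lit 130,nat_lit 70,nat_lit 32,nat_lit 16,nat_lit 10,nat_lit 1] [nat_lit 512,nat_lit 4,nat_lit 2] (Cert.rep (nat_lit 42) [] [] [] Cert.nil (Cert.rep (nat_lit 48) [] [] [] Cert.nil (Cert.rep (nat_lit 108) [] [] [] Cert.nil (Cert.rep (nat_lit 118) [] [] [] Cert.nil (Cert.rep (nat_lit 392) [] [] [] Cert.nil (Cert.rep (nat_lit 468) [] [] [] Cert.nil Cert.nil)))))) (Cert.rep (nat_lit 460) [nat_lit 24,nat_lit 70,nat_lit 138,nat_lit 514] [nat_lit 514,nat_lit 256,nat_lit 138,nat_lit 70,nat_lit 40,nat_lit 24,nat_lit 1] [nat_lit 8,nat_lit 4,nat_lit 2] (Cert.rep (nat_lit 24) [] [] [] Cert.nil (Cert.rep (nat_lit 48) [] [] [] Cert.nil (Cert.rep (nat_lit 110) [] [] [] Cert.nil (Cert.rep (nat_lit 118) [] [] [] Cert.nil (Cert.rep (nat_lit 468) [] [] [] Cert.nil (Cert.rep (nat_lit 508) [] [] [] Cert.nil Cert.nil))))))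 (Cert.rep (nat_lit 648) [nat_lit 30] [nat_lit 518,nat_lit 322,nat_lit 142,nat_lit 40,nat_lit 30,nat_lit 1] [nat_lit 64,nat_lit 8,nat_lit 4,nat_lit 2] (Cert.rep (nat_lit 466) [] [] [] Cert.nil (Cert.rep (nat_lit 467) [] [] [] Cert.nil (Cert.rep (nat_lit 858) [] [] [] Cert.nil (Cert.rep (nat_lit 859) [] [] [] Cert.nil Cert.nil)))) (Cert.rep (nat_lit 654) [nat_lit 30] [nat_lit 512,nat_lit 320,nat_lit 142,nat_lit 40,nat_lit 30,nat_lit 1] [nat_lit 64,nat_lit 8,nat_lit 4,nat_lit 2] (Cert.rep (nat_lit 464) [] [] [] Cert.nil (Cert.rep (nat_lit 465) [] [] [] Cert.nil (Cert.rep (nat_lit 862) [] [] [] Cert.nil (Cert.rep (nat_lit 863) [] [] [] Cert.nil Cert.nil)))) Cert.nil))))))))))))) Cert.nil) Cert.nil)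
noncomputable def f198_3 : Cert :=
  Cert.xk (nat_lit 312) (Cert.xn (nat_lit 10) (Cert.root (nat_lit 32) [] [nat_lit 8,nat_lit 4] [nat_lit 0,nat_lit 1,nat_lit 2,nat_lit 3,nat_lit 4] [Ins.fr [nat_lit 0],Ins.ts (nat_lit 4) [nat_lit 0] [nat_lit 0,nat_lit 0,nat_lit 0],Ins.ts (nat_lit 0) [nat_lit 0,nat_lit 0] [],Ins.ts (nat_lit 1) [nat_lit 0] [],Ins.fr [nat_lit 1],Ins.ts (nat_lit 1) [nat_lit 0,nat_lit 0] [],Ins.ts (nat_lit 4) [nat_lit 0] [nat_lit 0,nat_lit 0,nat_lit 0],Ins.ts (nat_lit 1) [nat_lit 0,nat_lit 0,nat_lit 0,nat_lit 0] [],Ins.ts (nat_lit 0) [nat_lit 1,nat_lit 0,nat_lit 1] [nat_lit 0,nat_lit 0,nat_lit 0],Ins.df [nat_lit 0,nat_lit 0],Ins.df [nat_lit 0,nat_lit 0]] (Cert.rep (nat_lit 10) [nat_lit 2,nat_lit 16,nat_lit 36,nat_lit 68] [nat_lit 68,nat_lit 36,nat_lit 16,nat_lit 8,nat_lit 2,nat_lit 1] [nat_lit 512,nat_lit 256,nat_lit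 128,nat_lit 4] (Cert.rep (nat_lit 1) [] [] [] Cert.nil (Cert.rep (nat_lit 26) [] [] [] Cert.nil (Cert.rep (nat_lit 52) [] [] [] Cert.nil f198_1))) (Cert.rep (nat_lit 76) [nat_lit 10,nat_lit 34] [nat_lit 70,nat_lit 34,nat_lit 16,nat_lit 10,nat_lit 1] [nat_lit 512,nat_lit 256,nat_lit 128,nat_lit 4,nat_lit 2] (Cert.rep (nat_lit 1) [] [] [] Cert.nil (Cert.rep (nat_lit 26) [] [] [] Cert.nil (Cert.rep (nat_lit 27) [] [] [] Cert.nil (Cert.rep (nat_lit 40) [] [] [] Cert.nil (Cert.rep (nat_lit 50) [] [] [] Cert.nil (Cert.rep (nat_lit 70) [] [] [] Cert.nil (Cert.rep (nat_lit 92) [] [] [] Cert.nil Cert.nil))))))) Cert.nil)))) (Cert.xk (nat_lit 696) (Cert.xn (nat_lit 10) (Cert.s2 (nat_lit 0) (nat_lit 68) (Cert.o1 (nat_lit 0) (nat_lit 68) (Cert.fu (nat_lit 68) (nat_lit 1) (nat_lit 0) (nat_lit 0) [nat_lit 0] [nat_lit 128] [] [] [] [nat_lit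 1] [[nat_lit 1]] [[nat_lit 68]] [Ins.ts (nat_lit 1) [nat_lit 0] [],Ins.fr [nat_lit 0],Ins.ts (nat_lit 4) [nat_lit 0] [nat_lit 0,nat_lit 0,nat_lit 1],Ins.ts (nat_lit 1) [nat_lit 0,nat_lit 0] [],Ins.ts (nat_lit 1) [nat_lit 0,nat_lit 0,nat_lit 0,nat_lit 0,nat_lit 1] [],Ins.ts (nat_lit 1) [nat_lit 0,nat_lit 0,nat_lit 0,nat_lit 0] []] [(nat_lit 1,nat_lit 0)] (Cert.rep (nat_lit 1) [] [nat_lit 512,nat_lit 256,nat_lit 128,nat_lit 64,nat_lit 32,nat_lit 16,nat_lit 8,nat_lit 4,nat_lit 2,nat_lit 1] [] Cert.nil Cert.nil))) (Cert.s2 (nat_lit 0) (nat_lit 92) (Cert.o1 (nat_lit 0) (nat_lit 92) (Cert.fu (nat_lit 92) (nat_lit 1) (nat_lit 0) (nat_lit 0) [nat_lit 0] [nat_lit 130] [] [] [] [nat_lit 1] [[nat_lit 1]] [[nat_lit 92]] [Ins.ts (nat_lit 1) [nat_lit 0] [],Ins.fr [nat_lit 0],Ins.ts (nat_lit 4) [nat_lit 0] [nat_lit 0,nat_lit 0,nat_lit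 1],Ins.ts (nat_lit 1) [nat_lit 0,nat_lit 0] [],Ins.ts (nat_lit 1) [nat_lit 0,nat_lit 0,nat_lit 0,nat_lit 0,nat_lit 1] [],Ins.ts (nat_lit 1) [nat_lit 0,nat_lit 0,nat_lit 0,nat_lit 0] []] [(nat_lit 1,nat_lit 0)] (Cert.rep (nat_lit 1) [] [nat_lit 512,nat_lit 256,nat_lit 128,nat_lit 64,nat_lit 32,nat_lit 16,nat_lit 8,nat_lit 4,nat_lit 2,nat_lit 1] [] Cert.nil Cert.nil))) (Cert.root (nat_lit 32) [] [nat_lit 8,nat_lit 4] [nat_lit 0,nat_lit 1,nat_lit 2,nat_lit 3,nat_lit 4] [Ins.fr [nat_lit 0],Ins.ts (nat_lit 4) [nat_lit 0] [nat_lit 0,nat_lit 0,nat_lit 0],Ins.ts (nat_lit 0) [nat_lit 0,nat_lit 0] [],Ins.ts (nat_lit 1) [nat_lit 0] [],Ins.fr [nat_lit 1],Ins.ts (nat_lit 1) [nat_lit 0,nat_lit 0] [],Ins.ts (nat_lit 4) [nat_lit 0] [nat_lit 0,nat_lit 0,nat_lit 0],Ins.ts (nat_lit 1) [nat_lit 0,nat_lit 0,nat_lit 0,nat_lit 0] [],Ins.ts (nat_lit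 0) [nat_lit 1,nat_lit 0,nat_lit 1] [nat_lit 0,nat_lit 0,nat_lit 0],Ins.df [nat_lit 0,nat_lit 0],Ins.df [nat_lit 0,nat_lit 0]] (Cert.rep (nat_lit 10) [nat_lit 2,nat_lit 16,nat_lit 36,nat_lit 68] [nat_lit 68,nat_lit 36,nat_lit 16,nat_lit 8,nat_lit 2,nat_lit 1] [nat_lit 512,nat_lit 256,nat_lit 128,nat_lit 4] (Cert.rep (nat_lit 1) [] [] [] Cert.nil (Cert.rep (nat_lit 26) [] [] [] Cert.nil (Cert.rep (nat_lit 52) [] [] [] Cert.nil (Cert.rep (nat_lit 68) [nat_lit 16,nat_lit 68] [] [] (Cert.rep (nat_lit 104) [] [] [] (Cert.er (Cert.ro (nat_lit 0) [nat_lit 1,nat_lit 8,nat_lit 16] [nat_lit 8,nat_lit 9,nat_lit 16] [nat_lit 0,nat_lit 1,nat_lit 68,nat_lit 69,nat_lit 10,nat_lit 11,nat_lit 78,nat_lit 79] (Cert.ro (nat_lit 1) [nat_lit 1,nat_lit 2,nat_lit 14,nat_lit 16] [nat_lit 1,nat_lit 14,nat_lit 12,nat_lit 16] [nat_lit 0,nat_lit 1,nat_lit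 3,nat_lit 2,nat_lit 46,nat_lit 47,nat_lit 44,nat_lit 45,nat_lit 10,nat_lit 11,nat_lit 8,nat_lit 9,nat_lit 36,nat_lit 37,nat_lit 39,nat_lit 38] (Cert.kw (nat_lit 2) (nat_lit 0) (nat_lit 2) (nat_lit 1) )))) Cert.nil) (Cert.rep (nat_lit 92) [nat_lit 16,nat_lit 70] [] [] (Cert.rep (nat_lit 112) [] [] [] (Cert.er (Cert.ro (nat_lit 0) [nat_lit 1,nat_lit 8,nat_lit 16] [nat_lit 8,nat_lit 9,nat_lit 16] [nat_lit 0,nat_lit 1,nat_lit 92,nat_lit 93,nat_lit 10,nat_lit 11,nat_lit 87,nat_lit 86] (Cert.ro (nat_lit 1) [nat_lit 1,nat_lit 2,nat_lit 14,nat_lit 16] [nat_lit 1,nat_lit 14,nat_lit 12,nat_lit 16] [nat_lit 0,nat_lit 1,nat_lit 3,nat_lit 2,nat_lit 47,nat_lit 46,nat_lit 45,nat_lit 44,nat_lit 10,nat_lit 11,nat_lit 8,nat_lit 9,nat_lit 37,nat_lit 36,nat_lit 38,nat_lit 39] (Cert.kw (nat_lit 2) (nat_lit 0) (nat_lit 2) (nat_lit 1) )))) Cert.nil)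 Cert.nil))))) (Cert.rep (nat_lit 76) [nat_lit 10,nat_lit 34] [nat_lit 70,nat_lit 34,nat_lit 16,nat_lit 10,nat_lit 1] [nat_lit 512,nat_lit 256,nat_lit 128,nat_lit 4,nat_lit 2] (Cert.rep (nat_lit 1) [] [] [] Cert.nil (Cert.rep (nat_lit 26) [] [] [] Cert.nil (Cert.rep (nat_lit 27) [] [] [] Cert.nil (Cert.rep (nat_lit 40) [] [] [] Cert.nil (Cert.rep (nat_lit 50) [] [] [] Cert.nil (Cert.rep (nat_lit 70) [] [] [] Cert.nil (Cert.rep (nat_lit 92) [] [] [] Cert.nil Cert.nil))))))) Cert.nil)))))) (Cert.xk (nat_lit 824) (Cert.xn (nat_lit 10) (Cert.root (nat_lit 32) [] [nat_lit 8,nat_lit 4] [nat_lit 0,nat_lit 1,nat_lit 2,nat_lit 3,nat_lit 4] [Ins.fr [nat_lit 0],Ins.ts (nat_lit 4) [nat_lit 0] [nat_lit 0,nat_lit 0,nat_lit 0],Ins.ts (nat_lit 0) [nat_lit 0,nat_lit 0] [],Ins.ts (nat_lit 1) [nat_lit 0] [],Ins.fr [nat_lit 1],Ins.ts (nat_lit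 1) [nat_lit 0,nat_lit 0] [],Ins.ts (nat_lit 4) [nat_lit 0] [nat_lit 0,nat_lit 0,nat_lit 0],Ins.ts (nat_lit 1) [nat_lit 0,nat_lit 0,nat_lit 0,nat_lit 0] [],Ins.ts (nat_lit 0) [nat_lit 1,nat_lit 0,nat_lit 1] [nat_lit 0,nat_lit 0,nat_lit 0],Ins.df [nat_lit 0,nat_lit 0],Ins.df [nat_lit 0,nat_lit 0]] (Cert.rep (nat_lit 10) [nat_lit 2,nat_lit 16,nat_lit 36,nat_lit 68] [nat_lit 68,nat_lit 36,nat_lit 16,nat_lit 8,nat_lit 2,nat_lit 1] [nat_lit 512,nat_lit 256,nat_lit 128,nat_lit 4] (Cert.rep (nat_lit 1) [] [] [] Cert.nil (Cert.rep (nat_lit 26) [] [] [] Cert.nil (Cert.rep (nat_lit 52) [] [] [] Cert.nil f198_2))) (Cert.rep (nat_lit 76) [nat_lit 10,nat_lit 34] [nat_lit 70,nat_lit 34,nat_lit 16,nat_lit 10,nat_lit 1] [nat_lit 512,nat_lit 256,nat_lit 128,nat_lit 4,nat_lit 2] (Cert.rep (nat_lit 1) [] [] [] Cert.nil (Cert.rep (nat_lit 26)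 [] [] [] Cert.nil (Cert.rep (nat_lit 27) [] [] [] Cert.nil (Cert.rep (nat_lit 40) [] [] [] Cert.nil (Cert.rep (nat_lit 50) [] [] [] Cert.nil (Cert.rep (nat_lit 70) [] [] [] Cert.nil (Cert.rep (nat_lit 92) [] [] [] Cert.nil Cert.nil))))))) Cert.nil)))) (Cert.xe (nat_lit 10) [nat_lit 76] [(nat_lit 0,nat_lit 2),(nat_lit 0,nat_lit 64),(nat_lit 0,nat_lit 128),(nat_lit 2,nat_lit 512),(nat_lit 8,nat_lit 512),(nat_lit 64,nat_lit 512)])))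
noncomputable def f198 : Cert :=
  (Cert.st (nat_lit 0) (nat_lit 10) (nat_lit 0) (Cert.st (nat_lit 0) (nat_lit 76) (nat_lit 0) (Cert.sp (nat_lit 1) (Cert.lf (Leaf.pt (nat_lit 9) (nat_lit 1) [nat_lit 10])) (Cert.sp (nat_lit 26) (Cert.lf (Leaf.pt (nat_lit 9) (nat_lit 26) [nat_lit 10])) (Cert.st (nat_lit 0) (nat_lit 26) (nat_lit 0) (Cert.sp (nat_lit 28) (Cert.lf (Leaf.pt (nat_lit 9) (nat_lit 28) [nat_lit 12])) (Cert.st (nat_lit 0) (nat_lit 28) (nat_lit 0) (Cert.sp (nat_lit 40) (Cert.lf (Leaf.pt (nat_lit 9) (nat_lit 40) [nat_lit 76])) (Cert.st (nat_lit 0) (nat_lit 40) (nat_lit 0) (Cert.sp (nat_lit 68) (Cert.lf (Leaf.pt (nat_lit 9) (nat_lit 68) [nat_lit 10])) (Cert.st (nat_lit 0) (nat_lit 68) (nat_lit 0) (Cert.sp (nat_lit 92) (Cert.lf (Leaf.pt (nat_lit 9) (nat_lit 92) [nat_lit 10])) (Cert.st (nat_lit 0) (nat_lit 92) (nat_lit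 0) (Cert.sp (nat_lit 138) (Cert.lf (Leaf.pt (nat_lit 12) (nat_lit 138) [nat_lit 68,nat_lit 344])) (Cert.st (nat_lit 0) (nat_lit 138) (nat_lit 0) (Cert.sp (nat_lit 140) (Cert.lf (Leaf.pt (nat_lit 13) (nat_lit 140) [nat_lit 30])) (Cert.st (nat_lit 0) (nat_lit 140) (nat_lit 0) (Cert.sp (nat_lit 204) (Cert.lf (Leaf.pt (nat_lit 13) (nat_lit 204) [nat_lit 70])) (Cert.st (nat_lit 0) (nat_lit 204) (nat_lit 0) (Cert.sp (nat_lit 324) (Cert.lf (Leaf.pt (nat_lit 12) (nat_lit 324) [nat_lit 68,nat_lit 538])) (Cert.st (nat_lit 0) (nat_lit 324) (nat_lit 0) (Cert.sp (nat_lit 326) (Cert.lf (Leaf.pt (nat_lit 12) (nat_lit 326) [nat_lit 70,nat_lit 540])) (Cert.st (nat_lit 0) (nat_lit 326) (nat_lit 0) (Cert.sp (nat_lit 460) (Cert.lf (Leaf.pt (nat_lit 12) (nat_lit 460) [nat_lit 70,nat_lit 514])) (Cert.st (nat_lit 0) (nat_lit 460) (nat_lit 0) (Cert.sp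 (nat_lit 512) (Cert.lf (Leaf.pt (nat_lit 19) (nat_lit 512) [nat_lit 24,nat_lit 458])) (Cert.st (nat_lit 0) (nat_lit 512) (nat_lit 0) (Cert.sp (nat_lit 648) (Cert.lf (Leaf.pt (nat_lit 13) (nat_lit 648) [nat_lit 142])) (Cert.st (nat_lit 0) (nat_lit 648) (nat_lit 0) (Cert.sp (nat_lit 654) (Cert.lf (Leaf.pt (nat_lit 13) (nat_lit 654) [nat_lit 142])) (Cert.st (nat_lit 0) (nat_lit 654) (nat_lit 0) (Cert.nl (nat_lit 1) (Cert.sy (nat_lit 0) (Cert.xk (nat_lit 0) (Cert.th (nat_lit 10) (nat_lit 10) (nat_lit 0) true [nat_lit 0] [] [] [] [nat_lit 512,nat_lit 128,nat_lit 64,nat_lit 456,nat_lit 48,nat_lit 42,nat_lit 4,nat_lit 2,nat_lit 1] [] [] [] Cert.nil) (Cert.xk (nat_lit 184) (Cert.xn (nat_lit 10) (Cert.root (nat_lit 32) [] [nat_lit 8,nat_lit 4,nat_lit 16] [nat_lit 0,nat_lit 1,nat_lit 3,nat_lit 4,nat_lit 2,nat_lit 5] [Ins.fr [nat_lit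 0],Ins.ts (nat_lit 4) [nat_lit 0] [nat_lit 0,nat_lit 0,nat_lit 0],Ins.ts (nat_lit 0) [nat_lit 0,nat_lit 0] [],Ins.ts (nat_lit 1) [nat_lit 0] [],Ins.fr [nat_lit 1],Ins.ts (nat_lit 1) [nat_lit 0,nat_lit 0] [],Ins.ts (nat_lit 4) [nat_lit 0] [nat_lit 0,nat_lit 0,nat_lit 0],Ins.ts (nat_lit 1) [nat_lit 0,nat_lit 0,nat_lit 0,nat_lit 0] [],Ins.ts (nat_lit 0) [nat_lit 1,nat_lit 0,nat_lit 1] [nat_lit 0,nat_lit 0,nat_lit 0],Ins.fr [nat_lit 2],Ins.ts (nat_lit 0) [nat_lit 0,nat_lit 0] [],Ins.ts (nat_lit 0) [nat_lit 2,nat_lit 0] [nat_lit 0,nat_lit 2],Ins.ts (nat_lit 0) [nat_lit 1,nat_lit 0,nat_lit 2,nat_lit 1] [nat_lit 0,nat_lit 2],Ins.df [nat_lit 1,nat_lit 1],Ins.df [nat_lit 0,nat_lit 0]] (Cert.rep (nat_lit 10) [nat_lit 2,nat_lit 16,nat_lit 36,nat_lit 68] [nat_lit 68,nat_lit 36,nat_lit 16,nat_lit 8,nat_lit 2,nat_lit 1] [nat_lit 512,nat_lit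 256,nat_lit 128,nat_lit 4] (Cert.rep (nat_lit 1) [] [] [] Cert.nil (Cert.rep (nat_lit 26) [] [] [] Cert.nil (Cert.rep (nat_lit 52) [] [] [] Cert.nil f198_0))) (Cert.rep (nat_lit 76) [nat_lit 10,nat_lit 34] [nat_lit 70,nat_lit 34,nat_lit 16,nat_lit 10,nat_lit 1] [nat_lit 512,nat_lit 256,nat_lit 128,nat_lit 4,nat_lit 2] (Cert.rep (nat_lit 1) [] [] [] Cert.nil (Cert.rep (nat_lit 26) [] [] [] Cert.nil (Cert.rep (nat_lit 27) [] [] [] Cert.nil (Cert.rep (nat_lit 40) [] [] [] Cert.nil (Cert.rep (nat_lit 50) [] [] [] Cert.nil (Cert.rep (nat_lit 70) [] [] [] Cert.nil (Cert.rep (nat_lit 92) [] [] [] Cert.nil Cert.nil))))))) Cert.nil)))) f198_3)))))))))))))))))))))))))))))))))))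
theorem fin198 : finOK DB PT 88 t88 198 t198 (nat_lit 0x33000000003300000000000000000000003333003300003300000000000000000000000000000000c30000c300c3c30000000000000000000000c300000000c3000000f00000f00003f0f003f00c0cf000f0f000f00000f000030c000c000003f00000000000f000fc0000fc00fcfc00f00000f0f0f0f0f0fcfc0303fc03fc03) f198 = true := by
  decide +kernel
noncomputable def f213_0 : Cert :=
  Cert.rep (nat_lit 10) [nat_lit 2,nat_lit 16,nat_lit 36,nat_lit 68] [nat_lit 68,nat_lit 36,nat_lit 16,nat_lit 8,nat_lit 2,nat_lit 1] [nat_lit 512,nat_lit 256,nat_lit 128,nat_lit 4] (Cert.rep (nat_lit 1) [] [] [] Cert.nil (Cert.rep (nat_lit 11) [] [] [] Cert.nil (Cert.rep (nat_lit 16) [] [] [] Cert.nil (Cert.rep (nat_lit 26) [] [] [] Cert.nil (Cert.rep (nat_lit 52) [] [] [] Cert.nil (Cert.rep (nat_lit 60) [] [] [] Cert.nil (Cert.rep (nat_lit 68)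 [nat_lit 16,nat_lit 68] [] [] (Cert.rep (nat_lit 96) [] [] [] (Cert.er (Cert.ro (nat_lit 0) [nat_lit 1,nat_lit 8,nat_lit 16] [nat_lit 8,nat_lit 9,nat_lit 16] [nat_lit 0,nat_lit 1,nat_lit 68,nat_lit 69,nat_lit 10,nat_lit 11,nat_lit 78,nat_lit 79] (Cert.ro (nat_lit 1) [nat_lit 1,nat_lit 2,nat_lit 14,nat_lit 16] [nat_lit 1,nat_lit 14,nat_lit 12,nat_lit 16] [nat_lit 0,nat_lit 1,nat_lit 2,nat_lit 3,nat_lit 39,nat_lit 38,nat_lit 36,nat_lit 37,nat_lit 10,nat_lit 11,nat_lit 9,nat_lit 8,nat_lit 44,nat_lit 45,nat_lit 46,nat_lit 47] (Cert.kw (nat_lit 2) (nat_lit 0) (nat_lit 2) (nat_lit 1) )))) (Cert.rep (nat_lit 104) [] [] [] (Cert.er (Cert.ro (nat_lit 0) [nat_lit 1,nat_lit 8,nat_lit 16] [nat_lit 8,nat_lit 9,nat_lit 16] [nat_lit 0,nat_lit 1,nat_lit 68,nat_lit 69,nat_lit 10,nat_lit 11,nat_lit 78,nat_lit 79] (Cert.ro (nat_lit 1) [nat_lit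 1,nat_lit 2,nat_lit 14,nat_lit 16] [nat_lit 1,nat_lit 14,nat_lit 12,nat_lit 16] [nat_lit 0,nat_lit 1,nat_lit 3,nat_lit 2,nat_lit 46,nat_lit 47,nat_lit 44,nat_lit 45,nat_lit 10,nat_lit 11,nat_lit 8,nat_lit 9,nat_lit 36,nat_lit 37,nat_lit 39,nat_lit 38] (Cert.kw (nat_lit 2) (nat_lit 0) (nat_lit 2) (nat_lit 1) )))) Cert.nil)) (Cert.rep (nat_lit 76) [nat_lit 16,nat_lit 70] [] [] (Cert.rep (nat_lit 96) [] [] [] (Cert.er (Cert.ro (nat_lit 0) [nat_lit 1,nat_lit 8,nat_lit 16] [nat_lit 8,nat_lit 9,nat_lit 16] [nat_lit 0,nat_lit 1,nat_lit 76,nat_lit 77,nat_lit 10,nat_lit 11,nat_lit 71,nat_lit 70] (Cert.ro (nat_lit 1) [nat_lit 1,nat_lit 2,nat_lit 14,nat_lit 16] [nat_lit 1,nat_lit 14,nat_lit 12,nat_lit 16] [nat_lit 0,nat_lit 1,nat_lit 2,nat_lit 3,nat_lit 47,nat_lit 46,nat_lit 44,nat_lit 45,nat_lit 10,nat_lit 11,nat_lit 9,nat_lit 8,nat_lit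 37,nat_lit 36,nat_lit 39,nat_lit 38] (Cert.lf (Leaf.st (nat_lit 2) (nat_lit 1) (nat_lit 1) (Leaf.cf (nat_lit 1))))))) (Cert.rep (nat_lit 104) [] [] [] (Cert.er (Cert.ro (nat_lit 0) [nat_lit 1,nat_lit 8,nat_lit 16] [nat_lit 8,nat_lit 9,nat_lit 16] [nat_lit 0,nat_lit 1,nat_lit 76,nat_lit 77,nat_lit 10,nat_lit 11,nat_lit 71,nat_lit 70] (Cert.ro (nat_lit 1) [nat_lit 1,nat_lit 2,nat_lit 14,nat_lit 16] [nat_lit 1,nat_lit 14,nat_lit 12,nat_lit 16] [nat_lit 0,nat_lit 1,nat_lit 3,nat_lit 2,nat_lit 39,nat_lit 38,nat_lit 37,nat_lit 36,nat_lit 10,nat_lit 11,nat_lit 8,nat_lit 9,nat_lit 44,nat_lit 45,nat_lit 47,nat_lit 46] (Cert.lf (Leaf.st (nat_lit 2) (nat_lit 1) (nat_lit 1) (Leaf.cf (nat_lit 1))))))) Cert.nil)) (Cert.rep (nat_lit 84) [nat_lit 16,nat_lit 68] [] [] (Cert.rep (nat_lit 112) [] [] [] (Cert.er (Cert.ro (nat_lit 0) [nat_lit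 1,nat_lit 8,nat_lit 16] [nat_lit 8,nat_lit 9,nat_lit 16] [nat_lit 0,nat_lit 1,nat_lit 84,nat_lit 85,nat_lit 10,nat_lit 11,nat_lit 94,nat_lit 95] (Cert.ro (nat_lit 1) [nat_lit 1,nat_lit 2,nat_lit 14,nat_lit 16] [nat_lit 1,nat_lit 14,nat_lit 12,nat_lit 16] [nat_lit 0,nat_lit 1,nat_lit 3,nat_lit 2,nat_lit 39,nat_lit 38,nat_lit 37,nat_lit 36,nat_lit 10,nat_lit 11,nat_lit 8,nat_lit 9,nat_lit 44,nat_lit 45,nat_lit 47,nat_lit 46] (Cert.lf (Leaf.st (nat_lit 2) (nat_lit 1) (nat_lit 1) (Leaf.cf (nat_lit 1))))))) (Cert.rep (nat_lit 120) [] [] [] (Cert.er (Cert.ro (nat_lit 0) [nat_lit 1,nat_lit 8,nat_lit 16] [nat_lit 8,nat_lit 9,nat_lit 16] [nat_lit 0,nat_lit 1,nat_lit 84,nat_lit 85,nat_lit 10,nat_lit 11,nat_lit 94,nat_lit 95] (Cert.ro (nat_lit 1) [nat_lit 1,nat_lit 2,nat_lit 14,nat_lit 16] [nat_lit 1,nat_lit 14,nat_lit 12,nat_lit 16]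 [nat_lit 0,nat_lit 1,nat_lit 2,nat_lit 3,nat_lit 46,nat_lit 47,nat_lit 45,nat_lit 44,nat_lit 10,nat_lit 11,nat_lit 9,nat_lit 8,nat_lit 36,nat_lit 37,nat_lit 38,nat_lit 39] (Cert.lf (Leaf.st (nat_lit 2) (nat_lit 1) (nat_lit 1) (Leaf.cf (nat_lit 1))))))) Cert.nil)) (Cert.rep (nat_lit 92) [nat_lit 16,nat_lit 70] [] [] (Cert.rep (nat_lit 112) [] [] [] (Cert.er (Cert.ro (nat_lit 0) [nat_lit 1,nat_lit 8,nat_lit 16] [nat_lit 8,nat_lit 9,nat_lit 16] [nat_lit 0,nat_lit 1,nat_lit 92,nat_lit 93,nat_lit 10,nat_lit 11,nat_lit 87,nat_lit 86] (Cert.ro (nat_lit 1) [nat_lit 1,nat_lit 2,nat_lit 14,nat_lit 16] [nat_lit 1,nat_lit 14,nat_lit 12,nat_lit 16] [nat_lit 0,nat_lit 1,nat_lit 3,nat_lit 2,nat_lit 47,nat_lit 46,nat_lit 45,nat_lit 44,nat_lit 10,nat_lit 11,nat_lit 8,nat_lit 9,nat_lit 37,nat_lit 36,nat_lit 38,nat_lit 39] (Cert.kw (nat_lit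 2) (nat_lit 0) (nat_lit 2) (nat_lit 1) )))) (Cert.rep (nat_lit 120) [] [] [] (Cert.er (Cert.ro (nat_lit 0) [nat_lit 1,nat_lit 8,nat_lit 16] [nat_lit 8,nat_lit 9,nat_lit 16] [nat_lit 0,nat_lit 1,nat_lit 92,nat_lit 93,nat_lit 10,nat_lit 11,nat_lit 87,nat_lit 86] (Cert.ro (nat_lit 1) [nat_lit 1,nat_lit 2,nat_lit 14,nat_lit 16] [nat_lit 1,nat_lit 14,nat_lit 12,nat_lit 16] [nat_lit 0,nat_lit 1,nat_lit 2,nat_lit 3,nat_lit 39,nat_lit 38,nat_lit 36,nat_lit 37,nat_lit 10,nat_lit 11,nat_lit 9,nat_lit 8,nat_lit 44,nat_lit 45,nat_lit 46,nat_lit 47] (Cert.kw (nat_lit 2) (nat_lit 0) (nat_lit 2) (nat_lit 1) )))) Cert.nil)) Cert.nil)))))))))) (Cert.rep (nat_lit 76) [nat_lit 10,nat_lit 34] [nat_lit 70,nat_lit 34,nat_lit 16,nat_lit 10,nat_lit 1] [nat_lit 512,nat_lit 256,nat_lit 128,nat_lit 4,nat_lit 2] (Cert.rep (nat_lit 1) [] [] [] Cert.nil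 (Cert.rep (nat_lit 10) [] [] [] Cert.nil (Cert.rep (nat_lit 16) [] [] [] Cert.nil (Cert.rep (nat_lit 26) [] [] [] Cert.nil (Cert.rep (nat_lit 27) [] [] [] Cert.nil (Cert.rep (nat_lit 40) [] [] [] Cert.nil (Cert.rep (nat_lit 50) [] [] [] Cert.nil (Cert.rep (nat_lit 70) [] [] [] Cert.nil (Cert.rep (nat_lit 77) [] [] [] Cert.nil (Cert.rep (nat_lit 86) [] [] [] Cert.nil (Cert.rep (nat_lit 87) [] [] [] Cert.nil (Cert.rep (nat_lit 92) [] [] [] Cert.nil (Cert.rep (nat_lit 100) [] [] [] Cert.nil (Cert.rep (nat_lit 126) [] [] [] Cert.nil Cert.nil)))))))))))))) Cert.nil)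
noncomputable def f213_1 : Cert :=
  Cert.s2 (nat_lit 0) (nat_lit 68) (Cert.o1 (nat_lit 0) (nat_lit 68) (Cert.fu (nat_lit 10) (nat_lit 1) (nat_lit 0) (nat_lit 0) [] [nat_lit 68,nat_lit 1,nat_lit 16,nat_lit 32,nat_lit 128,nat_lit 256] [] [] [] [nat_lit 1] [[nat_lit 1]] [[nat_lit 68]] [Ins.fr [nat_lit 0],Ins.ts (nat_lit 3) [nat_lit 0] [],Ins.ts (nat_lit 4) [nat_lit 0] [nat_lit 0,nat_lit 0,nat_lit 0],Ins.ts (nat_lit 1) [nat_lit 0] [],Ins.fr [nat_lit 1],Ins.ts (nat_lit 3) [nat_lit 0] [],Ins.ts (nat_lit 0) [nat_lit 0,nat_lit 0] [],Ins.ts (nat_lit 1) [nat_lit 0] [],Ins.ts (nat_lit 1) [nat_lit 0,nat_lit 1] [],Ins.fr [nat_lit 2],Ins.ts (nat_lit 2) [nat_lit 0] [],Ins.ts (nat_lit 0) [nat_lit 0,nat_lit 0] [],Ins.ts (nat_lit 1) [nat_lit 0] [],Ins.ts (nat_lit 0) [nat_lit 1,nat_lit 0] [nat_lit 0,nat_lit 1],Ins.ts (nat_lit 1) [nat_lit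 0,nat_lit 3] [],Ins.ts (nat_lit 1) [nat_lit 0,nat_lit 2,nat_lit 3] [],Ins.ts (nat_lit 1) [nat_lit 0,nat_lit 1,nat_lit 3] [],Ins.ts (nat_lit 1) [nat_lit 0,nat_lit 1,nat_lit 2,nat_lit 3] [],Ins.fr [nat_lit 1,nat_lit 3],Ins.ts (nat_lit 0) [nat_lit 0,nat_lit 0] [],Ins.ts (nat_lit 2) [nat_lit 0] [],Ins.fr [nat_lit 1,nat_lit 0,nat_lit 4],Ins.ts (nat_lit 0) [nat_lit 1,nat_lit 2] [nat_lit 0,nat_lit 0],Ins.fr [nat_lit 2],Ins.ts (nat_lit 0) [nat_lit 0,nat_lit 0] [nat_lit 4]] [] (Cert.rep (nat_lit 10) [] [nat_lit 68,nat_lit 36,nat_lit 16,nat_lit 8,nat_lit 2,nat_lit 1] [nat_lit 512,nat_lit 256,nat_lit 128,nat_lit 4] (Cert.rep (nat_lit 1) [nat_lit 2,nat_lit 16,nat_lit 36,nat_lit 68] [] [] (Cert.rep (nat_lit 26) [nat_lit 2,nat_lit 68] [] [] (Cert.rep (nat_lit 76) [] [] [] Cert.nil (Cert.rep (nat_lit 78) [] [] [] Cert.nil (Cert.rep (nat_lit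 84) [] [] [] Cert.nil (Cert.rep (nat_lit 86) [] [] [] Cert.nil Cert.nil)))) (Cert.rep (nat_lit 52) [] [] [] Cert.nil (Cert.rep (nat_lit 68) [] [] [] (Cert.rep (nat_lit 16) [] [] [] Cert.nil (Cert.rep (nat_lit 17) [] [] [] Cert.nil (Cert.rep (nat_lit 84) [] [] [] Cert.nil (Cert.rep (nat_lit 85) [] [] [] Cert.nil Cert.nil)))) (Cert.rep (nat_lit 92) [] [] [] (Cert.rep (nat_lit 16) [] [] [] Cert.nil (Cert.rep (nat_lit 17) [] [] [] Cert.nil (Cert.rep (nat_lit 76) [] [] [] Cert.nil (Cert.rep (nat_lit 77) [] [] [] Cert.nil Cert.nil)))) Cert.nil)))) Cert.nil) (Cert.rep (nat_lit 76) [] [nat_lit 70,nat_lit 34,nat_lit 16,nat_lit 10,nat_lit 1] [nat_lit 512,nat_lit 256,nat_lit 128,nat_lit 4,nat_lit 2] (Cert.rep (nat_lit 1) [nat_lit 10,nat_lit 34] [] [] (Cert.rep (nat_lit 26) [nat_lit 10,nat_lit 34] [] [] (Cert.rep (nat_lit 10) [] []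 [] Cert.nil (Cert.rep (nat_lit 16) [] [] [] Cert.nil (Cert.rep (nat_lit 100) [] [] [] Cert.nil (Cert.rep (nat_lit 126) [] [] [] Cert.nil Cert.nil)))) (Cert.rep (nat_lit 27) [nat_lit 10,nat_lit 34] [] [] (Cert.rep (nat_lit 10) [] [] [] Cert.nil (Cert.rep (nat_lit 16) [] [] [] Cert.nil (Cert.rep (nat_lit 100) [] [] [] Cert.nil (Cert.rep (nat_lit 126) [] [] [] Cert.nil Cert.nil)))) (Cert.rep (nat_lit 40) [] [] [] (Cert.rep (nat_lit 86) [nat_lit 76] [] [] (Cert.rep (nat_lit 390) [] [] [] Cert.nil (Cert.rep (nat_lit 391) [nat_lit 26] [] [] (Cert.rep (nat_lit 595) [] [] [] Cert.nil (Cert.rep (nat_lit 594) [] [] [] Cert.nil Cert.nil)) (Cert.rep (nat_lit 413) [] [] [] Cert.nil (Cert.rep (nat_lit 412) [] [] [] Cert.nil Cert.nil)))) (Cert.rep (nat_lit 87) [nat_lit 76] [] [] (Cert.rep (nat_lit 390) [nat_lit 26] [] [] (Cert.rep (nat_lit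 595) [] [] [] Cert.nil (Cert.rep (nat_lit 594) [] [] [] Cert.nil Cert.nil)) (Cert.rep (nat_lit 391) [] [] [] Cert.nil (Cert.rep (nat_lit 413) [] [] [] Cert.nil (Cert.rep (nat_lit 412) [] [] [] Cert.nil Cert.nil)))) (Cert.rep (nat_lit 126) [nat_lit 76] [] [] (Cert.rep (nat_lit 390) [nat_lit 26] [] [] (Cert.rep (nat_lit 898) [] [] [] Cert.nil (Cert.rep (nat_lit 899) [] [] [] Cert.nil Cert.nil)) (Cert.rep (nat_lit 391) [] [] [] Cert.nil (Cert.rep (nat_lit 413) [] [] [] Cert.nil (Cert.rep (nat_lit 412) [] [] [] Cert.nil Cert.nil)))) (Cert.rep (nat_lit 127) [nat_lit 76] [] [] (Cert.rep (nat_lit 390) [] [] [] Cert.nil (Cert.rep (nat_lit 391) [nat_lit 26] [] [] (Cert.rep (nat_lit 898) [] [] [] Cert.nil (Cert.rep (nat_lit 899) [] [] [] Cert.nil Cert.nil)) (Cert.rep (nat_lit 413) [] [] [] Cert.nil (Cert.rep (nat_lit 412) [] [] []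 Cert.nil Cert.nil)))) Cert.nil)))) (Cert.rep (nat_lit 50) [] [] [] (Cert.rep (nat_lit 86) [] [] [] Cert.nil (Cert.rep (nat_lit 87) [] [] [] Cert.nil (Cert.rep (nat_lit 100) [] [] [] Cert.nil (Cert.rep (nat_lit 101) [] [] [] Cert.nil Cert.nil)))) (Cert.rep (nat_lit 70) [] [] [] (Cert.rep (nat_lit 16) [] [] [] Cert.nil (Cert.rep (nat_lit 17) [] [] [] Cert.nil (Cert.rep (nat_lit 86) [] [] [] Cert.nil (Cert.rep (nat_lit 87) [] [] [] Cert.nil Cert.nil)))) (Cert.rep (nat_lit 92) [] [] [] (Cert.rep (nat_lit 10) [] [] [] Cert.nil (Cert.rep (nat_lit 11) [] [] [] Cert.nil (Cert.rep (nat_lit 86) [] [] [] Cert.nil (Cert.rep (nat_lit 87) [] [] [] Cert.nil Cert.nil)))) Cert.nil)))))) Cert.nil) Cert.nil)))) (Cert.s2 (nat_lit 0) (nat_lit 92) (Cert.o1 (nat_lit 0) (nat_lit 92) (Cert.fu (nat_lit 10) (nat_lit 1) (nat_lit 0) (nat_lit 0) [] [nat_lit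 92,nat_lit 1,nat_lit 16,nat_lit 32,nat_lit 130,nat_lit 256] [] [] [] [nat_lit 1] [[nat_lit 1]] [[nat_lit 92]] [Ins.fr [nat_lit 0],Ins.ts (nat_lit 3) [nat_lit 0] [],Ins.ts (nat_lit 4) [nat_lit 0] [nat_lit 0,nat_lit 0,nat_lit 0],Ins.ts (nat_lit 1) [nat_lit 0] [],Ins.fr [nat_lit 1],Ins.ts (nat_lit 3) [nat_lit 0] [],Ins.ts (nat_lit 0) [nat_lit 0,nat_lit 0] [],Ins.ts (nat_lit 1) [nat_lit 0] [],Ins.ts (nat_lit 4) [nat_lit 0] [nat_lit 0,nat_lit 0,nat_lit 1],Ins.ts (nat_lit 1) [nat_lit 0,nat_lit 1] [],Ins.fr [nat_lit 2],Ins.ts (nat_lit 2) [nat_lit 0] [],Ins.ts (nat_lit 0) [nat_lit 0,nat_lit 0] [],Ins.ts (nat_lit 1) [nat_lit 0] [],Ins.ts (nat_lit 0) [nat_lit 1,nat_lit 0] [nat_lit 0,nat_lit 1],Ins.ts (nat_lit 1) [nat_lit 0,nat_lit 3] [],Ins.ts (nat_lit 4) [nat_lit 0,nat_lit 1,nat_lit 2,nat_lit 3] [nat_lit 0,nat_lit 0,nat_lit 2],Ins.ts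 (nat_lit 4) [nat_lit 0,nat_lit 2,nat_lit 3] [nat_lit 0,nat_lit 0,nat_lit 2],Ins.ts (nat_lit 1) [nat_lit 0,nat_lit 2,nat_lit 3] [],Ins.ts (nat_lit 1) [nat_lit 0,nat_lit 1,nat_lit 2,nat_lit 3] [],Ins.fr [nat_lit 1,nat_lit 3],Ins.ts (nat_lit 0) [nat_lit 0,nat_lit 0] [],Ins.ts (nat_lit 2) [nat_lit 0] [],Ins.fr [nat_lit 1,nat_lit 0,nat_lit 4],Ins.ts (nat_lit 0) [nat_lit 2,nat_lit 1] [nat_lit 0,nat_lit 0],Ins.fr [nat_lit 2],Ins.ts (nat_lit 0) [nat_lit 0,nat_lit 0] [nat_lit 4]] [(nat_lit 2,nat_lit 0),(nat_lit 3,nat_lit 0)] (Cert.rep (nat_lit 10) [] [nat_lit 68,nat_lit 36,nat_lit 16,nat_lit 8,nat_lit 2,nat_lit 1] [nat_lit 512,nat_lit 256,nat_lit 128,nat_lit 4] (Cert.rep (nat_lit 1) [nat_lit 2,nat_lit 16,nat_lit 36,nat_lit 68] [] [] (Cert.rep (nat_lit 26) [] [] [] Cert.nil (Cert.rep (nat_lit 52) [] [] [] Cert.nil (Cert.rep (nat_lit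 92) [] [] [] (Cert.rep (nat_lit 16) [] [] [] Cert.nil (Cert.rep (nat_lit 17) [] [] [] Cert.nil (Cert.rep (nat_lit 76) [] [] [] Cert.nil (Cert.rep (nat_lit 77) [] [] [] Cert.nil Cert.nil)))) Cert.nil))) Cert.nil) (Cert.rep (nat_lit 76) [] [nat_lit 70,nat_lit 34,nat_lit 16,nat_lit 10,nat_lit 1] [nat_lit 512,nat_lit 256,nat_lit 128,nat_lit 4,nat_lit 2] (Cert.rep (nat_lit 1) [nat_lit 10,nat_lit 34] [] [] (Cert.rep (nat_lit 26) [nat_lit 10] [] [] (Cert.rep (nat_lit 100) [] [] [] Cert.nil (Cert.rep (nat_lit 126) [] [] [] Cert.nil Cert.nil)) (Cert.rep (nat_lit 27) [nat_lit 10] [] [] (Cert.rep (nat_lit 100) [] [] [] Cert.nil (Cert.rep (nat_lit 126) [] [] [] Cert.nil Cert.nil)) (Cert.rep (nat_lit 40) [] [] [] (Cert.rep (nat_lit 86) [nat_lit 76] [] [] (Cert.rep (nat_lit 390) [] [] [] Cert.nil (Cert.rep (nat_lit 391) [nat_lit 26] []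 [] (Cert.rep (nat_lit 585) [] [] [] Cert.nil (Cert.rep (nat_lit 584) [] [] [] Cert.nil Cert.nil)) (Cert.rep (nat_lit 413) [] [] [] Cert.nil (Cert.rep (nat_lit 412) [] [] [] Cert.nil Cert.nil)))) (Cert.rep (nat_lit 87) [nat_lit 76] [] [] (Cert.rep (nat_lit 390) [nat_lit 26] [] [] (Cert.rep (nat_lit 585) [] [] [] Cert.nil (Cert.rep (nat_lit 584) [] [] [] Cert.nil Cert.nil)) (Cert.rep (nat_lit 391) [] [] [] Cert.nil (Cert.rep (nat_lit 413) [] [] [] Cert.nil (Cert.rep (nat_lit 412) [] [] [] Cert.nil Cert.nil)))) (Cert.rep (nat_lit 126) [nat_lit 76] [] [] (Cert.rep (nat_lit 390) [nat_lit 26] [] [] (Cert.rep (nat_lit 921) [] [] [] Cert.nil (Cert.rep (nat_lit 920) [] [] [] Cert.nil Cert.nil)) (Cert.rep (nat_lit 391) [] [] [] Cert.nil (Cert.rep (nat_lit 413) [] [] [] Cert.nil (Cert.rep (nat_lit 412) [] [] [] Cert.nil Cert.nil))))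 (Cert.rep (nat_lit 127) [nat_lit 76] [] [] (Cert.rep (nat_lit 390) [] [] [] Cert.nil (Cert.rep (nat_lit 391) [nat_lit 26] [] [] (Cert.rep (nat_lit 921) [] [] [] Cert.nil (Cert.rep (nat_lit 920) [] [] [] Cert.nil Cert.nil)) (Cert.rep (nat_lit 413) [] [] [] Cert.nil (Cert.rep (nat_lit 412) [] [] [] Cert.nil Cert.nil)))) Cert.nil)))) (Cert.rep (nat_lit 50) [] [] [] (Cert.rep (nat_lit 86) [] [] [] Cert.nil (Cert.rep (nat_lit 87) [] [] [] Cert.nil (Cert.rep (nat_lit 100) [] [] [] Cert.nil (Cert.rep (nat_lit 101) [] [] [] Cert.nil Cert.nil)))) (Cert.rep (nat_lit 92) [] [] [] (Cert.rep (nat_lit 10) [] [] [] Cert.nil (Cert.rep (nat_lit 11) [] [] [] Cert.nil (Cert.rep (nat_lit 86) [] [] [] Cert.nil (Cert.rep (nat_lit 87) [] [] [] Cert.nil Cert.nil)))) Cert.nil))))) Cert.nil) Cert.nil)))) (Cert.root (nat_lit 32) [] [nat_lit 8,nat_lit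 4] [nat_lit 0,nat_lit 1,nat_lit 2,nat_lit 3,nat_lit 4] [Ins.fr [nat_lit 0],Ins.ts (nat_lit 0) [nat_lit 0,nat_lit 0] [],Ins.ts (nat_lit 1) [nat_lit 0] [],Ins.ts (nat_lit 1) [nat_lit 0,nat_lit 1] [],Ins.fr [nat_lit 1],Ins.ts (nat_lit 1) [nat_lit 0,nat_lit 0] [],Ins.ts (nat_lit 1) [nat_lit 0,nat_lit 0,nat_lit 0,nat_lit 0] [],Ins.ts (nat_lit 0) [nat_lit 1,nat_lit 0,nat_lit 1] [nat_lit 0,nat_lit 0,nat_lit 0],Ins.df [nat_lit 0,nat_lit 0],Ins.df [nat_lit 0,nat_lit 0]] f213_0))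
noncomputable def f213 : Cert :=
  (Cert.st (nat_lit 0) (nat_lit 10) (nat_lit 0) (Cert.st (nat_lit 0) (nat_lit 76) (nat_lit 0) (Cert.sp (nat_lit 1) (Cert.lf (Leaf.pt (nat_lit 9) (nat_lit 1) [nat_lit 10])) (Cert.sp (nat_lit 26) (Cert.lf (Leaf.pt (nat_lit 9) (nat_lit 26) [nat_lit 10])) (Cert.st (nat_lit 0) (nat_lit 26) (nat_lit 0) (Cert.sp (nat_lit 28) (Cert.lf (Leaf.pt (nat_lit 9) (nat_lit 28) [nat_lit 12])) (Cert.st (nat_lit 0) (nat_lit 28) (nat_lit 0) (Cert.sp (nat_lit 40) (Cert.lf (Leaf.pt (nat_lit 9) (nat_lit 40) [nat_lit 76])) (Cert.st (nat_lit 0) (nat_lit 40) (nat_lit 0) (Cert.sp (nat_lit 68) (Cert.lf (Leaf.pt (nat_lit 9) (nat_lit 68) [nat_lit 10])) (Cert.st (nat_lit 0) (nat_lit 68) (nat_lit 0) (Cert.sp (nat_lit 92) (Cert.lf (Leaf.pt (nat_lit 9) (nat_lit 92) [nat_lit 10])) (Cert.st (nat_lit 0) (nat_lit 92) (nat_lit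 0) (Cert.sp (nat_lit 136) (Cert.lf (Leaf.pt (nat_lit 12) (nat_lit 136) [nat_lit 92,nat_lit 344])) (Cert.st (nat_lit 0) (nat_lit 136) (nat_lit 0) (Cert.sp (nat_lit 144) (Cert.lf (Leaf.pt (nat_lit 12) (nat_lit 144) [nat_lit 68,nat_lit 320])) (Cert.st (nat_lit 0) (nat_lit 144) (nat_lit 0) (Cert.sp (nat_lit 212) (Cert.lf (Leaf.pt (nat_lit 13) (nat_lit 212) [nat_lit 68])) (Cert.st (nat_lit 0) (nat_lit 212) (nat_lit 0) (Cert.sp (nat_lit 460) (Cert.lf (Leaf.pt (nat_lit 12) (nat_lit 460) [nat_lit 70,nat_lit 514])) (Cert.st (nat_lit 0) (nat_lit 460) (nat_lit 0) (Cert.sp (nat_lit 512) (Cert.lf (Leaf.pt (nat_lit 19) (nat_lit 512) [nat_lit 24,nat_lit 458])) (Cert.st (nat_lit 0) (nat_lit 512) (nat_lit 0) (Cert.nl (nat_lit 1) (Cert.sy (nat_lit 0) f213_1)))))))))))))))))))))))))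
theorem fin213 : finOK DB PT 88 t88 213 t213 (nat_lit 0x33000000003300000000000000000000000000000000000000000000000000000000000000000000000000000000000000000000000000000000c300000000c3000000f00000f00003f0f003f00c0cf00000000000000000000c03000300000c000000f000f000000300000300030300f00000f0f0f0f0f0fcfc0303fc03fc03) f213 = true := by
  decide +kernel

end Cfsg.Agent.L3S.Dat
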