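import Mathlib
import Cfsg.Agent.L33.DAll
import Cfsg.Agent.L3S.EF

/-!
Certificates for the Sylow subgroups.
-/

set_option autoImplicit false
set_option maxRecDepth 100000

namespace Cfsg.Agent.L3S.Dat

open Cfsg.Agent.L33 Cfsg.Agent.L33.Dat Cfsg.Agent.L3S

noncomputable def f0_0 : Cert :=
  Cert.xk (nat_lit 100) (Cert.xn (nat_lit 4) (Cert.root (nat_lit 16) [] [nat_lit 8,nat_lit 4] [nat_lit 0,nat_lit 1,nat_lit 2,nat_lit 3,nat_lit 4] [Ins.fr [nat_lit 0],Ins.ts (nat_lit 0) [nat_lit 0,nat_lit 0] [],Ins.ts (nat_lit 4) [nat_lit 0] [nat_lit 0,nat_lit 0,nat_lit 0],Ins.ts (nat_lit 1) [nat_lit 0] [],Ins.fr [nat_lit 1],Ins.ts (nat_lit 1) [nat_lit 0,nat_lit 0] [],Ins.ts (nat_lit 4) [nat_lit 0] [nat_lit 0,nat_lit 0,nat_lit 0],Ins.ts (nat_lit 1) [nat_lit 0,nat_lit 0,nat_lit 0,nat_lit 0] [],Ins.ts (nat_lit 0) [nat_lit 1,nat_lit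 0,nat_lit 1] [nat_lit 0,nat_lit 0,nat_lit 0],Ins.df [nat_lit 0,nat_lit 0],Ins.df [nat_lit 0,nat_lit 0]] (Cert.rep (nat_lit 4) [nat_lit 2,nat_lit 8] [nat_lit 8,nat_lit 4,nat_lit 2,nat_lit 1] [nat_lit 128,nat_lit 64,nat_lit 32,nat_lit 16] (Cert.rep (nat_lit 1) [] [] [] Cert.nil (Cert.rep (nat_lit 2) [] [] [] Cert.nil (Cert.rep (nat_lit 10) [] [] [] Cert.nil Cert.nil))) (Cert.rep (nat_lit 14) [nat_lit 4,nat_lit 16,nat_lit 98] [nat_lit 98,nat_lit 16,nat_lit 10,nat_lit 4,nat_lit 1] [nat_lit 128,nat_lit 32,nat_lit 2] (Cert.rep (nat_lit 1) [] [] [] Cert.nil (Cert.rep (nat_lit 10) [nat_lit 4] [] [] (Cert.rep (nat_lit 98) [] [] [] (Cert.er (Cert.ro (nat_lit 0) [nat_lit 1,nat_lit 8,nat_lit 16] [nat_lit 8,nat_lit 9,nat_lit 16] [nat_lit 0,nat_lit 1,nat_lit 10,nat_lit 11,nat_lit 14,nat_lit 15,nat_lit 4,nat_lit 5] (Cert.ro (nat_lit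 1) [nat_lit 1,nat_lit 2,nat_lit 14,nat_lit 16] [nat_lit 1,nat_lit 14,nat_lit 12,nat_lit 16] [nat_lit 0,nat_lit 1,nat_lit 27,nat_lit 26,nat_lit 105,nat_lit 104,nat_lit 115,nat_lit 114,nat_lit 14,nat_lit 15,nat_lit 21,nat_lit 20,nat_lit 102,nat_lit 103,nat_lit 124,nat_lit 125] (Cert.out (nat_lit 0) [nat_lit 128,nat_lit 250,nat_lit 10] )))) (Cert.rep (nat_lit 99) [] [] [] (Cert.er (Cert.ro (nat_lit 0) [nat_lit 1,nat_lit 8,nat_lit 16] [nat_lit 8,nat_lit 9,nat_lit 16] [nat_lit 0,nat_lit 1,nat_lit 10,nat_lit 11,nat_lit 14,nat_lit 15,nat_lit 4,nat_lit 5] (Cert.ro (nat_lit 1) [nat_lit 1,nat_lit 2,nat_lit 14,nat_lit 16] [nat_lit 1,nat_lit 14,nat_lit 12,nat_lit 16] [nat_lit 0,nat_lit 1,nat_lit 27,nat_lit 26,nat_lit 104,nat_lit 105,nat_lit 114,nat_lit 115,nat_lit 14,nat_lit 15,nat_lit 21,nat_lit 20,nat_lit 103,nat_lit 102,nat_lit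 125,nat_lit 124] (Cert.out (nat_lit 0) [nat_lit 128,nat_lit 250,nat_lit 10] )))) Cert.nil)) Cert.nil)) Cert.nil)))) (Cert.xk (nat_lit 228) (Cert.xn (nat_lit 4) (Cert.s2 (nat_lit 0) (nat_lit 10) (Cert.o1 (nat_lit 0) (nat_lit 10) (Cert.fu (nat_lit 4) (nat_lit 1) (nat_lit 0) (nat_lit 0) [] [nat_lit 10,nat_lit 1,nat_lit 18,nat_lit 64] [] [] [] [nat_lit 1] [[nat_lit 1]] [[nat_lit 10]] [Ins.fr [nat_lit 0],Ins.ts (nat_lit 3) [nat_lit 0] [],Ins.ts (nat_lit 4) [nat_lit 0] [nat_lit 0,nat_lit 0,nat_lit 0],Ins.ts (nat_lit 1) [nat_lit 0] [],Ins.fr [nat_lit 1],Ins.ts (nat_lit 3) [nat_lit 0] [],Ins.ts (nat_lit 0) [nat_lit 0,nat_lit 0] [],Ins.ts (nat_lit 1) [nat_lit 0] [],Ins.ts (nat_lit 1) [nat_lit 0,nat_lit 1] [],Ins.fr [nat_lit 0,nat_lit 2],Ins.ts (nat_lit 3) [nat_lit 0] [],Ins.ts (nat_lit 0) [nat_lit 0,nat_lit 0] [nat_lit 1],Ins.fr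 [nat_lit 2,nat_lit 3,nat_lit 0],Ins.ts (nat_lit 0) [nat_lit 0,nat_lit 0] [nat_lit 2],Ins.ts (nat_lit 4) [nat_lit 0] [nat_lit 0,nat_lit 0,nat_lit 1]] [(nat_lit 1,nat_lit 0)] (Cert.rep (nat_lit 4) [] [nat_lit 8,nat_lit 4,nat_lit 2,nat_lit 1] [nat_lit 128,nat_lit 64,nat_lit 32,nat_lit 16] (Cert.rep (nat_lit 1) [nat_lit 2,nat_lit 8] [] [] (Cert.rep (nat_lit 2) [nat_lit 4] [] [] (Cert.rep (nat_lit 36) [] [] [] Cert.nil (Cert.rep (nat_lit 37) [] [] [] Cert.nil Cert.nil)) (Cert.rep (nat_lit 10) [] [] [] Cert.nil Cert.nil)) Cert.nil) (Cert.rep (nat_lit 14) [] [nat_lit 98,nat_lit 16,nat_lit 10,nat_lit 4,nat_lit 1] [nat_lit 128,nat_lit 32,nat_lit 2] (Cert.rep (nat_lit 1) [nat_lit 4,nat_lit 16,nat_lit 98] [] [] (Cert.rep (nat_lit 10) [] [] [] Cert.nil Cert.nil) Cert.nil) Cert.nil)))) (Cert.root (nat_lit 16) [] [nat_lit 8,nat_lit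 4] [nat_lit 0,nat_lit 1,nat_lit 2,nat_lit 3,nat_lit 4] [Ins.fr [nat_lit 0],Ins.ts (nat_lit 0) [nat_lit 0,nat_lit 0] [],Ins.ts (nat_lit 4) [nat_lit 0] [nat_lit 0,nat_lit 0,nat_lit 0],Ins.ts (nat_lit 1) [nat_lit 0] [],Ins.fr [nat_lit 1],Ins.ts (nat_lit 1) [nat_lit 0,nat_lit 0] [],Ins.ts (nat_lit 4) [nat_lit 0] [nat_lit 0,nat_lit 0,nat_lit 0],Ins.ts (nat_lit 1) [nat_lit 0,nat_lit 0,nat_lit 0,nat_lit 0] [],Ins.ts (nat_lit 0) [nat_lit 1,nat_lit 0,nat_lit 1] [nat_lit 0,nat_lit 0,nat_lit 0],Ins.df [nat_lit 0,nat_lit 0],Ins.df [nat_lit 0,nat_lit 0]] (Cert.rep (nat_lit 4) [nat_lit 2,nat_lit 8] [nat_lit 8,nat_lit 4,nat_lit 2,nat_lit 1] [nat_lit 128,nat_lit 64,nat_lit 32,nat_lit 16] (Cert.rep (nat_lit 1) [] [] [] Cert.nil (Cert.rep (nat_lit 2) [] [] [] Cert.nil (Cert.rep (nat_lit 10) [] [] [] Cert.nil Cert.nil))) (Cert.rep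 (nat_lit 14) [nat_lit 4,nat_lit 16,nat_lit 98] [nat_lit 98,nat_lit 16,nat_lit 10,nat_lit 4,nat_lit 1] [nat_lit 128,nat_lit 32,nat_lit 2] (Cert.rep (nat_lit 1) [] [] [] Cert.nil (Cert.rep (nat_lit 10) [nat_lit 4] [] [] (Cert.rep (nat_lit 98) [] [] [] (Cert.er (Cert.ro (nat_lit 0) [nat_lit 1,nat_lit 8,nat_lit 16] [nat_lit 8,nat_lit 9,nat_lit 16] [nat_lit 0,nat_lit 1,nat_lit 10,nat_lit 11,nat_lit 14,nat_lit 15,nat_lit 4,nat_lit 5] (Cert.ro (nat_lit 1) [nat_lit 1,nat_lit 2,nat_lit 14,nat_lit 16] [nat_lit 1,nat_lit 14,nat_lit 12,nat_lit 16] [nat_lit 0,nat_lit 1,nat_lit 27,nat_lit 26,nat_lit 105,nat_lit 104,nat_lit 115,nat_lit 114,nat_lit 14,nat_lit 15,nat_lit 21,nat_lit 20,nat_lit 102,nat_lit 103,nat_lit 124,nat_lit 125] (Cert.kw (nat_lit 2) (nat_lit 0) (nat_lit 2) (nat_lit 1) )))) (Cert.rep (nat_lit 99) [] [] [] (Cert.er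 (Cert.ro (nat_lit 0) [nat_lit 1,nat_lit 8,nat_lit 16] [nat_lit 8,nat_lit 9,nat_lit 16] [nat_lit 0,nat_lit 1,nat_lit 10,nat_lit 11,nat_lit 14,nat_lit 15,nat_lit 4,nat_lit 5] (Cert.ro (nat_lit 1) [nat_lit 1,nat_lit 2,nat_lit 14,nat_lit 16] [nat_lit 1,nat_lit 14,nat_lit 12,nat_lit 16] [nat_lit 0,nat_lit 1,nat_lit 27,nat_lit 26,nat_lit 104,nat_lit 105,nat_lit 114,nat_lit 115,nat_lit 14,nat_lit 15,nat_lit 21,nat_lit 20,nat_lit 103,nat_lit 102,nat_lit 125,nat_lit 124] (Cert.kw (nat_lit 2) (nat_lit 0) (nat_lit 2) (nat_lit 1) )))) Cert.nil)) Cert.nil)) Cert.nil))))) (Cert.xe (nat_lit 4) [nat_lit 14] [(nat_lit 0,nat_lit 8),(nat_lit 0,nat_lit 128),(nat_lit 4,nat_lit 32),(nat_lit 4,nat_lit 64),(nat_lit 8,nat_lit 128)]))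
noncomputable def f0 : Cert :=
  (Cert.st (nat_lit 0) (nat_lit 4) (nat_lit 0) (Cert.st (nat_lit 0) (nat_lit 14) (nat_lit 0) (Cert.sp (nat_lit 1) (Cert.lf (Leaf.pt (nat_lit 10) (nat_lit 1) [nat_lit 8,nat_lit 4])) (Cert.sp (nat_lit 2) (Cert.lf (Leaf.pt (nat_lit 10) (nat_lit 2) [nat_lit 36,nat_lit 1])) (Cert.st (nat_lit 0) (nat_lit 2) (nat_lit 0) (Cert.sp (nat_lit 10) (Cert.lf (Leaf.pt (nat_lit 5) (nat_lit 10) [nat_lit 4])) (Cert.st (nat_lit 0) (nat_lit 10) (nat_lit 0) (Cert.nl (nat_lit 1) (Cert.sy (nat_lit 0) (Cert.xk (nat_lit 0) (Cert.th (nat_lit 4) (nat_lit 4) (nat_lit 0) true [nat_lit 0] [] [] [] [nat_lit 128,nat_lit 8,nat_lit 98,nat_lit 27,nat_lit 68,nat_lit 25,nat_lit 1] [] [] [] Cert.nil) f0_0))))))))))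
theorem fin0 : finOK DB PT 34 t34 0 t0 (nat_lit 0x30c00000303000f00000ff0c3ccff) f0 = true := by
  decide +kernel
noncomputable def f13 : Cert :=
  (Cert.st (nat_lit 0) (nat_lit 4) (nat_lit 0) (Cert.sp (nat_lit 1) (Cert.lf (Leaf.pt (nat_lit 10) (nat_lit 1) [nat_lit 8,nat_lit 4])) (Cert.sp (nat_lit 2) (Cert.lf (Leaf.pt (nat_lit 10) (nat_lit 2) [nat_lit 36,nat_lit 1])) (Cert.st (nat_lit 0) (nat_lit 2) (nat_lit 0) (Cert.sp (nat_lit 10) (Cert.lf (Leaf.pt (nat_lit 10) (nat_lit 10) [nat_lit 66,nat_lit 1])) (Cert.st (nat_lit 0) (nat_lit 10) (nat_lit 0) (Cert.sp (nat_lit 28) (Cert.lf (Leaf.pt (nat_lit 10) (nat_lit 28) [nat_lit 40,nat_lit 1])) (Cert.st (nat_lit 0) (nat_lit 28) (nat_lit 0) (Cert.sp (nat_lit 32) (Cert.lf (Leaf.pt (nat_lit 10) (nat_lit 32) [nat_lit 76,nat_lit 28])) (Cert.st (nat_lit 0) (nat_lit 32) (nat_lit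 0) (Cert.sp (nat_lit 33) (Cert.lf (Leaf.pt (nat_lit 10) (nat_lit 33) [nat_lit 76,nat_lit 28])) (Cert.st (nat_lit 0) (nat_lit 33) (nat_lit 0) (Cert.nl (nat_lit 1) (Cert.sy (nat_lit 0) (Cert.root (nat_lit 16) [] [nat_lit 8,nat_lit 4] [] [Ins.fr [nat_lit 0],Ins.ts (nat_lit 1) [nat_lit 0] [],Ins.ts (nat_lit 0) [nat_lit 0,nat_lit 0] [],Ins.ts (nat_lit 1) [nat_lit 0,nat_lit 1] [],Ins.fr [nat_lit 1],Ins.ts (nat_lit 1) [nat_lit 0,nat_lit 0] [],Ins.ts (nat_lit 1) [nat_lit 0,nat_lit 0,nat_lit 0,nat_lit 0] []] (Cert.rep (nat_lit 4) [nat_lit 2,nat_lit 8] [nat_lit 8,nat_lit 4,nat_lit 2,nat_lit 1] [nat_lit 64,nat_lit 32,nat_lit 16] (Cert.rep (nat_lit 1) [] [] [] Cert.nil (Cert.rep (nat_lit 2) [] [] [] Cert.nil (Cert.rep (nat_lit 5) [] [] [] Cert.nil (Cert.rep (nat_lit 6) [] [] [] Cert.nil (Cert.rep (nat_lit 10) [] [] [] Cert.nil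 (Cert.rep (nat_lit 14) [] [] [] Cert.nil Cert.nil)))))) Cert.nil))))))))))))))))
theorem fin13 : finOK DB PT 34 t34 13 t13 (nat_lit 0xf000000ff0c3ccff) f13 = true := by
  decide +kernel
noncomputable def f16_0 : Cert :=
  Cert.rep (nat_lit 129) [] [] [] (Cert.er (Cert.ro (nat_lit 0) [nat_lit 1,nat_lit 8,nat_lit 16] [nat_lit 8,nat_lit 9,nat_lit 16] [] (Cert.ro (nat_lit 1) [nat_lit 1,nat_lit 2,nat_lit 14,nat_lit 16] [nat_lit 1,nat_lit 14,nat_lit 12,nat_lit 16] [nat_lit 0,nat_lit 1,nat_lit 8,nat_lit 9,nat_lit 131,nat_lit 130,nat_lit 138,nat_lit 139,nat_lit 4,nat_lit 5,nat_lit 12,nat_lit 13,nat_lit 135,nat_lit 134,nat_lit 142,nat_lit 143] (Cert.lw (nat_lit 0) (nat_lit 2) (nat_lit 1) (Cert.s2 (nat_lit 0) (nat_lit 32) (Cert.o1 (nat_lit 0) (nat_lit 32) (Cert.fu (nat_lit 32) (nat_lit 1) (nat_lit 0) (nat_lit 0) [nat_lit 0]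 [nat_lit 113,nat_lit 416] [] [] [] [nat_lit 1] [[nat_lit 1]] [[nat_lit 32]] [Ins.ts (nat_lit 1) [nat_lit 0] [],Ins.fr [nat_lit 0],Ins.ts (nat_lit 0) [nat_lit 0,nat_lit 0,nat_lit 0,nat_lit 0] [],Ins.ts (nat_lit 1) [nat_lit 0,nat_lit 0] [],Ins.ts (nat_lit 1) [nat_lit 0,nat_lit 0,nat_lit 1] [],Ins.fr [nat_lit 1],Ins.ts (nat_lit 0) [nat_lit 1,nat_lit 0,nat_lit 1] [nat_lit 0],Ins.ts (nat_lit 1) [nat_lit 0,nat_lit 0,nat_lit 2] [],Ins.ts (nat_lit 1) [nat_lit 0,nat_lit 0] [],Ins.ts (nat_lit 0) [nat_lit 0,nat_lit 0,nat_lit 0,nat_lit 0] [],Ins.ts (nat_lit 1) [nat_lit 0,nat_lit 0,nat_lit 1,nat_lit 1] [],Ins.ts (nat_lit 1) [nat_lit 0,nat_lit 0,nat_lit 1,nat_lit 1,nat_lit 2] []] [] (Cert.rep (nat_lit 1) [nat_lit 2,nat_lit 4,nat_lit 8,nat_lit 16,nat_lit 32,nat_lit 64,nat_lit 128,nat_lit 256] [nat_lit 256,nat_lit 128,nat_lit 64,nat_lit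 32,nat_lit 16,nat_lit 8,nat_lit 4,nat_lit 2,nat_lit 1] [] (Cert.rep (nat_lit 36) [] [] [] Cert.nil (Cert.rep (nat_lit 40) [] [] [] Cert.nil (Cert.rep (nat_lit 100) [] [] [] Cert.nil (Cert.rep (nat_lit 101) [] [] [] Cert.nil (Cert.rep (nat_lit 258) [] [] [] Cert.nil Cert.nil))))) Cert.nil))) (Cert.s2 (nat_lit 0) (nat_lit 33) (Cert.o1 (nat_lit 0) (nat_lit 33) (Cert.fu (nat_lit 32) (nat_lit 1) (nat_lit 0) (nat_lit 0) [nat_lit 1] [nat_lit 33,nat_lit 35,nat_lit 113,nat_lit 467] [] [] [] [nat_lit 1] [[nat_lit 1]] [[nat_lit 33]] [Ins.ts (nat_lit 3) [nat_lit 0] [],Ins.ts (nat_lit 1) [nat_lit 0] [],Ins.fr [nat_lit 0],Ins.ts (nat_lit 4) [nat_lit 0] [nat_lit 0,nat_lit 0,nat_lit 0],Ins.ts (nat_lit 1) [nat_lit 0] [],Ins.fr [nat_lit 1],Ins.ts (nat_lit 0) [nat_lit 0,nat_lit 0] [],Ins.ts (nat_lit 4) [nat_lit 0,nat_lit 1,nat_lit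 2] [nat_lit 0,nat_lit 0,nat_lit 1],Ins.ts (nat_lit 4) [nat_lit 0] [nat_lit 0,nat_lit 0,nat_lit 2],Ins.ts (nat_lit 1) [nat_lit 0] [],Ins.ts (nat_lit 4) [nat_lit 0,nat_lit 1] [nat_lit 0,nat_lit 0,nat_lit 2],Ins.ts (nat_lit 1) [nat_lit 0,nat_lit 1] [],Ins.ts (nat_lit 1) [nat_lit 0,nat_lit 1,nat_lit 2] [],Ins.fr [nat_lit 2],Ins.ts (nat_lit 1) [nat_lit 0,nat_lit 0] [],Ins.ts (nat_lit 0) [nat_lit 0,nat_lit 1,nat_lit 0] [nat_lit 1],Ins.ts (nat_lit 4) [nat_lit 1,nat_lit 0,nat_lit 2,nat_lit 3] [nat_lit 0,nat_lit 0,nat_lit 1],Ins.fr [nat_lit 3],Ins.ts (nat_lit 0) [nat_lit 4,nat_lit 3] [nat_lit 0,nat_lit 0]] [(nat_lit 3,nat_lit 0),(nat_lit 2,nat_lit 0)] (Cert.rep (nat_lit 28) [] [nat_lit 256,nat_lit 128,nat_lit 68,nat_lit 32,nat_lit 20,nat_lit 8,nat_lit 2,nat_lit 1] [nat_lit 4] (Cert.rep (nat_lit 1) [] [] [] Cert.nil Cert.nil)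 (Cert.rep (nat_lit 32) [] [nat_lit 384,nat_lit 76,nat_lit 32,nat_lit 28,nat_lit 2,nat_lit 1] [nat_lit 4,nat_lit 128,nat_lit 8] (Cert.rep (nat_lit 1) [nat_lit 2,nat_lit 76,nat_lit 384] [] [] (Cert.rep (nat_lit 3) [nat_lit 2] [] [] (Cert.rep (nat_lit 109) [] [] [] Cert.nil Cert.nil) (Cert.rep (nat_lit 28) [] [] [] Cert.nil Cert.nil)) Cert.nil) Cert.nil)))) (Cert.o1 (nat_lit 0) (nat_lit 2) (Cert.fu (nat_lit 4) (nat_lit 1) (nat_lit 0) (nat_lit 0) [] [nat_lit 2,nat_lit 1,nat_lit 24] [] [] [] [nat_lit 1] [[nat_lit 1]] [[nat_lit 2]] [Ins.fr [nat_lit 0],Ins.ts (nat_lit 4) [nat_lit 0] [nat_lit 0,nat_lit 0,nat_lit 0],Ins.ts (nat_lit 1) [nat_lit 0] [],Ins.fr [nat_lit 1],Ins.ts (nat_lit 3) [nat_lit 0] [],Ins.ts (nat_lit 0) [nat_lit 0,nat_lit 0] [],Ins.ts (nat_lit 1) [nat_lit 0] [],Ins.ts (nat_lit 1) [nat_lit 0,nat_lit 1] [],Ins.fr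 [nat_lit 0,nat_lit 2],Ins.ts (nat_lit 0) [nat_lit 0,nat_lit 0] [nat_lit 1],Ins.ts (nat_lit 4) [nat_lit 2,nat_lit 3,nat_lit 0] [nat_lit 0,nat_lit 0,nat_lit 1]] [(nat_lit 2,nat_lit 0)] (Cert.rep (nat_lit 4) [] [nat_lit 128,nat_lit 8,nat_lit 4,nat_lit 2,nat_lit 1] [nat_lit 256,nat_lit 32,nat_lit 96,nat_lit 16] (Cert.rep (nat_lit 1) [nat_lit 2,nat_lit 8,nat_lit 128] [] [] (Cert.rep (nat_lit 2) [] [] [] Cert.nil Cert.nil) Cert.nil) Cert.nil))))))))) (Cert.rep (nat_lit 132) [] [] [] (Cert.er (Cert.ro (nat_lit 0) [nat_lit 1,nat_lit 8,nat_lit 16] [nat_lit 8,nat_lit 9,nat_lit 16] [] (Cert.ro (nat_lit 1) [nat_lit 1,nat_lit 2,nat_lit 14,nat_lit 16] [nat_lit 1,nat_lit 14,nat_lit 12,nat_lit 16] [nat_lit 0,nat_lit 1,nat_lit 8,nat_lit 9,nat_lit 134,nat_lit 135,nat_lit 143,nat_lit 142,nat_lit 4,nat_lit 5,nat_lit 12,nat_lit 13,nat_lit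 130,nat_lit 131,nat_lit 139,nat_lit 138] (Cert.fu (nat_lit 4) (nat_lit 2) (nat_lit 4) (nat_lit 1) [nat_lit 1] [nat_lit 1,nat_lit 142,nat_lit 8,nat_lit 16] [] [] [nat_lit 128,nat_lit 16,nat_lit 8,nat_lit 4,nat_lit 2,nat_lit 1] [nat_lit 1] [[nat_lit 8,nat_lit 1]] [[nat_lit 1],[nat_lit 4,nat_lit 1],[nat_lit 142,nat_lit 1]] [Ins.fr [nat_lit 0],Ins.ts (nat_lit 4) [nat_lit 0] [nat_lit 0,nat_lit 0,nat_lit 0],Ins.ts (nat_lit 1) [nat_lit 0] [],Ins.fr [nat_lit 1],Ins.ts (nat_lit 4) [nat_lit 0] [nat_lit 0,nat_lit 0,nat_lit 2],Ins.ts (nat_lit 1) [nat_lit 0] [],Ins.ts (nat_lit 0) [nat_lit 0,nat_lit 0] [nat_lit 1],Ins.fr [nat_lit 2],Ins.ts (nat_lit 0) [nat_lit 0,nat_lit 0] [nat_lit 2],Ins.ts (nat_lit 0) [nat_lit 1,nat_lit 0,nat_lit 1] [nat_lit 0],Ins.fr [nat_lit 2,nat_lit 3],Ins.ts (nat_lit 2) [nat_lit 0] [],Ins.ts (nat_lit 0)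 [nat_lit 0,nat_lit 0] [],Ins.ts (nat_lit 0) [nat_lit 2,nat_lit 0] [nat_lit 0,nat_lit 2],Ins.ts (nat_lit 2) [nat_lit 2,nat_lit 4,nat_lit 0] []] [] (Cert.rep (nat_lit 4) [] [nat_lit 128,nat_lit 8,nat_lit 4,nat_lit 2,nat_lit 1] [nat_lit 16] (Cert.rep (nat_lit 1) [nat_lit 2] [] [] (Cert.rep (nat_lit 8) [nat_lit 8,nat_lit 128] [] [] (Cert.rep (nat_lit 130) [] [] [] Cert.nil (Cert.rep (nat_lit 134) [] [] [] Cert.nil Cert.nil)) Cert.nil) Cert.nil) Cert.nil))))) (Cert.rep (nat_lit 133) [] [] [] (Cert.er (Cert.ro (nat_lit 0) [nat_lit 1,nat_lit 8,nat_lit 16] [nat_lit 8,nat_lit 9,nat_lit 16] [] (Cert.ro (nat_lit 1) [nat_lit 1,nat_lit 2,nat_lit 14,nat_lit 16] [nat_lit 1,nat_lit 14,nat_lit 12,nat_lit 16] [nat_lit 0,nat_lit 1,nat_lit 8,nat_lit 9,nat_lit 135,nat_lit 134,nat_lit 142,nat_lit 143,nat_lit 4,nat_lit 5,nat_lit 12,nat_lit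 13,nat_lit 131,nat_lit 130,nat_lit 138,nat_lit 139] (Cert.fu (nat_lit 4) (nat_lit 2) (nat_lit 4) (nat_lit 1) [nat_lit 1] [nat_lit 1,nat_lit 143,nat_lit 8,nat_lit 16] [] [] [nat_lit 128,nat_lit 16,nat_lit 8,nat_lit 4,nat_lit 2,nat_lit 1] [nat_lit 1] [[nat_lit 8,nat_lit 1]] [[nat_lit 1],[nat_lit 4,nat_lit 1],[nat_lit 143,nat_lit 1]] [Ins.fr [nat_lit 0],Ins.ts (nat_lit 4) [nat_lit 0] [nat_lit 0,nat_lit 0,nat_lit 0],Ins.ts (nat_lit 1) [nat_lit 0] [],Ins.fr [nat_lit 1],Ins.ts (nat_lit 4) [nat_lit 0] [nat_lit 0,nat_lit 0,nat_lit 2],Ins.ts (nat_lit 1) [nat_lit 0] [],Ins.ts (nat_lit 0) [nat_lit 0,nat_lit 0] [nat_lit 1],Ins.fr [nat_lit 2],Ins.ts (nat_lit 0) [nat_lit 0,nat_lit 0] [nat_lit 2],Ins.ts (nat_lit 0) [nat_lit 1,nat_lit 0,nat_lit 1] [nat_lit 0],Ins.fr [nat_lit 2,nat_lit 3],Ins.ts (nat_lit 2) [nat_lit 0] [],Ins.ts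 (nat_lit 0) [nat_lit 0,nat_lit 0] [],Ins.ts (nat_lit 0) [nat_lit 2,nat_lit 0] [nat_lit 0,nat_lit 2],Ins.ts (nat_lit 2) [nat_lit 2,nat_lit 4,nat_lit 0] []] [] (Cert.rep (nat_lit 4) [] [nat_lit 128,nat_lit 8,nat_lit 4,nat_lit 2,nat_lit 1] [nat_lit 16] (Cert.rep (nat_lit 1) [nat_lit 2] [] [] (Cert.rep (nat_lit 8) [nat_lit 8,nat_lit 128] [] [] (Cert.rep (nat_lit 130) [] [] [] Cert.nil (Cert.rep (nat_lit 134) [] [] [] Cert.nil Cert.nil)) Cert.nil) Cert.nil) Cert.nil))))) Cert.nil))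
noncomputable def f16_1 : Cert :=
  Cert.rep (nat_lit 2) [nat_lit 2] [] [] (Cert.rep (nat_lit 128) [] [] [] (Cert.er (Cert.ro (nat_lit 0) [nat_lit 1,nat_lit 8,nat_lit 16] [nat_lit 8,nat_lit 9,nat_lit 16] [] (Cert.ro (nat_lit 1) [nat_lit 1,nat_lit 2,nat_lit 14,nat_lit 16] [nat_lit 1,nat_lit 14,nat_lit 12,nat_lit 16] [nat_lit 0,nat_lit 1,nat_lit 8,nat_lit 9,nat_lit 130,nat_lit 131,nat_lit 139,nat_lit 138,nat_lit 4,nat_lit 5,nat_lit 12,nat_lit 13,nat_lit 134,nat_lit 135,nat_lit 143,nat_lit 142] (Cert.lw (nat_lit 0) (nat_lit 2) (nat_lit 1) (Cert.s2 (nat_lit 0) (nat_lit 32) (Cert.o1 (nat_lit 0) (nat_lit 32) (Cert.fu (nat_lit 32) (nat_lit 1) (nat_lit 0) (nat_lit 0) [nat_lit 0] [nat_lit 113,nat_lit 416] [] [] [] [nat_lit 1] [[nat_lit 1]] [[nat_lit 32]] [Ins.ts (nat_lit 1) [nat_lit 0] [],Ins.fr [nat_lit 0],Ins.ts (nat_lit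 0) [nat_lit 0,nat_lit 0,nat_lit 0,nat_lit 0] [],Ins.ts (nat_lit 1) [nat_lit 0,nat_lit 0] [],Ins.ts (nat_lit 1) [nat_lit 0,nat_lit 0,nat_lit 1] [],Ins.fr [nat_lit 1],Ins.ts (nat_lit 0) [nat_lit 1,nat_lit 0,nat_lit 1] [nat_lit 0],Ins.ts (nat_lit 1) [nat_lit 0,nat_lit 0,nat_lit 2] [],Ins.ts (nat_lit 1) [nat_lit 0,nat_lit 0] [],Ins.ts (nat_lit 0) [nat_lit 0,nat_lit 0,nat_lit 0,nat_lit 0] [],Ins.ts (nat_lit 1) [nat_lit 0,nat_lit 0,nat_lit 1,nat_lit 1] [],Ins.ts (nat_lit 1) [nat_lit 0,nat_lit 0,nat_lit 1,nat_lit 1,nat_lit 2] []] [] (Cert.rep (nat_lit 1) [nat_lit 2,nat_lit 4,nat_lit 8,nat_lit 16,nat_lit 32,nat_lit 64,nat_lit 128,nat_lit 256] [nat_lit 256,nat_lit 128,nat_lit 64,nat_lit 32,nat_lit 16,nat_lit 8,nat_lit 4,nat_lit 2,nat_lit 1] [] (Cert.rep (nat_lit 36) [] [] [] Cert.nil (Cert.rep (nat_lit 40) [] [] [] Cert.nil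 (Cert.rep (nat_lit 100) [] [] [] Cert.nil (Cert.rep (nat_lit 101) [] [] [] Cert.nil (Cert.rep (nat_lit 258) [] [] [] Cert.nil Cert.nil))))) Cert.nil))) (Cert.s2 (nat_lit 0) (nat_lit 33) (Cert.o1 (nat_lit 0) (nat_lit 33) (Cert.fu (nat_lit 32) (nat_lit 1) (nat_lit 0) (nat_lit 0) [nat_lit 1] [nat_lit 33,nat_lit 35,nat_lit 113,nat_lit 467] [] [] [] [nat_lit 1] [[nat_lit 1]] [[nat_lit 33]] [Ins.ts (nat_lit 3) [nat_lit 0] [],Ins.ts (nat_lit 1) [nat_lit 0] [],Ins.fr [nat_lit 0],Ins.ts (nat_lit 4) [nat_lit 0] [nat_lit 0,nat_lit 0,nat_lit 0],Ins.ts (nat_lit 1) [nat_lit 0] [],Ins.fr [nat_lit 1],Ins.ts (nat_lit 0) [nat_lit 0,nat_lit 0] [],Ins.ts (nat_lit 4) [nat_lit 0,nat_lit 1,nat_lit 2] [nat_lit 0,nat_lit 0,nat_lit 1],Ins.ts (nat_lit 4) [nat_lit 0] [nat_lit 0,nat_lit 0,nat_lit 2],Ins.ts (nat_lit 1) [nat_lit 0] [],Ins.ts (nat_lit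 4) [nat_lit 0,nat_lit 1] [nat_lit 0,nat_lit 0,nat_lit 2],Ins.ts (nat_lit 1) [nat_lit 0,nat_lit 1] [],Ins.ts (nat_lit 1) [nat_lit 0,nat_lit 1,nat_lit 2] [],Ins.fr [nat_lit 2],Ins.ts (nat_lit 1) [nat_lit 0,nat_lit 0] [],Ins.ts (nat_lit 0) [nat_lit 0,nat_lit 1,nat_lit 0] [nat_lit 1],Ins.ts (nat_lit 4) [nat_lit 1,nat_lit 0,nat_lit 2,nat_lit 3] [nat_lit 0,nat_lit 0,nat_lit 1],Ins.fr [nat_lit 3],Ins.ts (nat_lit 0) [nat_lit 4,nat_lit 3] [nat_lit 0,nat_lit 0]] [(nat_lit 3,nat_lit 0),(nat_lit 2,nat_lit 0)] (Cert.rep (nat_lit 28) [] [nat_lit 256,nat_lit 128,nat_lit 68,nat_lit 32,nat_lit 20,nat_lit 8,nat_lit 2,nat_lit 1] [nat_lit 4] (Cert.rep (nat_lit 1) [] [] [] Cert.nil Cert.nil) (Cert.rep (nat_lit 32) [] [nat_lit 384,nat_lit 76,nat_lit 32,nat_lit 28,nat_lit 2,nat_lit 1] [nat_lit 4,nat_lit 128,nat_lit 8] (Cert.rep (nat_lit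 1) [nat_lit 2,nat_lit 76,nat_lit 384] [] [] (Cert.rep (nat_lit 3) [nat_lit 2] [] [] (Cert.rep (nat_lit 109) [] [] [] Cert.nil Cert.nil) (Cert.rep (nat_lit 28) [] [] [] Cert.nil Cert.nil)) Cert.nil) Cert.nil)))) (Cert.o1 (nat_lit 0) (nat_lit 2) (Cert.fu (nat_lit 4) (nat_lit 1) (nat_lit 0) (nat_lit 0) [] [nat_lit 2,nat_lit 1,nat_lit 24] [] [] [] [nat_lit 1] [[nat_lit 1]] [[nat_lit 2]] [Ins.fr [nat_lit 0],Ins.ts (nat_lit 4) [nat_lit 0] [nat_lit 0,nat_lit 0,nat_lit 0],Ins.ts (nat_lit 1) [nat_lit 0] [],Ins.fr [nat_lit 1],Ins.ts (nat_lit 3) [nat_lit 0] [],Ins.ts (nat_lit 0) [nat_lit 0,nat_lit 0] [],Ins.ts (nat_lit 1) [nat_lit 0] [],Ins.ts (nat_lit 1) [nat_lit 0,nat_lit 1] [],Ins.fr [nat_lit 0,nat_lit 2],Ins.ts (nat_lit 0) [nat_lit 0,nat_lit 0] [nat_lit 1],Ins.ts (nat_lit 4) [nat_lit 2,nat_lit 3,nat_lit 0] [nat_lit 0,nat_lit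 0,nat_lit 1]] [(nat_lit 2,nat_lit 0)] (Cert.rep (nat_lit 4) [] [nat_lit 128,nat_lit 8,nat_lit 4,nat_lit 2,nat_lit 1] [nat_lit 256,nat_lit 32,nat_lit 96,nat_lit 16] (Cert.rep (nat_lit 1) [nat_lit 2,nat_lit 8,nat_lit 128] [] [] (Cert.rep (nat_lit 2) [] [] [] Cert.nil Cert.nil) Cert.nil) Cert.nil))))))))) f16_0) (Cert.rep (nat_lit 5) [] [] [] Cert.nil (Cert.rep (nat_lit 6) [nat_lit 2] [] [] (Cert.rep (nat_lit 128) [] [] [] (Cert.er (Cert.ro (nat_lit 0) [nat_lit 1,nat_lit 8,nat_lit 16] [nat_lit 8,nat_lit 9,nat_lit 16] [nat_lit 0,nat_lit 1,nat_lit 6,nat_lit 7,nat_lit 4,nat_lit 5,nat_lit 2,nat_lit 3] (Cert.ro (nat_lit 1) [nat_lit 1,nat_lit 2,nat_lit 14,nat_lit 16] [nat_lit 1,nat_lit 14,nat_lit 12,nat_lit 16] [nat_lit 0,nat_lit 1,nat_lit 8,nat_lit 9,nat_lit 134,nat_lit 135,nat_lit 143,nat_lit 142,nat_lit 4,nat_lit 5,nat_lit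 12,nat_lit 13,nat_lit 130,nat_lit 131,nat_lit 139,nat_lit 138] (Cert.lf (Leaf.st (nat_lit 2) (nat_lit 1) (nat_lit 1) (Leaf.cf (nat_lit 1))))))) (Cert.rep (nat_lit 129) [] [] [] (Cert.er (Cert.ro (nat_lit 0) [nat_lit 1,nat_lit 8,nat_lit 16] [nat_lit 8,nat_lit 9,nat_lit 16] [nat_lit 0,nat_lit 1,nat_lit 6,nat_lit 7,nat_lit 4,nat_lit 5,nat_lit 2,nat_lit 3] (Cert.ro (nat_lit 1) [nat_lit 1,nat_lit 2,nat_lit 14,nat_lit 16] [nat_lit 1,nat_lit 14,nat_lit 12,nat_lit 16] [nat_lit 0,nat_lit 1,nat_lit 8,nat_lit 9,nat_lit 135,nat_lit 134,nat_lit 142,nat_lit 143,nat_lit 4,nat_lit 5,nat_lit 12,nat_lit 13,nat_lit 131,nat_lit 130,nat_lit 138,nat_lit 139] (Cert.lf (Leaf.st (nat_lit 2) (nat_lit 1) (nat_lit 1) (Leaf.cf (nat_lit 1))))))) (Cert.rep (nat_lit 132) [] [] [] (Cert.er (Cert.ro (nat_lit 0) [nat_lit 1,nat_lit 8,nat_lit 16] [nat_lit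 8,nat_lit 9,nat_lit 16] [nat_lit 0,nat_lit 1,nat_lit 6,nat_lit 7,nat_lit 4,nat_lit 5,nat_lit 2,nat_lit 3] (Cert.ro (nat_lit 1) [nat_lit 1,nat_lit 2,nat_lit 14,nat_lit 16] [nat_lit 1,nat_lit 14,nat_lit 12,nat_lit 16] [nat_lit 0,nat_lit 1,nat_lit 8,nat_lit 9,nat_lit 130,nat_lit 131,nat_lit 139,nat_lit 138,nat_lit 4,nat_lit 5,nat_lit 12,nat_lit 13,nat_lit 134,nat_lit 135,nat_lit 143,nat_lit 142] (Cert.lf (Leaf.st (nat_lit 2) (nat_lit 1) (nat_lit 1) (Leaf.cf (nat_lit 1))))))) (Cert.rep (nat_lit 133) [] [] [] (Cert.er (Cert.ro (nat_lit 0) [nat_lit 1,nat_lit 8,nat_lit 16] [nat_lit 8,nat_lit 9,nat_lit 16] [nat_lit 0,nat_lit 1,nat_lit 6,nat_lit 7,nat_lit 4,nat_lit 5,nat_lit 2,nat_lit 3] (Cert.ro (nat_lit 1) [nat_lit 1,nat_lit 2,nat_lit 14,nat_lit 16] [nat_lit 1,nat_lit 14,nat_lit 12,nat_lit 16] [nat_lit 0,nat_lit 1,nat_lit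 8,nat_lit 9,nat_lit 131,nat_lit 130,nat_lit 138,nat_lit 139,nat_lit 4,nat_lit 5,nat_lit 12,nat_lit 13,nat_lit 135,nat_lit 134,nat_lit 142,nat_lit 143] (Cert.lf (Leaf.st (nat_lit 2) (nat_lit 1) (nat_lit 1) (Leaf.cf (nat_lit 1))))))) Cert.nil)))) Cert.nil))
noncomputable def f16 : Cert :=
  (Cert.st (nat_lit 0) (nat_lit 4) (nat_lit 0) (Cert.sp (nat_lit 1) (Cert.lf (Leaf.pt (nat_lit 10) (nat_lit 1) [nat_lit 8,nat_lit 4])) (Cert.sp (nat_lit 2) (Cert.lf (Leaf.pt (nat_lit 10) (nat_lit 2) [nat_lit 36,nat_lit 1])) (Cert.st (nat_lit 0) (nat_lit 2) (nat_lit 0) (Cert.sp (nat_lit 28) (Cert.lf (Leaf.pt (nat_lit 10) (nat_lit 28) [nat_lit 40,nat_lit 1])) (Cert.st (nat_lit 0) (nat_lit 28) (nat_lit 0) (Cert.sp (nat_lit 32) (Cert.lf (Leaf.pt (nat_lit 10) (nat_lit 32) [nat_lit 78,nat_lit 1])) (Cert.st (nat_lit 0) (nat_lit 32) (nat_lit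 0) (Cert.sp (nat_lit 33) (Cert.lf (Leaf.pt (nat_lit 10) (nat_lit 33) [nat_lit 78,nat_lit 1])) (Cert.st (nat_lit 0) (nat_lit 33) (nat_lit 0) (Cert.nl (nat_lit 1) (Cert.sy (nat_lit 0) (Cert.root (nat_lit 16) [] [nat_lit 8,nat_lit 4] [nat_lit 0,nat_lit 1,nat_lit 2,nat_lit 3,nat_lit 4] [Ins.fr [nat_lit 0],Ins.ts (nat_lit 0) [nat_lit 0,nat_lit 0] [],Ins.ts (nat_lit 1) [nat_lit 0] [],Ins.ts (nat_lit 1) [nat_lit 0,nat_lit 1] [],Ins.fr [nat_lit 1],Ins.ts (nat_lit 1) [nat_lit 0,nat_lit 0] [],Ins.ts (nat_lit 1) [nat_lit 0,nat_lit 0,nat_lit 0,nat_lit 0] [],Ins.ts (nat_lit 0) [nat_lit 1,nat_lit 0,nat_lit 1] [nat_lit 0,nat_lit 0,nat_lit 0],Ins.df [nat_lit 0,nat_lit 0],Ins.df [nat_lit 0,nat_lit 0]] (Cert.rep (nat_lit 4) [nat_lit 2,nat_lit 8,nat_lit 128] [nat_lit 128,nat_lit 8,nat_lit 4,nat_lit 2,nat_lit 1] [nat_lit 256,nat_lit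 32,nat_lit 96,nat_lit 16] (Cert.rep (nat_lit 1) [] [] [] Cert.nil f16_1) Cert.nil))))))))))))))
theorem fin16 : finOK DB PT 34 t34 16 t16 (nat_lit 0x30000300000000000000000c0c00000c0cc0c00c0330c0f000000ff0c3ccff) f16 = true := by
  decide +kernel
noncomputable def f21_0 : Cert :=
  Cert.rep (nat_lit 128) [] [] [] (Cert.er (Cert.ro (nat_lit 0) [nat_lit 1,nat_lit 8,nat_lit 16] [nat_lit 8,nat_lit 9,nat_lit 16] [] (Cert.ro (nat_lit 1) [nat_lit 1,nat_lit 2,nat_lit 14,nat_lit 16] [nat_lit 1,nat_lit 14,nat_lit 12,nat_lit 16] [nat_lit 0,nat_lit 1,nat_lit 8,nat_lit 9,nat_lit 130,nat_lit 131,nat_lit 139,nat_lit 138,nat_lit 4,nat_lit 5,nat_lit 12,nat_lit 13,nat_lit 134,nat_lit 135,nat_lit 143,nat_lit 142] (Cert.lw (nat_lit 0) (nat_lit 2) (nat_lit 1) (Cert.s2 (nat_lit 0) (nat_lit 28) (Cert.o1 (nat_lit 0) (nat_lit 28) (Cert.fu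 (nat_lit 28) (nat_lit 1) (nat_lit 0) (nat_lit 0) [nat_lit 0] [nat_lit 128,nat_lit 160] [] [] [] [nat_lit 1] [[nat_lit 1]] [[nat_lit 28]] [Ins.ts (nat_lit 1) [nat_lit 0] [],Ins.fr [nat_lit 0],Ins.ts (nat_lit 4) [nat_lit 0] [nat_lit 0,nat_lit 0,nat_lit 1],Ins.ts (nat_lit 1) [nat_lit 0,nat_lit 0] [],Ins.ts (nat_lit 1) [nat_lit 0,nat_lit 0,nat_lit 0,nat_lit 0,nat_lit 1] [],Ins.ts (nat_lit 1) [nat_lit 0,nat_lit 0,nat_lit 0,nat_lit 0] [],Ins.ts (nat_lit 0) [nat_lit 0,nat_lit 0,nat_lit 0,nat_lit 0,nat_lit 0,nat_lit 0,nat_lit 0,nat_lit 0] [],Ins.fr [nat_lit 1],Ins.ts (nat_lit 4) [nat_lit 0] [nat_lit 0,nat_lit 0,nat_lit 1],Ins.ts (nat_lit 0) [nat_lit 0,nat_lit 1,nat_lit 0,nat_lit 1] [nat_lit 2],Ins.ts (nat_lit 1) [nat_lit 0,nat_lit 0] [],Ins.ts (nat_lit 0) [nat_lit 0,nat_lit 0,nat_lit 0,nat_lit 0] [nat_lit 2]] [(nat_lit 0,nat_lit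 0)] (Cert.rep (nat_lit 1) [nat_lit 2,nat_lit 4,nat_lit 8,nat_lit 32,nat_lit 64,nat_lit 128,nat_lit 256] [nat_lit 256,nat_lit 128,nat_lit 64,nat_lit 32,nat_lit 16,nat_lit 8,nat_lit 4,nat_lit 2,nat_lit 1] [] (Cert.rep (nat_lit 160) [] [] [] Cert.nil (Cert.rep (nat_lit 161) [] [] [] Cert.nil Cert.nil)) Cert.nil))) (Cert.fu (nat_lit 4) (nat_lit 2) (nat_lit 4) (nat_lit 1) [nat_lit 1] [nat_lit 1,nat_lit 138,nat_lit 8,nat_lit 16] [nat_lit 4,nat_lit 5,nat_lit 2,nat_lit 1,nat_lit 0] [nat_lit 0,nat_lit 1,nat_lit 4,nat_lit 5,nat_lit 8,nat_lit 9,nat_lit 12,nat_lit 13,nat_lit 16,nat_lit 17,nat_lit 20,nat_lit 21,nat_lit 24,nat_lit 25,nat_lit 28,nat_lit 29,nat_lit 130,nat_lit 131,nat_lit 134,nat_lit 135,nat_lit 139,nat_lit 138,nat_lit 143,nat_lit 142,nat_lit 147,nat_lit 146,nat_lit 151,nat_lit 150,nat_lit 154,nat_lit 155,nat_lit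 158,nat_lit 159] [nat_lit 128,nat_lit 16,nat_lit 8,nat_lit 4,nat_lit 2,nat_lit 1] [nat_lit 1] [[nat_lit 8,nat_lit 1]] [[nat_lit 1],[nat_lit 4,nat_lit 1],[nat_lit 138,nat_lit 1]] [Ins.fr [nat_lit 0],Ins.ts (nat_lit 4) [nat_lit 0] [nat_lit 0,nat_lit 0,nat_lit 0],Ins.ts (nat_lit 1) [nat_lit 0] [],Ins.fr [nat_lit 1],Ins.ts (nat_lit 3) [nat_lit 0] [],Ins.ts (nat_lit 4) [nat_lit 0] [nat_lit 0,nat_lit 0,nat_lit 2],Ins.ts (nat_lit 1) [nat_lit 0] [],Ins.ts (nat_lit 0) [nat_lit 0,nat_lit 0] [nat_lit 1],Ins.fr [nat_lit 2],Ins.ts (nat_lit 3) [nat_lit 0] [],Ins.ts (nat_lit 0) [nat_lit 0,nat_lit 0] [nat_lit 2],Ins.ts (nat_lit 4) [nat_lit 0] [nat_lit 0,nat_lit 0,nat_lit 3],Ins.ts (nat_lit 0) [nat_lit 1,nat_lit 0,nat_lit 1] [nat_lit 0],Ins.fr [nat_lit 2,nat_lit 3],Ins.ts (nat_lit 2) [nat_lit 0] [],Ins.ts (nat_lit 0) [nat_lit 0,nat_lit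 0] [],Ins.ts (nat_lit 0) [nat_lit 1,nat_lit 0] [nat_lit 0,nat_lit 1],Ins.df [nat_lit 2,nat_lit 1]] [(nat_lit 0,nat_lit 0)] (Cert.rep (nat_lit 4) [] [nat_lit 128,nat_lit 8,nat_lit 4,nat_lit 2,nat_lit 1] [nat_lit 16] (Cert.rep (nat_lit 1) [nat_lit 2] [] [] (Cert.rep (nat_lit 8) [nat_lit 8,nat_lit 128] [] [] (Cert.rep (nat_lit 130) [nat_lit 4] [] [] (Cert.rep (nat_lit 154) [] [] [] (Cert.en (Cert.fu (nat_lit 28) (nat_lit 1) (nat_lit 0) (nat_lit 0) [nat_lit 0,nat_lit 1] [nat_lit 1,nat_lit 138,nat_lit 243] [] [] [] [nat_lit 1] [[nat_lit 20,nat_lit 8,nat_lit 1]] [[nat_lit 151,nat_lit 138,nat_lit 1]] [Ins.ts (nat_lit 1) [nat_lit 0] [],Ins.fr [nat_lit 0],Ins.ts (nat_lit 4) [nat_lit 0] [nat_lit 0,nat_lit 0,nat_lit 0],Ins.ts (nat_lit 1) [nat_lit 0] [],Ins.ts (nat_lit 0) [nat_lit 0,nat_lit 0] [],Ins.ts (nat_lit 4) [nat_lit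 0] [nat_lit 0,nat_lit 0,nat_lit 2],Ins.fr [nat_lit 1],Ins.ts (nat_lit 4) [nat_lit 0] [nat_lit 0,nat_lit 0,nat_lit 0],Ins.ts (nat_lit 1) [nat_lit 0] [],Ins.ts (nat_lit 0) [nat_lit 0,nat_lit 0] [nat_lit 1],Ins.fr [nat_lit 2],Ins.ts (nat_lit 0) [nat_lit 0,nat_lit 0] [nat_lit 2],Ins.ts (nat_lit 4) [nat_lit 0] [nat_lit 0,nat_lit 0,nat_lit 3],Ins.ts (nat_lit 0) [nat_lit 1,nat_lit 0,nat_lit 1] [nat_lit 0,nat_lit 3]] [(nat_lit 3,nat_lit 0),(nat_lit 2,nat_lit 0),(nat_lit 0,nat_lit 0)] (Cert.rep (nat_lit 28) [] [nat_lit 256,nat_lit 128,nat_lit 68,nat_lit 32,nat_lit 20,nat_lit 8,nat_lit 2,nat_lit 1] [nat_lit 4] (Cert.rep (nat_lit 1) [nat_lit 2,nat_lit 32] [] [] (Cert.rep (nat_lit 8) [] [] [] Cert.nil Cert.nil) Cert.nil) Cert.nil))) Cert.nil) Cert.nil) Cert.nil) Cert.nil) Cert.nil))))))) (Cert.rep (nat_lit 129) [] [] [] (Cert.er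 (Cert.ro (nat_lit 0) [nat_lit 1,nat_lit 8,nat_lit 16] [nat_lit 8,nat_lit 9,nat_lit 16] [] (Cert.ro (nat_lit 1) [nat_lit 1,nat_lit 2,nat_lit 14,nat_lit 16] [nat_lit 1,nat_lit 14,nat_lit 12,nat_lit 16] [nat_lit 0,nat_lit 1,nat_lit 8,nat_lit 9,nat_lit 131,nat_lit 130,nat_lit 138,nat_lit 139,nat_lit 4,nat_lit 5,nat_lit 12,nat_lit 13,nat_lit 135,nat_lit 134,nat_lit 142,nat_lit 143] (Cert.lw (nat_lit 0) (nat_lit 2) (nat_lit 1) (Cert.s2 (nat_lit 0) (nat_lit 28) (Cert.o1 (nat_lit 0) (nat_lit 28) (Cert.fu (nat_lit 28) (nat_lit 1) (nat_lit 0) (nat_lit 0) [nat_lit 0] [nat_lit 128,nat_lit 160] [] [] [] [nat_lit 1] [[nat_lit 1]] [[nat_lit 28]] [Ins.ts (nat_lit 1) [nat_lit 0] [],Ins.fr [nat_lit 0],Ins.ts (nat_lit 4) [nat_lit 0] [nat_lit 0,nat_lit 0,nat_lit 1],Ins.ts (nat_lit 1) [nat_lit 0,nat_lit 0] [],Ins.ts (nat_lit 1) [nat_lit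 0,nat_lit 0,nat_lit 0,nat_lit 0,nat_lit 1] [],Ins.ts (nat_lit 1) [nat_lit 0,nat_lit 0,nat_lit 0,nat_lit 0] [],Ins.ts (nat_lit 0) [nat_lit 0,nat_lit 0,nat_lit 0,nat_lit 0,nat_lit 0,nat_lit 0,nat_lit 0,nat_lit 0] [],Ins.fr [nat_lit 1],Ins.ts (nat_lit 4) [nat_lit 0] [nat_lit 0,nat_lit 0,nat_lit 1],Ins.ts (nat_lit 0) [nat_lit 0,nat_lit 1,nat_lit 0,nat_lit 1] [nat_lit 2],Ins.ts (nat_lit 1) [nat_lit 0,nat_lit 0] [],Ins.ts (nat_lit 0) [nat_lit 0,nat_lit 0,nat_lit 0,nat_lit 0] [nat_lit 2]] [(nat_lit 0,nat_lit 0)] (Cert.rep (nat_lit 1) [nat_lit 2,nat_lit 4,nat_lit 8,nat_lit 32,nat_lit 64,nat_lit 128,nat_lit 256] [nat_lit 256,nat_lit 128,nat_lit 64,nat_lit 32,nat_lit 16,nat_lit 8,nat_lit 4,nat_lit 2,nat_lit 1] [] (Cert.rep (nat_lit 160) [] [] [] Cert.nil (Cert.rep (nat_lit 161) [] [] [] Cert.nil Cert.nil)) Cert.nil))) (Cert.fu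 (nat_lit 4) (nat_lit 2) (nat_lit 4) (nat_lit 1) [nat_lit 1] [nat_lit 1,nat_lit 139,nat_lit 8,nat_lit 16] [nat_lit 4,nat_lit 5,nat_lit 2,nat_lit 1,nat_lit 0] [nat_lit 0,nat_lit 1,nat_lit 4,nat_lit 5,nat_lit 8,nat_lit 9,nat_lit 12,nat_lit 13,nat_lit 16,nat_lit 17,nat_lit 20,nat_lit 21,nat_lit 24,nat_lit 25,nat_lit 28,nat_lit 29,nat_lit 130,nat_lit 131,nat_lit 134,nat_lit 135,nat_lit 139,nat_lit 138,nat_lit 143,nat_lit 142,nat_lit 147,nat_lit 146,nat_lit 151,nat_lit 150,nat_lit 154,nat_lit 155,nat_lit 158,nat_lit 159] [nat_lit 128,nat_lit 16,nat_lit 8,nat_lit 4,nat_lit 2,nat_lit 1] [nat_lit 1] [[nat_lit 8,nat_lit 1]] [[nat_lit 1],[nat_lit 4,nat_lit 1],[nat_lit 139,nat_lit 1]] [Ins.fr [nat_lit 0],Ins.ts (nat_lit 4) [nat_lit 0] [nat_lit 0,nat_lit 0,nat_lit 0],Ins.ts (nat_lit 1) [nat_lit 0] [],Ins.fr [nat_lit 1],Ins.ts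 (nat_lit 3) [nat_lit 0] [],Ins.ts (nat_lit 4) [nat_lit 0] [nat_lit 0,nat_lit 0,nat_lit 2],Ins.ts (nat_lit 1) [nat_lit 0] [],Ins.ts (nat_lit 0) [nat_lit 0,nat_lit 0] [nat_lit 1],Ins.fr [nat_lit 2],Ins.ts (nat_lit 3) [nat_lit 0] [],Ins.ts (nat_lit 0) [nat_lit 0,nat_lit 0] [nat_lit 2],Ins.ts (nat_lit 4) [nat_lit 0] [nat_lit 0,nat_lit 0,nat_lit 3],Ins.ts (nat_lit 0) [nat_lit 1,nat_lit 0,nat_lit 1] [nat_lit 0],Ins.fr [nat_lit 2,nat_lit 3],Ins.ts (nat_lit 2) [nat_lit 0] [],Ins.ts (nat_lit 0) [nat_lit 0,nat_lit 0] [],Ins.ts (nat_lit 0) [nat_lit 1,nat_lit 0] [nat_lit 0,nat_lit 1],Ins.df [nat_lit 1,nat_lit 2]] [(nat_lit 0,nat_lit 0)] (Cert.rep (nat_lit 4) [] [nat_lit 128,nat_lit 8,nat_lit 4,nat_lit 2,nat_lit 1] [nat_lit 16] (Cert.rep (nat_lit 1) [nat_lit 2] [] [] (Cert.rep (nat_lit 8) [nat_lit 8,nat_lit 128] [] [] (Cert.rep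 (nat_lit 130) [nat_lit 4] [] [] (Cert.rep (nat_lit 154) [] [] [] (Cert.en (Cert.fu (nat_lit 28) (nat_lit 1) (nat_lit 0) (nat_lit 0) [nat_lit 0,nat_lit 1] [nat_lit 1,nat_lit 139,nat_lit 243] [] [] [] [nat_lit 1] [[nat_lit 20,nat_lit 8,nat_lit 1]] [[nat_lit 150,nat_lit 139,nat_lit 1]] [Ins.ts (nat_lit 1) [nat_lit 0] [],Ins.fr [nat_lit 0],Ins.ts (nat_lit 4) [nat_lit 0] [nat_lit 0,nat_lit 0,nat_lit 0],Ins.ts (nat_lit 1) [nat_lit 0] [],Ins.ts (nat_lit 0) [nat_lit 0,nat_lit 0] [],Ins.ts (nat_lit 4) [nat_lit 0] [nat_lit 0,nat_lit 0,nat_lit 2],Ins.fr [nat_lit 1],Ins.ts (nat_lit 4) [nat_lit 0] [nat_lit 0,nat_lit 0,nat_lit 0],Ins.ts (nat_lit 1) [nat_lit 0] [],Ins.ts (nat_lit 0) [nat_lit 0,nat_lit 0] [nat_lit 1],Ins.fr [nat_lit 2],Ins.ts (nat_lit 0) [nat_lit 0,nat_lit 0] [nat_lit 2],Ins.ts (nat_lit 4) [nat_lit 0] [nat_lit 0,nat_lit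 0,nat_lit 3],Ins.ts (nat_lit 0) [nat_lit 1,nat_lit 0,nat_lit 1] [nat_lit 0,nat_lit 3]] [(nat_lit 3,nat_lit 0),(nat_lit 2,nat_lit 0),(nat_lit 0,nat_lit 0)] (Cert.rep (nat_lit 28) [] [nat_lit 256,nat_lit 128,nat_lit 68,nat_lit 32,nat_lit 20,nat_lit 8,nat_lit 2,nat_lit 1] [nat_lit 4] (Cert.rep (nat_lit 1) [nat_lit 2,nat_lit 32] [] [] (Cert.rep (nat_lit 8) [] [] [] Cert.nil Cert.nil) Cert.nil) Cert.nil))) Cert.nil) Cert.nil) Cert.nil) Cert.nil) Cert.nil))))))) Cert.nil)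
noncomputable def f21_1 : Cert :=
  Cert.xk (nat_lit 52) (Cert.xn (nat_lit 4) (Cert.s2 (nat_lit 0) (nat_lit 2) (Cert.o1 (nat_lit 0) (nat_lit 2) (Cert.fu (nat_lit 4) (nat_lit 1) (nat_lit 0) (nat_lit 0) [] [nat_lit 2,nat_lit 1,nat_lit 24] [] [] [] [nat_lit 1] [[nat_lit 1]] [[nat_lit 2]] [Ins.fr [nat_lit 0],Ins.ts (nat_lit 4) [nat_lit 0] [nat_lit 0,nat_lit 0,nat_lit 0],Ins.ts (nat_lit 1) [nat_lit 0] [],Ins.fr [nat_lit 1],Ins.ts (nat_lit 3) [nat_lit 0] [],Ins.ts (nat_lit 0) [nat_lit 0,nat_lit 0] [],Ins.ts (nat_lit 1) [nat_lit 0] [],Ins.ts (nat_lit 1) [nat_lit 0,nat_lit 1] [],Ins.fr [nat_lit 0,nat_lit 2],Ins.ts (nat_lit 0) [nat_lit 0,nat_lit 0] [nat_lit 1],Ins.ts (nat_lit 4) [nat_lit 0] [nat_lit 0,nat_lit 0,nat_lit 1]] [(nat_lit 1,nat_lit 0)] (Cert.rep (nat_lit 4) [] [nat_lit 128,nat_lit 8,nat_lit 4,nat_lit 2,nat_lit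 1] [nat_lit 256,nat_lit 32,nat_lit 96,nat_lit 16] (Cert.rep (nat_lit 1) [nat_lit 2,nat_lit 8,nat_lit 128] [] [] (Cert.rep (nat_lit 2) [] [] [] Cert.nil Cert.nil) Cert.nil) Cert.nil))) (Cert.root (nat_lit 16) [] [nat_lit 8,nat_lit 4] [nat_lit 0,nat_lit 1,nat_lit 2,nat_lit 3,nat_lit 4] [Ins.fr [nat_lit 0],Ins.ts (nat_lit 0) [nat_lit 0,nat_lit 0] [],Ins.ts (nat_lit 4) [nat_lit 0] [nat_lit 0,nat_lit 0,nat_lit 0],Ins.ts (nat_lit 1) [nat_lit 0] [],Ins.fr [nat_lit 1],Ins.ts (nat_lit 4) [nat_lit 0] [nat_lit 0,nat_lit 0,nat_lit 0],Ins.ts (nat_lit 1) [nat_lit 0,nat_lit 0] [],Ins.ts (nat_lit 1) [nat_lit 0,nat_lit 0,nat_lit 0,nat_lit 0] [],Ins.ts (nat_lit 0) [nat_lit 1,nat_lit 0,nat_lit 1] [nat_lit 0,nat_lit 0,nat_lit 0],Ins.df [nat_lit 0,nat_lit 0],Ins.df [nat_lit 0,nat_lit 0]] (Cert.rep (nat_lit 4) [nat_lit 2,nat_lit 8,nat_lit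 128] [nat_lit 128,nat_lit 8,nat_lit 4,nat_lit 2,nat_lit 1] [nat_lit 256,nat_lit 32,nat_lit 96,nat_lit 16] (Cert.rep (nat_lit 1) [] [] [] Cert.nil (Cert.rep (nat_lit 2) [nat_lit 2] [] [] (Cert.rep (nat_lit 128) [] [] [] (Cert.er (Cert.ro (nat_lit 0) [nat_lit 1,nat_lit 8,nat_lit 16] [nat_lit 8,nat_lit 9,nat_lit 16] [] (Cert.ro (nat_lit 1) [nat_lit 1,nat_lit 2,nat_lit 14,nat_lit 16] [nat_lit 1,nat_lit 14,nat_lit 12,nat_lit 16] [nat_lit 0,nat_lit 1,nat_lit 8,nat_lit 9,nat_lit 130,nat_lit 131,nat_lit 139,nat_lit 138,nat_lit 4,nat_lit 5,nat_lit 12,nat_lit 13,nat_lit 134,nat_lit 135,nat_lit 143,nat_lit 142] (Cert.kw (nat_lit 2) (nat_lit 0) (nat_lit 2) (nat_lit 1) )))) (Cert.rep (nat_lit 129) [] [] [] (Cert.er (Cert.ro (nat_lit 0) [nat_lit 1,nat_lit 8,nat_lit 16] [nat_lit 8,nat_lit 9,nat_lit 16] [] (Cert.ro (nat_lit 1) [nat_lit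 1,nat_lit 2,nat_lit 14,nat_lit 16] [nat_lit 1,nat_lit 14,nat_lit 12,nat_lit 16] [nat_lit 0,nat_lit 1,nat_lit 8,nat_lit 9,nat_lit 131,nat_lit 130,nat_lit 138,nat_lit 139,nat_lit 4,nat_lit 5,nat_lit 12,nat_lit 13,nat_lit 135,nat_lit 134,nat_lit 142,nat_lit 143] (Cert.kw (nat_lit 2) (nat_lit 0) (nat_lit 2) (nat_lit 1) )))) Cert.nil)) Cert.nil)) Cert.nil)))) (Cert.xk (nat_lit 84) (Cert.xn (nat_lit 4) (Cert.root (nat_lit 16) [] [nat_lit 8,nat_lit 4] [nat_lit 0,nat_lit 1,nat_lit 2,nat_lit 3,nat_lit 4] [Ins.fr [nat_lit 0],Ins.ts (nat_lit 0) [nat_lit 0,nat_lit 0] [],Ins.ts (nat_lit 4) [nat_lit 0] [nat_lit 0,nat_lit 0,nat_lit 0],Ins.ts (nat_lit 1) [nat_lit 0] [],Ins.fr [nat_lit 1],Ins.ts (nat_lit 4) [nat_lit 0] [nat_lit 0,nat_lit 0,nat_lit 0],Ins.ts (nat_lit 1) [nat_lit 0,nat_lit 0] [],Ins.ts (nat_lit 1) [nat_lit 0,nat_lit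 0,nat_lit 0,nat_lit 0] [],Ins.ts (nat_lit 0) [nat_lit 1,nat_lit 0,nat_lit 1] [nat_lit 0,nat_lit 0,nat_lit 0],Ins.df [nat_lit 0,nat_lit 0],Ins.df [nat_lit 0,nat_lit 0]] (Cert.rep (nat_lit 4) [nat_lit 2,nat_lit 8,nat_lit 128] [nat_lit 128,nat_lit 8,nat_lit 4,nat_lit 2,nat_lit 1] [nat_lit 256,nat_lit 32,nat_lit 96,nat_lit 16] (Cert.rep (nat_lit 1) [] [] [] Cert.nil (Cert.rep (nat_lit 2) [nat_lit 2] [] [] (Cert.rep (nat_lit 128) [] [] [] (Cert.er (Cert.ro (nat_lit 0) [nat_lit 1,nat_lit 8,nat_lit 16] [nat_lit 8,nat_lit 9,nat_lit 16] [] (Cert.ro (nat_lit 1) [nat_lit 1,nat_lit 2,nat_lit 14,nat_lit 16] [nat_lit 1,nat_lit 14,nat_lit 12,nat_lit 16] [nat_lit 0,nat_lit 1,nat_lit 8,nat_lit 9,nat_lit 130,nat_lit 131,nat_lit 139,nat_lit 138,nat_lit 4,nat_lit 5,nat_lit 12,nat_lit 13,nat_lit 134,nat_lit 135,nat_lit 143,nat_lit 142]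 (Cert.out (nat_lit 3) [nat_lit 290,nat_lit 32,nat_lit 426,nat_lit 34] )))) (Cert.rep (nat_lit 129) [] [] [] (Cert.er (Cert.ro (nat_lit 0) [nat_lit 1,nat_lit 8,nat_lit 16] [nat_lit 8,nat_lit 9,nat_lit 16] [] (Cert.ro (nat_lit 1) [nat_lit 1,nat_lit 2,nat_lit 14,nat_lit 16] [nat_lit 1,nat_lit 14,nat_lit 12,nat_lit 16] [nat_lit 0,nat_lit 1,nat_lit 8,nat_lit 9,nat_lit 131,nat_lit 130,nat_lit 138,nat_lit 139,nat_lit 4,nat_lit 5,nat_lit 12,nat_lit 13,nat_lit 135,nat_lit 134,nat_lit 142,nat_lit 143] (Cert.out (nat_lit 3) [nat_lit 290,nat_lit 32,nat_lit 426,nat_lit 34] )))) Cert.nil)) Cert.nil)) Cert.nil))) (Cert.xk (nat_lit 308) (Cert.xn (nat_lit 4) (Cert.s2 (nat_lit 0) (nat_lit 2) (Cert.o1 (nat_lit 0) (nat_lit 2) (Cert.fu (nat_lit 4) (nat_lit 1) (nat_lit 0) (nat_lit 0) [] [nat_lit 2,nat_lit 1,nat_lit 24] [] [] [] [nat_lit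 1] [[nat_lit 1]] [[nat_lit 2]] [Ins.fr [nat_lit 0],Ins.ts (nat_lit 4) [nat_lit 0] [nat_lit 0,nat_lit 0,nat_lit 0],Ins.ts (nat_lit 1) [nat_lit 0] [],Ins.fr [nat_lit 1],Ins.ts (nat_lit 3) [nat_lit 0] [],Ins.ts (nat_lit 0) [nat_lit 0,nat_lit 0] [],Ins.ts (nat_lit 1) [nat_lit 0] [],Ins.ts (nat_lit 1) [nat_lit 0,nat_lit 1] [],Ins.fr [nat_lit 0,nat_lit 2],Ins.ts (nat_lit 0) [nat_lit 0,nat_lit 0] [nat_lit 1],Ins.ts (nat_lit 4) [nat_lit 0] [nat_lit 0,nat_lit 0,nat_lit 1]] [(nat_lit 1,nat_lit 0)] (Cert.rep (nat_lit 4) [] [nat_lit 128,nat_lit 8,nat_lit 4,nat_lit 2,nat_lit 1] [nat_lit 256,nat_lit 32,nat_lit 96,nat_lit 16] (Cert.rep (nat_lit 1) [nat_lit 2,nat_lit 8,nat_lit 128] [] [] (Cert.rep (nat_lit 2) [] [] [] Cert.nil Cert.nil) Cert.nil) Cert.nil))) (Cert.root (nat_lit 16) [] [nat_lit 8,nat_lit 4] [nat_lit 0,nat_lit 1,nat_lit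 2,nat_lit 3,nat_lit 4] [Ins.fr [nat_lit 0],Ins.ts (nat_lit 0) [nat_lit 0,nat_lit 0] [],Ins.ts (nat_lit 4) [nat_lit 0] [nat_lit 0,nat_lit 0,nat_lit 0],Ins.ts (nat_lit 1) [nat_lit 0] [],Ins.fr [nat_lit 1],Ins.ts (nat_lit 4) [nat_lit 0] [nat_lit 0,nat_lit 0,nat_lit 0],Ins.ts (nat_lit 1) [nat_lit 0,nat_lit 0] [],Ins.ts (nat_lit 1) [nat_lit 0,nat_lit 0,nat_lit 0,nat_lit 0] [],Ins.ts (nat_lit 0) [nat_lit 1,nat_lit 0,nat_lit 1] [nat_lit 0,nat_lit 0,nat_lit 0],Ins.df [nat_lit 0,nat_lit 0],Ins.df [nat_lit 0,nat_lit 0]] (Cert.rep (nat_lit 4) [nat_lit 2,nat_lit 8,nat_lit 128] [nat_lit 128,nat_lit 8,nat_lit 4,nat_lit 2,nat_lit 1] [nat_lit 256,nat_lit 32,nat_lit 96,nat_lit 16] (Cert.rep (nat_lit 1) [] [] [] Cert.nil (Cert.rep (nat_lit 2) [nat_lit 2] [] [] (Cert.rep (nat_lit 128) [] [] [] (Cert.er (Cert.ro (nat_lit 0) [nat_lit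 1,nat_lit 8,nat_lit 16] [nat_lit 8,nat_lit 9,nat_lit 16] [] (Cert.ro (nat_lit 1) [nat_lit 1,nat_lit 2,nat_lit 14,nat_lit 16] [nat_lit 1,nat_lit 14,nat_lit 12,nat_lit 16] [nat_lit 0,nat_lit 1,nat_lit 8,nat_lit 9,nat_lit 130,nat_lit 131,nat_lit 139,nat_lit 138,nat_lit 4,nat_lit 5,nat_lit 12,nat_lit 13,nat_lit 134,nat_lit 135,nat_lit 143,nat_lit 142] (Cert.kw (nat_lit 2) (nat_lit 0) (nat_lit 2) (nat_lit 1) )))) (Cert.rep (nat_lit 129) [] [] [] (Cert.er (Cert.ro (nat_lit 0) [nat_lit 1,nat_lit 8,nat_lit 16] [nat_lit 8,nat_lit 9,nat_lit 16] [] (Cert.ro (nat_lit 1) [nat_lit 1,nat_lit 2,nat_lit 14,nat_lit 16] [nat_lit 1,nat_lit 14,nat_lit 12,nat_lit 16] [nat_lit 0,nat_lit 1,nat_lit 8,nat_lit 9,nat_lit 131,nat_lit 130,nat_lit 138,nat_lit 139,nat_lit 4,nat_lit 5,nat_lit 12,nat_lit 13,nat_lit 135,nat_lit 134,nat_lit 142,nat_lit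 143] (Cert.kw (nat_lit 2) (nat_lit 0) (nat_lit 2) (nat_lit 1) )))) Cert.nil)) Cert.nil)) Cert.nil)))) (Cert.xk (nat_lit 340) (Cert.xn (nat_lit 4) (Cert.root (nat_lit 16) [] [nat_lit 8,nat_lit 4] [nat_lit 0,nat_lit 1,nat_lit 2,nat_lit 3,nat_lit 4] [Ins.fr [nat_lit 0],Ins.ts (nat_lit 0) [nat_lit 0,nat_lit 0] [],Ins.ts (nat_lit 4) [nat_lit 0] [nat_lit 0,nat_lit 0,nat_lit 0],Ins.ts (nat_lit 1) [nat_lit 0] [],Ins.fr [nat_lit 1],Ins.ts (nat_lit 4) [nat_lit 0] [nat_lit 0,nat_lit 0,nat_lit 0],Ins.ts (nat_lit 1) [nat_lit 0,nat_lit 0] [],Ins.ts (nat_lit 1) [nat_lit 0,nat_lit 0,nat_lit 0,nat_lit 0] [],Ins.ts (nat_lit 0) [nat_lit 1,nat_lit 0,nat_lit 1] [nat_lit 0,nat_lit 0,nat_lit 0],Ins.df [nat_lit 0,nat_lit 0],Ins.df [nat_lit 0,nat_lit 0]] (Cert.rep (nat_lit 4) [nat_lit 2,nat_lit 8,nat_lit 128] [nat_lit 128,nat_lit 8,nat_lit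 4,nat_lit 2,nat_lit 1] [nat_lit 256,nat_lit 32,nat_lit 96,nat_lit 16] (Cert.rep (nat_lit 1) [] [] [] Cert.nil (Cert.rep (nat_lit 2) [nat_lit 2] [] [] f21_0 Cert.nil)) Cert.nil))) (Cert.xe (nat_lit 4) [] [(nat_lit 0,nat_lit 8),(nat_lit 0,nat_lit 64),(nat_lit 0,nat_lit 128),(nat_lit 0,nat_lit 256),(nat_lit 2,nat_lit 64),(nat_lit 4,nat_lit 256)]))))
noncomputable def f21 : Cert :=
  (Cert.st (nat_lit 0) (nat_lit 4) (nat_lit 0) (Cert.sp (nat_lit 1) (Cert.lf (Leaf.pt (nat_lit 10) (nat_lit 1) [nat_lit 8,nat_lit 4])) (Cert.sp (nat_lit 2) (Cert.lf (Leaf.pt (nat_lit 10) (nat_lit 2) [nat_lit 36,nat_lit 1])) (Cert.st (nat_lit 0) (nat_lit 2) (nat_lit 0) (Cert.sp (nat_lit 28) (Cert.lf (Leaf.pt (nat_lit 10) (nat_lit 28) [nat_lit 40,nat_lit 1])) (Cert.st (nat_lit 0) (nat_lit 28) (nat_lit 0) (Cert.sp (nat_lit 32) (Cert.lf (Leaf.pt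 (nat_lit 10) (nat_lit 32) [nat_lit 78,nat_lit 1])) (Cert.st (nat_lit 0) (nat_lit 32) (nat_lit 0) (Cert.sp (nat_lit 33) (Cert.lf (Leaf.pt (nat_lit 10) (nat_lit 33) [nat_lit 78,nat_lit 1])) (Cert.st (nat_lit 0) (nat_lit 33) (nat_lit 0) (Cert.nl (nat_lit 1) (Cert.sy (nat_lit 0) (Cert.xk (nat_lit 0) (Cert.th (nat_lit 4) (nat_lit 4) (nat_lit 0) true [nat_lit 0] [] [] [] [nat_lit 256,nat_lit 32,nat_lit 236,nat_lit 21,nat_lit 128,nat_lit 8,nat_lit 1,nat_lit 3] [] [] [] Cert.nil) f21_1)))))))))))))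
theorem fin21 : finOK DB PT 34 t34 21 t21 (nat_lit 0x30000300000000000000000c0c00000c0cc0c00c0330c0f000000ff0c3ccff) f21 = true := by
  decide +kernel
noncomputable def f25_0 : Cert :=
  Cert.rep (nat_lit 132) [] [] [] (Cert.er (Cert.ro (nat_lit 0) [nat_lit 1,nat_lit 8,nat_lit 16] [nat_lit 8,nat_lit 9,nat_lit 16] [] (Cert.ro (nat_lit 1) [nat_lit 1,nat_lit 2,nat_lit 14,nat_lit 16] [nat_lit 1,nat_lit 14,nat_lit 12,nat_lit 16] [nat_lit 0,nat_lit 1,nat_lit 8,nat_lit 9,nat_lit 134,nat_lit 135,nat_lit 143,nat_lit 142,nat_lit 4,nat_lit 5,nat_lit 12,nat_lit 13,nat_lit 130,nat_lit 131,nat_lit 139,nat_lit 138] (Cert.lw (nat_lit 0) (nat_lit 2) (nat_lit 1) (Cert.s2 (nat_lit 0) (nat_lit 28) (Cert.o1 (nat_lit 0) (nat_lit 28) (Cert.fu (nat_lit 28) (nat_lit 1) (nat_lit 0) (nat_lit 0) [nat_lit 0] [nat_lit 231,nat_lit 162] [] [] []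 [nat_lit 1] [[nat_lit 1]] [[nat_lit 28]] [Ins.ts (nat_lit 1) [nat_lit 0] [],Ins.fr [nat_lit 0],Ins.ts (nat_lit 0) [nat_lit 0,nat_lit 0,nat_lit 0,nat_lit 0] [],Ins.ts (nat_lit 1) [nat_lit 0,nat_lit 0] [],Ins.ts (nat_lit 1) [nat_lit 0,nat_lit 0,nat_lit 1] [],Ins.fr [nat_lit 1],Ins.ts (nat_lit 0) [nat_lit 1,nat_lit 0,nat_lit 1,nat_lit 0] [],Ins.ts (nat_lit 0) [nat_lit 0,nat_lit 0,nat_lit 0,nat_lit 0] [nat_lit 2],Ins.ts (nat_lit 0) [nat_lit 1,nat_lit 1,nat_lit 0] [nat_lit 0,nat_lit 1,nat_lit 1]] [] (Cert.rep (nat_lit 1) [nat_lit 2,nat_lit 4,nat_lit 8,nat_lit 16,nat_lit 32,nat_lit 64,nat_lit 128] [nat_lit 128,nat_lit 64,nat_lit 32,nat_lit 16,nat_lit 8,nat_lit 4,nat_lit 2,nat_lit 1] [] (Cert.rep (nat_lit 36) [] [] [] Cert.nil (Cert.rep (nat_lit 40) [] [] [] Cert.nil (Cert.rep (nat_lit 100) [] [] [] Cert.nil Cert.nil)))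 Cert.nil))) (Cert.s2 (nat_lit 0) (nat_lit 32) (Cert.o1 (nat_lit 0) (nat_lit 32) (Cert.fu (nat_lit 28) (nat_lit 1) (nat_lit 0) (nat_lit 0) [nat_lit 1] [nat_lit 32,nat_lit 1] [] [] [] [nat_lit 1] [[nat_lit 1]] [[nat_lit 32]] [Ins.ts (nat_lit 3) [nat_lit 0] [],Ins.ts (nat_lit 1) [nat_lit 0] [],Ins.fr [nat_lit 0],Ins.ts (nat_lit 4) [nat_lit 0] [nat_lit 0,nat_lit 0,nat_lit 0],Ins.ts (nat_lit 1) [nat_lit 0] [],Ins.ts (nat_lit 4) [nat_lit 0,nat_lit 1] [nat_lit 0,nat_lit 0,nat_lit 2],Ins.fr [nat_lit 1],Ins.ts (nat_lit 0) [nat_lit 0,nat_lit 0] [],Ins.ts (nat_lit 1) [nat_lit 0] [],Ins.ts (nat_lit 1) [nat_lit 0,nat_lit 2] [],Ins.ts (nat_lit 1) [nat_lit 0,nat_lit 1] [],Ins.ts (nat_lit 1) [nat_lit 0,nat_lit 1,nat_lit 2] []] [(nat_lit 3,nat_lit 0),(nat_lit 2,nat_lit 0)] (Cert.rep (nat_lit 28) [] [nat_lit 128,nat_lit 68,nat_lit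 32,nat_lit 20,nat_lit 8,nat_lit 2,nat_lit 1] [nat_lit 4] Cert.nil (Cert.rep (nat_lit 146) [] [nat_lit 134,nat_lit 102,nat_lit 20,nat_lit 12,nat_lit 1] [nat_lit 32,nat_lit 2,nat_lit 4] (Cert.rep (nat_lit 1) [] [] [] Cert.nil Cert.nil) Cert.nil)))) (Cert.o1 (nat_lit 0) (nat_lit 2) (Cert.fu (nat_lit 4) (nat_lit 1) (nat_lit 0) (nat_lit 0) [] [nat_lit 2,nat_lit 1,nat_lit 24] [] [] [] [nat_lit 1] [[nat_lit 1]] [[nat_lit 2]] [Ins.fr [nat_lit 0],Ins.ts (nat_lit 4) [nat_lit 0] [nat_lit 0,nat_lit 0,nat_lit 0],Ins.ts (nat_lit 1) [nat_lit 0] [],Ins.fr [nat_lit 1],Ins.ts (nat_lit 3) [nat_lit 0] [],Ins.ts (nat_lit 0) [nat_lit 0,nat_lit 0] [],Ins.ts (nat_lit 1) [nat_lit 0] [],Ins.ts (nat_lit 1) [nat_lit 0,nat_lit 1] [],Ins.fr [nat_lit 0,nat_lit 2],Ins.ts (nat_lit 0) [nat_lit 0,nat_lit 0] [nat_lit 1],Ins.ts (nat_lit 4) [nat_lit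 2,nat_lit 3,nat_lit 0] [nat_lit 0,nat_lit 0,nat_lit 1]] [(nat_lit 2,nat_lit 0)] (Cert.rep (nat_lit 4) [] [nat_lit 128,nat_lit 8,nat_lit 4,nat_lit 2,nat_lit 1] [nat_lit 32,nat_lit 96,nat_lit 16] (Cert.rep (nat_lit 1) [nat_lit 2,nat_lit 8,nat_lit 128] [] [] (Cert.rep (nat_lit 2) [] [] [] Cert.nil Cert.nil) Cert.nil) Cert.nil))))))))) (Cert.rep (nat_lit 133) [] [] [] (Cert.er (Cert.ro (nat_lit 0) [nat_lit 1,nat_lit 8,nat_lit 16] [nat_lit 8,nat_lit 9,nat_lit 16] [] (Cert.ro (nat_lit 1) [nat_lit 1,nat_lit 2,nat_lit 14,nat_lit 16] [nat_lit 1,nat_lit 14,nat_lit 12,nat_lit 16] [nat_lit 0,nat_lit 1,nat_lit 8,nat_lit 9,nat_lit 135,nat_lit 134,nat_lit 142,nat_lit 143,nat_lit 4,nat_lit 5,nat_lit 12,nat_lit 13,nat_lit 131,nat_lit 130,nat_lit 138,nat_lit 139] (Cert.lw (nat_lit 0) (nat_lit 2) (nat_lit 1) (Cert.s2 (nat_lit 0) (nat_lit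 28) (Cert.o1 (nat_lit 0) (nat_lit 28) (Cert.fu (nat_lit 28) (nat_lit 1) (nat_lit 0) (nat_lit 0) [nat_lit 0] [nat_lit 231,nat_lit 162] [] [] [] [nat_lit 1] [[nat_lit 1]] [[nat_lit 28]] [Ins.ts (nat_lit 1) [nat_lit 0] [],Ins.fr [nat_lit 0],Ins.ts (nat_lit 0) [nat_lit 0,nat_lit 0,nat_lit 0,nat_lit 0] [],Ins.ts (nat_lit 1) [nat_lit 0,nat_lit 0] [],Ins.ts (nat_lit 1) [nat_lit 0,nat_lit 0,nat_lit 1] [],Ins.fr [nat_lit 1],Ins.ts (nat_lit 0) [nat_lit 1,nat_lit 0,nat_lit 1,nat_lit 0] [],Ins.ts (nat_lit 0) [nat_lit 0,nat_lit 0,nat_lit 0,nat_lit 0] [nat_lit 2],Ins.ts (nat_lit 0) [nat_lit 1,nat_lit 1,nat_lit 0] [nat_lit 0,nat_lit 1,nat_lit 1]] [] (Cert.rep (nat_lit 1) [nat_lit 2,nat_lit 4,nat_lit 8,nat_lit 16,nat_lit 32,nat_lit 64,nat_lit 128] [nat_lit 128,nat_lit 64,nat_lit 32,nat_lit 16,nat_lit 8,nat_lit 4,nat_lit 2,nat_lit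 1] [] (Cert.rep (nat_lit 36) [] [] [] Cert.nil (Cert.rep (nat_lit 40) [] [] [] Cert.nil (Cert.rep (nat_lit 100) [] [] [] Cert.nil Cert.nil))) Cert.nil))) (Cert.s2 (nat_lit 0) (nat_lit 32) (Cert.o1 (nat_lit 0) (nat_lit 32) (Cert.fu (nat_lit 28) (nat_lit 1) (nat_lit 0) (nat_lit 0) [nat_lit 1] [nat_lit 32,nat_lit 1] [] [] [] [nat_lit 1] [[nat_lit 1]] [[nat_lit 32]] [Ins.ts (nat_lit 3) [nat_lit 0] [],Ins.ts (nat_lit 1) [nat_lit 0] [],Ins.fr [nat_lit 0],Ins.ts (nat_lit 4) [nat_lit 0] [nat_lit 0,nat_lit 0,nat_lit 0],Ins.ts (nat_lit 1) [nat_lit 0] [],Ins.ts (nat_lit 4) [nat_lit 0,nat_lit 1] [nat_lit 0,nat_lit 0,nat_lit 2],Ins.fr [nat_lit 1],Ins.ts (nat_lit 0) [nat_lit 0,nat_lit 0] [],Ins.ts (nat_lit 1) [nat_lit 0] [],Ins.ts (nat_lit 1) [nat_lit 0,nat_lit 2] [],Ins.ts (nat_lit 1) [nat_lit 0,nat_lit 1] [],Ins.ts (nat_lit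 1) [nat_lit 0,nat_lit 1,nat_lit 2] []] [(nat_lit 3,nat_lit 0),(nat_lit 2,nat_lit 0)] (Cert.rep (nat_lit 28) [] [nat_lit 128,nat_lit 68,nat_lit 32,nat_lit 20,nat_lit 8,nat_lit 2,nat_lit 1] [nat_lit 4] Cert.nil (Cert.rep (nat_lit 146) [] [nat_lit 134,nat_lit 102,nat_lit 20,nat_lit 12,nat_lit 1] [nat_lit 32,nat_lit 2,nat_lit 4] (Cert.rep (nat_lit 1) [] [] [] Cert.nil Cert.nil) Cert.nil)))) (Cert.o1 (nat_lit 0) (nat_lit 2) (Cert.fu (nat_lit 4) (nat_lit 1) (nat_lit 0) (nat_lit 0) [] [nat_lit 2,nat_lit 1,nat_lit 24] [] [] [] [nat_lit 1] [[nat_lit 1]] [[nat_lit 2]] [Ins.fr [nat_lit 0],Ins.ts (nat_lit 4) [nat_lit 0] [nat_lit 0,nat_lit 0,nat_lit 0],Ins.ts (nat_lit 1) [nat_lit 0] [],Ins.fr [nat_lit 1],Ins.ts (nat_lit 3) [nat_lit 0] [],Ins.ts (nat_lit 0) [nat_lit 0,nat_lit 0] [],Ins.ts (nat_lit 1) [nat_lit 0] [],Ins.ts (nat_lit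 1) [nat_lit 0,nat_lit 1] [],Ins.fr [nat_lit 0,nat_lit 2],Ins.ts (nat_lit 0) [nat_lit 0,nat_lit 0] [nat_lit 1],Ins.ts (nat_lit 4) [nat_lit 2,nat_lit 3,nat_lit 0] [nat_lit 0,nat_lit 0,nat_lit 1]] [(nat_lit 2,nat_lit 0)] (Cert.rep (nat_lit 4) [] [nat_lit 128,nat_lit 8,nat_lit 4,nat_lit 2,nat_lit 1] [nat_lit 32,nat_lit 96,nat_lit 16] (Cert.rep (nat_lit 1) [nat_lit 2,nat_lit 8,nat_lit 128] [] [] (Cert.rep (nat_lit 2) [] [] [] Cert.nil Cert.nil) Cert.nil) Cert.nil))))))))) Cert.nil)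
noncomputable def f25_1 : Cert :=
  Cert.root (nat_lit 16) [] [nat_lit 8,nat_lit 4] [nat_lit 0,nat_lit 1,nat_lit 2,nat_lit 3,nat_lit 4] [Ins.fr [nat_lit 0],Ins.ts (nat_lit 0) [nat_lit 0,nat_lit 0] [],Ins.ts (nat_lit 1) [nat_lit 0] [],Ins.ts (nat_lit 1) [nat_lit 0,nat_lit 1] [],Ins.fr [nat_lit 1],Ins.ts (nat_lit 1) [nat_lit 0,nat_lit 0] [],Ins.ts (nat_lit 1) [nat_lit 0,nat_lit 0,nat_lit 0,nat_lit 0] [],Ins.ts (nat_lit 0) [nat_lit 1,nat_lit 0,nat_lit 1] [nat_lit 0,nat_lit 0,nat_lit 0],Ins.df [nat_lit 0,nat_lit 0],Ins.df [nat_lit 0,nat_lit 0]] (Cert.rep (nat_lit 4) [nat_lit 2,nat_lit 8,nat_lit 128] [nat_lit 128,nat_lit 8,nat_lit 4,nat_lit 2,nat_lit 1] [nat_lit 32,nat_lit 96,nat_lit 16] (Cert.rep (nat_lit 1) [] [] [] Cert.nil (Cert.rep (nat_lit 2) [nat_lit 2] [] [] (Cert.rep (nat_lit 128) [] [] [] (Cert.er (Cert.ro (nat_lit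 0) [nat_lit 1,nat_lit 8,nat_lit 16] [nat_lit 8,nat_lit 9,nat_lit 16] [] (Cert.ro (nat_lit 1) [nat_lit 1,nat_lit 2,nat_lit 14,nat_lit 16] [nat_lit 1,nat_lit 14,nat_lit 12,nat_lit 16] [nat_lit 0,nat_lit 1,nat_lit 8,nat_lit 9,nat_lit 130,nat_lit 131,nat_lit 139,nat_lit 138,nat_lit 4,nat_lit 5,nat_lit 12,nat_lit 13,nat_lit 134,nat_lit 135,nat_lit 143,nat_lit 142] (Cert.fu (nat_lit 4) (nat_lit 2) (nat_lit 4) (nat_lit 1) [nat_lit 1] [nat_lit 1,nat_lit 138,nat_lit 8,nat_lit 16] [] [] [nat_lit 128,nat_lit 16,nat_lit 8,nat_lit 4,nat_lit 2,nat_lit 1] [nat_lit 1] [[nat_lit 8,nat_lit 1]] [[nat_lit 1],[nat_lit 4,nat_lit 1],[nat_lit 138,nat_lit 1]] [Ins.fr [nat_lit 0],Ins.ts (nat_lit 4) [nat_lit 0] [nat_lit 0,nat_lit 0,nat_lit 0],Ins.ts (nat_lit 1) [nat_lit 0] [],Ins.fr [nat_lit 1],Ins.ts (nat_lit 4) [nat_lit 0] [nat_lit 0,nat_lit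 0,nat_lit 2],Ins.ts (nat_lit 1) [nat_lit 0] [],Ins.ts (nat_lit 0) [nat_lit 0,nat_lit 0] [nat_lit 1],Ins.fr [nat_lit 2],Ins.ts (nat_lit 0) [nat_lit 0,nat_lit 0] [nat_lit 2],Ins.ts (nat_lit 0) [nat_lit 1,nat_lit 0,nat_lit 1] [nat_lit 0],Ins.fr [nat_lit 2,nat_lit 3],Ins.ts (nat_lit 2) [nat_lit 0] [],Ins.ts (nat_lit 0) [nat_lit 0,nat_lit 0] [],Ins.ts (nat_lit 0) [nat_lit 2,nat_lit 0,nat_lit 2] [nat_lit 0]] [] (Cert.rep (nat_lit 4) [] [nat_lit 128,nat_lit 8,nat_lit 4,nat_lit 2,nat_lit 1] [nat_lit 16] (Cert.rep (nat_lit 1) [nat_lit 2] [] [] (Cert.rep (nat_lit 8) [nat_lit 8,nat_lit 128] [] [] (Cert.rep (nat_lit 130) [] [] [] Cert.nil (Cert.rep (nat_lit 134) [] [] [] Cert.nil Cert.nil)) Cert.nil) Cert.nil) Cert.nil))))) (Cert.rep (nat_lit 129) [] [] [] (Cert.er (Cert.ro (nat_lit 0) [nat_lit 1,nat_lit 8,nat_lit 16] [nat_lit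 8,nat_lit 9,nat_lit 16] [] (Cert.ro (nat_lit 1) [nat_lit 1,nat_lit 2,nat_lit 14,nat_lit 16] [nat_lit 1,nat_lit 14,nat_lit 12,nat_lit 16] [nat_lit 0,nat_lit 1,nat_lit 8,nat_lit 9,nat_lit 131,nat_lit 130,nat_lit 138,nat_lit 139,nat_lit 4,nat_lit 5,nat_lit 12,nat_lit 13,nat_lit 135,nat_lit 134,nat_lit 142,nat_lit 143] (Cert.fu (nat_lit 4) (nat_lit 2) (nat_lit 4) (nat_lit 1) [nat_lit 1] [nat_lit 1,nat_lit 139,nat_lit 8,nat_lit 16] [] [] [nat_lit 128,nat_lit 16,nat_lit 8,nat_lit 4,nat_lit 2,nat_lit 1] [nat_lit 1] [[nat_lit 8,nat_lit 1]] [[nat_lit 1],[nat_lit 4,nat_lit 1],[nat_lit 139,nat_lit 1]] [Ins.fr [nat_lit 0],Ins.ts (nat_lit 4) [nat_lit 0] [nat_lit 0,nat_lit 0,nat_lit 0],Ins.ts (nat_lit 1) [nat_lit 0] [],Ins.fr [nat_lit 1],Ins.ts (nat_lit 4) [nat_lit 0] [nat_lit 0,nat_lit 0,nat_lit 2],Ins.ts (nat_lit 1) [nat_lit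 0] [],Ins.ts (nat_lit 0) [nat_lit 0,nat_lit 0] [nat_lit 1],Ins.fr [nat_lit 2],Ins.ts (nat_lit 0) [nat_lit 0,nat_lit 0] [nat_lit 2],Ins.ts (nat_lit 0) [nat_lit 1,nat_lit 0,nat_lit 1] [nat_lit 0],Ins.fr [nat_lit 2,nat_lit 3],Ins.ts (nat_lit 2) [nat_lit 0] [],Ins.ts (nat_lit 0) [nat_lit 0,nat_lit 0] [],Ins.ts (nat_lit 0) [nat_lit 2,nat_lit 0,nat_lit 2] [nat_lit 0]] [] (Cert.rep (nat_lit 4) [] [nat_lit 128,nat_lit 8,nat_lit 4,nat_lit 2,nat_lit 1] [nat_lit 16] (Cert.rep (nat_lit 1) [nat_lit 2] [] [] (Cert.rep (nat_lit 8) [nat_lit 8,nat_lit 128] [] [] (Cert.rep (nat_lit 130) [] [] [] Cert.nil (Cert.rep (nat_lit 134) [] [] [] Cert.nil Cert.nil)) Cert.nil) Cert.nil) Cert.nil))))) f25_0)) (Cert.rep (nat_lit 5) [] [] [] Cert.nil (Cert.rep (nat_lit 6) [nat_lit 2] [] [] (Cert.rep (nat_lit 128) [] [] [] (Cert.er (Cert.ro (nat_lit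 0) [nat_lit 1,nat_lit 8,nat_lit 16] [nat_lit 8,nat_lit 9,nat_lit 16] [nat_lit 0,nat_lit 1,nat_lit 6,nat_lit 7,nat_lit 4,nat_lit 5,nat_lit 2,nat_lit 3] (Cert.ro (nat_lit 1) [nat_lit 1,nat_lit 2,nat_lit 14,nat_lit 16] [nat_lit 1,nat_lit 14,nat_lit 12,nat_lit 16] [nat_lit 0,nat_lit 1,nat_lit 8,nat_lit 9,nat_lit 134,nat_lit 135,nat_lit 143,nat_lit 142,nat_lit 4,nat_lit 5,nat_lit 12,nat_lit 13,nat_lit 130,nat_lit 131,nat_lit 139,nat_lit 138] (Cert.lf (Leaf.st (nat_lit 2) (nat_lit 1) (nat_lit 1) (Leaf.cf (nat_lit 1))))))) (Cert.rep (nat_lit 129) [] [] [] (Cert.er (Cert.ro (nat_lit 0) [nat_lit 1,nat_lit 8,nat_lit 16] [nat_lit 8,nat_lit 9,nat_lit 16] [nat_lit 0,nat_lit 1,nat_lit 6,nat_lit 7,nat_lit 4,nat_lit 5,nat_lit 2,nat_lit 3] (Cert.ro (nat_lit 1) [nat_lit 1,nat_lit 2,nat_lit 14,nat_lit 16] [nat_lit 1,nat_lit 14,nat_lit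 12,nat_lit 16] [nat_lit 0,nat_lit 1,nat_lit 8,nat_lit 9,nat_lit 135,nat_lit 134,nat_lit 142,nat_lit 143,nat_lit 4,nat_lit 5,nat_lit 12,nat_lit 13,nat_lit 131,nat_lit 130,nat_lit 138,nat_lit 139] (Cert.lf (Leaf.st (nat_lit 2) (nat_lit 1) (nat_lit 1) (Leaf.cf (nat_lit 1))))))) (Cert.rep (nat_lit 132) [] [] [] (Cert.er (Cert.ro (nat_lit 0) [nat_lit 1,nat_lit 8,nat_lit 16] [nat_lit 8,nat_lit 9,nat_lit 16] [nat_lit 0,nat_lit 1,nat_lit 6,nat_lit 7,nat_lit 4,nat_lit 5,nat_lit 2,nat_lit 3] (Cert.ro (nat_lit 1) [nat_lit 1,nat_lit 2,nat_lit 14,nat_lit 16] [nat_lit 1,nat_lit 14,nat_lit 12,nat_lit 16] [nat_lit 0,nat_lit 1,nat_lit 8,nat_lit 9,nat_lit 130,nat_lit 131,nat_lit 139,nat_lit 138,nat_lit 4,nat_lit 5,nat_lit 12,nat_lit 13,nat_lit 134,nat_lit 135,nat_lit 143,nat_lit 142] (Cert.lf (Leaf.st (nat_lit 2) (nat_lit 1) (nat_lit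 1) (Leaf.cf (nat_lit 1))))))) (Cert.rep (nat_lit 133) [] [] [] (Cert.er (Cert.ro (nat_lit 0) [nat_lit 1,nat_lit 8,nat_lit 16] [nat_lit 8,nat_lit 9,nat_lit 16] [nat_lit 0,nat_lit 1,nat_lit 6,nat_lit 7,nat_lit 4,nat_lit 5,nat_lit 2,nat_lit 3] (Cert.ro (nat_lit 1) [nat_lit 1,nat_lit 2,nat_lit 14,nat_lit 16] [nat_lit 1,nat_lit 14,nat_lit 12,nat_lit 16] [nat_lit 0,nat_lit 1,nat_lit 8,nat_lit 9,nat_lit 131,nat_lit 130,nat_lit 138,nat_lit 139,nat_lit 4,nat_lit 5,nat_lit 12,nat_lit 13,nat_lit 135,nat_lit 134,nat_lit 142,nat_lit 143] (Cert.lf (Leaf.st (nat_lit 2) (nat_lit 1) (nat_lit 1) (Leaf.cf (nat_lit 1))))))) Cert.nil)))) Cert.nil)))) Cert.nil)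
noncomputable def f25 : Cert :=
  (Cert.st (nat_lit 0) (nat_lit 4) (nat_lit 0) (Cert.sp (nat_lit 1) (Cert.lf (Leaf.pt (nat_lit 10) (nat_lit 1) [nat_lit 8,nat_lit 4])) (Cert.sp (nat_lit 2) (Cert.lf (Leaf.pt (nat_lit 10) (nat_lit 2) [nat_lit 36,nat_lit 1])) (Cert.st (nat_lit 0) (nat_lit 2) (nat_lit 0) (Cert.sp (nat_lit 28) (Cert.lf (Leaf.pt (nat_lit 10) (nat_lit 28) [nat_lit 40,nat_lit 1])) (Cert.st (nat_lit 0) (nat_lit 28) (nat_lit 0) (Cert.sp (nat_lit 32) (Cert.lf (Leaf.pt (nat_lit 14) (nat_lit 32) [nat_lit 1,nat_lit 2,nat_lit 28])) (Cert.st (nat_lit 0) (nat_lit 32) (nat_lit 0) (Cert.sp (nat_lit 146) (Cert.lf (Leaf.pt (nat_lit 24) (nat_lit 146) [nat_lit 12,nat_lit 102])) (Cert.st (nat_lit 0) (nat_lit 146) (nat_lit 0) (Cert.nl (nat_lit 1) (Cert.sy (nat_lit 0) f25_1))))))))))))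
theorem fin25 : finOK DB PT 34 t34 25 t25 (nat_lit 0x30000300000000000000000c0c0000000000000c0330c0f000000ff0c3ccff) f25 = true := by
  decide +kernel
noncomputable def f45 : Cert :=
  (Cert.st (nat_lit 0) (nat_lit 8) (nat_lit 0) (Cert.sp (nat_lit 1) (Cert.lf (Leaf.pt (nat_lit 7) (nat_lit 1) [nat_lit 8,nat_lit 16])) (Cert.sp (nat_lit 2) (Cert.lf (Leaf.pt (nat_lit 0) (nat_lit 2) [nat_lit 96])) (Cert.st (nat_lit 0) (nat_lit 2) (nat_lit 0) (Cert.sp (nat_lit 4) (Cert.lf (Leaf.pt (nat_lit 7) (nat_lit 4) [nat_lit 8,nat_lit 16])) (Cert.st (nat_lit 0) (nat_lit 4) (nat_lit 0) (Cert.sp (nat_lit 12) (Cert.lf (Leaf.pt (nat_lit 7) (nat_lit 12) [nat_lit 8,nat_lit 16])) (Cert.sp (nat_lit 13) (Cert.lf (Leaf.pt (nat_lit 7) (nat_lit 13) [nat_lit 8,nat_lit 16])) (Cert.sp (nat_lit 14) (Cert.lf (Leaf.pt (nat_lit 11) (nat_lit 14) [nat_lit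 2,nat_lit 64,nat_lit 1])) (Cert.st (nat_lit 0) (nat_lit 14) (nat_lit 0) (Cert.sp (nat_lit 18) (Cert.lf (Leaf.pt (nat_lit 0) (nat_lit 18) [nat_lit 132])) (Cert.st (nat_lit 0) (nat_lit 18) (nat_lit 0) (Cert.sp (nat_lit 30) (Cert.lf (Leaf.pt (nat_lit 11) (nat_lit 30) [nat_lit 12,nat_lit 128,nat_lit 1])) (Cert.st (nat_lit 0) (nat_lit 30) (nat_lit 0) (Cert.sp (nat_lit 32) (Cert.lf (Leaf.pt (nat_lit 11) (nat_lit 32) [nat_lit 18,nat_lit 128,nat_lit 1])) (Cert.st (nat_lit 0) (nat_lit 32) (nat_lit 0) (Cert.sp (nat_lit 44) (Cert.lf (Leaf.pt (nat_lit 11) (nat_lit 44) [nat_lit 12,nat_lit 84,nat_lit 1])) (Cert.st (nat_lit 0) (nat_lit 44) (nat_lit 0) (Cert.sp (nat_lit 68) (Cert.lf (Leaf.st (nat_lit 1) (nat_lit 16) (nat_lit 68) (Leaf.pt (nat_lit 7) (nat_lit 68) [nat_lit 104,nat_lit 128]))) (Cert.st (nat_lit 0) (nat_lit 68) (nat_lit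 0) (Cert.sp (nat_lit 69) (Cert.lf (Leaf.pt (nat_lit 11) (nat_lit 69) [nat_lit 1,nat_lit 128,nat_lit 32])) (Cert.st (nat_lit 0) (nat_lit 69) (nat_lit 0) (Cert.sp (nat_lit 72) (Cert.lf (Leaf.pt (nat_lit 11) (nat_lit 72) [nat_lit 12,nat_lit 128,nat_lit 1])) (Cert.st (nat_lit 0) (nat_lit 72) (nat_lit 0) (Cert.sp (nat_lit 73) (Cert.lf (Leaf.pt (nat_lit 11) (nat_lit 73) [nat_lit 1,nat_lit 128,nat_lit 32])) (Cert.st (nat_lit 0) (nat_lit 73) (nat_lit 0) (Cert.nl (nat_lit 1) (Cert.sy (nat_lit 0) (Cert.root (nat_lit 32) [] [nat_lit 8,nat_lit 4] [] [Ins.fr [nat_lit 0],Ins.ts (nat_lit 0) [nat_lit 0,nat_lit 0] [],Ins.ts (nat_lit 1) [nat_lit 0] [],Ins.ts (nat_lit 1) [nat_lit 0,nat_lit 1] [],Ins.fr [nat_lit 1],Ins.ts (nat_lit 1) [nat_lit 0,nat_lit 0] [],Ins.ts (nat_lit 1) [nat_lit 0,nat_lit 0,nat_lit 0,nat_lit 0] []] (Cert.rep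 (nat_lit 8) [nat_lit 2,nat_lit 16] [nat_lit 16,nat_lit 8,nat_lit 4,nat_lit 2,nat_lit 1] [nat_lit 128,nat_lit 64,nat_lit 32] (Cert.rep (nat_lit 1) [] [] [] Cert.nil (Cert.rep (nat_lit 2) [] [] [] Cert.nil (Cert.rep (nat_lit 4) [] [] [] Cert.nil (Cert.rep (nat_lit 5) [] [] [] Cert.nil (Cert.rep (nat_lit 6) [] [] [] Cert.nil (Cert.rep (nat_lit 9) [] [] [] Cert.nil (Cert.rep (nat_lit 10) [] [] [] Cert.nil (Cert.rep (nat_lit 12) [] [] [] Cert.nil (Cert.rep (nat_lit 13) [] [] [] Cert.nil (Cert.rep (nat_lit 14) [] [] [] Cert.nil (Cert.rep (nat_lit 18) [] [] [] Cert.nil (Cert.rep (nat_lit 22) [] [] [] Cert.nil (Cert.rep (nat_lit 26) [] [] [] Cert.nil (Cert.rep (nat_lit 30) [] [] [] Cert.nil Cert.nil)))))))))))))) Cert.nil))))))))))))))))))))))))))))))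
theorem fin45 : finOK DB PT 88 t88 45 t45 (nat_lit 0xff000000ff0c33cf00fccccffff) f45 = true := by
  decide +kernel
noncomputable def f46_0 : Cert :=
  Cert.s2 (nat_lit 0) (nat_lit 72) (Cert.o1 (nat_lit 0) (nat_lit 72) (Cert.fu (nat_lit 72) (nat_lit 1) (nat_lit 0) (nat_lit 0) [nat_lit 0] [nat_lit 13,nat_lit 71,nat_lit 106] [] [] [] [nat_lit 1] [[nat_lit 1]] [[nat_lit 72]] [Ins.ts (nat_lit 1) [nat_lit 0] [],Ins.fr [nat_lit 0],Ins.ts (nat_lit 0) [nat_lit 0,nat_lit 0] [],Ins.ts (nat_lit 3) [nat_lit 0] [],Ins.ts (nat_lit 4) [nat_lit 0,nat_lit 1] [nat_lit 0,nat_lit 0,nat_lit 1],Ins.ts (nat_lit 1) [nat_lit 0,nat_lit 1] [],Ins.fr [nat_lit 1],Ins.ts (nat_lit 0) [nat_lit 0,nat_lit 0] [],Ins.ts (nat_lit 3) [nat_lit 0] [],Ins.ts (nat_lit 0) [nat_lit 1,nat_lit 0] [nat_lit 0,nat_lit 1],Ins.ts (nat_lit 4) [nat_lit 0] [nat_lit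 0,nat_lit 0,nat_lit 1],Ins.ts (nat_lit 4) [nat_lit 0,nat_lit 1] [nat_lit 0,nat_lit 0,nat_lit 2],Ins.ts (nat_lit 1) [nat_lit 0] [],Ins.ts (nat_lit 1) [nat_lit 0,nat_lit 1] [],Ins.ts (nat_lit 1) [nat_lit 0,nat_lit 1,nat_lit 2] [],Ins.fr [nat_lit 2],Ins.ts (nat_lit 0) [nat_lit 0,nat_lit 0] [],Ins.ts (nat_lit 3) [nat_lit 0] [],Ins.ts (nat_lit 0) [nat_lit 1,nat_lit 0] [nat_lit 0,nat_lit 1],Ins.ts (nat_lit 4) [nat_lit 0] [nat_lit 0,nat_lit 0,nat_lit 1],Ins.ts (nat_lit 4) [nat_lit 0,nat_lit 1] [nat_lit 0,nat_lit 0,nat_lit 1],Ins.ts (nat_lit 1) [nat_lit 0] [],Ins.ts (nat_lit 0) [nat_lit 2,nat_lit 0] [nat_lit 0,nat_lit 2],Ins.ts (nat_lit 4) [nat_lit 0,nat_lit 1,nat_lit 3] [nat_lit 0,nat_lit 0,nat_lit 2],Ins.ts (nat_lit 1) [nat_lit 0,nat_lit 1] [],Ins.ts (nat_lit 1) [nat_lit 0,nat_lit 2] [],Ins.ts (nat_lit 4) [nat_lit 0,nat_lit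 2] [nat_lit 0,nat_lit 0,nat_lit 2],Ins.ts (nat_lit 1) [nat_lit 0,nat_lit 2,nat_lit 3] [],Ins.ts (nat_lit 1) [nat_lit 0,nat_lit 1,nat_lit 2] [],Ins.ts (nat_lit 1) [nat_lit 0,nat_lit 1,nat_lit 2,nat_lit 3] []] [(nat_lit 3,nat_lit 0),(nat_lit 2,nat_lit 0)] (Cert.rep (nat_lit 1) [nat_lit 2,nat_lit 4,nat_lit 8,nat_lit 16,nat_lit 32,nat_lit 64,nat_lit 128,nat_lit 256] [nat_lit 256,nat_lit 128,nat_lit 64,nat_lit 32,nat_lit 16,nat_lit 8,nat_lit 4,nat_lit 2,nat_lit 1] [] (Cert.rep (nat_lit 4) [nat_lit 2,nat_lit 8,nat_lit 16,nat_lit 288] [] [] (Cert.rep (nat_lit 6) [] [] [] Cert.nil (Cert.rep (nat_lit 290) [] [] [] Cert.nil (Cert.rep (nat_lit 294) [] [] [] Cert.nil Cert.nil))) (Cert.rep (nat_lit 12) [nat_lit 2,nat_lit 4,nat_lit 16,nat_lit 64,nat_lit 128] [] [] (Cert.rep (nat_lit 14) [] [] [] Cert.nil (Cert.rep (nat_lit 30)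 [] [] [] Cert.nil (Cert.rep (nat_lit 44) [] [] [] Cert.nil (Cert.rep (nat_lit 68) [] [] [] Cert.nil (Cert.rep (nat_lit 140) [] [] [] Cert.nil Cert.nil))))) (Cert.rep (nat_lit 14) [nat_lit 4] [] [] (Cert.rep (nat_lit 12) [] [] [] Cert.nil (Cert.rep (nat_lit 13) [] [] [] Cert.nil (Cert.rep (nat_lit 32) [] [] [] Cert.nil (Cert.rep (nat_lit 68) [] [] [] Cert.nil (Cert.rep (nat_lit 69) [] [] [] Cert.nil (Cert.rep (nat_lit 104) [] [] [] Cert.nil (Cert.rep (nat_lit 105) [] [] [] Cert.nil Cert.nil))))))) (Cert.rep (nat_lit 32) [nat_lit 2,nat_lit 12,nat_lit 16,nat_lit 68,nat_lit 128,nat_lit 256] [] [] (Cert.rep (nat_lit 14) [] [] [] Cert.nil (Cert.rep (nat_lit 44) [] [] [] Cert.nil (Cert.rep (nat_lit 68) [] [] [] Cert.nil (Cert.rep (nat_lit 70) [] [] [] Cert.nil (Cert.rep (nat_lit 258) [] [] [] Cert.nil (Cert.rep (nat_lit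 290) [] [] [] Cert.nil Cert.nil)))))) (Cert.rep (nat_lit 44) [nat_lit 2,nat_lit 12,nat_lit 68,nat_lit 128,nat_lit 260] [] [] (Cert.rep (nat_lit 12) [] [] [] Cert.nil (Cert.rep (nat_lit 32) [] [] [] Cert.nil (Cert.rep (nat_lit 266) [] [] [] Cert.nil Cert.nil))) (Cert.rep (nat_lit 68) [] [] [] (Cert.rep (nat_lit 12) [] [] [] Cert.nil (Cert.rep (nat_lit 13) [] [] [] Cert.nil (Cert.rep (nat_lit 14) [] [] [] Cert.nil (Cert.rep (nat_lit 15) [] [] [] Cert.nil (Cert.rep (nat_lit 32) [] [] [] Cert.nil (Cert.rep (nat_lit 33) [] [] [] Cert.nil (Cert.rep (nat_lit 34) [] [] [] Cert.nil (Cert.rep (nat_lit 35) [] [] [] Cert.nil (Cert.rep (nat_lit 70) [] [] [] Cert.nil (Cert.rep (nat_lit 71) [] [] [] Cert.nil (Cert.rep (nat_lit 106) [] [] [] Cert.nil (Cert.rep (nat_lit 107) [] [] [] Cert.nil Cert.nil)))))))))))) (Cert.rep (nat_lit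 258) [nat_lit 8] [] [] (Cert.rep (nat_lit 32) [] [] [] Cert.nil (Cert.rep (nat_lit 290) [] [] [] Cert.nil Cert.nil)) (Cert.rep (nat_lit 266) [nat_lit 8,nat_lit 36] [] [] (Cert.rep (nat_lit 44) [] [] [] Cert.nil (Cert.rep (nat_lit 56) [] [] [] Cert.nil (Cert.rep (nat_lit 306) [] [] [] Cert.nil Cert.nil))) (Cert.rep (nat_lit 290) [nat_lit 4,nat_lit 32,nat_lit 200] [] [] (Cert.rep (nat_lit 4) [] [] [] Cert.nil (Cert.rep (nat_lit 32) [] [] [] Cert.nil (Cert.rep (nat_lit 258) [] [] [] Cert.nil (Cert.rep (nat_lit 282) [] [] [] Cert.nil Cert.nil)))) Cert.nil))))))))) Cert.nil))) (Cert.o1 (nat_lit 0) (nat_lit 2) (Cert.fu (nat_lit 8) (nat_lit 1) (nat_lit 0) (nat_lit 0) [] [nat_lit 2,nat_lit 1,nat_lit 4,nat_lit 32] [] [] [] [nat_lit 1] [[nat_lit 1]] [[nat_lit 2]] [Ins.fr [nat_lit 0],Ins.ts (nat_lit 4) [nat_lit 0] [nat_lit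 0,nat_lit 0,nat_lit 0],Ins.ts (nat_lit 1) [nat_lit 0] [],Ins.fr [nat_lit 1],Ins.ts (nat_lit 0) [nat_lit 0,nat_lit 0] [],Ins.ts (nat_lit 3) [nat_lit 0] [],Ins.ts (nat_lit 2) [nat_lit 0,nat_lit 2] [],Ins.ts (nat_lit 1) [nat_lit 0] [],Ins.ts (nat_lit 1) [nat_lit 0,nat_lit 1] [],Ins.fr [nat_lit 2],Ins.ts (nat_lit 0) [nat_lit 0,nat_lit 0] [],Ins.ts (nat_lit 3) [nat_lit 0] [],Ins.ts (nat_lit 0) [nat_lit 1,nat_lit 0] [nat_lit 0,nat_lit 1],Ins.ts (nat_lit 1) [nat_lit 0] [],Ins.ts (nat_lit 3) [nat_lit 0,nat_lit 3] [],Ins.fr [nat_lit 1,nat_lit 3],Ins.ts (nat_lit 0) [nat_lit 0,nat_lit 0] [],Ins.ts (nat_lit 0) [nat_lit 1,nat_lit 2,nat_lit 0] [nat_lit 0,nat_lit 1],Ins.ts (nat_lit 4) [nat_lit 1,nat_lit 0,nat_lit 3,nat_lit 4] [nat_lit 0,nat_lit 0,nat_lit 1]] [(nat_lit 2,nat_lit 0)] (Cert.rep (nat_lit 8) [] [nat_lit 256,nat_lit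 16,nat_lit 8,nat_lit 4,nat_lit 2,nat_lit 1] [nat_lit 64,nat_lit 192,nat_lit 32] (Cert.rep (nat_lit 1) [nat_lit 2,nat_lit 16,nat_lit 256] [] [] (Cert.rep (nat_lit 2) [] [] [] (Cert.rep (nat_lit 4) [] [] [] Cert.nil (Cert.rep (nat_lit 5) [] [] [] Cert.nil (Cert.rep (nat_lit 6) [] [] [] Cert.nil (Cert.rep (nat_lit 7) [] [] [] Cert.nil (Cert.rep (nat_lit 12) [] [] [] Cert.nil (Cert.rep (nat_lit 13) [] [] [] Cert.nil (Cert.rep (nat_lit 14) [] [] [] Cert.nil (Cert.rep (nat_lit 15) [] [] [] Cert.nil Cert.nil)))))))) Cert.nil) Cert.nil) Cert.nil)))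
noncomputable def f46_1 : Cert :=
  Cert.rep (nat_lit 260) [] [] [] (Cert.er (Cert.ro (nat_lit 0) [nat_lit 1,nat_lit 8,nat_lit 16] [nat_lit 8,nat_lit 9,nat_lit 16] [nat_lit 0,nat_lit 1,nat_lit 2,nat_lit 3,nat_lit 8,nat_lit 9,nat_lit 10,nat_lit 11] (Cert.ro (nat_lit 1) [nat_lit 1,nat_lit 2,nat_lit 14,nat_lit 16] [nat_lit 1,nat_lit 14,nat_lit 12,nat_lit 16] [nat_lit 0,nat_lit 1,nat_lit 16,nat_lit 17,nat_lit 262,nat_lit 263,nat_lit 279,nat_lit 278,nat_lit 8,nat_lit 9,nat_lit 24,nat_lit 25,nat_lit 270,nat_lit 271,nat_lit 287,nat_lit 286] (Cert.fu (nat_lit 1) (nat_lit 2) (nat_lit 8) (nat_lit 1) [nat_lit 0] [nat_lit 8,nat_lit 278,nat_lit 53] [] [] [nat_lit 256,nat_lit 32,nat_lit 16,nat_lit 8,nat_lit 4,nat_lit 2,nat_lit 1] [nat_lit 1] [[nat_lit 16,nat_lit 1]] [[nat_lit 1],[nat_lit 8,nat_lit 1],[nat_lit 278,nat_lit 1]] [Ins.ts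 (nat_lit 1) [nat_lit 0] [],Ins.fr [nat_lit 0],Ins.ts (nat_lit 2) [nat_lit 0] [],Ins.ts (nat_lit 4) [nat_lit 0] [nat_lit 0,nat_lit 0,nat_lit 1],Ins.ts (nat_lit 1) [nat_lit 0] [],Ins.fr [nat_lit 1],Ins.ts (nat_lit 4) [nat_lit 0] [nat_lit 0,nat_lit 0,nat_lit 2],Ins.ts (nat_lit 1) [nat_lit 0] [],Ins.ts (nat_lit 0) [nat_lit 0,nat_lit 0] [nat_lit 2],Ins.fr [nat_lit 2],Ins.ts (nat_lit 2) [nat_lit 0] [],Ins.ts (nat_lit 0) [nat_lit 0,nat_lit 0] [],Ins.ts (nat_lit 1) [nat_lit 0] [],Ins.ts (nat_lit 3) [nat_lit 1,nat_lit 0] [],Ins.ts (nat_lit 0) [nat_lit 1,nat_lit 0,nat_lit 1] [nat_lit 0]] [] (Cert.rep (nat_lit 1) [nat_lit 32] [nat_lit 256,nat_lit 32,nat_lit 16,nat_lit 8,nat_lit 4,nat_lit 2,nat_lit 1] [] (Cert.rep (nat_lit 8) [nat_lit 2] [] [] (Cert.rep (nat_lit 16) [] [] [] Cert.nil Cert.nil) Cert.nil) Cert.nil))))) (Cert.rep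 (nat_lit 268) [] [] [] (Cert.er (Cert.ro (nat_lit 0) [nat_lit 1,nat_lit 8,nat_lit 16] [nat_lit 8,nat_lit 9,nat_lit 16] [nat_lit 0,nat_lit 1,nat_lit 2,nat_lit 3,nat_lit 8,nat_lit 9,nat_lit 10,nat_lit 11] (Cert.ro (nat_lit 1) [nat_lit 1,nat_lit 2,nat_lit 14,nat_lit 16] [nat_lit 1,nat_lit 14,nat_lit 12,nat_lit 16] [nat_lit 0,nat_lit 1,nat_lit 16,nat_lit 17,nat_lit 270,nat_lit 271,nat_lit 287,nat_lit 286,nat_lit 8,nat_lit 9,nat_lit 24,nat_lit 25,nat_lit 262,nat_lit 263,nat_lit 279,nat_lit 278] (Cert.lw (nat_lit 0) (nat_lit 2) (nat_lit 1) (Cert.s2 (nat_lit 0) (nat_lit 14) (Cert.o1 (nat_lit 0) (nat_lit 14) (Cert.fu (nat_lit 8) (nat_lit 1) (nat_lit 0) (nat_lit 0) [] [nat_lit 14] [] [] [] [nat_lit 1] [[nat_lit 1]] [[nat_lit 14]] [Ins.fr [nat_lit 0],Ins.ts (nat_lit 4) [nat_lit 0] [nat_lit 0,nat_lit 0,nat_lit 0],Ins.ts (nat_lit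 1) [nat_lit 0] [],Ins.ts (nat_lit 3) [nat_lit 0,nat_lit 1] []] [] (Cert.rep (nat_lit 8) [] [nat_lit 256,nat_lit 16,nat_lit 8,nat_lit 4,nat_lit 2,nat_lit 1] [nat_lit 64,nat_lit 192,nat_lit 32] Cert.nil Cert.nil))) (Cert.s2 (nat_lit 0) (nat_lit 44) (Cert.o1 (nat_lit 0) (nat_lit 44) (Cert.fu (nat_lit 44) (nat_lit 1) (nat_lit 0) (nat_lit 0) [nat_lit 0] [nat_lit 260,nat_lit 264] [] [] [] [nat_lit 1] [[nat_lit 1]] [[nat_lit 44]] [Ins.ts (nat_lit 1) [nat_lit 0] [],Ins.fr [nat_lit 0],Ins.ts (nat_lit 1) [nat_lit 0,nat_lit 0,nat_lit 0,nat_lit 0] [],Ins.ts (nat_lit 1) [nat_lit 0,nat_lit 0,nat_lit 0,nat_lit 0,nat_lit 1] [],Ins.fr [nat_lit 1],Ins.ts (nat_lit 0) [nat_lit 0,nat_lit 1,nat_lit 1,nat_lit 0] [],Ins.ts (nat_lit 0) [nat_lit 1,nat_lit 1,nat_lit 1] [nat_lit 0,nat_lit 1,nat_lit 0]] [] (Cert.rep (nat_lit 1) [nat_lit 2,nat_lit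 4,nat_lit 8,nat_lit 16,nat_lit 64,nat_lit 128,nat_lit 256] [nat_lit 256,nat_lit 128,nat_lit 64,nat_lit 32,nat_lit 16,nat_lit 8,nat_lit 4,nat_lit 2,nat_lit 1] [] (Cert.rep (nat_lit 320) [] [] [] Cert.nil (Cert.rep (nat_lit 332) [] [] [] Cert.nil Cert.nil)) Cert.nil))) (Cert.s2 (nat_lit 0) (nat_lit 68) (Cert.o1 (nat_lit 0) (nat_lit 68) (Cert.fu (nat_lit 68) (nat_lit 1) (nat_lit 0) (nat_lit 0) [nat_lit 0] [nat_lit 105,nat_lit 102,nat_lit 103] [] [] [] [nat_lit 1] [[nat_lit 1]] [[nat_lit 68]] [Ins.ts (nat_lit 1) [nat_lit 0] [],Ins.fr [nat_lit 0],Ins.ts (nat_lit 0) [nat_lit 0,nat_lit 0] [],Ins.ts (nat_lit 3) [nat_lit 0] [],Ins.ts (nat_lit 4) [nat_lit 0,nat_lit 1] [nat_lit 0,nat_lit 0,nat_lit 1],Ins.ts (nat_lit 4) [nat_lit 0] [nat_lit 0,nat_lit 0,nat_lit 2],Ins.ts (nat_lit 1) [nat_lit 0,nat_lit 1] [],Ins.fr [nat_lit 1],Ins.ts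 (nat_lit 0) [nat_lit 0,nat_lit 0] [],Ins.ts (nat_lit 0) [nat_lit 1,nat_lit 0] [nat_lit 0,nat_lit 1],Ins.ts (nat_lit 3) [nat_lit 0] [],Ins.ts (nat_lit 4) [nat_lit 0,nat_lit 2] [nat_lit 0,nat_lit 0,nat_lit 1],Ins.ts (nat_lit 4) [nat_lit 0,nat_lit 1] [nat_lit 0,nat_lit 0,nat_lit 1],Ins.ts (nat_lit 3) [nat_lit 0,nat_lit 1] [],Ins.ts (nat_lit 1) [nat_lit 0,nat_lit 2] [],Ins.ts (nat_lit 1) [nat_lit 0,nat_lit 1] [],Ins.fr [nat_lit 2],Ins.ts (nat_lit 0) [nat_lit 0,nat_lit 0] [],Ins.ts (nat_lit 0) [nat_lit 2,nat_lit 0] [nat_lit 0,nat_lit 2],Ins.ts (nat_lit 0) [nat_lit 1,nat_lit 0] [nat_lit 0,nat_lit 1],Ins.ts (nat_lit 4) [nat_lit 0,nat_lit 2] [nat_lit 0,nat_lit 0,nat_lit 1],Ins.ts (nat_lit 1) [nat_lit 0] [],Ins.ts (nat_lit 4) [nat_lit 0,nat_lit 3] [nat_lit 0,nat_lit 0,nat_lit 1],Ins.ts (nat_lit 1) [nat_lit 0,nat_lit 3] [],Ins.ts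 (nat_lit 1) [nat_lit 0,nat_lit 2] [],Ins.ts (nat_lit 1) [nat_lit 0,nat_lit 1] [],Ins.ts (nat_lit 1) [nat_lit 0,nat_lit 1,nat_lit 3] [],Ins.ts (nat_lit 1) [nat_lit 0,nat_lit 1,nat_lit 2] [],Ins.ts (nat_lit 1) [nat_lit 0,nat_lit 1,nat_lit 2,nat_lit 3] []] [(nat_lit 3,nat_lit 0),(nat_lit 2,nat_lit 0)] (Cert.rep (nat_lit 1) [nat_lit 2,nat_lit 4,nat_lit 8,nat_lit 16,nat_lit 32,nat_lit 64,nat_lit 128,nat_lit 256] [nat_lit 256,nat_lit 128,nat_lit 64,nat_lit 32,nat_lit 16,nat_lit 8,nat_lit 4,nat_lit 2,nat_lit 1] [] (Cert.rep (nat_lit 4) [nat_lit 2,nat_lit 8,nat_lit 288] [] [] (Cert.rep (nat_lit 290) [] [] [] Cert.nil (Cert.rep (nat_lit 294) [] [] [] Cert.nil Cert.nil)) (Cert.rep (nat_lit 12) [nat_lit 4] [] [] (Cert.rep (nat_lit 32) [] [] [] Cert.nil (Cert.rep (nat_lit 44) [] [] [] Cert.nil Cert.nil)) (Cert.rep (nat_lit 32)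 [nat_lit 2,nat_lit 12,nat_lit 16,nat_lit 68,nat_lit 128,nat_lit 256] [] [] (Cert.rep (nat_lit 12) [] [] [] Cert.nil (Cert.rep (nat_lit 44) [] [] [] Cert.nil (Cert.rep (nat_lit 258) [] [] [] Cert.nil (Cert.rep (nat_lit 290) [] [] [] Cert.nil Cert.nil)))) (Cert.rep (nat_lit 72) [] [] [] (Cert.rep (nat_lit 44) [] [] [] Cert.nil (Cert.rep (nat_lit 45) [] [] [] Cert.nil (Cert.rep (nat_lit 100) [] [] [] Cert.nil (Cert.rep (nat_lit 101) [] [] [] Cert.nil Cert.nil)))) (Cert.rep (nat_lit 258) [nat_lit 8] [] [] (Cert.rep (nat_lit 32) [] [] [] Cert.nil (Cert.rep (nat_lit 290) [] [] [] Cert.nil Cert.nil)) (Cert.rep (nat_lit 266) [nat_lit 8,nat_lit 36] [] [] (Cert.rep (nat_lit 44) [] [] [] Cert.nil (Cert.rep (nat_lit 56) [] [] [] Cert.nil (Cert.rep (nat_lit 294) [] [] [] Cert.nil (Cert.rep (nat_lit 306) [] [] [] Cert.nil Cert.nil))))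 (Cert.rep (nat_lit 290) [nat_lit 4,nat_lit 32,nat_lit 200] [] [] (Cert.rep (nat_lit 4) [] [] [] Cert.nil (Cert.rep (nat_lit 32) [] [] [] Cert.nil (Cert.rep (nat_lit 258) [] [] [] Cert.nil (Cert.rep (nat_lit 282) [] [] [] Cert.nil Cert.nil)))) Cert.nil))))))) Cert.nil))) f46_0))))))) Cert.nil)
noncomputable def f46_2 : Cert :=
  Cert.sp (nat_lit 32) (Cert.lf (Leaf.pt (nat_lit 0) (nat_lit 32) [nat_lit 84])) (Cert.st (nat_lit 0) (nat_lit 32) (nat_lit 0) (Cert.sp (nat_lit 44) (Cert.lf (Leaf.pt (nat_lit 11) (nat_lit 44) [nat_lit 12,nat_lit 84,nat_lit 1])) (Cert.st (nat_lit 0) (nat_lit 44) (nat_lit 0) (Cert.sp (nat_lit 68) (Cert.lf (Leaf.st (nat_lit 1) (nat_lit 128) (nat_lit 68) (Leaf.st (nat_lit 1) (nat_lit 4) (nat_lit 68) (Leaf.st (nat_lit 1) (nat_lit 144) (nat_lit 68) (Leaf.pt (nat_lit 15) (nat_lit 68) [nat_lit 1,nat_lit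 2,nat_lit 44]))))) (Cert.st (nat_lit 0) (nat_lit 68) (nat_lit 0) (Cert.sp (nat_lit 72) (Cert.lf (Leaf.st (nat_lit 1) (nat_lit 128) (nat_lit 72) (Leaf.st (nat_lit 1) (nat_lit 4) (nat_lit 72) (Leaf.st (nat_lit 1) (nat_lit 144) (nat_lit 72) (Leaf.pt (nat_lit 15) (nat_lit 72) [nat_lit 1,nat_lit 2,nat_lit 44]))))) (Cert.st (nat_lit 0) (nat_lit 72) (nat_lit 0) (Cert.sp (nat_lit 258) (Cert.lf (Leaf.pt (nat_lit 7) (nat_lit 258) [nat_lit 8,nat_lit 20])) (Cert.st (nat_lit 0) (nat_lit 258) (nat_lit 0) (Cert.sp (nat_lit 266) (Cert.lf (Leaf.pt (nat_lit 7) (nat_lit 266) [nat_lit 8,nat_lit 20])) (Cert.st (nat_lit 0) (nat_lit 266) (nat_lit 0) (Cert.sp (nat_lit 290) (Cert.lf (Leaf.pt (nat_lit 25) (nat_lit 290) [nat_lit 24,nat_lit 200])) (Cert.st (nat_lit 0) (nat_lit 290) (nat_lit 0) (Cert.nl (nat_lit 1) (Cert.sy (nat_lit 0) (Cert.root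 (nat_lit 32) [] [nat_lit 8,nat_lit 4] [nat_lit 0,nat_lit 1,nat_lit 2,nat_lit 3,nat_lit 4] [Ins.fr [nat_lit 0],Ins.ts (nat_lit 0) [nat_lit 0,nat_lit 0] [],Ins.ts (nat_lit 1) [nat_lit 0] [],Ins.ts (nat_lit 1) [nat_lit 0,nat_lit 1] [],Ins.fr [nat_lit 1],Ins.ts (nat_lit 1) [nat_lit 0,nat_lit 0] [],Ins.ts (nat_lit 0) [nat_lit 1,nat_lit 0,nat_lit 1] [nat_lit 0,nat_lit 0,nat_lit 0],Ins.ts (nat_lit 1) [nat_lit 0,nat_lit 0,nat_lit 0,nat_lit 0] [],Ins.df [nat_lit 0,nat_lit 0],Ins.df [nat_lit 0,nat_lit 0]] (Cert.rep (nat_lit 8) [nat_lit 2,nat_lit 4,nat_lit 16,nat_lit 256] [nat_lit 256,nat_lit 16,nat_lit 8,nat_lit 4,nat_lit 2,nat_lit 1] [nat_lit 64,nat_lit 192,nat_lit 32] (Cert.rep (nat_lit 1) [] [] [] Cert.nil (Cert.rep (nat_lit 2) [nat_lit 2,nat_lit 4] [] [] f46_1 (Cert.rep (nat_lit 4) [] [] [] Cert.nil (Cert.rep (nat_lit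 6) [nat_lit 2,nat_lit 4] [] [] (Cert.rep (nat_lit 256) [] [] [] (Cert.er (Cert.ro (nat_lit 0) [nat_lit 1,nat_lit 8,nat_lit 16] [nat_lit 8,nat_lit 9,nat_lit 16] [nat_lit 0,nat_lit 1,nat_lit 6,nat_lit 7,nat_lit 8,nat_lit 9,nat_lit 14,nat_lit 15] (Cert.ro (nat_lit 1) [nat_lit 1,nat_lit 2,nat_lit 14,nat_lit 16] [nat_lit 1,nat_lit 14,nat_lit 12,nat_lit 16] [nat_lit 0,nat_lit 1,nat_lit 17,nat_lit 16,nat_lit 262,nat_lit 263,nat_lit 278,nat_lit 279,nat_lit 8,nat_lit 9,nat_lit 25,nat_lit 24,nat_lit 270,nat_lit 271,nat_lit 286,nat_lit 287] (Cert.lf (Leaf.st (nat_lit 2) (nat_lit 1) (nat_lit 5) (Leaf.cf (nat_lit 14))))))) (Cert.rep (nat_lit 264) [] [] [] (Cert.er (Cert.ro (nat_lit 0) [nat_lit 1,nat_lit 8,nat_lit 16] [nat_lit 8,nat_lit 9,nat_lit 16] [nat_lit 0,nat_lit 1,nat_lit 6,nat_lit 7,nat_lit 8,nat_lit 9,nat_lit 14,nat_lit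 15] (Cert.ro (nat_lit 1) [nat_lit 1,nat_lit 2,nat_lit 14,nat_lit 16] [nat_lit 1,nat_lit 14,nat_lit 12,nat_lit 16] [nat_lit 0,nat_lit 1,nat_lit 17,nat_lit 16,nat_lit 270,nat_lit 271,nat_lit 286,nat_lit 287,nat_lit 8,nat_lit 9,nat_lit 25,nat_lit 24,nat_lit 262,nat_lit 263,nat_lit 278,nat_lit 279] (Cert.lf (Leaf.st (nat_lit 2) (nat_lit 1) (nat_lit 5) (Leaf.cf (nat_lit 14))))))) Cert.nil)) (Cert.rep (nat_lit 9) [] [] [] Cert.nil (Cert.rep (nat_lit 10) [nat_lit 2,nat_lit 4] [] [] (Cert.rep (nat_lit 260) [] [] [] (Cert.er (Cert.ro (nat_lit 0) [nat_lit 1,nat_lit 8,nat_lit 16] [nat_lit 8,nat_lit 9,nat_lit 16] [nat_lit 0,nat_lit 1,nat_lit 10,nat_lit 11,nat_lit 8,nat_lit 9,nat_lit 2,nat_lit 3] (Cert.ro (nat_lit 1) [nat_lit 1,nat_lit 2,nat_lit 14,nat_lit 16] [nat_lit 1,nat_lit 14,nat_lit 12,nat_lit 16] [nat_lit 0,nat_lit 1,nat_lit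 16,nat_lit 17,nat_lit 270,nat_lit 271,nat_lit 287,nat_lit 286,nat_lit 8,nat_lit 9,nat_lit 24,nat_lit 25,nat_lit 262,nat_lit 263,nat_lit 279,nat_lit 278] (Cert.lf (Leaf.st (nat_lit 2) (nat_lit 1) (nat_lit 1) (Leaf.cf (nat_lit 1))))))) (Cert.rep (nat_lit 268) [] [] [] (Cert.er (Cert.ro (nat_lit 0) [nat_lit 1,nat_lit 8,nat_lit 16] [nat_lit 8,nat_lit 9,nat_lit 16] [nat_lit 0,nat_lit 1,nat_lit 10,nat_lit 11,nat_lit 8,nat_lit 9,nat_lit 2,nat_lit 3] (Cert.ro (nat_lit 1) [nat_lit 1,nat_lit 2,nat_lit 14,nat_lit 16] [nat_lit 1,nat_lit 14,nat_lit 12,nat_lit 16] [nat_lit 0,nat_lit 1,nat_lit 16,nat_lit 17,nat_lit 262,nat_lit 263,nat_lit 279,nat_lit 278,nat_lit 8,nat_lit 9,nat_lit 24,nat_lit 25,nat_lit 270,nat_lit 271,nat_lit 287,nat_lit 286] (Cert.lf (Leaf.st (nat_lit 2) (nat_lit 1) (nat_lit 1) (Leaf.cf (nat_lit 1))))))) Cert.nil))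 (Cert.rep (nat_lit 12) [] [] [] Cert.nil (Cert.rep (nat_lit 14) [nat_lit 2,nat_lit 4] [] [] (Cert.rep (nat_lit 256) [] [] [] (Cert.er (Cert.ro (nat_lit 0) [nat_lit 1,nat_lit 8,nat_lit 16] [nat_lit 8,nat_lit 9,nat_lit 16] [nat_lit 0,nat_lit 1,nat_lit 14,nat_lit 15,nat_lit 8,nat_lit 9,nat_lit 6,nat_lit 7] (Cert.ro (nat_lit 1) [nat_lit 1,nat_lit 2,nat_lit 14,nat_lit 16] [nat_lit 1,nat_lit 14,nat_lit 12,nat_lit 16] [nat_lit 0,nat_lit 1,nat_lit 17,nat_lit 16,nat_lit 270,nat_lit 271,nat_lit 286,nat_lit 287,nat_lit 8,nat_lit 9,nat_lit 25,nat_lit 24,nat_lit 262,nat_lit 263,nat_lit 278,nat_lit 279] (Cert.lf (Leaf.st (nat_lit 2) (nat_lit 1) (nat_lit 5) (Leaf.cf (nat_lit 6))))))) (Cert.rep (nat_lit 264) [] [] [] (Cert.er (Cert.ro (nat_lit 0) [nat_lit 1,nat_lit 8,nat_lit 16] [nat_lit 8,nat_lit 9,nat_lit 16] [nat_lit 0,nat_lit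 1,nat_lit 14,nat_lit 15,nat_lit 8,nat_lit 9,nat_lit 6,nat_lit 7] (Cert.ro (nat_lit 1) [nat_lit 1,nat_lit 2,nat_lit 14,nat_lit 16] [nat_lit 1,nat_lit 14,nat_lit 12,nat_lit 16] [nat_lit 0,nat_lit 1,nat_lit 17,nat_lit 16,nat_lit 262,nat_lit 263,nat_lit 278,nat_lit 279,nat_lit 8,nat_lit 9,nat_lit 25,nat_lit 24,nat_lit 270,nat_lit 271,nat_lit 286,nat_lit 287] (Cert.lf (Leaf.st (nat_lit 2) (nat_lit 1) (nat_lit 5) (Leaf.cf (nat_lit 6))))))) Cert.nil)) (Cert.rep (nat_lit 258) [] [] [] Cert.nil (Cert.rep (nat_lit 266) [] [] [] Cert.nil Cert.nil)))))))))) Cert.nil)))))))))))))))))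
noncomputable def f46 : Cert :=
  (Cert.st (nat_lit 0) (nat_lit 8) (nat_lit 0) (Cert.sp (nat_lit 1) (Cert.lf (Leaf.pt (nat_lit 7) (nat_lit 1) [nat_lit 8,nat_lit 16])) (Cert.sp (nat_lit 2) (Cert.lf (Leaf.pt (nat_lit 0) (nat_lit 2) [nat_lit 96])) (Cert.st (nat_lit 0) (nat_lit 2) (nat_lit 0) (Cert.sp (nat_lit 4) (Cert.lf (Leaf.pt (nat_lit 7) (nat_lit 4) [nat_lit 8,nat_lit 16])) (Cert.st (nat_lit 0) (nat_lit 4) (nat_lit 0) (Cert.sp (nat_lit 12) (Cert.lf (Leaf.pt (nat_lit 7) (nat_lit 12) [nat_lit 8,nat_lit 16])) (Cert.st (nat_lit 0) (nat_lit 12) (nat_lit 0) (Cert.sp (nat_lit 14) (Cert.lf (Leaf.pt (nat_lit 11) (nat_lit 14) [nat_lit 2,nat_lit 64,nat_lit 1])) (Cert.st (nat_lit 0) (nat_lit 14) (nat_lit 0) f46_2))))))))))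
theorem fin46 : finOK DB PT 88 t88 46 t46 (nat_lit 0x30c03c0000c30c030000000000000000000000000000000000cc00cc0c0c0c0c0000000000000000c00c3003c00c300300000ff000000ff0c33cf00fccccffff) f46 = true := by
  decide +kernel
noncomputable def f48 : Cert :=
  (Cert.st (nat_lit 0) (nat_lit 8) (nat_lit 0) (Cert.sp (nat_lit 1) (Cert.lf (Leaf.pt (nat_lit 7) (nat_lit 1) [nat_lit 8,nat_lit 16])) (Cert.sp (nat_lit 2) (Cert.lf (Leaf.pt (nat_lit 0) (nat_lit 2) [nat_lit 96])) (Cert.st (nat_lit 0) (nat_lit 2) (nat_lit 0) (Cert.sp (nat_lit 4) (Cert.lf (Leaf.pt (nat_lit 7) (nat_lit 4) [nat_lit 8,nat_lit 16])) (Cert.st (nat_lit 0) (nat_lit 4) (nat_lit 0) (Cert.sp (nat_lit 12) (Cert.lf (Leaf.pt (nat_lit 7) (nat_lit 12) [nat_lit 8,nat_lit 16])) (Cert.sp (nat_lit 13) (Cert.lf (Leaf.pt (nat_lit 7) (nat_lit 13) [nat_lit 8,nat_lit 16])) (Cert.sp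 (nat_lit 14) (Cert.lf (Leaf.pt (nat_lit 11) (nat_lit 14) [nat_lit 2,nat_lit 64,nat_lit 1])) (Cert.st (nat_lit 0) (nat_lit 14) (nat_lit 0) (Cert.sp (nat_lit 18) (Cert.lf (Leaf.pt (nat_lit 0) (nat_lit 18) [nat_lit 132])) (Cert.st (nat_lit 0) (nat_lit 18) (nat_lit 0) (Cert.sp (nat_lit 30) (Cert.lf (Leaf.pt (nat_lit 11) (nat_lit 30) [nat_lit 12,nat_lit 128,nat_lit 32])) (Cert.st (nat_lit 0) (nat_lit 30) (nat_lit 0) (Cert.sp (nat_lit 32) (Cert.lf (Leaf.pt (nat_lit 11) (nat_lit 32) [nat_lit 18,nat_lit 128,nat_lit 12])) (Cert.st (nat_lit 0) (nat_lit 32) (nat_lit 0) (Cert.sp (nat_lit 44) (Cert.lf (Leaf.pt (nat_lit 11) (nat_lit 44) [nat_lit 12,nat_lit 84,nat_lit 1])) (Cert.st (nat_lit 0) (nat_lit 44) (nat_lit 0) (Cert.sp (nat_lit 68) (Cert.lf (Leaf.st (nat_lit 1) (nat_lit 128) (nat_lit 68) (Leaf.st (nat_lit 1) (nat_lit 4)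 (nat_lit 68) (Leaf.st (nat_lit 1) (nat_lit 144) (nat_lit 68) (Leaf.pt (nat_lit 15) (nat_lit 68) [nat_lit 1,nat_lit 2,nat_lit 44]))))) (Cert.st (nat_lit 0) (nat_lit 68) (nat_lit 0) (Cert.sp (nat_lit 72) (Cert.lf (Leaf.st (nat_lit 1) (nat_lit 128) (nat_lit 72) (Leaf.st (nat_lit 1) (nat_lit 4) (nat_lit 72) (Leaf.st (nat_lit 1) (nat_lit 144) (nat_lit 72) (Leaf.pt (nat_lit 15) (nat_lit 72) [nat_lit 1,nat_lit 2,nat_lit 44]))))) (Cert.st (nat_lit 0) (nat_lit 72) (nat_lit 0) (Cert.sp (nat_lit 196) (Cert.lf (Leaf.st (nat_lit 1) (nat_lit 16) (nat_lit 196) (Leaf.pt (nat_lit 7) (nat_lit 196) [nat_lit 197,nat_lit 84]))) (Cert.st (nat_lit 0) (nat_lit 196) (nat_lit 0) (Cert.sp (nat_lit 200) (Cert.lf (Leaf.pt (nat_lit 11) (nat_lit 200) [nat_lit 12,nat_lit 84,nat_lit 1])) (Cert.st (nat_lit 0) (nat_lit 200) (nat_lit 0) (Cert.nl (nat_lit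 1) (Cert.sy (nat_lit 0) (Cert.root (nat_lit 32) [] [nat_lit 8,nat_lit 4] [] [Ins.fr [nat_lit 0],Ins.ts (nat_lit 0) [nat_lit 0,nat_lit 0] [],Ins.ts (nat_lit 1) [nat_lit 0] [],Ins.ts (nat_lit 1) [nat_lit 0,nat_lit 1] [],Ins.fr [nat_lit 1],Ins.ts (nat_lit 1) [nat_lit 0,nat_lit 0] [],Ins.ts (nat_lit 1) [nat_lit 0,nat_lit 0,nat_lit 0,nat_lit 0] []] (Cert.rep (nat_lit 8) [nat_lit 2,nat_lit 16] [nat_lit 16,nat_lit 8,nat_lit 4,nat_lit 2,nat_lit 1] [nat_lit 128,nat_lit 64,nat_lit 32] (Cert.rep (nat_lit 1) [] [] [] Cert.nil (Cert.rep (nat_lit 2) [] [] [] Cert.nil (Cert.rep (nat_lit 4) [] [] [] Cert.nil (Cert.rep (nat_lit 5) [] [] [] Cert.nil (Cert.rep (nat_lit 6) [] [] [] Cert.nil (Cert.rep (nat_lit 9) [] [] [] Cert.nil (Cert.rep (nat_lit 10) [] [] [] Cert.nil (Cert.rep (nat_lit 12) [] [] [] Cert.nil (Cert.rep (nat_lit 13)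 [] [] [] Cert.nil (Cert.rep (nat_lit 14) [] [] [] Cert.nil (Cert.rep (nat_lit 18) [] [] [] Cert.nil (Cert.rep (nat_lit 22) [] [] [] Cert.nil (Cert.rep (nat_lit 26) [] [] [] Cert.nil (Cert.rep (nat_lit 30) [] [] [] Cert.nil Cert.nil)))))))))))))) Cert.nil))))))))))))))))))))))))))))))
theorem fin48 : finOK DB PT 88 t88 48 t48 (nat_lit 0x330033003300330000000000000000000000ff000000ff0c33cf00fccccffff) f48 = true := by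
  decide +kernel
noncomputable def f63_0 : Cert :=
  Cert.rep (nat_lit 8) [nat_lit 2,nat_lit 16] [nat_lit 16,nat_lit 8,nat_lit 4,nat_lit 2,nat_lit 1] [nat_lit 256,nat_lit 128,nat_lit 64,nat_lit 32] (Cert.rep (nat_lit 1) [] [] [] Cert.nil (Cert.rep (nat_lit 2) [] [] [] Cert.nil (Cert.rep (nat_lit 4) [] [] [] Cert.nil (Cert.rep (nat_lit 5) [] [] [] Cert.nil (Cert.rep (nat_lit 6) [] [] [] Cert.nil (Cert.rep (nat_lit 9) [] [] [] Cert.nil (Cert.rep (nat_lit 10) [] [] [] Cert.nil (Cert.rep (nat_lit 12) [] [] [] Cert.nil (Cert.rep (nat_lit 13) [] [] [] Cert.nil (Cert.rep (nat_lit 14) [] [] [] Cert.nil (Cert.rep (nat_lit 18) [] [] [] Cert.nil (Cert.rep (nat_lit 22) [] [] [] Cert.nil (Cert.rep (nat_lit 26) [] [] [] Cert.nil (Cert.rep (nat_lit 30) [] [] [] Cert.nil Cert.nil)))))))))))))) (Cert.rep (nat_lit 26) [nat_lit 4,nat_lit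 8,nat_lit 34,nat_lit 192] [nat_lit 192,nat_lit 34,nat_lit 18,nat_lit 8,nat_lit 4,nat_lit 1] [nat_lit 256,nat_lit 64,nat_lit 2] (Cert.rep (nat_lit 1) [] [] [] Cert.nil (Cert.rep (nat_lit 4) [nat_lit 4,nat_lit 8] [] [] (Cert.rep (nat_lit 204) [] [] [] (Cert.er (Cert.ro (nat_lit 0) [nat_lit 1,nat_lit 8,nat_lit 16] [nat_lit 8,nat_lit 9,nat_lit 16] [nat_lit 0,nat_lit 1,nat_lit 4,nat_lit 5,nat_lit 26,nat_lit 27,nat_lit 30,nat_lit 31] (Cert.ro (nat_lit 1) [nat_lit 1,nat_lit 2,nat_lit 14,nat_lit 16] [nat_lit 1,nat_lit 14,nat_lit 12,nat_lit 16] [nat_lit 0,nat_lit 1,nat_lit 42,nat_lit 43,nat_lit 200,nat_lit 201,nat_lit 227,nat_lit 226,nat_lit 26,nat_lit 27,nat_lit 49,nat_lit 48,nat_lit 210,nat_lit 211,nat_lit 248,nat_lit 249] (Cert.lf (Leaf.st (nat_lit 2) (nat_lit 1) (nat_lit 5) (Leaf.cf (nat_lit 30))))))) (Cert.rep (nat_lit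 214) [] [] [] (Cert.er (Cert.ro (nat_lit 0) [nat_lit 1,nat_lit 8,nat_lit 16] [nat_lit 8,nat_lit 9,nat_lit 16] [nat_lit 0,nat_lit 1,nat_lit 4,nat_lit 5,nat_lit 26,nat_lit 27,nat_lit 30,nat_lit 31] (Cert.ro (nat_lit 1) [nat_lit 1,nat_lit 2,nat_lit 14,nat_lit 16] [nat_lit 1,nat_lit 14,nat_lit 12,nat_lit 16] [nat_lit 0,nat_lit 1,nat_lit 42,nat_lit 43,nat_lit 210,nat_lit 211,nat_lit 248,nat_lit 249,nat_lit 26,nat_lit 27,nat_lit 49,nat_lit 48,nat_lit 200,nat_lit 201,nat_lit 227,nat_lit 226] (Cert.lf (Leaf.st (nat_lit 2) (nat_lit 1) (nat_lit 5) (Leaf.cf (nat_lit 30))))))) Cert.nil)) (Cert.rep (nat_lit 8) [nat_lit 4,nat_lit 8] [] [] (Cert.rep (nat_lit 192) [] [] [] (Cert.er (Cert.ro (nat_lit 0) [nat_lit 1,nat_lit 8,nat_lit 16] [nat_lit 8,nat_lit 9,nat_lit 16] [nat_lit 0,nat_lit 1,nat_lit 8,nat_lit 9,nat_lit 26,nat_lit 27,nat_lit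 18,nat_lit 19] (Cert.ro (nat_lit 1) [nat_lit 1,nat_lit 2,nat_lit 14,nat_lit 16] [nat_lit 1,nat_lit 14,nat_lit 12,nat_lit 16] [nat_lit 0,nat_lit 1,nat_lit 43,nat_lit 42,nat_lit 200,nat_lit 201,nat_lit 226,nat_lit 227,nat_lit 26,nat_lit 27,nat_lit 48,nat_lit 49,nat_lit 210,nat_lit 211,nat_lit 249,nat_lit 248] (Cert.lf (Leaf.st (nat_lit 2) (nat_lit 1) (nat_lit 1) (Leaf.cf (nat_lit 1))))))) (Cert.rep (nat_lit 218) [] [] [] (Cert.er (Cert.ro (nat_lit 0) [nat_lit 1,nat_lit 8,nat_lit 16] [nat_lit 8,nat_lit 9,nat_lit 16] [nat_lit 0,nat_lit 1,nat_lit 8,nat_lit 9,nat_lit 26,nat_lit 27,nat_lit 18,nat_lit 19] (Cert.ro (nat_lit 1) [nat_lit 1,nat_lit 2,nat_lit 14,nat_lit 16] [nat_lit 1,nat_lit 14,nat_lit 12,nat_lit 16] [nat_lit 0,nat_lit 1,nat_lit 43,nat_lit 42,nat_lit 210,nat_lit 211,nat_lit 249,nat_lit 248,nat_lit 26,nat_lit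 27,nat_lit 48,nat_lit 49,nat_lit 200,nat_lit 201,nat_lit 226,nat_lit 227] (Cert.lf (Leaf.st (nat_lit 2) (nat_lit 1) (nat_lit 1) (Leaf.cf (nat_lit 1))))))) Cert.nil)) (Cert.rep (nat_lit 12) [] [] [] Cert.nil (Cert.rep (nat_lit 18) [nat_lit 4,nat_lit 8] [] [] (Cert.rep (nat_lit 192) [] [] [] (Cert.er (Cert.ro (nat_lit 0) [nat_lit 1,nat_lit 8,nat_lit 16] [nat_lit 8,nat_lit 9,nat_lit 16] [nat_lit 0,nat_lit 1,nat_lit 18,nat_lit 19,nat_lit 26,nat_lit 27,nat_lit 8,nat_lit 9] (Cert.ro (nat_lit 1) [nat_lit 1,nat_lit 2,nat_lit 14,nat_lit 16] [nat_lit 1,nat_lit 14,nat_lit 12,nat_lit 16] [nat_lit 0,nat_lit 1,nat_lit 43,nat_lit 42,nat_lit 210,nat_lit 211,nat_lit 249,nat_lit 248,nat_lit 26,nat_lit 27,nat_lit 48,nat_lit 49,nat_lit 200,nat_lit 201,nat_lit 226,nat_lit 227] (Cert.kw (nat_lit 2) (nat_lit 0) (nat_lit 2) (nat_lit 1)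 )))) (Cert.rep (nat_lit 218) [] [] [] (Cert.er (Cert.ro (nat_lit 0) [nat_lit 1,nat_lit 8,nat_lit 16] [nat_lit 8,nat_lit 9,nat_lit 16] [nat_lit 0,nat_lit 1,nat_lit 18,nat_lit 19,nat_lit 26,nat_lit 27,nat_lit 8,nat_lit 9] (Cert.ro (nat_lit 1) [nat_lit 1,nat_lit 2,nat_lit 14,nat_lit 16] [nat_lit 1,nat_lit 14,nat_lit 12,nat_lit 16] [nat_lit 0,nat_lit 1,nat_lit 43,nat_lit 42,nat_lit 200,nat_lit 201,nat_lit 226,nat_lit 227,nat_lit 26,nat_lit 27,nat_lit 48,nat_lit 49,nat_lit 210,nat_lit 211,nat_lit 249,nat_lit 248] (Cert.kw (nat_lit 2) (nat_lit 0) (nat_lit 2) (nat_lit 1) )))) Cert.nil)) (Cert.rep (nat_lit 22) [] [] [] Cert.nil (Cert.rep (nat_lit 27) [] [] [] Cert.nil (Cert.rep (nat_lit 30) [nat_lit 4,nat_lit 8] [] [] (Cert.rep (nat_lit 204) [] [] [] (Cert.er (Cert.ro (nat_lit 0) [nat_lit 1,nat_lit 8,nat_lit 16] [nat_lit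 8,nat_lit 9,nat_lit 16] [nat_lit 0,nat_lit 1,nat_lit 30,nat_lit 31,nat_lit 26,nat_lit 27,nat_lit 4,nat_lit 5] (Cert.ro (nat_lit 1) [nat_lit 1,nat_lit 2,nat_lit 14,nat_lit 16] [nat_lit 1,nat_lit 14,nat_lit 12,nat_lit 16] [nat_lit 0,nat_lit 1,nat_lit 42,nat_lit 43,nat_lit 210,nat_lit 211,nat_lit 248,nat_lit 249,nat_lit 26,nat_lit 27,nat_lit 49,nat_lit 48,nat_lit 200,nat_lit 201,nat_lit 227,nat_lit 226] (Cert.lf (Leaf.st (nat_lit 2) (nat_lit 1) (nat_lit 5) (Leaf.cf (nat_lit 4))))))) (Cert.rep (nat_lit 214) [] [] [] (Cert.er (Cert.ro (nat_lit 0) [nat_lit 1,nat_lit 8,nat_lit 16] [nat_lit 8,nat_lit 9,nat_lit 16] [nat_lit 0,nat_lit 1,nat_lit 30,nat_lit 31,nat_lit 26,nat_lit 27,nat_lit 4,nat_lit 5] (Cert.ro (nat_lit 1) [nat_lit 1,nat_lit 2,nat_lit 14,nat_lit 16] [nat_lit 1,nat_lit 14,nat_lit 12,nat_lit 16] [nat_lit 0,nat_lit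 1,nat_lit 42,nat_lit 43,nat_lit 200,nat_lit 201,nat_lit 227,nat_lit 226,nat_lit 26,nat_lit 27,nat_lit 49,nat_lit 48,nat_lit 210,nat_lit 211,nat_lit 248,nat_lit 249] (Cert.lf (Leaf.st (nat_lit 2) (nat_lit 1) (nat_lit 5) (Leaf.cf (nat_lit 4))))))) Cert.nil)) (Cert.rep (nat_lit 196) [] [] [] Cert.nil (Cert.rep (nat_lit 222) [] [] [] Cert.nil Cert.nil)))))))))) Cert.nil)
noncomputable def f63 : Cert :=
  (Cert.st (nat_lit 0) (nat_lit 8) (nat_lit 0) (Cert.st (nat_lit 0) (nat_lit 26) (nat_lit 0) (Cert.sp (nat_lit 1) (Cert.lf (Leaf.pt (nat_lit 7) (nat_lit 1) [nat_lit 8,nat_lit 16])) (Cert.sp (nat_lit 2) (Cert.lf (Leaf.pt (nat_lit 0) (nat_lit 2) [nat_lit 96])) (Cert.st (nat_lit 0) (nat_lit 2) (nat_lit 0) (Cert.sp (nat_lit 4) (Cert.lf (Leaf.pt (nat_lit 7) (nat_lit 4) [nat_lit 8,nat_lit 16])) (Cert.st (nat_lit 0) (nat_lit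 4) (nat_lit 0) (Cert.sp (nat_lit 12) (Cert.lf (Leaf.pt (nat_lit 7) (nat_lit 12) [nat_lit 8,nat_lit 16])) (Cert.st (nat_lit 0) (nat_lit 12) (nat_lit 0) (Cert.sp (nat_lit 18) (Cert.lf (Leaf.pt (nat_lit 7) (nat_lit 18) [nat_lit 146,nat_lit 36])) (Cert.st (nat_lit 0) (nat_lit 18) (nat_lit 0) (Cert.sp (nat_lit 22) (Cert.lf (Leaf.pt (nat_lit 7) (nat_lit 22) [nat_lit 26,nat_lit 38])) (Cert.st (nat_lit 0) (nat_lit 22) (nat_lit 0) (Cert.sp (nat_lit 30) (Cert.lf (Leaf.pt (nat_lit 8) (nat_lit 30) [nat_lit 4,nat_lit 18])) (Cert.st (nat_lit 0) (nat_lit 30) (nat_lit 0) (Cert.sp (nat_lit 128) (Cert.lf (Leaf.pt (nat_lit 7) (nat_lit 128) [nat_lit 146,nat_lit 36])) (Cert.st (nat_lit 0) (nat_lit 128) (nat_lit 0) (Cert.sp (nat_lit 264) (Cert.lf (Leaf.st (nat_lit 1) (nat_lit 40) (nat_lit 264) (Leaf.pt (nat_lit 7) (nat_lit 264) [nat_lit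 265,nat_lit 72]))) (Cert.st (nat_lit 0) (nat_lit 264) (nat_lit 0) (Cert.nl (nat_lit 1) (Cert.sy (nat_lit 0) (Cert.s2 (nat_lit 0) (nat_lit 18) (Cert.o1 (nat_lit 0) (nat_lit 18) (Cert.fu (nat_lit 8) (nat_lit 1) (nat_lit 0) (nat_lit 0) [] [nat_lit 18,nat_lit 1,nat_lit 4,nat_lit 32,nat_lit 128] [] [] [] [nat_lit 1] [[nat_lit 1]] [[nat_lit 18]] [Ins.fr [nat_lit 0],Ins.ts (nat_lit 4) [nat_lit 0] [nat_lit 0,nat_lit 0,nat_lit 0],Ins.ts (nat_lit 1) [nat_lit 0] [],Ins.fr [nat_lit 1],Ins.ts (nat_lit 2) [nat_lit 0,nat_lit 2] [],Ins.ts (nat_lit 0) [nat_lit 0,nat_lit 0] [],Ins.ts (nat_lit 1) [nat_lit 0] [],Ins.ts (nat_lit 3) [nat_lit 0] [],Ins.ts (nat_lit 1) [nat_lit 0,nat_lit 1] [],Ins.fr [nat_lit 2],Ins.ts (nat_lit 3) [nat_lit 0] [],Ins.ts (nat_lit 0) [nat_lit 0,nat_lit 0] [],Ins.ts (nat_lit 3) [nat_lit 0,nat_lit 3] [],Ins.ts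 (nat_lit 0) [nat_lit 1,nat_lit 0] [nat_lit 0,nat_lit 1],Ins.fr [nat_lit 1,nat_lit 3],Ins.ts (nat_lit 0) [nat_lit 0,nat_lit 0] [],Ins.ts (nat_lit 2) [nat_lit 0] [],Ins.ts (nat_lit 0) [nat_lit 1,nat_lit 2,nat_lit 0] [nat_lit 0,nat_lit 1],Ins.fr [nat_lit 0],Ins.ts (nat_lit 0) [nat_lit 0,nat_lit 0] [],Ins.ts (nat_lit 2) [nat_lit 0,nat_lit 4] []] [] (Cert.rep (nat_lit 8) [] [nat_lit 16,nat_lit 8,nat_lit 4,nat_lit 2,nat_lit 1] [nat_lit 256,nat_lit 128,nat_lit 64,nat_lit 32] (Cert.rep (nat_lit 1) [nat_lit 2,nat_lit 16] [] [] (Cert.rep (nat_lit 2) [] [] [] (Cert.rep (nat_lit 4) [nat_lit 4] [] [] (Cert.rep (nat_lit 76) [] [] [] Cert.nil (Cert.rep (nat_lit 77) [] [] [] Cert.nil Cert.nil)) (Cert.rep (nat_lit 5) [nat_lit 4] [] [] (Cert.rep (nat_lit 76) [] [] [] Cert.nil (Cert.rep (nat_lit 77) [] [] [] Cert.nil Cert.nil)) (Cert.rep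 (nat_lit 6) [nat_lit 4] [] [] (Cert.rep (nat_lit 76) [] [] [] Cert.nil (Cert.rep (nat_lit 77) [] [] [] Cert.nil Cert.nil)) (Cert.rep (nat_lit 7) [nat_lit 4] [] [] (Cert.rep (nat_lit 76) [] [] [] Cert.nil (Cert.rep (nat_lit 77) [] [] [] Cert.nil Cert.nil)) (Cert.rep (nat_lit 12) [] [] [] Cert.nil (Cert.rep (nat_lit 13) [] [] [] Cert.nil (Cert.rep (nat_lit 14) [] [] [] Cert.nil (Cert.rep (nat_lit 15) [] [] [] Cert.nil Cert.nil)))))))) (Cert.rep (nat_lit 18) [] [] [] (Cert.rep (nat_lit 4) [] [] [] Cert.nil (Cert.rep (nat_lit 5) [] [] [] Cert.nil (Cert.rep (nat_lit 12) [] [] [] Cert.nil (Cert.rep (nat_lit 13) [] [] [] Cert.nil (Cert.rep (nat_lit 22) [] [] [] Cert.nil (Cert.rep (nat_lit 23) [] [] [] Cert.nil (Cert.rep (nat_lit 30) [] [] [] Cert.nil (Cert.rep (nat_lit 31) [] [] [] Cert.nil Cert.nil)))))))) Cert.nil)) Cert.nil)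 (Cert.rep (nat_lit 26) [] [nat_lit 192,nat_lit 34,nat_lit 18,nat_lit 8,nat_lit 4,nat_lit 1] [nat_lit 256,nat_lit 64,nat_lit 2] (Cert.rep (nat_lit 1) [nat_lit 4,nat_lit 34,nat_lit 192] [] [] (Cert.rep (nat_lit 18) [] [] [] (Cert.rep (nat_lit 4) [] [] [] Cert.nil (Cert.rep (nat_lit 5) [] [] [] Cert.nil (Cert.rep (nat_lit 12) [] [] [] Cert.nil (Cert.rep (nat_lit 13) [] [] [] Cert.nil (Cert.rep (nat_lit 22) [] [] [] Cert.nil (Cert.rep (nat_lit 23) [] [] [] Cert.nil (Cert.rep (nat_lit 30) [] [] [] Cert.nil (Cert.rep (nat_lit 31) [] [] [] Cert.nil Cert.nil)))))))) Cert.nil) Cert.nil) Cert.nil)))) (Cert.root (nat_lit 32) [] [nat_lit 8,nat_lit 4] [nat_lit 0,nat_lit 1,nat_lit 2,nat_lit 3,nat_lit 4] [Ins.fr [nat_lit 0],Ins.ts (nat_lit 0) [nat_lit 0,nat_lit 0] [],Ins.ts (nat_lit 1) [nat_lit 0] [],Ins.ts (nat_lit 1) [nat_lit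 0,nat_lit 1] [],Ins.fr [nat_lit 1],Ins.ts (nat_lit 1) [nat_lit 0,nat_lit 0] [],Ins.ts (nat_lit 1) [nat_lit 0,nat_lit 0,nat_lit 0,nat_lit 0] [],Ins.ts (nat_lit 0) [nat_lit 1,nat_lit 0,nat_lit 1] [nat_lit 0,nat_lit 0,nat_lit 0],Ins.df [nat_lit 0,nat_lit 0],Ins.df [nat_lit 0,nat_lit 0]] f63_0)))))))))))))))))))))))
theorem fin63 : finOK DB PT 88 t88 63 t63 (nat_lit 0xf000000000f000000f000000000f000000f00000f0000000000f00000f000c30f000c00300f00c300f00300c000f00000ff00000f00fc33cf00fccccffff) f63 = true := by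
  decide +kernel
noncomputable def f64_0 : Cert :=
  Cert.xk (nat_lit 296) (Cert.xn (nat_lit 8) (Cert.s2 (nat_lit 0) (nat_lit 18) (Cert.o1 (nat_lit 0) (nat_lit 18) (Cert.fu (nat_lit 8) (nat_lit 1) (nat_lit 0) (nat_lit 0) [] [nat_lit 18,nat_lit 1,nat_lit 4,nat_lit 32,nat_lit 128] [] [] [] [nat_lit 1] [[nat_lit 1]] [[nat_lit 18]] [Ins.fr [nat_lit 0],Ins.ts (nat_lit 4) [nat_lit 0] [nat_lit 0,nat_lit 0,nat_lit 0],Ins.ts (nat_lit 1) [nat_lit 0] [],Ins.fr [nat_lit 1],Ins.ts (nat_lit 2) [nat_lit 0,nat_lit 2] [],Ins.ts (nat_lit 0) [nat_lit 0,nat_lit 0] [],Ins.ts (nat_lit 1) [nat_lit 0] [],Ins.ts (nat_lit 1) [nat_lit 0,nat_lit 1] [],Ins.fr [nat_lit 2],Ins.ts (nat_lit 3) [nat_lit 0] [],Ins.ts (nat_lit 0) [nat_lit 0,nat_lit 0] [],Ins.ts (nat_lit 4) [nat_lit 0] [nat_lit 0,nat_lit 0,nat_lit 1],Ins.ts (nat_lit 3) [nat_lit 0,nat_lit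 3] [],Ins.ts (nat_lit 0) [nat_lit 1,nat_lit 0] [nat_lit 0,nat_lit 1],Ins.fr [nat_lit 1,nat_lit 3],Ins.ts (nat_lit 2) [nat_lit 0] [],Ins.ts (nat_lit 0) [nat_lit 0,nat_lit 0] [],Ins.fr [nat_lit 0],Ins.ts (nat_lit 0) [nat_lit 0,nat_lit 0] [],Ins.ts (nat_lit 4) [nat_lit 0] [nat_lit 0,nat_lit 0,nat_lit 1]] [(nat_lit 0,nat_lit 0)] (Cert.rep (nat_lit 8) [] [nat_lit 16,nat_lit 8,nat_lit 4,nat_lit 2,nat_lit 1] [nat_lit 256,nat_lit 128,nat_lit 64,nat_lit 32] (Cert.rep (nat_lit 1) [nat_lit 2,nat_lit 16] [] [] (Cert.rep (nat_lit 2) [] [] [] (Cert.rep (nat_lit 4) [nat_lit 4] [] [] (Cert.rep (nat_lit 76) [] [] [] Cert.nil (Cert.rep (nat_lit 77) [] [] [] Cert.nil Cert.nil)) (Cert.rep (nat_lit 5) [nat_lit 4] [] [] (Cert.rep (nat_lit 76) [] [] [] Cert.nil (Cert.rep (nat_lit 77) [] [] [] Cert.nil Cert.nil)) (Cert.rep (nat_lit 6) [nat_lit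 4] [] [] (Cert.rep (nat_lit 76) [] [] [] Cert.nil (Cert.rep (nat_lit 77) [] [] [] Cert.nil Cert.nil)) (Cert.rep (nat_lit 7) [nat_lit 4] [] [] (Cert.rep (nat_lit 76) [] [] [] Cert.nil (Cert.rep (nat_lit 77) [] [] [] Cert.nil Cert.nil)) Cert.nil)))) (Cert.rep (nat_lit 18) [] [] [] (Cert.rep (nat_lit 4) [] [] [] Cert.nil (Cert.rep (nat_lit 5) [] [] [] Cert.nil (Cert.rep (nat_lit 22) [] [] [] Cert.nil (Cert.rep (nat_lit 23) [] [] [] Cert.nil Cert.nil)))) Cert.nil)) Cert.nil) (Cert.rep (nat_lit 26) [] [nat_lit 192,nat_lit 34,nat_lit 18,nat_lit 8,nat_lit 4,nat_lit 1] [nat_lit 256,nat_lit 64,nat_lit 2] (Cert.rep (nat_lit 1) [nat_lit 4,nat_lit 34,nat_lit 192] [] [] (Cert.rep (nat_lit 18) [] [] [] (Cert.rep (nat_lit 4) [] [] [] Cert.nil (Cert.rep (nat_lit 5) [] [] [] Cert.nil (Cert.rep (nat_lit 22) [] [] [] Cert.nil (Cert.rep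 (nat_lit 23) [] [] [] Cert.nil Cert.nil)))) Cert.nil) Cert.nil) Cert.nil)))) (Cert.root (nat_lit 32) [] [nat_lit 8,nat_lit 4] [nat_lit 0,nat_lit 1,nat_lit 2,nat_lit 3,nat_lit 4] [Ins.fr [nat_lit 0],Ins.ts (nat_lit 4) [nat_lit 0] [nat_lit 0,nat_lit 0,nat_lit 0],Ins.ts (nat_lit 0) [nat_lit 0,nat_lit 0] [],Ins.ts (nat_lit 1) [nat_lit 0] [],Ins.fr [nat_lit 1],Ins.ts (nat_lit 1) [nat_lit 0,nat_lit 0] [],Ins.ts (nat_lit 4) [nat_lit 0] [nat_lit 0,nat_lit 0,nat_lit 0],Ins.ts (nat_lit 1) [nat_lit 0,nat_lit 0,nat_lit 0,nat_lit 0] [],Ins.ts (nat_lit 0) [nat_lit 1,nat_lit 0,nat_lit 1] [nat_lit 0,nat_lit 0,nat_lit 0],Ins.df [nat_lit 0,nat_lit 0],Ins.df [nat_lit 0,nat_lit 0]] (Cert.rep (nat_lit 8) [nat_lit 2,nat_lit 16] [nat_lit 16,nat_lit 8,nat_lit 4,nat_lit 2,nat_lit 1] [nat_lit 256,nat_lit 128,nat_lit 64,nat_lit 32] (Cert.rep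 (nat_lit 1) [] [] [] Cert.nil (Cert.rep (nat_lit 2) [] [] [] Cert.nil (Cert.rep (nat_lit 4) [] [] [] Cert.nil (Cert.rep (nat_lit 5) [] [] [] Cert.nil (Cert.rep (nat_lit 6) [] [] [] Cert.nil (Cert.rep (nat_lit 18) [] [] [] Cert.nil (Cert.rep (nat_lit 22) [] [] [] Cert.nil Cert.nil))))))) (Cert.rep (nat_lit 26) [nat_lit 4,nat_lit 8,nat_lit 34,nat_lit 192] [nat_lit 192,nat_lit 34,nat_lit 18,nat_lit 8,nat_lit 4,nat_lit 1] [nat_lit 256,nat_lit 64,nat_lit 2] (Cert.rep (nat_lit 1) [] [] [] Cert.nil (Cert.rep (nat_lit 4) [nat_lit 4,nat_lit 8] [] [] (Cert.rep (nat_lit 214) [] [] [] (Cert.er (Cert.ro (nat_lit 0) [nat_lit 1,nat_lit 8,nat_lit 16] [nat_lit 8,nat_lit 9,nat_lit 16] [nat_lit 0,nat_lit 1,nat_lit 4,nat_lit 5,nat_lit 26,nat_lit 27,nat_lit 30,nat_lit 31] (Cert.ro (nat_lit 1) [nat_lit 1,nat_lit 2,nat_lit 14,nat_lit 16]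 [nat_lit 1,nat_lit 14,nat_lit 12,nat_lit 16] [nat_lit 0,nat_lit 1,nat_lit 42,nat_lit 43,nat_lit 210,nat_lit 211,nat_lit 248,nat_lit 249,nat_lit 26,nat_lit 27,nat_lit 49,nat_lit 48,nat_lit 200,nat_lit 201,nat_lit 227,nat_lit 226] (Cert.lf (Leaf.st (nat_lit 2) (nat_lit 1) (nat_lit 5) (Leaf.cf (nat_lit 30))))))) Cert.nil) (Cert.rep (nat_lit 18) [nat_lit 4,nat_lit 8] [] [] (Cert.rep (nat_lit 192) [] [] [] (Cert.er (Cert.ro (nat_lit 0) [nat_lit 1,nat_lit 8,nat_lit 16] [nat_lit 8,nat_lit 9,nat_lit 16] [nat_lit 0,nat_lit 1,nat_lit 18,nat_lit 19,nat_lit 26,nat_lit 27,nat_lit 8,nat_lit 9] (Cert.ro (nat_lit 1) [nat_lit 1,nat_lit 2,nat_lit 14,nat_lit 16] [nat_lit 1,nat_lit 14,nat_lit 12,nat_lit 16] [nat_lit 0,nat_lit 1,nat_lit 43,nat_lit 42,nat_lit 210,nat_lit 211,nat_lit 249,nat_lit 248,nat_lit 26,nat_lit 27,nat_lit 48,nat_lit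 49,nat_lit 200,nat_lit 201,nat_lit 226,nat_lit 227] (Cert.kw (nat_lit 2) (nat_lit 0) (nat_lit 2) (nat_lit 1) )))) Cert.nil) (Cert.rep (nat_lit 22) [] [] [] Cert.nil (Cert.rep (nat_lit 196) [] [] [] Cert.nil Cert.nil))))) Cert.nil))))) (Cert.xk (nat_lit 492) (Cert.xn (nat_lit 8) (Cert.s2 (nat_lit 0) (nat_lit 18) (Cert.o1 (nat_lit 0) (nat_lit 18) (Cert.fu (nat_lit 18) (nat_lit 1) (nat_lit 0) (nat_lit 0) [nat_lit 0] [nat_lit 132] [] [] [] [nat_lit 1] [[nat_lit 1]] [[nat_lit 18]] [Ins.ts (nat_lit 1) [nat_lit 0] [],Ins.fr [nat_lit 0],Ins.ts (nat_lit 4) [nat_lit 0] [nat_lit 0,nat_lit 0,nat_lit 1],Ins.ts (nat_lit 1) [nat_lit 0,nat_lit 0] [],Ins.ts (nat_lit 1) [nat_lit 0,nat_lit 0,nat_lit 0,nat_lit 0] [],Ins.ts (nat_lit 1) [nat_lit 0,nat_lit 0,nat_lit 0,nat_lit 0,nat_lit 1] [],Ins.ts (nat_lit 0) [nat_lit 0,nat_lit 0,nat_lit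 0,nat_lit 0,nat_lit 0,nat_lit 0,nat_lit 0,nat_lit 0] []] [(nat_lit 0,nat_lit 0)] (Cert.rep (nat_lit 1) [] [nat_lit 256,nat_lit 128,nat_lit 64,nat_lit 32,nat_lit 16,nat_lit 8,nat_lit 4,nat_lit 2,nat_lit 1] [] Cert.nil Cert.nil))) (Cert.root (nat_lit 32) [] [nat_lit 8,nat_lit 4] [nat_lit 0,nat_lit 1,nat_lit 2,nat_lit 3,nat_lit 4] [Ins.fr [nat_lit 0],Ins.ts (nat_lit 4) [nat_lit 0] [nat_lit 0,nat_lit 0,nat_lit 0],Ins.ts (nat_lit 0) [nat_lit 0,nat_lit 0] [],Ins.ts (nat_lit 1) [nat_lit 0] [],Ins.fr [nat_lit 1],Ins.ts (nat_lit 1) [nat_lit 0,nat_lit 0] [],Ins.ts (nat_lit 4) [nat_lit 0] [nat_lit 0,nat_lit 0,nat_lit 0],Ins.ts (nat_lit 1) [nat_lit 0,nat_lit 0,nat_lit 0,nat_lit 0] [],Ins.ts (nat_lit 0) [nat_lit 1,nat_lit 0,nat_lit 1] [nat_lit 0,nat_lit 0,nat_lit 0],Ins.df [nat_lit 0,nat_lit 0],Ins.df [nat_lit 0,nat_lit 0]] (Cert.rep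 (nat_lit 8) [nat_lit 2,nat_lit 16] [nat_lit 16,nat_lit 8,nat_lit 4,nat_lit 2,nat_lit 1] [nat_lit 256,nat_lit 128,nat_lit 64,nat_lit 32] (Cert.rep (nat_lit 1) [] [] [] Cert.nil (Cert.rep (nat_lit 2) [] [] [] Cert.nil (Cert.rep (nat_lit 12) [] [] [] Cert.nil (Cert.rep (nat_lit 13) [] [] [] Cert.nil (Cert.rep (nat_lit 14) [] [] [] Cert.nil (Cert.rep (nat_lit 18) [] [] [] Cert.nil (Cert.rep (nat_lit 30) [] [] [] Cert.nil Cert.nil))))))) (Cert.rep (nat_lit 26) [nat_lit 4,nat_lit 8,nat_lit 34,nat_lit 192] [nat_lit 192,nat_lit 34,nat_lit 18,nat_lit 8,nat_lit 4,nat_lit 1] [nat_lit 256,nat_lit 64,nat_lit 2] (Cert.rep (nat_lit 1) [] [] [] Cert.nil (Cert.rep (nat_lit 12) [] [] [] Cert.nil (Cert.rep (nat_lit 18) [nat_lit 4,nat_lit 8] [] [] (Cert.rep (nat_lit 192) [] [] [] (Cert.er (Cert.ro (nat_lit 0) [nat_lit 1,nat_lit 8,nat_lit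 16] [nat_lit 8,nat_lit 9,nat_lit 16] [nat_lit 0,nat_lit 1,nat_lit 18,nat_lit 19,nat_lit 26,nat_lit 27,nat_lit 8,nat_lit 9] (Cert.ro (nat_lit 1) [nat_lit 1,nat_lit 2,nat_lit 14,nat_lit 16] [nat_lit 1,nat_lit 14,nat_lit 12,nat_lit 16] [nat_lit 0,nat_lit 1,nat_lit 43,nat_lit 42,nat_lit 210,nat_lit 211,nat_lit 249,nat_lit 248,nat_lit 26,nat_lit 27,nat_lit 48,nat_lit 49,nat_lit 200,nat_lit 201,nat_lit 226,nat_lit 227] (Cert.kw (nat_lit 2) (nat_lit 0) (nat_lit 2) (nat_lit 1) )))) Cert.nil) (Cert.rep (nat_lit 30) [nat_lit 4,nat_lit 8] [] [] (Cert.rep (nat_lit 204) [] [] [] (Cert.er (Cert.ro (nat_lit 0) [nat_lit 1,nat_lit 8,nat_lit 16] [nat_lit 8,nat_lit 9,nat_lit 16] [nat_lit 0,nat_lit 1,nat_lit 30,nat_lit 31,nat_lit 26,nat_lit 27,nat_lit 4,nat_lit 5] (Cert.ro (nat_lit 1) [nat_lit 1,nat_lit 2,nat_lit 14,nat_lit 16] [nat_lit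 1,nat_lit 14,nat_lit 12,nat_lit 16] [nat_lit 0,nat_lit 1,nat_lit 42,nat_lit 43,nat_lit 210,nat_lit 211,nat_lit 248,nat_lit 249,nat_lit 26,nat_lit 27,nat_lit 49,nat_lit 48,nat_lit 200,nat_lit 201,nat_lit 227,nat_lit 226] (Cert.lf (Leaf.st (nat_lit 2) (nat_lit 1) (nat_lit 5) (Leaf.cf (nat_lit 4))))))) Cert.nil) (Cert.rep (nat_lit 222) [] [] [] Cert.nil Cert.nil))))) Cert.nil))))) (Cert.xe (nat_lit 8) [nat_lit 26] [(nat_lit 0,nat_lit 16),(nat_lit 0,nat_lit 256),(nat_lit 4,nat_lit 64),(nat_lit 4,nat_lit 128),(nat_lit 16,nat_lit 256)]))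
noncomputable def f64_1 : Cert :=
  Cert.xk (nat_lit 40) (Cert.xn (nat_lit 8) (Cert.root (nat_lit 32) [] [nat_lit 8,nat_lit 4] [nat_lit 0,nat_lit 1,nat_lit 2,nat_lit 3,nat_lit 4] [Ins.fr [nat_lit 0],Ins.ts (nat_lit 4) [nat_lit 0] [nat_lit 0,nat_lit 0,nat_lit 0],Ins.ts (nat_lit 0) [nat_lit 0,nat_lit 0] [],Ins.ts (nat_lit 1) [nat_lit 0] [],Ins.fr [nat_lit 1],Ins.ts (nat_lit 1) [nat_lit 0,nat_lit 0] [],Ins.ts (nat_lit 4) [nat_lit 0] [nat_lit 0,nat_lit 0,nat_lit 0],Ins.ts (nat_lit 1) [nat_lit 0,nat_lit 0,nat_lit 0,nat_lit 0] [],Ins.ts (nat_lit 0) [nat_lit 1,nat_lit 0,nat_lit 1] [nat_lit 0,nat_lit 0,nat_lit 0],Ins.df [nat_lit 0,nat_lit 0],Ins.df [nat_lit 0,nat_lit 0]] (Cert.rep (nat_lit 8) [nat_lit 2,nat_lit 16] [nat_lit 16,nat_lit 8,nat_lit 4,nat_lit 2,nat_lit 1] [nat_lit 256,nat_lit 128,nat_lit 64,nat_lit 32] (Cert.rep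 (nat_lit 1) [] [] [] Cert.nil (Cert.rep (nat_lit 2) [] [] [] Cert.nil (Cert.rep (nat_lit 4) [] [] [] Cert.nil (Cert.rep (nat_lit 5) [] [] [] Cert.nil (Cert.rep (nat_lit 6) [] [] [] Cert.nil (Cert.rep (nat_lit 18) [] [] [] Cert.nil (Cert.rep (nat_lit 22) [] [] [] Cert.nil Cert.nil))))))) (Cert.rep (nat_lit 26) [nat_lit 4,nat_lit 8,nat_lit 34,nat_lit 192] [nat_lit 192,nat_lit 34,nat_lit 18,nat_lit 8,nat_lit 4,nat_lit 1] [nat_lit 256,nat_lit 64,nat_lit 2] (Cert.rep (nat_lit 1) [] [] [] Cert.nil (Cert.rep (nat_lit 4) [nat_lit 4,nat_lit 8] [] [] (Cert.rep (nat_lit 214) [] [] [] (Cert.er (Cert.ro (nat_lit 0) [nat_lit 1,nat_lit 8,nat_lit 16] [nat_lit 8,nat_lit 9,nat_lit 16] [nat_lit 0,nat_lit 1,nat_lit 4,nat_lit 5,nat_lit 26,nat_lit 27,nat_lit 30,nat_lit 31] (Cert.ro (nat_lit 1) [nat_lit 1,nat_lit 2,nat_lit 14,nat_lit 16]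 [nat_lit 1,nat_lit 14,nat_lit 12,nat_lit 16] [nat_lit 0,nat_lit 1,nat_lit 42,nat_lit 43,nat_lit 210,nat_lit 211,nat_lit 248,nat_lit 249,nat_lit 26,nat_lit 27,nat_lit 49,nat_lit 48,nat_lit 200,nat_lit 201,nat_lit 227,nat_lit 226] (Cert.lf (Leaf.st (nat_lit 2) (nat_lit 1) (nat_lit 5) (Leaf.cf (nat_lit 30))))))) Cert.nil) (Cert.rep (nat_lit 18) [nat_lit 4,nat_lit 8] [] [] (Cert.rep (nat_lit 192) [] [] [] (Cert.er (Cert.ro (nat_lit 0) [nat_lit 1,nat_lit 8,nat_lit 16] [nat_lit 8,nat_lit 9,nat_lit 16] [nat_lit 0,nat_lit 1,nat_lit 18,nat_lit 19,nat_lit 26,nat_lit 27,nat_lit 8,nat_lit 9] (Cert.ro (nat_lit 1) [nat_lit 1,nat_lit 2,nat_lit 14,nat_lit 16] [nat_lit 1,nat_lit 14,nat_lit 12,nat_lit 16] [nat_lit 0,nat_lit 1,nat_lit 43,nat_lit 42,nat_lit 210,nat_lit 211,nat_lit 249,nat_lit 248,nat_lit 26,nat_lit 27,nat_lit 48,nat_lit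 49,nat_lit 200,nat_lit 201,nat_lit 226,nat_lit 227] (Cert.th (nat_lit 8) (nat_lit 4) (nat_lit 0) true [] [nat_lit 4] [] [] [nat_lit 256,nat_lit 16,nat_lit 194,nat_lit 43,nat_lit 132,nat_lit 41,nat_lit 1] [] [Ins.fr [nat_lit 0],Ins.ts (nat_lit 4) [nat_lit 0] [nat_lit 0,nat_lit 0,nat_lit 0],Ins.ts (nat_lit 0) [nat_lit 0,nat_lit 0] [],Ins.ts (nat_lit 3) [nat_lit 0,nat_lit 1] []] [] (Cert.rep (nat_lit 8) [] [nat_lit 16,nat_lit 8,nat_lit 4,nat_lit 2,nat_lit 1] [nat_lit 256,nat_lit 128,nat_lit 64,nat_lit 32] Cert.nil (Cert.rep (nat_lit 26) [] [nat_lit 192,nat_lit 34,nat_lit 18,nat_lit 8,nat_lit 4,nat_lit 1] [nat_lit 256,nat_lit 64,nat_lit 2] Cert.nil Cert.nil)))))) Cert.nil) (Cert.rep (nat_lit 22) [] [] [] Cert.nil (Cert.rep (nat_lit 196) [] [] [] Cert.nil Cert.nil))))) Cert.nil)))) (Cert.xk (nat_lit 236) (Cert.xn (nat_lit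 8) (Cert.root (nat_lit 32) [] [nat_lit 8,nat_lit 4] [nat_lit 0,nat_lit 1,nat_lit 2,nat_lit 3,nat_lit 4] [Ins.fr [nat_lit 0],Ins.ts (nat_lit 4) [nat_lit 0] [nat_lit 0,nat_lit 0,nat_lit 0],Ins.ts (nat_lit 0) [nat_lit 0,nat_lit 0] [],Ins.ts (nat_lit 1) [nat_lit 0] [],Ins.fr [nat_lit 1],Ins.ts (nat_lit 1) [nat_lit 0,nat_lit 0] [],Ins.ts (nat_lit 4) [nat_lit 0] [nat_lit 0,nat_lit 0,nat_lit 0],Ins.ts (nat_lit 1) [nat_lit 0,nat_lit 0,nat_lit 0,nat_lit 0] [],Ins.ts (nat_lit 0) [nat_lit 1,nat_lit 0,nat_lit 1] [nat_lit 0,nat_lit 0,nat_lit 0],Ins.df [nat_lit 0,nat_lit 0],Ins.df [nat_lit 0,nat_lit 0]] (Cert.rep (nat_lit 8) [nat_lit 2,nat_lit 16] [nat_lit 16,nat_lit 8,nat_lit 4,nat_lit 2,nat_lit 1] [nat_lit 256,nat_lit 128,nat_lit 64,nat_lit 32] (Cert.rep (nat_lit 1) [] [] [] Cert.nil (Cert.rep (nat_lit 2) [] [] [] Cert.nil (Cert.rep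 (nat_lit 12) [] [] [] Cert.nil (Cert.rep (nat_lit 13) [] [] [] Cert.nil (Cert.rep (nat_lit 14) [] [] [] Cert.nil (Cert.rep (nat_lit 18) [] [] [] Cert.nil (Cert.rep (nat_lit 30) [] [] [] Cert.nil Cert.nil))))))) (Cert.rep (nat_lit 26) [nat_lit 4,nat_lit 8,nat_lit 34,nat_lit 192] [nat_lit 192,nat_lit 34,nat_lit 18,nat_lit 8,nat_lit 4,nat_lit 1] [nat_lit 256,nat_lit 64,nat_lit 2] (Cert.rep (nat_lit 1) [] [] [] Cert.nil (Cert.rep (nat_lit 12) [] [] [] Cert.nil (Cert.rep (nat_lit 18) [nat_lit 4,nat_lit 8] [] [] (Cert.rep (nat_lit 192) [] [] [] (Cert.er (Cert.ro (nat_lit 0) [nat_lit 1,nat_lit 8,nat_lit 16] [nat_lit 8,nat_lit 9,nat_lit 16] [nat_lit 0,nat_lit 1,nat_lit 18,nat_lit 19,nat_lit 26,nat_lit 27,nat_lit 8,nat_lit 9] (Cert.ro (nat_lit 1) [nat_lit 1,nat_lit 2,nat_lit 14,nat_lit 16] [nat_lit 1,nat_lit 14,nat_lit 12,nat_lit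 16] [nat_lit 0,nat_lit 1,nat_lit 43,nat_lit 42,nat_lit 210,nat_lit 211,nat_lit 249,nat_lit 248,nat_lit 26,nat_lit 27,nat_lit 48,nat_lit 49,nat_lit 200,nat_lit 201,nat_lit 226,nat_lit 227] (Cert.th (nat_lit 8) (nat_lit 12) (nat_lit 0) true [] [nat_lit 12] [] [] [nat_lit 256,nat_lit 16,nat_lit 194,nat_lit 134,nat_lit 132,nat_lit 41,nat_lit 1] [] [Ins.fr [nat_lit 0],Ins.ts (nat_lit 4) [nat_lit 0] [nat_lit 0,nat_lit 0,nat_lit 0],Ins.ts (nat_lit 0) [nat_lit 0,nat_lit 0] [],Ins.ts (nat_lit 3) [nat_lit 0,nat_lit 1] []] [] (Cert.rep (nat_lit 8) [] [nat_lit 16,nat_lit 8,nat_lit 4,nat_lit 2,nat_lit 1] [nat_lit 256,nat_lit 128,nat_lit 64,nat_lit 32] Cert.nil (Cert.rep (nat_lit 26) [] [nat_lit 192,nat_lit 34,nat_lit 18,nat_lit 8,nat_lit 4,nat_lit 1] [nat_lit 256,nat_lit 64,nat_lit 2] Cert.nil Cert.nil)))))) Cert.nil) (Cert.rep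 (nat_lit 30) [nat_lit 4,nat_lit 8] [] [] (Cert.rep (nat_lit 204) [] [] [] (Cert.er (Cert.ro (nat_lit 0) [nat_lit 1,nat_lit 8,nat_lit 16] [nat_lit 8,nat_lit 9,nat_lit 16] [nat_lit 0,nat_lit 1,nat_lit 30,nat_lit 31,nat_lit 26,nat_lit 27,nat_lit 4,nat_lit 5] (Cert.ro (nat_lit 1) [nat_lit 1,nat_lit 2,nat_lit 14,nat_lit 16] [nat_lit 1,nat_lit 14,nat_lit 12,nat_lit 16] [nat_lit 0,nat_lit 1,nat_lit 42,nat_lit 43,nat_lit 210,nat_lit 211,nat_lit 248,nat_lit 249,nat_lit 26,nat_lit 27,nat_lit 49,nat_lit 48,nat_lit 200,nat_lit 201,nat_lit 227,nat_lit 226] (Cert.lf (Leaf.st (nat_lit 2) (nat_lit 1) (nat_lit 5) (Leaf.cf (nat_lit 4))))))) Cert.nil) (Cert.rep (nat_lit 222) [] [] [] Cert.nil Cert.nil))))) Cert.nil)))) f64_0)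
noncomputable def f64 : Cert :=
  (Cert.st (nat_lit 0) (nat_lit 8) (nat_lit 0) (Cert.st (nat_lit 0) (nat_lit 26) (nat_lit 0) (Cert.sp (nat_lit 1) (Cert.lf (Leaf.pt (nat_lit 7) (nat_lit 1) [nat_lit 8,nat_lit 16])) (Cert.sp (nat_lit 2) (Cert.lf (Leaf.pt (nat_lit 0) (nat_lit 2) [nat_lit 96])) (Cert.st (nat_lit 0) (nat_lit 2) (nat_lit 0) (Cert.sp (nat_lit 4) (Cert.lf (Leaf.pt (nat_lit 7) (nat_lit 4) [nat_lit 8,nat_lit 16])) (Cert.st (nat_lit 0) (nat_lit 4) (nat_lit 0) (Cert.sp (nat_lit 12) (Cert.lf (Leaf.pt (nat_lit 7) (nat_lit 12) [nat_lit 8,nat_lit 16])) (Cert.st (nat_lit 0) (nat_lit 12) (nat_lit 0) (Cert.sp (nat_lit 18) (Cert.lf (Leaf.pt (nat_lit 6) (nat_lit 18) [nat_lit 8])) (Cert.st (nat_lit 0) (nat_lit 18) (nat_lit 0) (Cert.sp (nat_lit 22) (Cert.lf (Leaf.pt (nat_lit 7) (nat_lit 22) [nat_lit 26,nat_lit 38])) (Cert.st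 (nat_lit 0) (nat_lit 22) (nat_lit 0) (Cert.sp (nat_lit 30) (Cert.lf (Leaf.pt (nat_lit 7) (nat_lit 30) [nat_lit 156,nat_lit 36])) (Cert.st (nat_lit 0) (nat_lit 30) (nat_lit 0) (Cert.sp (nat_lit 128) (Cert.lf (Leaf.pt (nat_lit 7) (nat_lit 128) [nat_lit 180,nat_lit 16])) (Cert.st (nat_lit 0) (nat_lit 128) (nat_lit 0) (Cert.sp (nat_lit 260) (Cert.lf (Leaf.st (nat_lit 1) (nat_lit 40) (nat_lit 260) (Leaf.pt (nat_lit 7) (nat_lit 260) [nat_lit 261,nat_lit 72]))) (Cert.st (nat_lit 0) (nat_lit 260) (nat_lit 0) (Cert.nl (nat_lit 1) (Cert.sy (nat_lit 0) (Cert.xk (nat_lit 0) (Cert.th (nat_lit 8) (nat_lit 8) (nat_lit 0) true [nat_lit 0] [] [] [] [nat_lit 256,nat_lit 16,nat_lit 4,nat_lit 192,nat_lit 134,nat_lit 132,nat_lit 41,nat_lit 1] [] [] [] Cert.nil) f64_1))))))))))))))))))))))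
theorem fin64 : finOK DB PT 88 t88 64 t64 (nat_lit 0xf000000000f000000f000000000f00000f000000000f0000f000000000f00c30f000c00300f00c300f00300c000f00000ff00000f00fc33cf00fccccffff) f64 = true := by
  decide +kernel
noncomputable def f65_0 : Cert :=
  Cert.rep (nat_lit 8) [nat_lit 2,nat_lit 16] [nat_lit 16,nat_lit 8,nat_lit 4,nat_lit 2,nat_lit 1] [nat_lit 256,nat_lit 128,nat_lit 64,nat_lit 32] (Cert.rep (nat_lit 1) [] [] [] Cert.nil (Cert.rep (nat_lit 2) [] [] [] Cert.nil (Cert.rep (nat_lit 4) [] [] [] Cert.nil (Cert.rep (nat_lit 5) [] [] [] Cert.nil (Cert.rep (nat_lit 6) [] [] [] Cert.nil (Cert.rep (nat_lit 9) [] [] [] Cert.nil (Cert.rep (nat_lit 10) [] [] [] Cert.nil (Cert.rep (nat_lit 12) [] [] [] Cert.nil (Cert.rep (nat_lit 13) [] [] [] Cert.nil (Cert.rep (nat_lit 14) [] [] [] Cert.nil (Cert.rep (nat_lit 18) []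 [] [] Cert.nil (Cert.rep (nat_lit 22) [] [] [] Cert.nil (Cert.rep (nat_lit 26) [] [] [] Cert.nil (Cert.rep (nat_lit 30) [] [] [] Cert.nil Cert.nil)))))))))))))) (Cert.rep (nat_lit 26) [nat_lit 4,nat_lit 8,nat_lit 34,nat_lit 192] [nat_lit 192,nat_lit 34,nat_lit 18,nat_lit 8,nat_lit 4,nat_lit 1] [nat_lit 256,nat_lit 64,nat_lit 2] (Cert.rep (nat_lit 1) [] [] [] Cert.nil (Cert.rep (nat_lit 4) [nat_lit 4,nat_lit 8] [] [] (Cert.rep (nat_lit 204) [] [] [] (Cert.er (Cert.ro (nat_lit 0) [nat_lit 1,nat_lit 8,nat_lit 16] [nat_lit 8,nat_lit 9,nat_lit 16] [nat_lit 0,nat_lit 1,nat_lit 4,nat_lit 5,nat_lit 26,nat_lit 27,nat_lit 30,nat_lit 31] (Cert.ro (nat_lit 1) [nat_lit 1,nat_lit 2,nat_lit 14,nat_lit 16] [nat_lit 1,nat_lit 14,nat_lit 12,nat_lit 16] [nat_lit 0,nat_lit 1,nat_lit 42,nat_lit 43,nat_lit 200,nat_lit 201,nat_lit 227,nat_lit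 226,nat_lit 26,nat_lit 27,nat_lit 49,nat_lit 48,nat_lit 210,nat_lit 211,nat_lit 248,nat_lit 249] (Cert.lf (Leaf.st (nat_lit 2) (nat_lit 1) (nat_lit 5) (Leaf.cf (nat_lit 30))))))) (Cert.rep (nat_lit 214) [] [] [] (Cert.er (Cert.ro (nat_lit 0) [nat_lit 1,nat_lit 8,nat_lit 16] [nat_lit 8,nat_lit 9,nat_lit 16] [nat_lit 0,nat_lit 1,nat_lit 4,nat_lit 5,nat_lit 26,nat_lit 27,nat_lit 30,nat_lit 31] (Cert.ro (nat_lit 1) [nat_lit 1,nat_lit 2,nat_lit 14,nat_lit 16] [nat_lit 1,nat_lit 14,nat_lit 12,nat_lit 16] [nat_lit 0,nat_lit 1,nat_lit 42,nat_lit 43,nat_lit 210,nat_lit 211,nat_lit 248,nat_lit 249,nat_lit 26,nat_lit 27,nat_lit 49,nat_lit 48,nat_lit 200,nat_lit 201,nat_lit 227,nat_lit 226] (Cert.lf (Leaf.st (nat_lit 2) (nat_lit 1) (nat_lit 5) (Leaf.cf (nat_lit 30))))))) Cert.nil)) (Cert.rep (nat_lit 8) [nat_lit 4,nat_lit 8]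 [] [] (Cert.rep (nat_lit 192) [] [] [] (Cert.er (Cert.ro (nat_lit 0) [nat_lit 1,nat_lit 8,nat_lit 16] [nat_lit 8,nat_lit 9,nat_lit 16] [nat_lit 0,nat_lit 1,nat_lit 8,nat_lit 9,nat_lit 26,nat_lit 27,nat_lit 18,nat_lit 19] (Cert.ro (nat_lit 1) [nat_lit 1,nat_lit 2,nat_lit 14,nat_lit 16] [nat_lit 1,nat_lit 14,nat_lit 12,nat_lit 16] [nat_lit 0,nat_lit 1,nat_lit 43,nat_lit 42,nat_lit 200,nat_lit 201,nat_lit 226,nat_lit 227,nat_lit 26,nat_lit 27,nat_lit 48,nat_lit 49,nat_lit 210,nat_lit 211,nat_lit 249,nat_lit 248] (Cert.lf (Leaf.st (nat_lit 2) (nat_lit 1) (nat_lit 1) (Leaf.cf (nat_lit 1))))))) (Cert.rep (nat_lit 218) [] [] [] (Cert.er (Cert.ro (nat_lit 0) [nat_lit 1,nat_lit 8,nat_lit 16] [nat_lit 8,nat_lit 9,nat_lit 16] [nat_lit 0,nat_lit 1,nat_lit 8,nat_lit 9,nat_lit 26,nat_lit 27,nat_lit 18,nat_lit 19] (Cert.ro (nat_lit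 1) [nat_lit 1,nat_lit 2,nat_lit 14,nat_lit 16] [nat_lit 1,nat_lit 14,nat_lit 12,nat_lit 16] [nat_lit 0,nat_lit 1,nat_lit 43,nat_lit 42,nat_lit 210,nat_lit 211,nat_lit 249,nat_lit 248,nat_lit 26,nat_lit 27,nat_lit 48,nat_lit 49,nat_lit 200,nat_lit 201,nat_lit 226,nat_lit 227] (Cert.lf (Leaf.st (nat_lit 2) (nat_lit 1) (nat_lit 1) (Leaf.cf (nat_lit 1))))))) Cert.nil)) (Cert.rep (nat_lit 12) [] [] [] Cert.nil (Cert.rep (nat_lit 18) [nat_lit 4,nat_lit 8] [] [] (Cert.rep (nat_lit 192) [] [] [] (Cert.er (Cert.ro (nat_lit 0) [nat_lit 1,nat_lit 8,nat_lit 16] [nat_lit 8,nat_lit 9,nat_lit 16] [nat_lit 0,nat_lit 1,nat_lit 18,nat_lit 19,nat_lit 26,nat_lit 27,nat_lit 8,nat_lit 9] (Cert.ro (nat_lit 1) [nat_lit 1,nat_lit 2,nat_lit 14,nat_lit 16] [nat_lit 1,nat_lit 14,nat_lit 12,nat_lit 16] [nat_lit 0,nat_lit 1,nat_lit 43,nat_lit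 42,nat_lit 210,nat_lit 211,nat_lit 249,nat_lit 248,nat_lit 26,nat_lit 27,nat_lit 48,nat_lit 49,nat_lit 200,nat_lit 201,nat_lit 226,nat_lit 227] (Cert.kw (nat_lit 2) (nat_lit 0) (nat_lit 2) (nat_lit 1) )))) (Cert.rep (nat_lit 218) [] [] [] (Cert.er (Cert.ro (nat_lit 0) [nat_lit 1,nat_lit 8,nat_lit 16] [nat_lit 8,nat_lit 9,nat_lit 16] [nat_lit 0,nat_lit 1,nat_lit 18,nat_lit 19,nat_lit 26,nat_lit 27,nat_lit 8,nat_lit 9] (Cert.ro (nat_lit 1) [nat_lit 1,nat_lit 2,nat_lit 14,nat_lit 16] [nat_lit 1,nat_lit 14,nat_lit 12,nat_lit 16] [nat_lit 0,nat_lit 1,nat_lit 43,nat_lit 42,nat_lit 200,nat_lit 201,nat_lit 226,nat_lit 227,nat_lit 26,nat_lit 27,nat_lit 48,nat_lit 49,nat_lit 210,nat_lit 211,nat_lit 249,nat_lit 248] (Cert.kw (nat_lit 2) (nat_lit 0) (nat_lit 2) (nat_lit 1) )))) Cert.nil)) (Cert.rep (nat_lit 22) [] [] [] Cert.nil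 (Cert.rep (nat_lit 27) [] [] [] Cert.nil (Cert.rep (nat_lit 30) [nat_lit 4,nat_lit 8] [] [] (Cert.rep (nat_lit 204) [] [] [] (Cert.er (Cert.ro (nat_lit 0) [nat_lit 1,nat_lit 8,nat_lit 16] [nat_lit 8,nat_lit 9,nat_lit 16] [nat_lit 0,nat_lit 1,nat_lit 30,nat_lit 31,nat_lit 26,nat_lit 27,nat_lit 4,nat_lit 5] (Cert.ro (nat_lit 1) [nat_lit 1,nat_lit 2,nat_lit 14,nat_lit 16] [nat_lit 1,nat_lit 14,nat_lit 12,nat_lit 16] [nat_lit 0,nat_lit 1,nat_lit 42,nat_lit 43,nat_lit 210,nat_lit 211,nat_lit 248,nat_lit 249,nat_lit 26,nat_lit 27,nat_lit 49,nat_lit 48,nat_lit 200,nat_lit 201,nat_lit 227,nat_lit 226] (Cert.lf (Leaf.st (nat_lit 2) (nat_lit 1) (nat_lit 5) (Leaf.cf (nat_lit 4))))))) (Cert.rep (nat_lit 214) [] [] [] (Cert.er (Cert.ro (nat_lit 0) [nat_lit 1,nat_lit 8,nat_lit 16] [nat_lit 8,nat_lit 9,nat_lit 16] [nat_lit 0,nat_lit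 1,nat_lit 30,nat_lit 31,nat_lit 26,nat_lit 27,nat_lit 4,nat_lit 5] (Cert.ro (nat_lit 1) [nat_lit 1,nat_lit 2,nat_lit 14,nat_lit 16] [nat_lit 1,nat_lit 14,nat_lit 12,nat_lit 16] [nat_lit 0,nat_lit 1,nat_lit 42,nat_lit 43,nat_lit 200,nat_lit 201,nat_lit 227,nat_lit 226,nat_lit 26,nat_lit 27,nat_lit 49,nat_lit 48,nat_lit 210,nat_lit 211,nat_lit 248,nat_lit 249] (Cert.lf (Leaf.st (nat_lit 2) (nat_lit 1) (nat_lit 5) (Leaf.cf (nat_lit 4))))))) Cert.nil)) (Cert.rep (nat_lit 196) [] [] [] Cert.nil (Cert.rep (nat_lit 222) [] [] [] Cert.nil Cert.nil)))))))))) Cert.nil)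
noncomputable def f65 : Cert :=
  (Cert.st (nat_lit 0) (nat_lit 8) (nat_lit 0) (Cert.st (nat_lit 0) (nat_lit 26) (nat_lit 0) (Cert.sp (nat_lit 1) (Cert.lf (Leaf.pt (nat_lit 7) (nat_lit 1) [nat_lit 8,nat_lit 16])) (Cert.sp (nat_lit 2) (Cert.lf (Leaf.pt (nat_lit 0) (nat_lit 2) [nat_lit 96])) (Cert.st (nat_lit 0) (nat_lit 2) (nat_lit 0) (Cert.sp (nat_lit 4) (Cert.lf (Leaf.pt (nat_lit 7) (nat_lit 4) [nat_lit 8,nat_lit 16])) (Cert.st (nat_lit 0) (nat_lit 4) (nat_lit 0) (Cert.sp (nat_lit 12) (Cert.lf (Leaf.pt (nat_lit 7) (nat_lit 12) [nat_lit 8,nat_lit 16])) (Cert.st (nat_lit 0) (nat_lit 12) (nat_lit 0) (Cert.sp (nat_lit 18) (Cert.lf (Leaf.pt (nat_lit 6) (nat_lit 18) [nat_lit 8])) (Cert.st (nat_lit 0) (nat_lit 18) (nat_lit 0) (Cert.sp (nat_lit 22) (Cert.lf (Leaf.pt (nat_lit 7) (nat_lit 22) [nat_lit 26,nat_lit 38])) (Cert.st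 (nat_lit 0) (nat_lit 22) (nat_lit 0) (Cert.sp (nat_lit 30) (Cert.lf (Leaf.pt (nat_lit 7) (nat_lit 30) [nat_lit 156,nat_lit 36])) (Cert.st (nat_lit 0) (nat_lit 30) (nat_lit 0) (Cert.sp (nat_lit 128) (Cert.lf (Leaf.pt (nat_lit 7) (nat_lit 128) [nat_lit 180,nat_lit 16])) (Cert.st (nat_lit 0) (nat_lit 128) (nat_lit 0) (Cert.nl (nat_lit 1) (Cert.sy (nat_lit 0) (Cert.s2 (nat_lit 0) (nat_lit 18) (Cert.o1 (nat_lit 0) (nat_lit 18) (Cert.fu (nat_lit 8) (nat_lit 1) (nat_lit 0) (nat_lit 0) [] [nat_lit 18,nat_lit 1,nat_lit 4,nat_lit 32,nat_lit 128] [] [] [] [nat_lit 1] [[nat_lit 1]] [[nat_lit 18]] [Ins.fr [nat_lit 0],Ins.ts (nat_lit 4) [nat_lit 0] [nat_lit 0,nat_lit 0,nat_lit 0],Ins.ts (nat_lit 1) [nat_lit 0] [],Ins.fr [nat_lit 1],Ins.ts (nat_lit 2) [nat_lit 0,nat_lit 2] [],Ins.ts (nat_lit 0) [nat_lit 0,nat_lit 0] [],Ins.ts (nat_lit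 1) [nat_lit 0] [],Ins.ts (nat_lit 3) [nat_lit 0] [],Ins.ts (nat_lit 1) [nat_lit 0,nat_lit 1] [],Ins.fr [nat_lit 2],Ins.ts (nat_lit 3) [nat_lit 0] [],Ins.ts (nat_lit 0) [nat_lit 0,nat_lit 0] [],Ins.ts (nat_lit 3) [nat_lit 0,nat_lit 3] [],Ins.ts (nat_lit 0) [nat_lit 1,nat_lit 0] [nat_lit 0,nat_lit 1],Ins.fr [nat_lit 1,nat_lit 3],Ins.ts (nat_lit 0) [nat_lit 0,nat_lit 0] [],Ins.ts (nat_lit 2) [nat_lit 0] [],Ins.ts (nat_lit 0) [nat_lit 1,nat_lit 2,nat_lit 0] [nat_lit 0,nat_lit 1],Ins.fr [nat_lit 0],Ins.ts (nat_lit 0) [nat_lit 0,nat_lit 0] []] [] (Cert.rep (nat_lit 8) [] [nat_lit 16,nat_lit 8,nat_lit 4,nat_lit 2,nat_lit 1] [nat_lit 256,nat_lit 128,nat_lit 64,nat_lit 32] (Cert.rep (nat_lit 1) [nat_lit 2,nat_lit 16] [] [] (Cert.rep (nat_lit 2) [] [] [] (Cert.rep (nat_lit 4) [nat_lit 4] [] [] (Cert.rep (nat_lit 76) [] []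 [] Cert.nil (Cert.rep (nat_lit 77) [] [] [] Cert.nil Cert.nil)) (Cert.rep (nat_lit 5) [nat_lit 4] [] [] (Cert.rep (nat_lit 76) [] [] [] Cert.nil (Cert.rep (nat_lit 77) [] [] [] Cert.nil Cert.nil)) (Cert.rep (nat_lit 6) [nat_lit 4] [] [] (Cert.rep (nat_lit 76) [] [] [] Cert.nil (Cert.rep (nat_lit 77) [] [] [] Cert.nil Cert.nil)) (Cert.rep (nat_lit 7) [nat_lit 4] [] [] (Cert.rep (nat_lit 76) [] [] [] Cert.nil (Cert.rep (nat_lit 77) [] [] [] Cert.nil Cert.nil)) (Cert.rep (nat_lit 12) [] [] [] Cert.nil (Cert.rep (nat_lit 13) [] [] [] Cert.nil (Cert.rep (nat_lit 14) [] [] [] Cert.nil (Cert.rep (nat_lit 15) [] [] [] Cert.nil Cert.nil)))))))) (Cert.rep (nat_lit 18) [] [] [] (Cert.rep (nat_lit 4) [] [] [] Cert.nil (Cert.rep (nat_lit 5) [] [] [] Cert.nil (Cert.rep (nat_lit 12) [] [] [] Cert.nil (Cert.rep (nat_lit 13) [] []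 [] Cert.nil (Cert.rep (nat_lit 22) [] [] [] Cert.nil (Cert.rep (nat_lit 23) [] [] [] Cert.nil (Cert.rep (nat_lit 30) [] [] [] Cert.nil (Cert.rep (nat_lit 31) [] [] [] Cert.nil Cert.nil)))))))) Cert.nil)) Cert.nil) (Cert.rep (nat_lit 26) [] [nat_lit 192,nat_lit 34,nat_lit 18,nat_lit 8,nat_lit 4,nat_lit 1] [nat_lit 256,nat_lit 64,nat_lit 2] (Cert.rep (nat_lit 1) [nat_lit 4,nat_lit 34,nat_lit 192] [] [] (Cert.rep (nat_lit 18) [] [] [] (Cert.rep (nat_lit 4) [] [] [] Cert.nil (Cert.rep (nat_lit 5) [] [] [] Cert.nil (Cert.rep (nat_lit 12) [] [] [] Cert.nil (Cert.rep (nat_lit 13) [] [] [] Cert.nil (Cert.rep (nat_lit 22) [] [] [] Cert.nil (Cert.rep (nat_lit 23) [] [] [] Cert.nil (Cert.rep (nat_lit 30) [] [] [] Cert.nil (Cert.rep (nat_lit 31) [] [] [] Cert.nil Cert.nil)))))))) Cert.nil) Cert.nil) Cert.nil)))) (Cert.root (nat_lit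 32) [] [nat_lit 8,nat_lit 4] [nat_lit 0,nat_lit 1,nat_lit 2,nat_lit 3,nat_lit 4] [Ins.fr [nat_lit 0],Ins.ts (nat_lit 0) [nat_lit 0,nat_lit 0] [],Ins.ts (nat_lit 1) [nat_lit 0] [],Ins.ts (nat_lit 1) [nat_lit 0,nat_lit 1] [],Ins.fr [nat_lit 1],Ins.ts (nat_lit 1) [nat_lit 0,nat_lit 0] [],Ins.ts (nat_lit 1) [nat_lit 0,nat_lit 0,nat_lit 0,nat_lit 0] [],Ins.ts (nat_lit 0) [nat_lit 1,nat_lit 0,nat_lit 1] [nat_lit 0,nat_lit 0,nat_lit 0],Ins.df [nat_lit 0,nat_lit 0],Ins.df [nat_lit 0,nat_lit 0]] f65_0)))))))))))))))))))))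
theorem fin65 : finOK DB PT 88 t88 65 t65 (nat_lit 0xc30f000c00300f00c300f00300c000f00000ff00000f00fc33cf00fccccffff) f65 = true := by
  decide +kernel
noncomputable def f89_0 : Cert :=
  Cert.rep (nat_lit 8) [nat_lit 8,nat_lit 16] [] [] (Cert.rep (nat_lit 4) [] [] [] (Cert.er (Cert.ro (nat_lit 0) [nat_lit 1,nat_lit 8,nat_lit 16] [nat_lit 8,nat_lit 9,nat_lit 16] [nat_lit 0,nat_lit 1,nat_lit 8,nat_lit 9,nat_lit 32,nat_lit 33,nat_lit 40,nat_lit 41] (Cert.ro (nat_lit 1) [nat_lit 1,nat_lit 2,nat_lit 14,nat_lit 16] [nat_lit 1,nat_lit 14,nat_lit 12,nat_lit 16] [nat_lit 0,nat_lit 1,nat_lit 2,nat_lit 3,nat_lit 14,nat_lit 15,nat_lit 13,nat_lit 12,nat_lit 32,nat_lit 33,nat_lit 34,nat_lit 35,nat_lit 46,nat_lit 47,nat_lit 45,nat_lit 44] (Cert.fu (nat_lit 1) (nat_lit 1) (nat_lit 0) (nat_lit 0) [nat_lit 0,nat_lit 1] [nat_lit 16,nat_lit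 4] [] [] [] [nat_lit 9] [[nat_lit 32,nat_lit 1]] [[nat_lit 16,nat_lit 1]] [Ins.ts (nat_lit 1) [nat_lit 0] [],Ins.fr [nat_lit 0],Ins.ts (nat_lit 4) [nat_lit 0] [nat_lit 0,nat_lit 0,nat_lit 0],Ins.ts (nat_lit 1) [nat_lit 0] [],Ins.ts (nat_lit 2) [nat_lit 0] [],Ins.fr [nat_lit 1],Ins.ts (nat_lit 1) [nat_lit 0,nat_lit 0] [],Ins.ts (nat_lit 0) [nat_lit 1,nat_lit 2,nat_lit 0] [nat_lit 0,nat_lit 1]] [(nat_lit 2,nat_lit 0)] (Cert.rep (nat_lit 1) [] [nat_lit 32,nat_lit 16,nat_lit 8,nat_lit 4,nat_lit 2,nat_lit 1] [] (Cert.rep (nat_lit 32) [] [] [] Cert.nil (Cert.rep (nat_lit 33) [] [] [] Cert.nil Cert.nil)) Cert.nil))))) (Cert.rep (nat_lit 36) [] [] [] (Cert.er (Cert.ro (nat_lit 0) [nat_lit 1,nat_lit 8,nat_lit 16] [nat_lit 8,nat_lit 9,nat_lit 16] [nat_lit 0,nat_lit 1,nat_lit 8,nat_lit 9,nat_lit 32,nat_lit 33,nat_lit 40,nat_lit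 41] (Cert.ro (nat_lit 1) [nat_lit 1,nat_lit 2,nat_lit 14,nat_lit 16] [nat_lit 1,nat_lit 14,nat_lit 12,nat_lit 16] [nat_lit 0,nat_lit 1,nat_lit 2,nat_lit 3,nat_lit 46,nat_lit 47,nat_lit 45,nat_lit 44,nat_lit 32,nat_lit 33,nat_lit 34,nat_lit 35,nat_lit 14,nat_lit 15,nat_lit 13,nat_lit 12] (Cert.fu (nat_lit 1) (nat_lit 1) (nat_lit 0) (nat_lit 0) [nat_lit 0,nat_lit 1] [nat_lit 16,nat_lit 4] [] [] [] [nat_lit 9] [[nat_lit 32,nat_lit 1]] [[nat_lit 16,nat_lit 1]] [Ins.ts (nat_lit 1) [nat_lit 0] [],Ins.fr [nat_lit 0],Ins.ts (nat_lit 4) [nat_lit 0] [nat_lit 0,nat_lit 0,nat_lit 0],Ins.ts (nat_lit 1) [nat_lit 0] [],Ins.ts (nat_lit 2) [nat_lit 0] [],Ins.fr [nat_lit 1],Ins.ts (nat_lit 1) [nat_lit 0,nat_lit 0] [],Ins.ts (nat_lit 0) [nat_lit 1,nat_lit 2,nat_lit 0] [nat_lit 0,nat_lit 1]] [(nat_lit 2,nat_lit 0)] (Cert.rep (nat_lit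 1) [] [nat_lit 32,nat_lit 16,nat_lit 8,nat_lit 4,nat_lit 2,nat_lit 1] [] (Cert.rep (nat_lit 32) [] [] [] Cert.nil (Cert.rep (nat_lit 33) [] [] [] Cert.nil Cert.nil)) Cert.nil))))) Cert.nil)) (Cert.rep (nat_lit 16) [] [] [] Cert.nil (Cert.rep (nat_lit 24) [nat_lit 8,nat_lit 16] [] [] (Cert.rep (nat_lit 20) [] [] [] (Cert.er (Cert.ro (nat_lit 0) [nat_lit 1,nat_lit 8,nat_lit 16] [nat_lit 8,nat_lit 9,nat_lit 16] [nat_lit 0,nat_lit 1,nat_lit 24,nat_lit 25,nat_lit 32,nat_lit 33,nat_lit 56,nat_lit 57] (Cert.ro (nat_lit 1) [nat_lit 1,nat_lit 2,nat_lit 14,nat_lit 16] [nat_lit 1,nat_lit 14,nat_lit 12,nat_lit 16] [nat_lit 0,nat_lit 1,nat_lit 3,nat_lit 2,nat_lit 15,nat_lit 14,nat_lit 13,nat_lit 12,nat_lit 32,nat_lit 33,nat_lit 35,nat_lit 34,nat_lit 47,nat_lit 46,nat_lit 45,nat_lit 44] (Cert.lf (Leaf.st (nat_lit 2) (nat_lit 1)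 (nat_lit 1) (Leaf.cf (nat_lit 1))))))) (Cert.rep (nat_lit 52) [] [] [] (Cert.er (Cert.ro (nat_lit 0) [nat_lit 1,nat_lit 8,nat_lit 16] [nat_lit 8,nat_lit 9,nat_lit 16] [nat_lit 0,nat_lit 1,nat_lit 24,nat_lit 25,nat_lit 32,nat_lit 33,nat_lit 56,nat_lit 57] (Cert.ro (nat_lit 1) [nat_lit 1,nat_lit 2,nat_lit 14,nat_lit 16] [nat_lit 1,nat_lit 14,nat_lit 12,nat_lit 16] [nat_lit 0,nat_lit 1,nat_lit 3,nat_lit 2,nat_lit 47,nat_lit 46,nat_lit 45,nat_lit 44,nat_lit 32,nat_lit 33,nat_lit 35,nat_lit 34,nat_lit 15,nat_lit 14,nat_lit 13,nat_lit 12] (Cert.lf (Leaf.st (nat_lit 2) (nat_lit 1) (nat_lit 1) (Leaf.cf (nat_lit 1))))))) Cert.nil)) (Cert.rep (nat_lit 28) [] [] [] Cert.nil (Cert.rep (nat_lit 33) [] [] [] Cert.nil (Cert.rep (nat_lit 40) [nat_lit 8,nat_lit 16] [] [] (Cert.rep (nat_lit 4) [] [] [] (Cert.er (Cert.ro (nat_lit 0)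 [nat_lit 1,nat_lit 8,nat_lit 16] [nat_lit 8,nat_lit 9,nat_lit 16] [nat_lit 0,nat_lit 1,nat_lit 40,nat_lit 41,nat_lit 32,nat_lit 33,nat_lit 8,nat_lit 9] (Cert.ro (nat_lit 1) [nat_lit 1,nat_lit 2,nat_lit 14,nat_lit 16] [nat_lit 1,nat_lit 14,nat_lit 12,nat_lit 16] [nat_lit 0,nat_lit 1,nat_lit 2,nat_lit 3,nat_lit 46,nat_lit 47,nat_lit 45,nat_lit 44,nat_lit 32,nat_lit 33,nat_lit 34,nat_lit 35,nat_lit 14,nat_lit 15,nat_lit 13,nat_lit 12] (Cert.lf (Leaf.st (nat_lit 2) (nat_lit 1) (nat_lit 1) (Leaf.cf (nat_lit 1))))))) (Cert.rep (nat_lit 36) [] [] [] (Cert.er (Cert.ro (nat_lit 0) [nat_lit 1,nat_lit 8,nat_lit 16] [nat_lit 8,nat_lit 9,nat_lit 16] [nat_lit 0,nat_lit 1,nat_lit 40,nat_lit 41,nat_lit 32,nat_lit 33,nat_lit 8,nat_lit 9] (Cert.ro (nat_lit 1) [nat_lit 1,nat_lit 2,nat_lit 14,nat_lit 16] [nat_lit 1,nat_lit 14,nat_lit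 12,nat_lit 16] [nat_lit 0,nat_lit 1,nat_lit 2,nat_lit 3,nat_lit 14,nat_lit 15,nat_lit 13,nat_lit 12,nat_lit 32,nat_lit 33,nat_lit 34,nat_lit 35,nat_lit 46,nat_lit 47,nat_lit 45,nat_lit 44] (Cert.lf (Leaf.st (nat_lit 2) (nat_lit 1) (nat_lit 1) (Leaf.cf (nat_lit 1))))))) Cert.nil)) (Cert.rep (nat_lit 48) [] [] [] Cert.nil (Cert.rep (nat_lit 56) [nat_lit 8,nat_lit 16] [] [] (Cert.rep (nat_lit 20) [] [] [] (Cert.er (Cert.ro (nat_lit 0) [nat_lit 1,nat_lit 8,nat_lit 16] [nat_lit 8,nat_lit 9,nat_lit 16] [nat_lit 0,nat_lit 1,nat_lit 56,nat_lit 57,nat_lit 32,nat_lit 33,nat_lit 24,nat_lit 25] (Cert.ro (nat_lit 1) [nat_lit 1,nat_lit 2,nat_lit 14,nat_lit 16] [nat_lit 1,nat_lit 14,nat_lit 12,nat_lit 16] [nat_lit 0,nat_lit 1,nat_lit 3,nat_lit 2,nat_lit 47,nat_lit 46,nat_lit 45,nat_lit 44,nat_lit 32,nat_lit 33,nat_lit 35,nat_lit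 34,nat_lit 15,nat_lit 14,nat_lit 13,nat_lit 12] (Cert.lf (Leaf.st (nat_lit 2) (nat_lit 1) (nat_lit 1) (Leaf.cf (nat_lit 1))))))) (Cert.rep (nat_lit 52) [] [] [] (Cert.er (Cert.ro (nat_lit 0) [nat_lit 1,nat_lit 8,nat_lit 16] [nat_lit 8,nat_lit 9,nat_lit 16] [nat_lit 0,nat_lit 1,nat_lit 56,nat_lit 57,nat_lit 32,nat_lit 33,nat_lit 24,nat_lit 25] (Cert.ro (nat_lit 1) [nat_lit 1,nat_lit 2,nat_lit 14,nat_lit 16] [nat_lit 1,nat_lit 14,nat_lit 12,nat_lit 16] [nat_lit 0,nat_lit 1,nat_lit 3,nat_lit 2,nat_lit 15,nat_lit 14,nat_lit 13,nat_lit 12,nat_lit 32,nat_lit 33,nat_lit 35,nat_lit 34,nat_lit 47,nat_lit 46,nat_lit 45,nat_lit 44] (Cert.lf (Leaf.st (nat_lit 2) (nat_lit 1) (nat_lit 1) (Leaf.cf (nat_lit 1))))))) Cert.nil)) (Cert.rep (nat_lit 60) [] [] [] Cert.nil Cert.nil))))))))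
noncomputable def f89_1 : Cert :=
  Cert.rep (nat_lit 8) [nat_lit 8,nat_lit 16] [] [] (Cert.rep (nat_lit 4) [] [] [] (Cert.er (Cert.ro (nat_lit 0) [nat_lit 1,nat_lit 8,nat_lit 16] [nat_lit 8,nat_lit 9,nat_lit 16] [nat_lit 0,nat_lit 1,nat_lit 8,nat_lit 9,nat_lit 33,nat_lit 32,nat_lit 41,nat_lit 40] (Cert.ro (nat_lit 1) [nat_lit 1,nat_lit 2,nat_lit 14,nat_lit 16] [nat_lit 1,nat_lit 14,nat_lit 12,nat_lit 16] [nat_lit 0,nat_lit 1,nat_lit 2,nat_lit 3,nat_lit 14,nat_lit 15,nat_lit 13,nat_lit 12,nat_lit 33,nat_lit 32,nat_lit 35,nat_lit 34,nat_lit 47,nat_lit 46,nat_lit 44,nat_lit 45] (Cert.fu (nat_lit 1) (nat_lit 1) (nat_lit 0) (nat_lit 0) [nat_lit 0,nat_lit 1] [nat_lit 16,nat_lit 4] [] [] [] [nat_lit 9] [[nat_lit 32,nat_lit 1]] [[nat_lit 16,nat_lit 1]] [Ins.ts (nat_lit 1) [nat_lit 0] [],Ins.fr [nat_lit 0],Ins.ts (nat_lit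 4) [nat_lit 0] [nat_lit 0,nat_lit 0,nat_lit 0],Ins.ts (nat_lit 1) [nat_lit 0] [],Ins.ts (nat_lit 2) [nat_lit 0] [],Ins.fr [nat_lit 1],Ins.ts (nat_lit 1) [nat_lit 0,nat_lit 0] [],Ins.ts (nat_lit 0) [nat_lit 1,nat_lit 2,nat_lit 0] [nat_lit 0,nat_lit 1]] [(nat_lit 2,nat_lit 0)] (Cert.rep (nat_lit 1) [] [nat_lit 32,nat_lit 16,nat_lit 8,nat_lit 4,nat_lit 2,nat_lit 1] [] (Cert.rep (nat_lit 32) [] [] [] Cert.nil (Cert.rep (nat_lit 33) [] [] [] Cert.nil Cert.nil)) Cert.nil))))) (Cert.rep (nat_lit 36) [] [] [] (Cert.er (Cert.ro (nat_lit 0) [nat_lit 1,nat_lit 8,nat_lit 16] [nat_lit 8,nat_lit 9,nat_lit 16] [nat_lit 0,nat_lit 1,nat_lit 8,nat_lit 9,nat_lit 33,nat_lit 32,nat_lit 41,nat_lit 40] (Cert.ro (nat_lit 1) [nat_lit 1,nat_lit 2,nat_lit 14,nat_lit 16] [nat_lit 1,nat_lit 14,nat_lit 12,nat_lit 16] [nat_lit 0,nat_lit 1,nat_lit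 2,nat_lit 3,nat_lit 46,nat_lit 47,nat_lit 45,nat_lit 44,nat_lit 33,nat_lit 32,nat_lit 35,nat_lit 34,nat_lit 15,nat_lit 14,nat_lit 12,nat_lit 13] (Cert.fu (nat_lit 1) (nat_lit 1) (nat_lit 0) (nat_lit 0) [nat_lit 0,nat_lit 1] [nat_lit 16,nat_lit 4] [] [] [] [nat_lit 9] [[nat_lit 32,nat_lit 1]] [[nat_lit 16,nat_lit 1]] [Ins.ts (nat_lit 1) [nat_lit 0] [],Ins.fr [nat_lit 0],Ins.ts (nat_lit 4) [nat_lit 0] [nat_lit 0,nat_lit 0,nat_lit 0],Ins.ts (nat_lit 1) [nat_lit 0] [],Ins.ts (nat_lit 2) [nat_lit 0] [],Ins.fr [nat_lit 1],Ins.ts (nat_lit 1) [nat_lit 0,nat_lit 0] [],Ins.ts (nat_lit 0) [nat_lit 1,nat_lit 2,nat_lit 0] [nat_lit 0,nat_lit 1]] [(nat_lit 2,nat_lit 0)] (Cert.rep (nat_lit 1) [] [nat_lit 32,nat_lit 16,nat_lit 8,nat_lit 4,nat_lit 2,nat_lit 1] [] (Cert.rep (nat_lit 32) [] [] [] Cert.nil (Cert.rep (nat_lit 33) [] []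 [] Cert.nil Cert.nil)) Cert.nil))))) Cert.nil)) (Cert.rep (nat_lit 16) [] [] [] Cert.nil (Cert.rep (nat_lit 24) [nat_lit 8,nat_lit 16] [] [] (Cert.rep (nat_lit 20) [] [] [] (Cert.er (Cert.ro (nat_lit 0) [nat_lit 1,nat_lit 8,nat_lit 16] [nat_lit 8,nat_lit 9,nat_lit 16] [nat_lit 0,nat_lit 1,nat_lit 24,nat_lit 25,nat_lit 33,nat_lit 32,nat_lit 57,nat_lit 56] (Cert.ro (nat_lit 1) [nat_lit 1,nat_lit 2,nat_lit 14,nat_lit 16] [nat_lit 1,nat_lit 14,nat_lit 12,nat_lit 16] [nat_lit 0,nat_lit 1,nat_lit 3,nat_lit 2,nat_lit 15,nat_lit 14,nat_lit 13,nat_lit 12,nat_lit 33,nat_lit 32,nat_lit 34,nat_lit 35,nat_lit 46,nat_lit 47,nat_lit 44,nat_lit 45] (Cert.lf (Leaf.st (nat_lit 2) (nat_lit 1) (nat_lit 1) (Leaf.cf (nat_lit 1))))))) (Cert.rep (nat_lit 52) [] [] [] (Cert.er (Cert.ro (nat_lit 0) [nat_lit 1,nat_lit 8,nat_lit 16] [nat_lit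 8,nat_lit 9,nat_lit 16] [nat_lit 0,nat_lit 1,nat_lit 24,nat_lit 25,nat_lit 33,nat_lit 32,nat_lit 57,nat_lit 56] (Cert.ro (nat_lit 1) [nat_lit 1,nat_lit 2,nat_lit 14,nat_lit 16] [nat_lit 1,nat_lit 14,nat_lit 12,nat_lit 16] [nat_lit 0,nat_lit 1,nat_lit 3,nat_lit 2,nat_lit 47,nat_lit 46,nat_lit 45,nat_lit 44,nat_lit 33,nat_lit 32,nat_lit 34,nat_lit 35,nat_lit 14,nat_lit 15,nat_lit 12,nat_lit 13] (Cert.lf (Leaf.st (nat_lit 2) (nat_lit 1) (nat_lit 1) (Leaf.cf (nat_lit 1))))))) Cert.nil)) (Cert.rep (nat_lit 28) [] [] [] Cert.nil (Cert.rep (nat_lit 32) [] [] [] Cert.nil (Cert.rep (nat_lit 40) [nat_lit 8,nat_lit 16] [] [] (Cert.rep (nat_lit 4) [] [] [] (Cert.er (Cert.ro (nat_lit 0) [nat_lit 1,nat_lit 8,nat_lit 16] [nat_lit 8,nat_lit 9,nat_lit 16] [nat_lit 0,nat_lit 1,nat_lit 40,nat_lit 41,nat_lit 33,nat_lit 32,nat_lit 9,nat_lit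 8] (Cert.ro (nat_lit 1) [nat_lit 1,nat_lit 2,nat_lit 14,nat_lit 16] [nat_lit 1,nat_lit 14,nat_lit 12,nat_lit 16] [nat_lit 0,nat_lit 1,nat_lit 2,nat_lit 3,nat_lit 46,nat_lit 47,nat_lit 45,nat_lit 44,nat_lit 33,nat_lit 32,nat_lit 35,nat_lit 34,nat_lit 15,nat_lit 14,nat_lit 12,nat_lit 13] (Cert.lf (Leaf.st (nat_lit 2) (nat_lit 1) (nat_lit 1) (Leaf.cf (nat_lit 1))))))) (Cert.rep (nat_lit 36) [] [] [] (Cert.er (Cert.ro (nat_lit 0) [nat_lit 1,nat_lit 8,nat_lit 16] [nat_lit 8,nat_lit 9,nat_lit 16] [nat_lit 0,nat_lit 1,nat_lit 40,nat_lit 41,nat_lit 33,nat_lit 32,nat_lit 9,nat_lit 8] (Cert.ro (nat_lit 1) [nat_lit 1,nat_lit 2,nat_lit 14,nat_lit 16] [nat_lit 1,nat_lit 14,nat_lit 12,nat_lit 16] [nat_lit 0,nat_lit 1,nat_lit 2,nat_lit 3,nat_lit 14,nat_lit 15,nat_lit 13,nat_lit 12,nat_lit 33,nat_lit 32,nat_lit 35,nat_lit 34,nat_lit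 47,nat_lit 46,nat_lit 44,nat_lit 45] (Cert.lf (Leaf.st (nat_lit 2) (nat_lit 1) (nat_lit 1) (Leaf.cf (nat_lit 1))))))) Cert.nil)) (Cert.rep (nat_lit 48) [] [] [] Cert.nil (Cert.rep (nat_lit 56) [nat_lit 8,nat_lit 16] [] [] (Cert.rep (nat_lit 20) [] [] [] (Cert.er (Cert.ro (nat_lit 0) [nat_lit 1,nat_lit 8,nat_lit 16] [nat_lit 8,nat_lit 9,nat_lit 16] [nat_lit 0,nat_lit 1,nat_lit 56,nat_lit 57,nat_lit 33,nat_lit 32,nat_lit 25,nat_lit 24] (Cert.ro (nat_lit 1) [nat_lit 1,nat_lit 2,nat_lit 14,nat_lit 16] [nat_lit 1,nat_lit 14,nat_lit 12,nat_lit 16] [nat_lit 0,nat_lit 1,nat_lit 3,nat_lit 2,nat_lit 47,nat_lit 46,nat_lit 45,nat_lit 44,nat_lit 33,nat_lit 32,nat_lit 34,nat_lit 35,nat_lit 14,nat_lit 15,nat_lit 12,nat_lit 13] (Cert.lf (Leaf.st (nat_lit 2) (nat_lit 1) (nat_lit 1) (Leaf.cf (nat_lit 1))))))) (Cert.rep (nat_lit 52)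 [] [] [] (Cert.er (Cert.ro (nat_lit 0) [nat_lit 1,nat_lit 8,nat_lit 16] [nat_lit 8,nat_lit 9,nat_lit 16] [nat_lit 0,nat_lit 1,nat_lit 56,nat_lit 57,nat_lit 33,nat_lit 32,nat_lit 25,nat_lit 24] (Cert.ro (nat_lit 1) [nat_lit 1,nat_lit 2,nat_lit 14,nat_lit 16] [nat_lit 1,nat_lit 14,nat_lit 12,nat_lit 16] [nat_lit 0,nat_lit 1,nat_lit 3,nat_lit 2,nat_lit 15,nat_lit 14,nat_lit 13,nat_lit 12,nat_lit 33,nat_lit 32,nat_lit 34,nat_lit 35,nat_lit 46,nat_lit 47,nat_lit 44,nat_lit 45] (Cert.lf (Leaf.st (nat_lit 2) (nat_lit 1) (nat_lit 1) (Leaf.cf (nat_lit 1))))))) Cert.nil)) (Cert.rep (nat_lit 60) [] [] [] Cert.nil Cert.nil))))))))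
noncomputable def f89 : Cert :=
  (Cert.st (nat_lit 0) (nat_lit 16) (nat_lit 0) (Cert.st (nat_lit 0) (nat_lit 48) (nat_lit 0) (Cert.st (nat_lit 2) (nat_lit 0) (nat_lit 1) (Cert.st (nat_lit 0) (nat_lit 8) (nat_lit 0) (Cert.st (nat_lit 2) (nat_lit 0) (nat_lit 5) (Cert.st (nat_lit 0) (nat_lit 24) (nat_lit 0) (Cert.st (nat_lit 2) (nat_lit 0) (nat_lit 13) (Cert.st (nat_lit 0) (nat_lit 56) (nat_lit 0) (Cert.st (nat_lit 2) (nat_lit 1) (nat_lit 10) (Cert.st (nat_lit 0) (nat_lit 28) (nat_lit 0) (Cert.st (nat_lit 2) (nat_lit 1) (nat_lit 26) (Cert.st (nat_lit 0) (nat_lit 60) (nat_lit 0) (Cert.st (nat_lit 2) (nat_lit 2) (nat_lit 2) (Cert.st (nat_lit 2) (nat_lit 2) (nat_lit 3) (Cert.st (nat_lit 2) (nat_lit 0) (nat_lit 9) (Cert.st (nat_lit 0) (nat_lit 40) (nat_lit 0) (Cert.nl (nat_lit 1) (Cert.sy (nat_lit 0) (Cert.lw (nat_lit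 0) (nat_lit 1) (nat_lit 1) (Cert.root (nat_lit 32) [] [nat_lit 8,nat_lit 4] [nat_lit 0,nat_lit 1,nat_lit 2,nat_lit 3,nat_lit 4] [Ins.fr [nat_lit 0],Ins.ts (nat_lit 0) [nat_lit 0,nat_lit 0] [],Ins.ts (nat_lit 1) [nat_lit 0] [],Ins.ts (nat_lit 1) [nat_lit 0,nat_lit 1] [],Ins.fr [nat_lit 1],Ins.ts (nat_lit 1) [nat_lit 0,nat_lit 0] [],Ins.ts (nat_lit 1) [nat_lit 0,nat_lit 0,nat_lit 0,nat_lit 0] [],Ins.ts (nat_lit 0) [nat_lit 1,nat_lit 0,nat_lit 1] [nat_lit 0,nat_lit 0,nat_lit 0],Ins.df [nat_lit 0,nat_lit 0],Ins.df [nat_lit 0,nat_lit 0]] (Cert.rep (nat_lit 16) [nat_lit 2,nat_lit 8] [nat_lit 32,nat_lit 16,nat_lit 8,nat_lit 2,nat_lit 1] [nat_lit 4] (Cert.rep (nat_lit 1) [] [] [] Cert.nil (Cert.rep (nat_lit 8) [] [] [] Cert.nil (Cert.rep (nat_lit 10) [] [] [] Cert.nil (Cert.rep (nat_lit 17) [] [] [] Cert.nil (Cert.rep (nat_lit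 24) [] [] [] Cert.nil (Cert.rep (nat_lit 26) [] [] [] Cert.nil (Cert.rep (nat_lit 32) [] [] [] Cert.nil (Cert.rep (nat_lit 33) [] [] [] Cert.nil (Cert.rep (nat_lit 40) [] [] [] Cert.nil (Cert.rep (nat_lit 42) [] [] [] Cert.nil (Cert.rep (nat_lit 48) [] [] [] Cert.nil (Cert.rep (nat_lit 49) [] [] [] Cert.nil (Cert.rep (nat_lit 56) [] [] [] Cert.nil (Cert.rep (nat_lit 58) [] [] [] Cert.nil Cert.nil)))))))))))))) (Cert.rep (nat_lit 24) [] [nat_lit 32,nat_lit 16,nat_lit 8,nat_lit 1] [nat_lit 4,nat_lit 2] (Cert.rep (nat_lit 1) [] [] [] Cert.nil (Cert.rep (nat_lit 8) [] [] [] Cert.nil (Cert.rep (nat_lit 9) [] [] [] Cert.nil (Cert.rep (nat_lit 16) [] [] [] Cert.nil (Cert.rep (nat_lit 17) [] [] [] Cert.nil (Cert.rep (nat_lit 25) [] [] [] Cert.nil (Cert.rep (nat_lit 32) [] [] [] Cert.nil (Cert.rep (nat_lit 33) [] [] [] Cert.nil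 (Cert.rep (nat_lit 40) [] [] [] Cert.nil (Cert.rep (nat_lit 41) [] [] [] Cert.nil (Cert.rep (nat_lit 48) [] [] [] Cert.nil (Cert.rep (nat_lit 49) [] [] [] Cert.nil (Cert.rep (nat_lit 56) [] [] [] Cert.nil (Cert.rep (nat_lit 57) [] [] [] Cert.nil Cert.nil)))))))))))))) (Cert.rep (nat_lit 28) [] [nat_lit 32,nat_lit 18,nat_lit 14,nat_lit 1] [nat_lit 4,nat_lit 2] (Cert.rep (nat_lit 1) [] [] [] Cert.nil (Cert.rep (nat_lit 29) [] [] [] Cert.nil (Cert.rep (nat_lit 32) [] [] [] Cert.nil (Cert.rep (nat_lit 33) [] [] [] Cert.nil (Cert.rep (nat_lit 60) [] [] [] Cert.nil (Cert.rep (nat_lit 61) [] [] [] Cert.nil Cert.nil)))))) (Cert.rep (nat_lit 32) [nat_lit 2,nat_lit 4,nat_lit 8,nat_lit 16] [nat_lit 32,nat_lit 16,nat_lit 8,nat_lit 4,nat_lit 2,nat_lit 1] [] (Cert.rep (nat_lit 1) [] [] [] Cert.nil f89_0) (Cert.rep (nat_lit 33)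 [nat_lit 2,nat_lit 4,nat_lit 8,nat_lit 16] [nat_lit 32,nat_lit 16,nat_lit 8,nat_lit 4,nat_lit 2,nat_lit 1] [] (Cert.rep (nat_lit 1) [] [] [] Cert.nil f89_1) (Cert.rep (nat_lit 40) [] [nat_lit 32,nat_lit 16,nat_lit 8,nat_lit 1] [nat_lit 4,nat_lit 2] (Cert.rep (nat_lit 1) [] [] [] Cert.nil (Cert.rep (nat_lit 8) [] [] [] Cert.nil (Cert.rep (nat_lit 9) [] [] [] Cert.nil (Cert.rep (nat_lit 16) [] [] [] Cert.nil (Cert.rep (nat_lit 17) [] [] [] Cert.nil (Cert.rep (nat_lit 24) [] [] [] Cert.nil (Cert.rep (nat_lit 25) [] [] [] Cert.nil (Cert.rep (nat_lit 32) [] [] [] Cert.nil (Cert.rep (nat_lit 33) [] [] [] Cert.nil (Cert.rep (nat_lit 41) [] [] [] Cert.nil (Cert.rep (nat_lit 48) [] [] [] Cert.nil (Cert.rep (nat_lit 49) [] [] [] Cert.nil (Cert.rep (nat_lit 56) [] [] [] Cert.nil (Cert.rep (nat_lit 57) [] [] [] Cert.nil Cert.nil))))))))))))))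 (Cert.rep (nat_lit 48) [nat_lit 2,nat_lit 8] [nat_lit 32,nat_lit 16,nat_lit 8,nat_lit 2,nat_lit 1] [nat_lit 4] (Cert.rep (nat_lit 1) [] [] [] Cert.nil (Cert.rep (nat_lit 8) [] [] [] Cert.nil (Cert.rep (nat_lit 10) [] [] [] Cert.nil (Cert.rep (nat_lit 16) [] [] [] Cert.nil (Cert.rep (nat_lit 17) [] [] [] Cert.nil (Cert.rep (nat_lit 24) [] [] [] Cert.nil (Cert.rep (nat_lit 26) [] [] [] Cert.nil (Cert.rep (nat_lit 32) [] [] [] Cert.nil (Cert.rep (nat_lit 33) [] [] [] Cert.nil (Cert.rep (nat_lit 40) [] [] [] Cert.nil (Cert.rep (nat_lit 42) [] [] [] Cert.nil (Cert.rep (nat_lit 49) [] [] [] Cert.nil (Cert.rep (nat_lit 56) [] [] [] Cert.nil (Cert.rep (nat_lit 58) [] [] [] Cert.nil Cert.nil)))))))))))))) (Cert.rep (nat_lit 56) [] [nat_lit 32,nat_lit 16,nat_lit 8,nat_lit 1] [nat_lit 4,nat_lit 2] (Cert.rep (nat_lit 1) [] []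 [] Cert.nil (Cert.rep (nat_lit 8) [] [] [] Cert.nil (Cert.rep (nat_lit 9) [] [] [] Cert.nil (Cert.rep (nat_lit 16) [] [] [] Cert.nil (Cert.rep (nat_lit 17) [] [] [] Cert.nil (Cert.rep (nat_lit 24) [] [] [] Cert.nil (Cert.rep (nat_lit 25) [] [] [] Cert.nil (Cert.rep (nat_lit 32) [] [] [] Cert.nil (Cert.rep (nat_lit 33) [] [] [] Cert.nil (Cert.rep (nat_lit 40) [] [] [] Cert.nil (Cert.rep (nat_lit 41) [] [] [] Cert.nil (Cert.rep (nat_lit 48) [] [] [] Cert.nil (Cert.rep (nat_lit 49) [] [] [] Cert.nil (Cert.rep (nat_lit 57) [] [] [] Cert.nil Cert.nil)))))))))))))) (Cert.rep (nat_lit 60) [] [nat_lit 32,nat_lit 18,nat_lit 14,nat_lit 1] [nat_lit 4,nat_lit 2] (Cert.rep (nat_lit 1) [] [] [] Cert.nil (Cert.rep (nat_lit 28) [] [] [] Cert.nil (Cert.rep (nat_lit 29) [] [] [] Cert.nil (Cert.rep (nat_lit 32) [] [] [] Cert.nil (Cert.rep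 (nat_lit 33) [] [] [] Cert.nil (Cert.rep (nat_lit 61) [] [] [] Cert.nil Cert.nil)))))) Cert.nil)))))))))))))))))))))))))))))
theorem fin89 : finOK DB PT 88 t88 89 t89 (nat_lit 0xff030f03ff030f03) f89 = true := by
  decide +kernel
noncomputable def f97_0 : Cert :=
  Cert.s2 (nat_lit 0) (nat_lit 92) (Cert.o1 (nat_lit 0) (nat_lit 92) (Cert.fu (nat_lit 10) (nat_lit 1) (nat_lit 0) (nat_lit 0) [] [nat_lit 92,nat_lit 1,nat_lit 16,nat_lit 32,nat_lit 256] [] [] [] [nat_lit 1] [[nat_lit 1]] [[nat_lit 92]] [Ins.fr [nat_lit 0],Ins.ts (nat_lit 3) [nat_lit 0] [],Ins.ts (nat_lit 4) [nat_lit 0] [nat_lit 0,nat_lit 0,nat_lit 0],Ins.ts (nat_lit 1) [nat_lit 0] [],Ins.fr [nat_lit 1],Ins.ts (nat_lit 3) [nat_lit 0] [],Ins.ts (nat_lit 0) [nat_lit 0,nat_lit 0] [],Ins.ts (nat_lit 1) [nat_lit 0] [],Ins.ts (nat_lit 4) [nat_lit 0] [nat_lit 0,nat_lit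 0,nat_lit 1],Ins.ts (nat_lit 1) [nat_lit 0,nat_lit 1] [],Ins.fr [nat_lit 2],Ins.ts (nat_lit 2) [nat_lit 0] [],Ins.ts (nat_lit 0) [nat_lit 0,nat_lit 0] [],Ins.ts (nat_lit 0) [nat_lit 1,nat_lit 0] [nat_lit 0,nat_lit 1],Ins.ts (nat_lit 1) [nat_lit 0] [],Ins.ts (nat_lit 4) [nat_lit 0,nat_lit 2,nat_lit 3] [nat_lit 0,nat_lit 0,nat_lit 2],Ins.ts (nat_lit 4) [nat_lit 0,nat_lit 1,nat_lit 2,nat_lit 3] [nat_lit 0,nat_lit 0,nat_lit 2],Ins.ts (nat_lit 1) [nat_lit 0,nat_lit 2,nat_lit 3] [],Ins.ts (nat_lit 1) [nat_lit 0,nat_lit 1,nat_lit 2,nat_lit 3] [],Ins.fr [nat_lit 1,nat_lit 3],Ins.ts (nat_lit 0) [nat_lit 0,nat_lit 0] [],Ins.fr [nat_lit 1],Ins.ts (nat_lit 0) [nat_lit 0,nat_lit 0] [],Ins.ts (nat_lit 0) [nat_lit 1,nat_lit 0] [nat_lit 0,nat_lit 1]] [(nat_lit 2,nat_lit 0),(nat_lit 3,nat_lit 0)] (Cert.rep (nat_lit 10) [] [nat_lit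 68,nat_lit 36,nat_lit 16,nat_lit 8,nat_lit 2,nat_lit 1] [nat_lit 1024,nat_lit 512,nat_lit 256,nat_lit 128,nat_lit 4] (Cert.rep (nat_lit 1) [nat_lit 2,nat_lit 16,nat_lit 36,nat_lit 68] [] [] (Cert.rep (nat_lit 26) [] [] [] Cert.nil (Cert.rep (nat_lit 60) [] [] [] Cert.nil (Cert.rep (nat_lit 92) [] [] [] (Cert.rep (nat_lit 16) [nat_lit 10] [] [] (Cert.rep (nat_lit 1185) [] [] [] Cert.nil (Cert.rep (nat_lit 1184) [] [] [] Cert.nil (Cert.rep (nat_lit 1211) [] [] [] Cert.nil (Cert.rep (nat_lit 1210) [] [] [] Cert.nil Cert.nil)))) (Cert.rep (nat_lit 17) [nat_lit 10] [] [] (Cert.rep (nat_lit 1185) [] [] [] Cert.nil (Cert.rep (nat_lit 1184) [] [] [] Cert.nil (Cert.rep (nat_lit 1211) [] [] [] Cert.nil (Cert.rep (nat_lit 1210) [] [] [] Cert.nil Cert.nil)))) (Cert.rep (nat_lit 76) [nat_lit 10] [] [] (Cert.rep (nat_lit 1185)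 [] [] [] Cert.nil (Cert.rep (nat_lit 1184) [] [] [] Cert.nil (Cert.rep (nat_lit 1211) [] [] [] Cert.nil (Cert.rep (nat_lit 1210) [] [] [] Cert.nil Cert.nil)))) (Cert.rep (nat_lit 77) [nat_lit 10] [] [] (Cert.rep (nat_lit 1185) [] [] [] Cert.nil (Cert.rep (nat_lit 1184) [] [] [] Cert.nil (Cert.rep (nat_lit 1211) [] [] [] Cert.nil (Cert.rep (nat_lit 1210) [] [] [] Cert.nil Cert.nil)))) Cert.nil)))) Cert.nil))) Cert.nil) Cert.nil))) (Cert.root (nat_lit 32) [] [nat_lit 8,nat_lit 4] [nat_lit 0,nat_lit 1,nat_lit 2,nat_lit 3,nat_lit 4] [Ins.fr [nat_lit 0],Ins.ts (nat_lit 0) [nat_lit 0,nat_lit 0] [],Ins.ts (nat_lit 1) [nat_lit 0] [],Ins.ts (nat_lit 1) [nat_lit 0,nat_lit 1] [],Ins.fr [nat_lit 1],Ins.ts (nat_lit 1) [nat_lit 0,nat_lit 0] [],Ins.ts (nat_lit 0) [nat_lit 1,nat_lit 0,nat_lit 1] [nat_lit 0,nat_lit 0,nat_lit 0],Ins.ts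 (nat_lit 1) [nat_lit 0,nat_lit 0,nat_lit 0,nat_lit 0] [],Ins.df [nat_lit 0,nat_lit 0],Ins.df [nat_lit 0,nat_lit 0]] (Cert.rep (nat_lit 10) [nat_lit 2,nat_lit 16,nat_lit 36,nat_lit 68] [nat_lit 68,nat_lit 36,nat_lit 16,nat_lit 8,nat_lit 2,nat_lit 1] [nat_lit 1024,nat_lit 512,nat_lit 256,nat_lit 128,nat_lit 4] (Cert.rep (nat_lit 1) [] [] [] Cert.nil (Cert.rep (nat_lit 11) [] [] [] Cert.nil (Cert.rep (nat_lit 16) [] [] [] Cert.nil (Cert.rep (nat_lit 26) [] [] [] Cert.nil (Cert.rep (nat_lit 52) [] [] [] Cert.nil (Cert.rep (nat_lit 60) [] [] [] Cert.nil (Cert.rep (nat_lit 68) [nat_lit 16,nat_lit 68] [] [] (Cert.rep (nat_lit 96) [] [] [] (Cert.er (Cert.ro (nat_lit 0) [nat_lit 1,nat_lit 8,nat_lit 16] [nat_lit 8,nat_lit 9,nat_lit 16] [nat_lit 0,nat_lit 1,nat_lit 68,nat_lit 69,nat_lit 10,nat_lit 11,nat_lit 78,nat_lit 79]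 (Cert.ro (nat_lit 1) [nat_lit 1,nat_lit 2,nat_lit 14,nat_lit 16] [nat_lit 1,nat_lit 14,nat_lit 12,nat_lit 16] [nat_lit 0,nat_lit 1,nat_lit 2,nat_lit 3,nat_lit 39,nat_lit 38,nat_lit 36,nat_lit 37,nat_lit 10,nat_lit 11,nat_lit 9,nat_lit 8,nat_lit 44,nat_lit 45,nat_lit 46,nat_lit 47] (Cert.kw (nat_lit 2) (nat_lit 0) (nat_lit 2) (nat_lit 1) )))) (Cert.rep (nat_lit 104) [] [] [] (Cert.er (Cert.ro (nat_lit 0) [nat_lit 1,nat_lit 8,nat_lit 16] [nat_lit 8,nat_lit 9,nat_lit 16] [nat_lit 0,nat_lit 1,nat_lit 68,nat_lit 69,nat_lit 10,nat_lit 11,nat_lit 78,nat_lit 79] (Cert.ro (nat_lit 1) [nat_lit 1,nat_lit 2,nat_lit 14,nat_lit 16] [nat_lit 1,nat_lit 14,nat_lit 12,nat_lit 16] [nat_lit 0,nat_lit 1,nat_lit 3,nat_lit 2,nat_lit 46,nat_lit 47,nat_lit 44,nat_lit 45,nat_lit 10,nat_lit 11,nat_lit 8,nat_lit 9,nat_lit 36,nat_lit 37,nat_lit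 39,nat_lit 38] (Cert.kw (nat_lit 2) (nat_lit 0) (nat_lit 2) (nat_lit 1) )))) Cert.nil)) (Cert.rep (nat_lit 76) [nat_lit 16,nat_lit 70] [] [] (Cert.rep (nat_lit 96) [] [] [] (Cert.er (Cert.ro (nat_lit 0) [nat_lit 1,nat_lit 8,nat_lit 16] [nat_lit 8,nat_lit 9,nat_lit 16] [nat_lit 0,nat_lit 1,nat_lit 76,nat_lit 77,nat_lit 10,nat_lit 11,nat_lit 71,nat_lit 70] (Cert.ro (nat_lit 1) [nat_lit 1,nat_lit 2,nat_lit 14,nat_lit 16] [nat_lit 1,nat_lit 14,nat_lit 12,nat_lit 16] [nat_lit 0,nat_lit 1,nat_lit 2,nat_lit 3,nat_lit 47,nat_lit 46,nat_lit 44,nat_lit 45,nat_lit 10,nat_lit 11,nat_lit 9,nat_lit 8,nat_lit 37,nat_lit 36,nat_lit 39,nat_lit 38] (Cert.lf (Leaf.st (nat_lit 2) (nat_lit 1) (nat_lit 1) (Leaf.cf (nat_lit 1))))))) (Cert.rep (nat_lit 104) [] [] [] (Cert.er (Cert.ro (nat_lit 0) [nat_lit 1,nat_lit 8,nat_lit 16] [nat_lit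 8,nat_lit 9,nat_lit 16] [nat_lit 0,nat_lit 1,nat_lit 76,nat_lit 77,nat_lit 10,nat_lit 11,nat_lit 71,nat_lit 70] (Cert.ro (nat_lit 1) [nat_lit 1,nat_lit 2,nat_lit 14,nat_lit 16] [nat_lit 1,nat_lit 14,nat_lit 12,nat_lit 16] [nat_lit 0,nat_lit 1,nat_lit 3,nat_lit 2,nat_lit 39,nat_lit 38,nat_lit 37,nat_lit 36,nat_lit 10,nat_lit 11,nat_lit 8,nat_lit 9,nat_lit 44,nat_lit 45,nat_lit 47,nat_lit 46] (Cert.lf (Leaf.st (nat_lit 2) (nat_lit 1) (nat_lit 1) (Leaf.cf (nat_lit 1))))))) Cert.nil)) (Cert.rep (nat_lit 84) [nat_lit 16,nat_lit 68] [] [] (Cert.rep (nat_lit 112) [] [] [] (Cert.er (Cert.ro (nat_lit 0) [nat_lit 1,nat_lit 8,nat_lit 16] [nat_lit 8,nat_lit 9,nat_lit 16] [nat_lit 0,nat_lit 1,nat_lit 84,nat_lit 85,nat_lit 10,nat_lit 11,nat_lit 94,nat_lit 95] (Cert.ro (nat_lit 1) [nat_lit 1,nat_lit 2,nat_lit 14,nat_lit 16] [nat_lit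 1,nat_lit 14,nat_lit 12,nat_lit 16] [nat_lit 0,nat_lit 1,nat_lit 3,nat_lit 2,nat_lit 39,nat_lit 38,nat_lit 37,nat_lit 36,nat_lit 10,nat_lit 11,nat_lit 8,nat_lit 9,nat_lit 44,nat_lit 45,nat_lit 47,nat_lit 46] (Cert.lf (Leaf.st (nat_lit 2) (nat_lit 1) (nat_lit 1) (Leaf.cf (nat_lit 1))))))) (Cert.rep (nat_lit 120) [] [] [] (Cert.er (Cert.ro (nat_lit 0) [nat_lit 1,nat_lit 8,nat_lit 16] [nat_lit 8,nat_lit 9,nat_lit 16] [nat_lit 0,nat_lit 1,nat_lit 84,nat_lit 85,nat_lit 10,nat_lit 11,nat_lit 94,nat_lit 95] (Cert.ro (nat_lit 1) [nat_lit 1,nat_lit 2,nat_lit 14,nat_lit 16] [nat_lit 1,nat_lit 14,nat_lit 12,nat_lit 16] [nat_lit 0,nat_lit 1,nat_lit 2,nat_lit 3,nat_lit 46,nat_lit 47,nat_lit 45,nat_lit 44,nat_lit 10,nat_lit 11,nat_lit 9,nat_lit 8,nat_lit 36,nat_lit 37,nat_lit 38,nat_lit 39] (Cert.lf (Leaf.st (nat_lit 2) (nat_lit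 1) (nat_lit 1) (Leaf.cf (nat_lit 1))))))) Cert.nil)) (Cert.rep (nat_lit 92) [nat_lit 16,nat_lit 70] [] [] (Cert.rep (nat_lit 112) [] [] [] (Cert.er (Cert.ro (nat_lit 0) [nat_lit 1,nat_lit 8,nat_lit 16] [nat_lit 8,nat_lit 9,nat_lit 16] [nat_lit 0,nat_lit 1,nat_lit 92,nat_lit 93,nat_lit 10,nat_lit 11,nat_lit 87,nat_lit 86] (Cert.ro (nat_lit 1) [nat_lit 1,nat_lit 2,nat_lit 14,nat_lit 16] [nat_lit 1,nat_lit 14,nat_lit 12,nat_lit 16] [nat_lit 0,nat_lit 1,nat_lit 3,nat_lit 2,nat_lit 47,nat_lit 46,nat_lit 45,nat_lit 44,nat_lit 10,nat_lit 11,nat_lit 8,nat_lit 9,nat_lit 37,nat_lit 36,nat_lit 38,nat_lit 39] (Cert.kw (nat_lit 2) (nat_lit 0) (nat_lit 2) (nat_lit 1) )))) (Cert.rep (nat_lit 120) [] [] [] (Cert.er (Cert.ro (nat_lit 0) [nat_lit 1,nat_lit 8,nat_lit 16] [nat_lit 8,nat_lit 9,nat_lit 16] [nat_lit 0,nat_lit 1,nat_lit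 92,nat_lit 93,nat_lit 10,nat_lit 11,nat_lit 87,nat_lit 86] (Cert.ro (nat_lit 1) [nat_lit 1,nat_lit 2,nat_lit 14,nat_lit 16] [nat_lit 1,nat_lit 14,nat_lit 12,nat_lit 16] [nat_lit 0,nat_lit 1,nat_lit 2,nat_lit 3,nat_lit 39,nat_lit 38,nat_lit 36,nat_lit 37,nat_lit 10,nat_lit 11,nat_lit 9,nat_lit 8,nat_lit 44,nat_lit 45,nat_lit 46,nat_lit 47] (Cert.kw (nat_lit 2) (nat_lit 0) (nat_lit 2) (nat_lit 1) )))) Cert.nil)) Cert.nil)))))))))) Cert.nil))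
noncomputable def f97 : Cert :=
  (Cert.st (nat_lit 0) (nat_lit 10) (nat_lit 0) (Cert.sp (nat_lit 1) (Cert.lf (Leaf.pt (nat_lit 9) (nat_lit 1) [nat_lit 10])) (Cert.sp (nat_lit 26) (Cert.lf (Leaf.pt (nat_lit 9) (nat_lit 26) [nat_lit 10])) (Cert.st (nat_lit 0) (nat_lit 26) (nat_lit 0) (Cert.sp (nat_lit 28) (Cert.lf (Leaf.pt (nat_lit 9) (nat_lit 28) [nat_lit 12])) (Cert.st (nat_lit 0) (nat_lit 28) (nat_lit 0) (Cert.sp (nat_lit 32) (Cert.lf (Leaf.pt (nat_lit 12) (nat_lit 32) [nat_lit 26,nat_lit 196])) (Cert.st (nat_lit 0) (nat_lit 32) (nat_lit 0) (Cert.sp (nat_lit 68) (Cert.lf (Leaf.pt (nat_lit 9) (nat_lit 68) [nat_lit 10])) (Cert.st (nat_lit 0) (nat_lit 68) (nat_lit 0) (Cert.sp (nat_lit 92) (Cert.lf (Leaf.pt (nat_lit 9) (nat_lit 92) [nat_lit 10])) (Cert.st (nat_lit 0) (nat_lit 92) (nat_lit 0) (Cert.sp (nat_lit 132)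 (Cert.lf (Leaf.pt (nat_lit 12) (nat_lit 132) [nat_lit 388,nat_lit 1028])) (Cert.st (nat_lit 0) (nat_lit 132) (nat_lit 0) (Cert.sp (nat_lit 256) (Cert.lf (Leaf.pt (nat_lit 13) (nat_lit 256) [nat_lit 68])) (Cert.st (nat_lit 0) (nat_lit 256) (nat_lit 0) (Cert.sp (nat_lit 584) (Cert.lf (Leaf.pt (nat_lit 12) (nat_lit 584) [nat_lit 282,nat_lit 1090])) (Cert.st (nat_lit 0) (nat_lit 584) (nat_lit 0) (Cert.sp (nat_lit 648) (Cert.lf (Leaf.pt (nat_lit 12) (nat_lit 648) [nat_lit 28,nat_lit 258])) (Cert.st (nat_lit 0) (nat_lit 648) (nat_lit 0) (Cert.sp (nat_lit 1152) (Cert.lf (Leaf.pt (nat_lit 18) (nat_lit 1152) [nat_lit 524,nat_lit 1])) (Cert.st (nat_lit 0) (nat_lit 1152) (nat_lit 0) (Cert.sp (nat_lit 1178) (Cert.lf (Leaf.pt (nat_lit 12) (nat_lit 1178) [nat_lit 26,nat_lit 650])) (Cert.st (nat_lit 0) (nat_lit 1178) (nat_lit 0)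 (Cert.sp (nat_lit 1672) (Cert.lf (Leaf.pt (nat_lit 12) (nat_lit 1672) [nat_lit 910,nat_lit 218])) (Cert.st (nat_lit 0) (nat_lit 1672) (nat_lit 0) (Cert.nl (nat_lit 1) (Cert.sy (nat_lit 0) (Cert.s2 (nat_lit 0) (nat_lit 68) (Cert.o1 (nat_lit 0) (nat_lit 68) (Cert.fu (nat_lit 10) (nat_lit 1) (nat_lit 0) (nat_lit 0) [] [nat_lit 68,nat_lit 1,nat_lit 16,nat_lit 32,nat_lit 256] [] [] [] [nat_lit 1] [[nat_lit 1]] [[nat_lit 68]] [Ins.fr [nat_lit 0],Ins.ts (nat_lit 3) [nat_lit 0] [],Ins.ts (nat_lit 4) [nat_lit 0] [nat_lit 0,nat_lit 0,nat_lit 0],Ins.ts (nat_lit 1) [nat_lit 0] [],Ins.fr [nat_lit 1],Ins.ts (nat_lit 3) [nat_lit 0] [],Ins.ts (nat_lit 0) [nat_lit 0,nat_lit 0] [],Ins.ts (nat_lit 1) [nat_lit 0] [],Ins.ts (nat_lit 1) [nat_lit 0,nat_lit 1] [],Ins.fr [nat_lit 2],Ins.ts (nat_lit 2) [nat_lit 0] [],Ins.ts (nat_lit 0) [nat_lit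 0,nat_lit 0] [],Ins.ts (nat_lit 0) [nat_lit 1,nat_lit 0] [nat_lit 0,nat_lit 1],Ins.ts (nat_lit 1) [nat_lit 0] [],Ins.ts (nat_lit 1) [nat_lit 0,nat_lit 3] [],Ins.ts (nat_lit 1) [nat_lit 0,nat_lit 2,nat_lit 3] [],Ins.ts (nat_lit 1) [nat_lit 0,nat_lit 1,nat_lit 3] [],Ins.ts (nat_lit 1) [nat_lit 0,nat_lit 1,nat_lit 2,nat_lit 3] [],Ins.fr [nat_lit 1,nat_lit 3],Ins.ts (nat_lit 0) [nat_lit 0,nat_lit 0] [],Ins.ts (nat_lit 0) [nat_lit 1,nat_lit 2,nat_lit 0] [nat_lit 0,nat_lit 1],Ins.fr [nat_lit 1],Ins.ts (nat_lit 0) [nat_lit 0,nat_lit 0] [],Ins.ts (nat_lit 0) [nat_lit 1,nat_lit 0] [nat_lit 0,nat_lit 1]] [] (Cert.rep (nat_lit 10) [] [nat_lit 68,nat_lit 36,nat_lit 16,nat_lit 8,nat_lit 2,nat_lit 1] [nat_lit 1024,nat_lit 512,nat_lit 256,nat_lit 128,nat_lit 4] (Cert.rep (nat_lit 1) [nat_lit 2,nat_lit 16,nat_lit 36,nat_lit 68]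 [] [] (Cert.rep (nat_lit 26) [nat_lit 2,nat_lit 68] [] [] (Cert.rep (nat_lit 76) [nat_lit 10] [] [] (Cert.rep (nat_lit 256) [] [] [] Cert.nil (Cert.rep (nat_lit 257) [] [] [] Cert.nil (Cert.rep (nat_lit 326) [] [] [] Cert.nil (Cert.rep (nat_lit 327) [] [] [] Cert.nil Cert.nil)))) (Cert.rep (nat_lit 78) [nat_lit 10] [] [] (Cert.rep (nat_lit 256) [] [] [] Cert.nil (Cert.rep (nat_lit 257) [] [] [] Cert.nil (Cert.rep (nat_lit 324) [] [] [] Cert.nil (Cert.rep (nat_lit 325) [] [] [] Cert.nil Cert.nil)))) (Cert.rep (nat_lit 84) [nat_lit 10] [] [] (Cert.rep (nat_lit 256) [] [] [] Cert.nil (Cert.rep (nat_lit 257) [] [] [] Cert.nil (Cert.rep (nat_lit 324) [] [] [] Cert.nil (Cert.rep (nat_lit 325) [] [] [] Cert.nil Cert.nil)))) (Cert.rep (nat_lit 86) [nat_lit 10] [] [] (Cert.rep (nat_lit 256) [] [] [] Cert.nil (Cert.rep (nat_lit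 257) [] [] [] Cert.nil (Cert.rep (nat_lit 326) [] [] [] Cert.nil (Cert.rep (nat_lit 327) [] [] [] Cert.nil Cert.nil)))) Cert.nil)))) (Cert.rep (nat_lit 60) [] [] [] Cert.nil (Cert.rep (nat_lit 68) [] [] [] (Cert.rep (nat_lit 16) [] [] [] Cert.nil (Cert.rep (nat_lit 17) [] [] [] Cert.nil (Cert.rep (nat_lit 84) [] [] [] Cert.nil (Cert.rep (nat_lit 85) [] [] [] Cert.nil Cert.nil)))) (Cert.rep (nat_lit 92) [] [] [] (Cert.rep (nat_lit 16) [nat_lit 10] [] [] (Cert.rep (nat_lit 1185) [] [] [] Cert.nil (Cert.rep (nat_lit 1184) [] [] [] Cert.nil (Cert.rep (nat_lit 1211) [] [] [] Cert.nil (Cert.rep (nat_lit 1210) [] [] [] Cert.nil Cert.nil)))) (Cert.rep (nat_lit 17) [nat_lit 10] [] [] (Cert.rep (nat_lit 1185) [] [] [] Cert.nil (Cert.rep (nat_lit 1184) [] [] [] Cert.nil (Cert.rep (nat_lit 1211) [] [] [] Cert.nil (Cert.rep (nat_lit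 1210) [] [] [] Cert.nil Cert.nil)))) (Cert.rep (nat_lit 76) [nat_lit 10] [] [] (Cert.rep (nat_lit 1185) [] [] [] Cert.nil (Cert.rep (nat_lit 1184) [] [] [] Cert.nil (Cert.rep (nat_lit 1211) [] [] [] Cert.nil (Cert.rep (nat_lit 1210) [] [] [] Cert.nil Cert.nil)))) (Cert.rep (nat_lit 77) [nat_lit 10] [] [] (Cert.rep (nat_lit 1185) [] [] [] Cert.nil (Cert.rep (nat_lit 1184) [] [] [] Cert.nil (Cert.rep (nat_lit 1211) [] [] [] Cert.nil (Cert.rep (nat_lit 1210) [] [] [] Cert.nil Cert.nil)))) Cert.nil)))) Cert.nil)))) Cert.nil) Cert.nil))) f97_0)))))))))))))))))))))))))))))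
theorem fin97 : finOK DB PT 88 t88 97 t97 (nat_lit 0xf0000000f00000f0000000f0000000f0000000f000000000f0000000f0000000000000000000000000000000000000000000000000000000000000000000c0000030c000003300000c0300000c0300000c0300000c00c0000030c0000030000000000000000000000000000000000000000000000000000c3000000c30000c0030000c0030000000000000000000000000000000000003003000030030000003300000033000000000000000000f0000000f0000000f00c0cf0f00303f0f00000f0f00000f00c0000030c0000030000000000000000f00000f0f00000f0f00000f0f0f0f0f0fcfc0303fc03fc03) f97 = true := by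
  decide +kernel
noncomputable def f99_0 : Cert :=
  Cert.s2 (nat_lit 0) (nat_lit 92) (Cert.o1 (nat_lit 0) (nat_lit 92) (Cert.fu (nat_lit 10) (nat_lit 1) (nat_lit 0) (nat_lit 0) [] [nat_lit 92,nat_lit 1,nat_lit 16,nat_lit 32] [] [] [] [nat_lit 1] [[nat_lit 1]] [[nat_lit 92]] [Ins.fr [nat_lit 0],Ins.ts (nat_lit 3) [nat_lit 0] [],Ins.ts (nat_lit 4) [nat_lit 0] [nat_lit 0,nat_lit 0,nat_lit 0],Ins.ts (nat_lit 1) [nat_lit 0] [],Ins.fr [nat_lit 1],Ins.ts (nat_lit 3) [nat_lit 0] [],Ins.ts (nat_lit 0) [nat_lit 0,nat_lit 0] [],Ins.ts (nat_lit 1) [nat_lit 0] [],Ins.ts (nat_lit 4) [nat_lit 0] [nat_lit 0,nat_lit 0,nat_lit 1],Ins.ts (nat_lit 1) [nat_lit 0,nat_lit 1] [],Ins.fr [nat_lit 2],Ins.ts (nat_lit 2) [nat_lit 0] [],Ins.ts (nat_lit 0) [nat_lit 0,nat_lit 0] [],Ins.ts (nat_lit 0) [nat_lit 1,nat_lit 0] [nat_lit 0,nat_lit 1],Ins.ts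 (nat_lit 1) [nat_lit 0] [],Ins.ts (nat_lit 4) [nat_lit 0,nat_lit 2,nat_lit 3] [nat_lit 0,nat_lit 0,nat_lit 2],Ins.ts (nat_lit 4) [nat_lit 0,nat_lit 1,nat_lit 2,nat_lit 3] [nat_lit 0,nat_lit 0,nat_lit 2],Ins.ts (nat_lit 1) [nat_lit 0,nat_lit 2,nat_lit 3] [],Ins.ts (nat_lit 1) [nat_lit 0,nat_lit 1,nat_lit 2,nat_lit 3] [],Ins.fr [nat_lit 1,nat_lit 3],Ins.ts (nat_lit 0) [nat_lit 0,nat_lit 0] []] [(nat_lit 2,nat_lit 0),(nat_lit 3,nat_lit 0)] (Cert.rep (nat_lit 10) [] [nat_lit 68,nat_lit 36,nat_lit 16,nat_lit 8,nat_lit 2,nat_lit 1] [nat_lit 1024,nat_lit 512,nat_lit 256,nat_lit 128,nat_lit 4] (Cert.rep (nat_lit 1) [nat_lit 2,nat_lit 16,nat_lit 36,nat_lit 68] [] [] (Cert.rep (nat_lit 26) [] [] [] Cert.nil (Cert.rep (nat_lit 60) [] [] [] Cert.nil (Cert.rep (nat_lit 92) [] [] [] (Cert.rep (nat_lit 16) [] [] [] Cert.nil (Cert.rep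 (nat_lit 17) [] [] [] Cert.nil (Cert.rep (nat_lit 76) [] [] [] Cert.nil (Cert.rep (nat_lit 77) [] [] [] Cert.nil Cert.nil)))) Cert.nil))) Cert.nil) Cert.nil))) (Cert.root (nat_lit 32) [] [nat_lit 8,nat_lit 4] [nat_lit 0,nat_lit 1,nat_lit 2,nat_lit 3,nat_lit 4] [Ins.fr [nat_lit 0],Ins.ts (nat_lit 0) [nat_lit 0,nat_lit 0] [],Ins.ts (nat_lit 1) [nat_lit 0] [],Ins.ts (nat_lit 1) [nat_lit 0,nat_lit 1] [],Ins.fr [nat_lit 1],Ins.ts (nat_lit 1) [nat_lit 0,nat_lit 0] [],Ins.ts (nat_lit 0) [nat_lit 1,nat_lit 0,nat_lit 1] [nat_lit 0,nat_lit 0,nat_lit 0],Ins.ts (nat_lit 1) [nat_lit 0,nat_lit 0,nat_lit 0,nat_lit 0] [],Ins.df [nat_lit 0,nat_lit 0],Ins.df [nat_lit 0,nat_lit 0]] (Cert.rep (nat_lit 10) [nat_lit 2,nat_lit 16,nat_lit 36,nat_lit 68] [nat_lit 68,nat_lit 36,nat_lit 16,nat_lit 8,nat_lit 2,nat_lit 1] [nat_lit 1024,nat_lit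 512,nat_lit 256,nat_lit 128,nat_lit 4] (Cert.rep (nat_lit 1) [] [] [] Cert.nil (Cert.rep (nat_lit 11) [] [] [] Cert.nil (Cert.rep (nat_lit 16) [] [] [] Cert.nil (Cert.rep (nat_lit 26) [] [] [] Cert.nil (Cert.rep (nat_lit 52) [] [] [] Cert.nil (Cert.rep (nat_lit 60) [] [] [] Cert.nil (Cert.rep (nat_lit 68) [nat_lit 16,nat_lit 68] [] [] (Cert.rep (nat_lit 96) [] [] [] (Cert.er (Cert.ro (nat_lit 0) [nat_lit 1,nat_lit 8,nat_lit 16] [nat_lit 8,nat_lit 9,nat_lit 16] [nat_lit 0,nat_lit 1,nat_lit 68,nat_lit 69,nat_lit 10,nat_lit 11,nat_lit 78,nat_lit 79] (Cert.ro (nat_lit 1) [nat_lit 1,nat_lit 2,nat_lit 14,nat_lit 16] [nat_lit 1,nat_lit 14,nat_lit 12,nat_lit 16] [nat_lit 0,nat_lit 1,nat_lit 2,nat_lit 3,nat_lit 39,nat_lit 38,nat_lit 36,nat_lit 37,nat_lit 10,nat_lit 11,nat_lit 9,nat_lit 8,nat_lit 44,nat_lit 45,nat_lit 46,nat_lit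 47] (Cert.kw (nat_lit 2) (nat_lit 0) (nat_lit 2) (nat_lit 1) )))) (Cert.rep (nat_lit 104) [] [] [] (Cert.er (Cert.ro (nat_lit 0) [nat_lit 1,nat_lit 8,nat_lit 16] [nat_lit 8,nat_lit 9,nat_lit 16] [nat_lit 0,nat_lit 1,nat_lit 68,nat_lit 69,nat_lit 10,nat_lit 11,nat_lit 78,nat_lit 79] (Cert.ro (nat_lit 1) [nat_lit 1,nat_lit 2,nat_lit 14,nat_lit 16] [nat_lit 1,nat_lit 14,nat_lit 12,nat_lit 16] [nat_lit 0,nat_lit 1,nat_lit 3,nat_lit 2,nat_lit 46,nat_lit 47,nat_lit 44,nat_lit 45,nat_lit 10,nat_lit 11,nat_lit 8,nat_lit 9,nat_lit 36,nat_lit 37,nat_lit 39,nat_lit 38] (Cert.kw (nat_lit 2) (nat_lit 0) (nat_lit 2) (nat_lit 1) )))) Cert.nil)) (Cert.rep (nat_lit 76) [nat_lit 16,nat_lit 70] [] [] (Cert.rep (nat_lit 96) [] [] [] (Cert.er (Cert.ro (nat_lit 0) [nat_lit 1,nat_lit 8,nat_lit 16] [nat_lit 8,nat_lit 9,nat_lit 16] [nat_lit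 0,nat_lit 1,nat_lit 76,nat_lit 77,nat_lit 10,nat_lit 11,nat_lit 71,nat_lit 70] (Cert.ro (nat_lit 1) [nat_lit 1,nat_lit 2,nat_lit 14,nat_lit 16] [nat_lit 1,nat_lit 14,nat_lit 12,nat_lit 16] [nat_lit 0,nat_lit 1,nat_lit 2,nat_lit 3,nat_lit 47,nat_lit 46,nat_lit 44,nat_lit 45,nat_lit 10,nat_lit 11,nat_lit 9,nat_lit 8,nat_lit 37,nat_lit 36,nat_lit 39,nat_lit 38] (Cert.lf (Leaf.st (nat_lit 2) (nat_lit 1) (nat_lit 1) (Leaf.cf (nat_lit 1))))))) (Cert.rep (nat_lit 104) [] [] [] (Cert.er (Cert.ro (nat_lit 0) [nat_lit 1,nat_lit 8,nat_lit 16] [nat_lit 8,nat_lit 9,nat_lit 16] [nat_lit 0,nat_lit 1,nat_lit 76,nat_lit 77,nat_lit 10,nat_lit 11,nat_lit 71,nat_lit 70] (Cert.ro (nat_lit 1) [nat_lit 1,nat_lit 2,nat_lit 14,nat_lit 16] [nat_lit 1,nat_lit 14,nat_lit 12,nat_lit 16] [nat_lit 0,nat_lit 1,nat_lit 3,nat_lit 2,nat_lit 39,nat_lit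 38,nat_lit 37,nat_lit 36,nat_lit 10,nat_lit 11,nat_lit 8,nat_lit 9,nat_lit 44,nat_lit 45,nat_lit 47,nat_lit 46] (Cert.lf (Leaf.st (nat_lit 2) (nat_lit 1) (nat_lit 1) (Leaf.cf (nat_lit 1))))))) Cert.nil)) (Cert.rep (nat_lit 84) [nat_lit 16,nat_lit 68] [] [] (Cert.rep (nat_lit 112) [] [] [] (Cert.er (Cert.ro (nat_lit 0) [nat_lit 1,nat_lit 8,nat_lit 16] [nat_lit 8,nat_lit 9,nat_lit 16] [nat_lit 0,nat_lit 1,nat_lit 84,nat_lit 85,nat_lit 10,nat_lit 11,nat_lit 94,nat_lit 95] (Cert.ro (nat_lit 1) [nat_lit 1,nat_lit 2,nat_lit 14,nat_lit 16] [nat_lit 1,nat_lit 14,nat_lit 12,nat_lit 16] [nat_lit 0,nat_lit 1,nat_lit 3,nat_lit 2,nat_lit 39,nat_lit 38,nat_lit 37,nat_lit 36,nat_lit 10,nat_lit 11,nat_lit 8,nat_lit 9,nat_lit 44,nat_lit 45,nat_lit 47,nat_lit 46] (Cert.lf (Leaf.st (nat_lit 2) (nat_lit 1) (nat_lit 1) (Leaf.cf (nat_lit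 1))))))) (Cert.rep (nat_lit 120) [] [] [] (Cert.er (Cert.ro (nat_lit 0) [nat_lit 1,nat_lit 8,nat_lit 16] [nat_lit 8,nat_lit 9,nat_lit 16] [nat_lit 0,nat_lit 1,nat_lit 84,nat_lit 85,nat_lit 10,nat_lit 11,nat_lit 94,nat_lit 95] (Cert.ro (nat_lit 1) [nat_lit 1,nat_lit 2,nat_lit 14,nat_lit 16] [nat_lit 1,nat_lit 14,nat_lit 12,nat_lit 16] [nat_lit 0,nat_lit 1,nat_lit 2,nat_lit 3,nat_lit 46,nat_lit 47,nat_lit 45,nat_lit 44,nat_lit 10,nat_lit 11,nat_lit 9,nat_lit 8,nat_lit 36,nat_lit 37,nat_lit 38,nat_lit 39] (Cert.lf (Leaf.st (nat_lit 2) (nat_lit 1) (nat_lit 1) (Leaf.cf (nat_lit 1))))))) Cert.nil)) (Cert.rep (nat_lit 92) [nat_lit 16,nat_lit 70] [] [] (Cert.rep (nat_lit 112) [] [] [] (Cert.er (Cert.ro (nat_lit 0) [nat_lit 1,nat_lit 8,nat_lit 16] [nat_lit 8,nat_lit 9,nat_lit 16] [nat_lit 0,nat_lit 1,nat_lit 92,nat_lit 93,nat_lit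 10,nat_lit 11,nat_lit 87,nat_lit 86] (Cert.ro (nat_lit 1) [nat_lit 1,nat_lit 2,nat_lit 14,nat_lit 16] [nat_lit 1,nat_lit 14,nat_lit 12,nat_lit 16] [nat_lit 0,nat_lit 1,nat_lit 3,nat_lit 2,nat_lit 47,nat_lit 46,nat_lit 45,nat_lit 44,nat_lit 10,nat_lit 11,nat_lit 8,nat_lit 9,nat_lit 37,nat_lit 36,nat_lit 38,nat_lit 39] (Cert.kw (nat_lit 2) (nat_lit 0) (nat_lit 2) (nat_lit 1) )))) (Cert.rep (nat_lit 120) [] [] [] (Cert.er (Cert.ro (nat_lit 0) [nat_lit 1,nat_lit 8,nat_lit 16] [nat_lit 8,nat_lit 9,nat_lit 16] [nat_lit 0,nat_lit 1,nat_lit 92,nat_lit 93,nat_lit 10,nat_lit 11,nat_lit 87,nat_lit 86] (Cert.ro (nat_lit 1) [nat_lit 1,nat_lit 2,nat_lit 14,nat_lit 16] [nat_lit 1,nat_lit 14,nat_lit 12,nat_lit 16] [nat_lit 0,nat_lit 1,nat_lit 2,nat_lit 3,nat_lit 39,nat_lit 38,nat_lit 36,nat_lit 37,nat_lit 10,nat_lit 11,nat_lit 9,nat_lit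 8,nat_lit 44,nat_lit 45,nat_lit 46,nat_lit 47] (Cert.kw (nat_lit 2) (nat_lit 0) (nat_lit 2) (nat_lit 1) )))) Cert.nil)) Cert.nil)))))))))) Cert.nil))
noncomputable def f99 : Cert :=
  (Cert.st (nat_lit 0) (nat_lit 10) (nat_lit 0) (Cert.sp (nat_lit 1) (Cert.lf (Leaf.pt (nat_lit 9) (nat_lit 1) [nat_lit 10])) (Cert.sp (nat_lit 26) (Cert.lf (Leaf.pt (nat_lit 9) (nat_lit 26) [nat_lit 10])) (Cert.st (nat_lit 0) (nat_lit 26) (nat_lit 0) (Cert.sp (nat_lit 28) (Cert.lf (Leaf.pt (nat_lit 9) (nat_lit 28) [nat_lit 12])) (Cert.st (nat_lit 0) (nat_lit 28) (nat_lit 0) (Cert.sp (nat_lit 32) (Cert.lf (Leaf.pt (nat_lit 12) (nat_lit 32) [nat_lit 26,nat_lit 196])) (Cert.st (nat_lit 0) (nat_lit 32) (nat_lit 0) (Cert.sp (nat_lit 68) (Cert.lf (Leaf.pt (nat_lit 9) (nat_lit 68) [nat_lit 10])) (Cert.st (nat_lit 0) (nat_lit 68) (nat_lit 0)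 (Cert.sp (nat_lit 92) (Cert.lf (Leaf.pt (nat_lit 9) (nat_lit 92) [nat_lit 10])) (Cert.st (nat_lit 0) (nat_lit 92) (nat_lit 0) (Cert.sp (nat_lit 132) (Cert.lf (Leaf.pt (nat_lit 23) (nat_lit 132) [nat_lit 26,nat_lit 1030,nat_lit 32])) (Cert.st (nat_lit 0) (nat_lit 132) (nat_lit 0) (Cert.sp (nat_lit 256) (Cert.lf (Leaf.pt (nat_lit 13) (nat_lit 256) [nat_lit 68])) (Cert.st (nat_lit 0) (nat_lit 256) (nat_lit 0) (Cert.sp (nat_lit 257) (Cert.lf (Leaf.pt (nat_lit 13) (nat_lit 257) [nat_lit 1])) (Cert.st (nat_lit 0) (nat_lit 257) (nat_lit 0) (Cert.sp (nat_lit 584) (Cert.lf (Leaf.pt (nat_lit 19) (nat_lit 584) [nat_lit 24,nat_lit 192])) (Cert.st (nat_lit 0) (nat_lit 584) (nat_lit 0) (Cert.sp (nat_lit 648) (Cert.lf (Leaf.pt (nat_lit 12) (nat_lit 648) [nat_lit 28,nat_lit 258])) (Cert.st (nat_lit 0) (nat_lit 648) (nat_lit 0) (Cert.sp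 (nat_lit 649) (Cert.lf (Leaf.pt (nat_lit 12) (nat_lit 649) [nat_lit 28,nat_lit 258])) (Cert.st (nat_lit 0) (nat_lit 649) (nat_lit 0) (Cert.nl (nat_lit 1) (Cert.sy (nat_lit 0) (Cert.s2 (nat_lit 0) (nat_lit 68) (Cert.o1 (nat_lit 0) (nat_lit 68) (Cert.fu (nat_lit 10) (nat_lit 1) (nat_lit 0) (nat_lit 0) [] [nat_lit 68,nat_lit 1,nat_lit 16,nat_lit 32,nat_lit 256] [] [] [] [nat_lit 1] [[nat_lit 1]] [[nat_lit 68]] [Ins.fr [nat_lit 0],Ins.ts (nat_lit 3) [nat_lit 0] [],Ins.ts (nat_lit 4) [nat_lit 0] [nat_lit 0,nat_lit 0,nat_lit 0],Ins.ts (nat_lit 1) [nat_lit 0] [],Ins.fr [nat_lit 1],Ins.ts (nat_lit 3) [nat_lit 0] [],Ins.ts (nat_lit 0) [nat_lit 0,nat_lit 0] [],Ins.ts (nat_lit 1) [nat_lit 0] [],Ins.ts (nat_lit 1) [nat_lit 0,nat_lit 1] [],Ins.fr [nat_lit 2],Ins.ts (nat_lit 2) [nat_lit 0] [],Ins.ts (nat_lit 0) [nat_lit 0,nat_lit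 0] [],Ins.ts (nat_lit 0) [nat_lit 1,nat_lit 0] [nat_lit 0,nat_lit 1],Ins.ts (nat_lit 1) [nat_lit 0] [],Ins.ts (nat_lit 1) [nat_lit 0,nat_lit 3] [],Ins.ts (nat_lit 1) [nat_lit 0,nat_lit 2,nat_lit 3] [],Ins.ts (nat_lit 1) [nat_lit 0,nat_lit 1,nat_lit 3] [],Ins.ts (nat_lit 1) [nat_lit 0,nat_lit 1,nat_lit 2,nat_lit 3] [],Ins.fr [nat_lit 1,nat_lit 3],Ins.ts (nat_lit 0) [nat_lit 0,nat_lit 0] [],Ins.ts (nat_lit 0) [nat_lit 1,nat_lit 2,nat_lit 0] [nat_lit 0,nat_lit 1],Ins.fr [nat_lit 1],Ins.ts (nat_lit 0) [nat_lit 0,nat_lit 0] []] [] (Cert.rep (nat_lit 10) [] [nat_lit 68,nat_lit 36,nat_lit 16,nat_lit 8,nat_lit 2,nat_lit 1] [nat_lit 1024,nat_lit 512,nat_lit 256,nat_lit 128,nat_lit 4] (Cert.rep (nat_lit 1) [nat_lit 2,nat_lit 16,nat_lit 36,nat_lit 68] [] [] (Cert.rep (nat_lit 26) [nat_lit 2,nat_lit 68] [] [] (Cert.rep (nat_lit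 76) [nat_lit 10] [] [] (Cert.rep (nat_lit 256) [] [] [] Cert.nil (Cert.rep (nat_lit 257) [] [] [] Cert.nil (Cert.rep (nat_lit 326) [] [] [] Cert.nil (Cert.rep (nat_lit 327) [] [] [] Cert.nil Cert.nil)))) (Cert.rep (nat_lit 78) [nat_lit 10] [] [] (Cert.rep (nat_lit 256) [] [] [] Cert.nil (Cert.rep (nat_lit 257) [] [] [] Cert.nil (Cert.rep (nat_lit 324) [] [] [] Cert.nil (Cert.rep (nat_lit 325) [] [] [] Cert.nil Cert.nil)))) (Cert.rep (nat_lit 84) [nat_lit 10] [] [] (Cert.rep (nat_lit 256) [] [] [] Cert.nil (Cert.rep (nat_lit 257) [] [] [] Cert.nil (Cert.rep (nat_lit 324) [] [] [] Cert.nil (Cert.rep (nat_lit 325) [] [] [] Cert.nil Cert.nil)))) (Cert.rep (nat_lit 86) [nat_lit 10] [] [] (Cert.rep (nat_lit 256) [] [] [] Cert.nil (Cert.rep (nat_lit 257) [] [] [] Cert.nil (Cert.rep (nat_lit 326) [] [] [] Cert.nil (Cert.rep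 (nat_lit 327) [] [] [] Cert.nil Cert.nil)))) Cert.nil)))) (Cert.rep (nat_lit 60) [] [] [] Cert.nil (Cert.rep (nat_lit 68) [] [] [] (Cert.rep (nat_lit 16) [] [] [] Cert.nil (Cert.rep (nat_lit 17) [] [] [] Cert.nil (Cert.rep (nat_lit 84) [] [] [] Cert.nil (Cert.rep (nat_lit 85) [] [] [] Cert.nil Cert.nil)))) (Cert.rep (nat_lit 92) [] [] [] (Cert.rep (nat_lit 16) [] [] [] Cert.nil (Cert.rep (nat_lit 17) [] [] [] Cert.nil (Cert.rep (nat_lit 76) [] [] [] Cert.nil (Cert.rep (nat_lit 77) [] [] [] Cert.nil Cert.nil)))) Cert.nil)))) Cert.nil) Cert.nil))) f99_0)))))))))))))))))))))))))))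
theorem fin99 : finOK DB PT 88 t88 99 t99 (nat_lit 0xc3000000c30000c0030000c0030000000000000000000000000000000000003003000030030000003300000033000000000000000000f0000000f0000000f00c0cf0f00303f0f00000f0f00000f00c0000030c0000030000000000000000f00000f0f00000f0f00000f0f0f0f0f0fcfc0303fc03fc03) f99 = true := by
  decide +kernel
noncomputable def f118_0 : Cert :=
  Cert.s2 (nat_lit 0) (nat_lit 68) (Cert.o1 (nat_lit 0) (nat_lit 68) (Cert.fu (nat_lit 10) (nat_lit 1) (nat_lit 0) (nat_lit 0) [] [nat_lit 68,nat_lit 1,nat_lit 16,nat_lit 32,nat_lit 256] [] [] [] [nat_lit 1] [[nat_lit 1]] [[nat_lit 68]] [Ins.fr [nat_lit 0],Ins.ts (nat_lit 3) [nat_lit 0] [],Ins.ts (nat_lit 4) [nat_lit 0] [nat_lit 0,nat_lit 0,nat_lit 0],Ins.ts (nat_lit 1) [nat_lit 0] [],Ins.fr [nat_lit 1],Ins.ts (nat_lit 3) [nat_lit 0] [],Ins.ts (nat_lit 0) [nat_lit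 0,nat_lit 0] [],Ins.ts (nat_lit 1) [nat_lit 0] [],Ins.ts (nat_lit 1) [nat_lit 0,nat_lit 1] [],Ins.fr [nat_lit 2],Ins.ts (nat_lit 2) [nat_lit 0] [],Ins.ts (nat_lit 0) [nat_lit 0,nat_lit 0] [],Ins.ts (nat_lit 0) [nat_lit 1,nat_lit 0] [nat_lit 0,nat_lit 1],Ins.ts (nat_lit 1) [nat_lit 0] [],Ins.ts (nat_lit 1) [nat_lit 0,nat_lit 3] [],Ins.ts (nat_lit 1) [nat_lit 0,nat_lit 2,nat_lit 3] [],Ins.ts (nat_lit 1) [nat_lit 0,nat_lit 1,nat_lit 3] [],Ins.ts (nat_lit 1) [nat_lit 0,nat_lit 1,nat_lit 2,nat_lit 3] [],Ins.fr [nat_lit 1,nat_lit 3],Ins.ts (nat_lit 0) [nat_lit 0,nat_lit 0] [],Ins.ts (nat_lit 0) [nat_lit 1,nat_lit 2,nat_lit 0] [nat_lit 0,nat_lit 1],Ins.fr [nat_lit 1],Ins.ts (nat_lit 0) [nat_lit 0,nat_lit 0] []] [] (Cert.rep (nat_lit 10) [] [nat_lit 68,nat_lit 36,nat_lit 16,nat_lit 8,nat_lit 2,nat_lit 1] [nat_lit 1024,nat_lit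 512,nat_lit 256,nat_lit 128,nat_lit 4] (Cert.rep (nat_lit 1) [nat_lit 2,nat_lit 16,nat_lit 36,nat_lit 68] [] [] (Cert.rep (nat_lit 26) [nat_lit 2,nat_lit 68] [] [] (Cert.rep (nat_lit 76) [nat_lit 10] [] [] (Cert.rep (nat_lit 256) [] [] [] Cert.nil (Cert.rep (nat_lit 257) [] [] [] Cert.nil (Cert.rep (nat_lit 326) [] [] [] Cert.nil (Cert.rep (nat_lit 327) [] [] [] Cert.nil Cert.nil)))) (Cert.rep (nat_lit 78) [nat_lit 10] [] [] (Cert.rep (nat_lit 256) [] [] [] Cert.nil (Cert.rep (nat_lit 257) [] [] [] Cert.nil (Cert.rep (nat_lit 324) [] [] [] Cert.nil (Cert.rep (nat_lit 325) [] [] [] Cert.nil Cert.nil)))) (Cert.rep (nat_lit 84) [nat_lit 10] [] [] (Cert.rep (nat_lit 256) [] [] [] Cert.nil (Cert.rep (nat_lit 257) [] [] [] Cert.nil (Cert.rep (nat_lit 324) [] [] [] Cert.nil (Cert.rep (nat_lit 325) [] [] [] Cert.nil Cert.nil))))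 (Cert.rep (nat_lit 86) [nat_lit 10] [] [] (Cert.rep (nat_lit 256) [] [] [] Cert.nil (Cert.rep (nat_lit 257) [] [] [] Cert.nil (Cert.rep (nat_lit 326) [] [] [] Cert.nil (Cert.rep (nat_lit 327) [] [] [] Cert.nil Cert.nil)))) Cert.nil)))) (Cert.rep (nat_lit 60) [] [] [] Cert.nil (Cert.rep (nat_lit 68) [] [] [] (Cert.rep (nat_lit 16) [] [] [] Cert.nil (Cert.rep (nat_lit 17) [] [] [] Cert.nil (Cert.rep (nat_lit 84) [] [] [] Cert.nil (Cert.rep (nat_lit 85) [] [] [] Cert.nil Cert.nil)))) (Cert.rep (nat_lit 92) [] [] [] (Cert.rep (nat_lit 16) [] [] [] Cert.nil (Cert.rep (nat_lit 17) [] [] [] Cert.nil (Cert.rep (nat_lit 76) [] [] [] Cert.nil (Cert.rep (nat_lit 77) [] [] [] Cert.nil Cert.nil)))) Cert.nil)))) Cert.nil) Cert.nil))) (Cert.root (nat_lit 32) [] [nat_lit 8,nat_lit 4] [nat_lit 0,nat_lit 1,nat_lit 2,nat_lit 3,nat_lit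 4] [Ins.fr [nat_lit 0],Ins.ts (nat_lit 0) [nat_lit 0,nat_lit 0] [],Ins.ts (nat_lit 1) [nat_lit 0] [],Ins.ts (nat_lit 1) [nat_lit 0,nat_lit 1] [],Ins.fr [nat_lit 1],Ins.ts (nat_lit 1) [nat_lit 0,nat_lit 0] [],Ins.ts (nat_lit 0) [nat_lit 1,nat_lit 0,nat_lit 1] [nat_lit 0,nat_lit 0,nat_lit 0],Ins.ts (nat_lit 1) [nat_lit 0,nat_lit 0,nat_lit 0,nat_lit 0] [],Ins.df [nat_lit 0,nat_lit 0],Ins.df [nat_lit 0,nat_lit 0]] (Cert.rep (nat_lit 10) [nat_lit 2,nat_lit 16,nat_lit 36,nat_lit 68] [nat_lit 68,nat_lit 36,nat_lit 16,nat_lit 8,nat_lit 2,nat_lit 1] [nat_lit 1024,nat_lit 512,nat_lit 256,nat_lit 128,nat_lit 4] (Cert.rep (nat_lit 1) [] [] [] Cert.nil (Cert.rep (nat_lit 11) [] [] [] Cert.nil (Cert.rep (nat_lit 16) [] [] [] Cert.nil (Cert.rep (nat_lit 26) [] [] [] Cert.nil (Cert.rep (nat_lit 52) [] [] [] Cert.nil (Cert.rep (nat_lit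 60) [] [] [] Cert.nil (Cert.rep (nat_lit 68) [nat_lit 16,nat_lit 68] [] [] (Cert.rep (nat_lit 96) [] [] [] (Cert.er (Cert.ro (nat_lit 0) [nat_lit 1,nat_lit 8,nat_lit 16] [nat_lit 8,nat_lit 9,nat_lit 16] [nat_lit 0,nat_lit 1,nat_lit 68,nat_lit 69,nat_lit 10,nat_lit 11,nat_lit 78,nat_lit 79] (Cert.ro (nat_lit 1) [nat_lit 1,nat_lit 2,nat_lit 14,nat_lit 16] [nat_lit 1,nat_lit 14,nat_lit 12,nat_lit 16] [nat_lit 0,nat_lit 1,nat_lit 2,nat_lit 3,nat_lit 39,nat_lit 38,nat_lit 36,nat_lit 37,nat_lit 10,nat_lit 11,nat_lit 9,nat_lit 8,nat_lit 44,nat_lit 45,nat_lit 46,nat_lit 47] (Cert.kw (nat_lit 2) (nat_lit 0) (nat_lit 2) (nat_lit 1) )))) (Cert.rep (nat_lit 104) [] [] [] (Cert.er (Cert.ro (nat_lit 0) [nat_lit 1,nat_lit 8,nat_lit 16] [nat_lit 8,nat_lit 9,nat_lit 16] [nat_lit 0,nat_lit 1,nat_lit 68,nat_lit 69,nat_lit 10,nat_lit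 11,nat_lit 78,nat_lit 79] (Cert.ro (nat_lit 1) [nat_lit 1,nat_lit 2,nat_lit 14,nat_lit 16] [nat_lit 1,nat_lit 14,nat_lit 12,nat_lit 16] [nat_lit 0,nat_lit 1,nat_lit 3,nat_lit 2,nat_lit 46,nat_lit 47,nat_lit 44,nat_lit 45,nat_lit 10,nat_lit 11,nat_lit 8,nat_lit 9,nat_lit 36,nat_lit 37,nat_lit 39,nat_lit 38] (Cert.kw (nat_lit 2) (nat_lit 0) (nat_lit 2) (nat_lit 1) )))) Cert.nil)) (Cert.rep (nat_lit 76) [nat_lit 16,nat_lit 70] [] [] (Cert.rep (nat_lit 96) [] [] [] (Cert.er (Cert.ro (nat_lit 0) [nat_lit 1,nat_lit 8,nat_lit 16] [nat_lit 8,nat_lit 9,nat_lit 16] [nat_lit 0,nat_lit 1,nat_lit 76,nat_lit 77,nat_lit 10,nat_lit 11,nat_lit 71,nat_lit 70] (Cert.ro (nat_lit 1) [nat_lit 1,nat_lit 2,nat_lit 14,nat_lit 16] [nat_lit 1,nat_lit 14,nat_lit 12,nat_lit 16] [nat_lit 0,nat_lit 1,nat_lit 2,nat_lit 3,nat_lit 47,nat_lit 46,nat_lit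 44,nat_lit 45,nat_lit 10,nat_lit 11,nat_lit 9,nat_lit 8,nat_lit 37,nat_lit 36,nat_lit 39,nat_lit 38] (Cert.lf (Leaf.st (nat_lit 2) (nat_lit 1) (nat_lit 1) (Leaf.cf (nat_lit 1))))))) (Cert.rep (nat_lit 104) [] [] [] (Cert.er (Cert.ro (nat_lit 0) [nat_lit 1,nat_lit 8,nat_lit 16] [nat_lit 8,nat_lit 9,nat_lit 16] [nat_lit 0,nat_lit 1,nat_lit 76,nat_lit 77,nat_lit 10,nat_lit 11,nat_lit 71,nat_lit 70] (Cert.ro (nat_lit 1) [nat_lit 1,nat_lit 2,nat_lit 14,nat_lit 16] [nat_lit 1,nat_lit 14,nat_lit 12,nat_lit 16] [nat_lit 0,nat_lit 1,nat_lit 3,nat_lit 2,nat_lit 39,nat_lit 38,nat_lit 37,nat_lit 36,nat_lit 10,nat_lit 11,nat_lit 8,nat_lit 9,nat_lit 44,nat_lit 45,nat_lit 47,nat_lit 46] (Cert.lf (Leaf.st (nat_lit 2) (nat_lit 1) (nat_lit 1) (Leaf.cf (nat_lit 1))))))) Cert.nil)) (Cert.rep (nat_lit 84) [nat_lit 16,nat_lit 68] [] []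 (Cert.rep (nat_lit 112) [] [] [] (Cert.er (Cert.ro (nat_lit 0) [nat_lit 1,nat_lit 8,nat_lit 16] [nat_lit 8,nat_lit 9,nat_lit 16] [nat_lit 0,nat_lit 1,nat_lit 84,nat_lit 85,nat_lit 10,nat_lit 11,nat_lit 94,nat_lit 95] (Cert.ro (nat_lit 1) [nat_lit 1,nat_lit 2,nat_lit 14,nat_lit 16] [nat_lit 1,nat_lit 14,nat_lit 12,nat_lit 16] [nat_lit 0,nat_lit 1,nat_lit 3,nat_lit 2,nat_lit 39,nat_lit 38,nat_lit 37,nat_lit 36,nat_lit 10,nat_lit 11,nat_lit 8,nat_lit 9,nat_lit 44,nat_lit 45,nat_lit 47,nat_lit 46] (Cert.lf (Leaf.st (nat_lit 2) (nat_lit 1) (nat_lit 1) (Leaf.cf (nat_lit 1))))))) (Cert.rep (nat_lit 120) [] [] [] (Cert.er (Cert.ro (nat_lit 0) [nat_lit 1,nat_lit 8,nat_lit 16] [nat_lit 8,nat_lit 9,nat_lit 16] [nat_lit 0,nat_lit 1,nat_lit 84,nat_lit 85,nat_lit 10,nat_lit 11,nat_lit 94,nat_lit 95] (Cert.ro (nat_lit 1) [nat_lit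 1,nat_lit 2,nat_lit 14,nat_lit 16] [nat_lit 1,nat_lit 14,nat_lit 12,nat_lit 16] [nat_lit 0,nat_lit 1,nat_lit 2,nat_lit 3,nat_lit 46,nat_lit 47,nat_lit 45,nat_lit 44,nat_lit 10,nat_lit 11,nat_lit 9,nat_lit 8,nat_lit 36,nat_lit 37,nat_lit 38,nat_lit 39] (Cert.lf (Leaf.st (nat_lit 2) (nat_lit 1) (nat_lit 1) (Leaf.cf (nat_lit 1))))))) Cert.nil)) (Cert.rep (nat_lit 92) [nat_lit 16,nat_lit 70] [] [] (Cert.rep (nat_lit 112) [] [] [] (Cert.er (Cert.ro (nat_lit 0) [nat_lit 1,nat_lit 8,nat_lit 16] [nat_lit 8,nat_lit 9,nat_lit 16] [nat_lit 0,nat_lit 1,nat_lit 92,nat_lit 93,nat_lit 10,nat_lit 11,nat_lit 87,nat_lit 86] (Cert.ro (nat_lit 1) [nat_lit 1,nat_lit 2,nat_lit 14,nat_lit 16] [nat_lit 1,nat_lit 14,nat_lit 12,nat_lit 16] [nat_lit 0,nat_lit 1,nat_lit 3,nat_lit 2,nat_lit 47,nat_lit 46,nat_lit 45,nat_lit 44,nat_lit 10,nat_lit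 11,nat_lit 8,nat_lit 9,nat_lit 37,nat_lit 36,nat_lit 38,nat_lit 39] (Cert.kw (nat_lit 2) (nat_lit 0) (nat_lit 2) (nat_lit 1) )))) (Cert.rep (nat_lit 120) [] [] [] (Cert.er (Cert.ro (nat_lit 0) [nat_lit 1,nat_lit 8,nat_lit 16] [nat_lit 8,nat_lit 9,nat_lit 16] [nat_lit 0,nat_lit 1,nat_lit 92,nat_lit 93,nat_lit 10,nat_lit 11,nat_lit 87,nat_lit 86] (Cert.ro (nat_lit 1) [nat_lit 1,nat_lit 2,nat_lit 14,nat_lit 16] [nat_lit 1,nat_lit 14,nat_lit 12,nat_lit 16] [nat_lit 0,nat_lit 1,nat_lit 2,nat_lit 3,nat_lit 39,nat_lit 38,nat_lit 36,nat_lit 37,nat_lit 10,nat_lit 11,nat_lit 9,nat_lit 8,nat_lit 44,nat_lit 45,nat_lit 46,nat_lit 47] (Cert.kw (nat_lit 2) (nat_lit 0) (nat_lit 2) (nat_lit 1) )))) Cert.nil)) Cert.nil)))))))))) Cert.nil))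
noncomputable def f118 : Cert :=
  (Cert.st (nat_lit 0) (nat_lit 10) (nat_lit 0) (Cert.sp (nat_lit 1) (Cert.lf (Leaf.pt (nat_lit 9) (nat_lit 1) [nat_lit 10])) (Cert.sp (nat_lit 26) (Cert.lf (Leaf.pt (nat_lit 9) (nat_lit 26) [nat_lit 10])) (Cert.st (nat_lit 0) (nat_lit 26) (nat_lit 0) (Cert.sp (nat_lit 28) (Cert.lf (Leaf.pt (nat_lit 9) (nat_lit 28) [nat_lit 12])) (Cert.st (nat_lit 0) (nat_lit 28) (nat_lit 0) (Cert.sp (nat_lit 32) (Cert.lf (Leaf.pt (nat_lit 12) (nat_lit 32) [nat_lit 26,nat_lit 196])) (Cert.st (nat_lit 0) (nat_lit 32) (nat_lit 0) (Cert.sp (nat_lit 68) (Cert.lf (Leaf.pt (nat_lit 9) (nat_lit 68) [nat_lit 10])) (Cert.st (nat_lit 0) (nat_lit 68) (nat_lit 0) (Cert.sp (nat_lit 132) (Cert.lf (Leaf.pt (nat_lit 12) (nat_lit 132) [nat_lit 32,nat_lit 1102])) (Cert.st (nat_lit 0) (nat_lit 132) (nat_lit 0) (Cert.sp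 (nat_lit 256) (Cert.lf (Leaf.pt (nat_lit 13) (nat_lit 256) [nat_lit 68])) (Cert.st (nat_lit 0) (nat_lit 256) (nat_lit 0) (Cert.sp (nat_lit 592) (Cert.lf (Leaf.pt (nat_lit 19) (nat_lit 592) [nat_lit 24,nat_lit 192])) (Cert.st (nat_lit 0) (nat_lit 592) (nat_lit 0) (Cert.nl (nat_lit 1) (Cert.sy (nat_lit 0) f118_0))))))))))))))))))
theorem fin118 : finOK DB PT 88 t88 118 t118 (nat_lit 0xc3000000c30000c0030000c0030000000000000000000000000000000000000330000003300000330000003300000000000000000000f0000000f0000000f00c0cf0f00303f0f00000f0f00000f00c0000030c0000030000000000000000f00000f0f00000f0f00000f0f0f0f0f0fcfc0303fc03fc03) f118 = true := by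
  decide +kernel
noncomputable def f135_0 : Cert :=
  Cert.s2 (nat_lit 0) (nat_lit 92) (Cert.o1 (nat_lit 0) (nat_lit 92) (Cert.fu (nat_lit 10) (nat_lit 1) (nat_lit 0) (nat_lit 0) [] [nat_lit 92,nat_lit 1,nat_lit 16,nat_lit 32,nat_lit 256] [] [] [] [nat_lit 1] [[nat_lit 1]] [[nat_lit 92]] [Ins.fr [nat_lit 0],Ins.ts (nat_lit 3) [nat_lit 0] [],Ins.ts (nat_lit 4) [nat_lit 0] [nat_lit 0,nat_lit 0,nat_lit 0],Ins.ts (nat_lit 1) [nat_lit 0] [],Ins.fr [nat_lit 1],Ins.ts (nat_lit 3) [nat_lit 0] [],Ins.ts (nat_lit 0) [nat_lit 0,nat_lit 0] [],Ins.ts (nat_lit 1) [nat_lit 0] [],Ins.ts (nat_lit 4) [nat_lit 0] [nat_lit 0,nat_lit 0,nat_lit 1],Ins.ts (nat_lit 1) [nat_lit 0,nat_lit 1] [],Ins.fr [nat_lit 2],Ins.ts (nat_lit 2) [nat_lit 0] [],Ins.ts (nat_lit 0) [nat_lit 0,nat_lit 0] [],Ins.ts (nat_lit 0) [nat_lit 1,nat_lit 0] [nat_lit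 0,nat_lit 1],Ins.ts (nat_lit 1) [nat_lit 0] [],Ins.ts (nat_lit 4) [nat_lit 0,nat_lit 2,nat_lit 3] [nat_lit 0,nat_lit 0,nat_lit 2],Ins.ts (nat_lit 4) [nat_lit 0,nat_lit 1,nat_lit 2,nat_lit 3] [nat_lit 0,nat_lit 0,nat_lit 2],Ins.ts (nat_lit 1) [nat_lit 0,nat_lit 2,nat_lit 3] [],Ins.ts (nat_lit 1) [nat_lit 0,nat_lit 1,nat_lit 2,nat_lit 3] [],Ins.fr [nat_lit 1,nat_lit 3],Ins.ts (nat_lit 0) [nat_lit 0,nat_lit 0] [],Ins.fr [nat_lit 1],Ins.ts (nat_lit 0) [nat_lit 0,nat_lit 0] [nat_lit 3]] [(nat_lit 2,nat_lit 0),(nat_lit 3,nat_lit 0)] (Cert.rep (nat_lit 10) [] [nat_lit 68,nat_lit 36,nat_lit 16,nat_lit 8,nat_lit 2,nat_lit 1] [nat_lit 1024,nat_lit 512,nat_lit 256,nat_lit 128,nat_lit 4] (Cert.rep (nat_lit 1) [nat_lit 2,nat_lit 16,nat_lit 36,nat_lit 68] [] [] (Cert.rep (nat_lit 26) [] [] [] Cert.nil (Cert.rep (nat_lit 60) []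 [] [] Cert.nil (Cert.rep (nat_lit 92) [] [] [] (Cert.rep (nat_lit 16) [nat_lit 10] [] [] (Cert.rep (nat_lit 1185) [] [] [] Cert.nil (Cert.rep (nat_lit 1184) [] [] [] Cert.nil (Cert.rep (nat_lit 1211) [] [] [] Cert.nil (Cert.rep (nat_lit 1210) [] [] [] Cert.nil Cert.nil)))) (Cert.rep (nat_lit 17) [nat_lit 10] [] [] (Cert.rep (nat_lit 1185) [] [] [] Cert.nil (Cert.rep (nat_lit 1184) [] [] [] Cert.nil (Cert.rep (nat_lit 1211) [] [] [] Cert.nil (Cert.rep (nat_lit 1210) [] [] [] Cert.nil Cert.nil)))) (Cert.rep (nat_lit 76) [nat_lit 10] [] [] (Cert.rep (nat_lit 1185) [] [] [] Cert.nil (Cert.rep (nat_lit 1184) [] [] [] Cert.nil (Cert.rep (nat_lit 1211) [] [] [] Cert.nil (Cert.rep (nat_lit 1210) [] [] [] Cert.nil Cert.nil)))) (Cert.rep (nat_lit 77) [nat_lit 10] [] [] (Cert.rep (nat_lit 1185) [] [] [] Cert.nil (Cert.rep (nat_lit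 1184) [] [] [] Cert.nil (Cert.rep (nat_lit 1211) [] [] [] Cert.nil (Cert.rep (nat_lit 1210) [] [] [] Cert.nil Cert.nil)))) Cert.nil)))) Cert.nil))) Cert.nil) Cert.nil))) (Cert.root (nat_lit 32) [] [nat_lit 8,nat_lit 4] [nat_lit 0,nat_lit 1,nat_lit 2,nat_lit 3,nat_lit 4] [Ins.fr [nat_lit 0],Ins.ts (nat_lit 0) [nat_lit 0,nat_lit 0] [],Ins.ts (nat_lit 1) [nat_lit 0] [],Ins.ts (nat_lit 1) [nat_lit 0,nat_lit 1] [],Ins.fr [nat_lit 1],Ins.ts (nat_lit 1) [nat_lit 0,nat_lit 0] [],Ins.ts (nat_lit 0) [nat_lit 1,nat_lit 0,nat_lit 1] [nat_lit 0,nat_lit 0,nat_lit 0],Ins.ts (nat_lit 1) [nat_lit 0,nat_lit 0,nat_lit 0,nat_lit 0] [],Ins.df [nat_lit 0,nat_lit 0],Ins.df [nat_lit 0,nat_lit 0]] (Cert.rep (nat_lit 10) [nat_lit 2,nat_lit 16,nat_lit 36,nat_lit 68] [nat_lit 68,nat_lit 36,nat_lit 16,nat_lit 8,nat_lit 2,nat_lit 1] [nat_lit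 1024,nat_lit 512,nat_lit 256,nat_lit 128,nat_lit 4] (Cert.rep (nat_lit 1) [] [] [] Cert.nil (Cert.rep (nat_lit 11) [] [] [] Cert.nil (Cert.rep (nat_lit 16) [] [] [] Cert.nil (Cert.rep (nat_lit 26) [] [] [] Cert.nil (Cert.rep (nat_lit 52) [] [] [] Cert.nil (Cert.rep (nat_lit 60) [] [] [] Cert.nil (Cert.rep (nat_lit 68) [nat_lit 16,nat_lit 68] [] [] (Cert.rep (nat_lit 96) [] [] [] (Cert.er (Cert.ro (nat_lit 0) [nat_lit 1,nat_lit 8,nat_lit 16] [nat_lit 8,nat_lit 9,nat_lit 16] [nat_lit 0,nat_lit 1,nat_lit 68,nat_lit 69,nat_lit 10,nat_lit 11,nat_lit 78,nat_lit 79] (Cert.ro (nat_lit 1) [nat_lit 1,nat_lit 2,nat_lit 14,nat_lit 16] [nat_lit 1,nat_lit 14,nat_lit 12,nat_lit 16] [nat_lit 0,nat_lit 1,nat_lit 2,nat_lit 3,nat_lit 39,nat_lit 38,nat_lit 36,nat_lit 37,nat_lit 10,nat_lit 11,nat_lit 9,nat_lit 8,nat_lit 44,nat_lit 45,nat_lit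 46,nat_lit 47] (Cert.kw (nat_lit 2) (nat_lit 0) (nat_lit 2) (nat_lit 1) )))) (Cert.rep (nat_lit 104) [] [] [] (Cert.er (Cert.ro (nat_lit 0) [nat_lit 1,nat_lit 8,nat_lit 16] [nat_lit 8,nat_lit 9,nat_lit 16] [nat_lit 0,nat_lit 1,nat_lit 68,nat_lit 69,nat_lit 10,nat_lit 11,nat_lit 78,nat_lit 79] (Cert.ro (nat_lit 1) [nat_lit 1,nat_lit 2,nat_lit 14,nat_lit 16] [nat_lit 1,nat_lit 14,nat_lit 12,nat_lit 16] [nat_lit 0,nat_lit 1,nat_lit 3,nat_lit 2,nat_lit 46,nat_lit 47,nat_lit 44,nat_lit 45,nat_lit 10,nat_lit 11,nat_lit 8,nat_lit 9,nat_lit 36,nat_lit 37,nat_lit 39,nat_lit 38] (Cert.kw (nat_lit 2) (nat_lit 0) (nat_lit 2) (nat_lit 1) )))) Cert.nil)) (Cert.rep (nat_lit 76) [nat_lit 16,nat_lit 70] [] [] (Cert.rep (nat_lit 96) [] [] [] (Cert.er (Cert.ro (nat_lit 0) [nat_lit 1,nat_lit 8,nat_lit 16] [nat_lit 8,nat_lit 9,nat_lit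 16] [nat_lit 0,nat_lit 1,nat_lit 76,nat_lit 77,nat_lit 10,nat_lit 11,nat_lit 71,nat_lit 70] (Cert.ro (nat_lit 1) [nat_lit 1,nat_lit 2,nat_lit 14,nat_lit 16] [nat_lit 1,nat_lit 14,nat_lit 12,nat_lit 16] [nat_lit 0,nat_lit 1,nat_lit 2,nat_lit 3,nat_lit 47,nat_lit 46,nat_lit 44,nat_lit 45,nat_lit 10,nat_lit 11,nat_lit 9,nat_lit 8,nat_lit 37,nat_lit 36,nat_lit 39,nat_lit 38] (Cert.lf (Leaf.st (nat_lit 2) (nat_lit 1) (nat_lit 1) (Leaf.cf (nat_lit 1))))))) (Cert.rep (nat_lit 104) [] [] [] (Cert.er (Cert.ro (nat_lit 0) [nat_lit 1,nat_lit 8,nat_lit 16] [nat_lit 8,nat_lit 9,nat_lit 16] [nat_lit 0,nat_lit 1,nat_lit 76,nat_lit 77,nat_lit 10,nat_lit 11,nat_lit 71,nat_lit 70] (Cert.ro (nat_lit 1) [nat_lit 1,nat_lit 2,nat_lit 14,nat_lit 16] [nat_lit 1,nat_lit 14,nat_lit 12,nat_lit 16] [nat_lit 0,nat_lit 1,nat_lit 3,nat_lit 2,nat_lit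 39,nat_lit 38,nat_lit 37,nat_lit 36,nat_lit 10,nat_lit 11,nat_lit 8,nat_lit 9,nat_lit 44,nat_lit 45,nat_lit 47,nat_lit 46] (Cert.lf (Leaf.st (nat_lit 2) (nat_lit 1) (nat_lit 1) (Leaf.cf (nat_lit 1))))))) Cert.nil)) (Cert.rep (nat_lit 84) [nat_lit 16,nat_lit 68] [] [] (Cert.rep (nat_lit 112) [] [] [] (Cert.er (Cert.ro (nat_lit 0) [nat_lit 1,nat_lit 8,nat_lit 16] [nat_lit 8,nat_lit 9,nat_lit 16] [nat_lit 0,nat_lit 1,nat_lit 84,nat_lit 85,nat_lit 10,nat_lit 11,nat_lit 94,nat_lit 95] (Cert.ro (nat_lit 1) [nat_lit 1,nat_lit 2,nat_lit 14,nat_lit 16] [nat_lit 1,nat_lit 14,nat_lit 12,nat_lit 16] [nat_lit 0,nat_lit 1,nat_lit 3,nat_lit 2,nat_lit 39,nat_lit 38,nat_lit 37,nat_lit 36,nat_lit 10,nat_lit 11,nat_lit 8,nat_lit 9,nat_lit 44,nat_lit 45,nat_lit 47,nat_lit 46] (Cert.lf (Leaf.st (nat_lit 2) (nat_lit 1) (nat_lit 1) (Leaf.cf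 (nat_lit 1))))))) (Cert.rep (nat_lit 120) [] [] [] (Cert.er (Cert.ro (nat_lit 0) [nat_lit 1,nat_lit 8,nat_lit 16] [nat_lit 8,nat_lit 9,nat_lit 16] [nat_lit 0,nat_lit 1,nat_lit 84,nat_lit 85,nat_lit 10,nat_lit 11,nat_lit 94,nat_lit 95] (Cert.ro (nat_lit 1) [nat_lit 1,nat_lit 2,nat_lit 14,nat_lit 16] [nat_lit 1,nat_lit 14,nat_lit 12,nat_lit 16] [nat_lit 0,nat_lit 1,nat_lit 2,nat_lit 3,nat_lit 46,nat_lit 47,nat_lit 45,nat_lit 44,nat_lit 10,nat_lit 11,nat_lit 9,nat_lit 8,nat_lit 36,nat_lit 37,nat_lit 38,nat_lit 39] (Cert.lf (Leaf.st (nat_lit 2) (nat_lit 1) (nat_lit 1) (Leaf.cf (nat_lit 1))))))) Cert.nil)) (Cert.rep (nat_lit 92) [nat_lit 16,nat_lit 70] [] [] (Cert.rep (nat_lit 112) [] [] [] (Cert.er (Cert.ro (nat_lit 0) [nat_lit 1,nat_lit 8,nat_lit 16] [nat_lit 8,nat_lit 9,nat_lit 16] [nat_lit 0,nat_lit 1,nat_lit 92,nat_lit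 93,nat_lit 10,nat_lit 11,nat_lit 87,nat_lit 86] (Cert.ro (nat_lit 1) [nat_lit 1,nat_lit 2,nat_lit 14,nat_lit 16] [nat_lit 1,nat_lit 14,nat_lit 12,nat_lit 16] [nat_lit 0,nat_lit 1,nat_lit 3,nat_lit 2,nat_lit 47,nat_lit 46,nat_lit 45,nat_lit 44,nat_lit 10,nat_lit 11,nat_lit 8,nat_lit 9,nat_lit 37,nat_lit 36,nat_lit 38,nat_lit 39] (Cert.kw (nat_lit 2) (nat_lit 0) (nat_lit 2) (nat_lit 1) )))) (Cert.rep (nat_lit 120) [] [] [] (Cert.er (Cert.ro (nat_lit 0) [nat_lit 1,nat_lit 8,nat_lit 16] [nat_lit 8,nat_lit 9,nat_lit 16] [nat_lit 0,nat_lit 1,nat_lit 92,nat_lit 93,nat_lit 10,nat_lit 11,nat_lit 87,nat_lit 86] (Cert.ro (nat_lit 1) [nat_lit 1,nat_lit 2,nat_lit 14,nat_lit 16] [nat_lit 1,nat_lit 14,nat_lit 12,nat_lit 16] [nat_lit 0,nat_lit 1,nat_lit 2,nat_lit 3,nat_lit 39,nat_lit 38,nat_lit 36,nat_lit 37,nat_lit 10,nat_lit 11,nat_lit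 9,nat_lit 8,nat_lit 44,nat_lit 45,nat_lit 46,nat_lit 47] (Cert.kw (nat_lit 2) (nat_lit 0) (nat_lit 2) (nat_lit 1) )))) Cert.nil)) Cert.nil)))))))))) Cert.nil))
noncomputable def f135 : Cert :=
  (Cert.st (nat_lit 0) (nat_lit 10) (nat_lit 0) (Cert.sp (nat_lit 1) (Cert.lf (Leaf.pt (nat_lit 9) (nat_lit 1) [nat_lit 10])) (Cert.sp (nat_lit 26) (Cert.lf (Leaf.pt (nat_lit 9) (nat_lit 26) [nat_lit 10])) (Cert.st (nat_lit 0) (nat_lit 26) (nat_lit 0) (Cert.sp (nat_lit 28) (Cert.lf (Leaf.pt (nat_lit 9) (nat_lit 28) [nat_lit 12])) (Cert.st (nat_lit 0) (nat_lit 28) (nat_lit 0) (Cert.sp (nat_lit 32) (Cert.lf (Leaf.pt (nat_lit 12) (nat_lit 32) [nat_lit 26,nat_lit 196])) (Cert.st (nat_lit 0) (nat_lit 32) (nat_lit 0) (Cert.sp (nat_lit 68) (Cert.lf (Leaf.pt (nat_lit 9) (nat_lit 68) [nat_lit 10])) (Cert.st (nat_lit 0) (nat_lit 68)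 (nat_lit 0) (Cert.sp (nat_lit 92) (Cert.lf (Leaf.pt (nat_lit 9) (nat_lit 92) [nat_lit 10])) (Cert.st (nat_lit 0) (nat_lit 92) (nat_lit 0) (Cert.sp (nat_lit 258) (Cert.lf (Leaf.pt (nat_lit 12) (nat_lit 258) [nat_lit 26,nat_lit 586])) (Cert.st (nat_lit 0) (nat_lit 258) (nat_lit 0) (Cert.sp (nat_lit 584) (Cert.lf (Leaf.pt (nat_lit 12) (nat_lit 584) [nat_lit 258,nat_lit 1114])) (Cert.st (nat_lit 0) (nat_lit 584) (nat_lit 0) (Cert.sp (nat_lit 652) (Cert.lf (Leaf.pt (nat_lit 12) (nat_lit 652) [nat_lit 28,nat_lit 256])) (Cert.st (nat_lit 0) (nat_lit 652) (nat_lit 0) (Cert.sp (nat_lit 1152) (Cert.lf (Leaf.pt (nat_lit 12) (nat_lit 1152) [nat_lit 26,nat_lit 648])) (Cert.st (nat_lit 0) (nat_lit 1152) (nat_lit 0) (Cert.sp (nat_lit 1153) (Cert.lf (Leaf.pt (nat_lit 12) (nat_lit 1153) [nat_lit 26,nat_lit 648])) (Cert.st (nat_lit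 0) (nat_lit 1153) (nat_lit 0) (Cert.sp (nat_lit 1178) (Cert.lf (Leaf.pt (nat_lit 12) (nat_lit 1178) [nat_lit 70,nat_lit 132])) (Cert.st (nat_lit 0) (nat_lit 1178) (nat_lit 0) (Cert.sp (nat_lit 1672) (Cert.lf (Leaf.pt (nat_lit 13) (nat_lit 1672) [nat_lit 910])) (Cert.st (nat_lit 0) (nat_lit 1672) (nat_lit 0) (Cert.nl (nat_lit 1) (Cert.sy (nat_lit 0) (Cert.s2 (nat_lit 0) (nat_lit 68) (Cert.o1 (nat_lit 0) (nat_lit 68) (Cert.fu (nat_lit 10) (nat_lit 1) (nat_lit 0) (nat_lit 0) [] [nat_lit 68,nat_lit 1,nat_lit 16,nat_lit 32,nat_lit 256] [] [] [] [nat_lit 1] [[nat_lit 1]] [[nat_lit 68]] [Ins.fr [nat_lit 0],Ins.ts (nat_lit 3) [nat_lit 0] [],Ins.ts (nat_lit 4) [nat_lit 0] [nat_lit 0,nat_lit 0,nat_lit 0],Ins.ts (nat_lit 1) [nat_lit 0] [],Ins.fr [nat_lit 1],Ins.ts (nat_lit 3) [nat_lit 0] [],Ins.ts (nat_lit 0) [nat_lit 0,nat_lit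 0] [],Ins.ts (nat_lit 1) [nat_lit 0] [],Ins.ts (nat_lit 1) [nat_lit 0,nat_lit 1] [],Ins.fr [nat_lit 2],Ins.ts (nat_lit 2) [nat_lit 0] [],Ins.ts (nat_lit 0) [nat_lit 0,nat_lit 0] [],Ins.ts (nat_lit 0) [nat_lit 1,nat_lit 0] [nat_lit 0,nat_lit 1],Ins.ts (nat_lit 1) [nat_lit 0] [],Ins.ts (nat_lit 1) [nat_lit 0,nat_lit 3] [],Ins.ts (nat_lit 1) [nat_lit 0,nat_lit 2,nat_lit 3] [],Ins.ts (nat_lit 1) [nat_lit 0,nat_lit 1,nat_lit 3] [],Ins.ts (nat_lit 1) [nat_lit 0,nat_lit 1,nat_lit 2,nat_lit 3] [],Ins.fr [nat_lit 1,nat_lit 3],Ins.ts (nat_lit 0) [nat_lit 0,nat_lit 0] [],Ins.ts (nat_lit 0) [nat_lit 1,nat_lit 2,nat_lit 0] [nat_lit 0,nat_lit 1],Ins.fr [nat_lit 1],Ins.ts (nat_lit 0) [nat_lit 0,nat_lit 0] [nat_lit 3]] [] (Cert.rep (nat_lit 10) [] [nat_lit 68,nat_lit 36,nat_lit 16,nat_lit 8,nat_lit 2,nat_lit 1] [nat_lit 1024,nat_lit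 512,nat_lit 256,nat_lit 128,nat_lit 4] (Cert.rep (nat_lit 1) [nat_lit 2,nat_lit 16,nat_lit 36,nat_lit 68] [] [] (Cert.rep (nat_lit 26) [nat_lit 2,nat_lit 68] [] [] (Cert.rep (nat_lit 76) [] [] [] Cert.nil (Cert.rep (nat_lit 78) [] [] [] Cert.nil (Cert.rep (nat_lit 84) [] [] [] Cert.nil (Cert.rep (nat_lit 86) [] [] [] Cert.nil Cert.nil)))) (Cert.rep (nat_lit 60) [] [] [] Cert.nil (Cert.rep (nat_lit 68) [] [] [] (Cert.rep (nat_lit 16) [] [] [] Cert.nil (Cert.rep (nat_lit 17) [] [] [] Cert.nil (Cert.rep (nat_lit 84) [] [] [] Cert.nil (Cert.rep (nat_lit 85) [] [] [] Cert.nil Cert.nil)))) (Cert.rep (nat_lit 92) [] [] [] (Cert.rep (nat_lit 16) [nat_lit 10] [] [] (Cert.rep (nat_lit 1185) [] [] [] Cert.nil (Cert.rep (nat_lit 1184) [] [] [] Cert.nil (Cert.rep (nat_lit 1211) [] [] [] Cert.nil (Cert.rep (nat_lit 1210) [] []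 [] Cert.nil Cert.nil)))) (Cert.rep (nat_lit 17) [nat_lit 10] [] [] (Cert.rep (nat_lit 1185) [] [] [] Cert.nil (Cert.rep (nat_lit 1184) [] [] [] Cert.nil (Cert.rep (nat_lit 1211) [] [] [] Cert.nil (Cert.rep (nat_lit 1210) [] [] [] Cert.nil Cert.nil)))) (Cert.rep (nat_lit 76) [nat_lit 10] [] [] (Cert.rep (nat_lit 1185) [] [] [] Cert.nil (Cert.rep (nat_lit 1184) [] [] [] Cert.nil (Cert.rep (nat_lit 1211) [] [] [] Cert.nil (Cert.rep (nat_lit 1210) [] [] [] Cert.nil Cert.nil)))) (Cert.rep (nat_lit 77) [nat_lit 10] [] [] (Cert.rep (nat_lit 1185) [] [] [] Cert.nil (Cert.rep (nat_lit 1184) [] [] [] Cert.nil (Cert.rep (nat_lit 1211) [] [] [] Cert.nil (Cert.rep (nat_lit 1210) [] [] [] Cert.nil Cert.nil)))) Cert.nil)))) Cert.nil)))) Cert.nil) Cert.nil))) f135_0)))))))))))))))))))))))))))))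
theorem fin135 : finOK DB PT 88 t88 135 t135 (nat_lit 0xf0000000f00000f0000000f0000000f0000000f000000000f0000000f0000000000000000000000000000000000000000000000000000000000000000000c0000030c000003300000c0300000c0300000c0300000c00c0000030c0000030000000000000000000000000000000000000000000000000000c3000000c3000003c0000003c00000000000000000000000000000000000000330000003300000003300000033000000000000000000f0000000f0000000f00c0cf0f00303f000000000000000000300000c0300000c00000000000000000000000000000000f00000f0f0f0f0f0fcfc0303fc03fc03) f135 = true := by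
  decide +kernel
noncomputable def f139_0 : Cert :=
  Cert.s2 (nat_lit 0) (nat_lit 68) (Cert.o1 (nat_lit 0) (nat_lit 68) (Cert.fu (nat_lit 10) (nat_lit 1) (nat_lit 0) (nat_lit 0) [] [nat_lit 68,nat_lit 1,nat_lit 16,nat_lit 32] [] [] [] [nat_lit 1] [[nat_lit 1]] [[nat_lit 68]] [Ins.fr [nat_lit 0],Ins.ts (nat_lit 3) [nat_lit 0] [],Ins.ts (nat_lit 4) [nat_lit 0] [nat_lit 0,nat_lit 0,nat_lit 0],Ins.ts (nat_lit 1) [nat_lit 0] [],Ins.fr [nat_lit 1],Ins.ts (nat_lit 3) [nat_lit 0] [],Ins.ts (nat_lit 0) [nat_lit 0,nat_lit 0] [],Ins.ts (nat_lit 1) [nat_lit 0] [],Ins.ts (nat_lit 1) [nat_lit 0,nat_lit 1] [],Ins.fr [nat_lit 2],Ins.ts (nat_lit 2) [nat_lit 0] [],Ins.ts (nat_lit 0) [nat_lit 0,nat_lit 0] [],Ins.ts (nat_lit 0) [nat_lit 1,nat_lit 0] [nat_lit 0,nat_lit 1],Ins.ts (nat_lit 1) [nat_lit 0] [],Ins.ts (nat_lit 1) [nat_lit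 0,nat_lit 3] [],Ins.ts (nat_lit 1) [nat_lit 0,nat_lit 2,nat_lit 3] [],Ins.ts (nat_lit 1) [nat_lit 0,nat_lit 1,nat_lit 3] [],Ins.ts (nat_lit 1) [nat_lit 0,nat_lit 1,nat_lit 2,nat_lit 3] [],Ins.fr [nat_lit 1,nat_lit 3],Ins.ts (nat_lit 0) [nat_lit 0,nat_lit 0] [],Ins.ts (nat_lit 0) [nat_lit 1,nat_lit 2,nat_lit 0] [nat_lit 0,nat_lit 1]] [] (Cert.rep (nat_lit 10) [] [nat_lit 68,nat_lit 36,nat_lit 16,nat_lit 8,nat_lit 2,nat_lit 1] [nat_lit 1024,nat_lit 512,nat_lit 256,nat_lit 128,nat_lit 4] (Cert.rep (nat_lit 1) [nat_lit 2,nat_lit 16,nat_lit 36,nat_lit 68] [] [] (Cert.rep (nat_lit 26) [nat_lit 2,nat_lit 68] [] [] (Cert.rep (nat_lit 76) [] [] [] Cert.nil (Cert.rep (nat_lit 78) [] [] [] Cert.nil (Cert.rep (nat_lit 84) [] [] [] Cert.nil (Cert.rep (nat_lit 86) [] [] [] Cert.nil Cert.nil)))) (Cert.rep (nat_lit 60) [] [] []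 Cert.nil (Cert.rep (nat_lit 68) [] [] [] (Cert.rep (nat_lit 16) [] [] [] Cert.nil (Cert.rep (nat_lit 17) [] [] [] Cert.nil (Cert.rep (nat_lit 84) [] [] [] Cert.nil (Cert.rep (nat_lit 85) [] [] [] Cert.nil Cert.nil)))) (Cert.rep (nat_lit 92) [] [] [] (Cert.rep (nat_lit 16) [] [] [] Cert.nil (Cert.rep (nat_lit 17) [] [] [] Cert.nil (Cert.rep (nat_lit 76) [] [] [] Cert.nil (Cert.rep (nat_lit 77) [] [] [] Cert.nil Cert.nil)))) Cert.nil)))) Cert.nil) Cert.nil))) (Cert.root (nat_lit 32) [] [nat_lit 8,nat_lit 4] [nat_lit 0,nat_lit 1,nat_lit 2,nat_lit 3,nat_lit 4] [Ins.fr [nat_lit 0],Ins.ts (nat_lit 0) [nat_lit 0,nat_lit 0] [],Ins.ts (nat_lit 1) [nat_lit 0] [],Ins.ts (nat_lit 1) [nat_lit 0,nat_lit 1] [],Ins.fr [nat_lit 1],Ins.ts (nat_lit 1) [nat_lit 0,nat_lit 0] [],Ins.ts (nat_lit 0) [nat_lit 1,nat_lit 0,nat_lit 1] [nat_lit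 0,nat_lit 0,nat_lit 0],Ins.ts (nat_lit 1) [nat_lit 0,nat_lit 0,nat_lit 0,nat_lit 0] [],Ins.df [nat_lit 0,nat_lit 0],Ins.df [nat_lit 0,nat_lit 0]] (Cert.rep (nat_lit 10) [nat_lit 2,nat_lit 16,nat_lit 36,nat_lit 68] [nat_lit 68,nat_lit 36,nat_lit 16,nat_lit 8,nat_lit 2,nat_lit 1] [nat_lit 1024,nat_lit 512,nat_lit 256,nat_lit 128,nat_lit 4] (Cert.rep (nat_lit 1) [] [] [] Cert.nil (Cert.rep (nat_lit 11) [] [] [] Cert.nil (Cert.rep (nat_lit 16) [] [] [] Cert.nil (Cert.rep (nat_lit 26) [] [] [] Cert.nil (Cert.rep (nat_lit 52) [] [] [] Cert.nil (Cert.rep (nat_lit 60) [] [] [] Cert.nil (Cert.rep (nat_lit 68) [nat_lit 16,nat_lit 68] [] [] (Cert.rep (nat_lit 96) [] [] [] (Cert.er (Cert.ro (nat_lit 0) [nat_lit 1,nat_lit 8,nat_lit 16] [nat_lit 8,nat_lit 9,nat_lit 16] [nat_lit 0,nat_lit 1,nat_lit 68,nat_lit 69,nat_lit 10,nat_lit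 11,nat_lit 78,nat_lit 79] (Cert.ro (nat_lit 1) [nat_lit 1,nat_lit 2,nat_lit 14,nat_lit 16] [nat_lit 1,nat_lit 14,nat_lit 12,nat_lit 16] [nat_lit 0,nat_lit 1,nat_lit 2,nat_lit 3,nat_lit 39,nat_lit 38,nat_lit 36,nat_lit 37,nat_lit 10,nat_lit 11,nat_lit 9,nat_lit 8,nat_lit 44,nat_lit 45,nat_lit 46,nat_lit 47] (Cert.kw (nat_lit 2) (nat_lit 0) (nat_lit 2) (nat_lit 1) )))) (Cert.rep (nat_lit 104) [] [] [] (Cert.er (Cert.ro (nat_lit 0) [nat_lit 1,nat_lit 8,nat_lit 16] [nat_lit 8,nat_lit 9,nat_lit 16] [nat_lit 0,nat_lit 1,nat_lit 68,nat_lit 69,nat_lit 10,nat_lit 11,nat_lit 78,nat_lit 79] (Cert.ro (nat_lit 1) [nat_lit 1,nat_lit 2,nat_lit 14,nat_lit 16] [nat_lit 1,nat_lit 14,nat_lit 12,nat_lit 16] [nat_lit 0,nat_lit 1,nat_lit 3,nat_lit 2,nat_lit 46,nat_lit 47,nat_lit 44,nat_lit 45,nat_lit 10,nat_lit 11,nat_lit 8,nat_lit 9,nat_lit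 36,nat_lit 37,nat_lit 39,nat_lit 38] (Cert.kw (nat_lit 2) (nat_lit 0) (nat_lit 2) (nat_lit 1) )))) Cert.nil)) (Cert.rep (nat_lit 76) [nat_lit 16,nat_lit 70] [] [] (Cert.rep (nat_lit 96) [] [] [] (Cert.er (Cert.ro (nat_lit 0) [nat_lit 1,nat_lit 8,nat_lit 16] [nat_lit 8,nat_lit 9,nat_lit 16] [nat_lit 0,nat_lit 1,nat_lit 76,nat_lit 77,nat_lit 10,nat_lit 11,nat_lit 71,nat_lit 70] (Cert.ro (nat_lit 1) [nat_lit 1,nat_lit 2,nat_lit 14,nat_lit 16] [nat_lit 1,nat_lit 14,nat_lit 12,nat_lit 16] [nat_lit 0,nat_lit 1,nat_lit 2,nat_lit 3,nat_lit 47,nat_lit 46,nat_lit 44,nat_lit 45,nat_lit 10,nat_lit 11,nat_lit 9,nat_lit 8,nat_lit 37,nat_lit 36,nat_lit 39,nat_lit 38] (Cert.lf (Leaf.st (nat_lit 2) (nat_lit 1) (nat_lit 1) (Leaf.cf (nat_lit 1))))))) (Cert.rep (nat_lit 104) [] [] [] (Cert.er (Cert.ro (nat_lit 0) [nat_lit 1,nat_lit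 8,nat_lit 16] [nat_lit 8,nat_lit 9,nat_lit 16] [nat_lit 0,nat_lit 1,nat_lit 76,nat_lit 77,nat_lit 10,nat_lit 11,nat_lit 71,nat_lit 70] (Cert.ro (nat_lit 1) [nat_lit 1,nat_lit 2,nat_lit 14,nat_lit 16] [nat_lit 1,nat_lit 14,nat_lit 12,nat_lit 16] [nat_lit 0,nat_lit 1,nat_lit 3,nat_lit 2,nat_lit 39,nat_lit 38,nat_lit 37,nat_lit 36,nat_lit 10,nat_lit 11,nat_lit 8,nat_lit 9,nat_lit 44,nat_lit 45,nat_lit 47,nat_lit 46] (Cert.lf (Leaf.st (nat_lit 2) (nat_lit 1) (nat_lit 1) (Leaf.cf (nat_lit 1))))))) Cert.nil)) (Cert.rep (nat_lit 84) [nat_lit 16,nat_lit 68] [] [] (Cert.rep (nat_lit 112) [] [] [] (Cert.er (Cert.ro (nat_lit 0) [nat_lit 1,nat_lit 8,nat_lit 16] [nat_lit 8,nat_lit 9,nat_lit 16] [nat_lit 0,nat_lit 1,nat_lit 84,nat_lit 85,nat_lit 10,nat_lit 11,nat_lit 94,nat_lit 95] (Cert.ro (nat_lit 1) [nat_lit 1,nat_lit 2,nat_lit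 14,nat_lit 16] [nat_lit 1,nat_lit 14,nat_lit 12,nat_lit 16] [nat_lit 0,nat_lit 1,nat_lit 3,nat_lit 2,nat_lit 39,nat_lit 38,nat_lit 37,nat_lit 36,nat_lit 10,nat_lit 11,nat_lit 8,nat_lit 9,nat_lit 44,nat_lit 45,nat_lit 47,nat_lit 46] (Cert.lf (Leaf.st (nat_lit 2) (nat_lit 1) (nat_lit 1) (Leaf.cf (nat_lit 1))))))) (Cert.rep (nat_lit 120) [] [] [] (Cert.er (Cert.ro (nat_lit 0) [nat_lit 1,nat_lit 8,nat_lit 16] [nat_lit 8,nat_lit 9,nat_lit 16] [nat_lit 0,nat_lit 1,nat_lit 84,nat_lit 85,nat_lit 10,nat_lit 11,nat_lit 94,nat_lit 95] (Cert.ro (nat_lit 1) [nat_lit 1,nat_lit 2,nat_lit 14,nat_lit 16] [nat_lit 1,nat_lit 14,nat_lit 12,nat_lit 16] [nat_lit 0,nat_lit 1,nat_lit 2,nat_lit 3,nat_lit 46,nat_lit 47,nat_lit 45,nat_lit 44,nat_lit 10,nat_lit 11,nat_lit 9,nat_lit 8,nat_lit 36,nat_lit 37,nat_lit 38,nat_lit 39] (Cert.lf (Leaf.st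 (nat_lit 2) (nat_lit 1) (nat_lit 1) (Leaf.cf (nat_lit 1))))))) Cert.nil)) (Cert.rep (nat_lit 92) [nat_lit 16,nat_lit 70] [] [] (Cert.rep (nat_lit 112) [] [] [] (Cert.er (Cert.ro (nat_lit 0) [nat_lit 1,nat_lit 8,nat_lit 16] [nat_lit 8,nat_lit 9,nat_lit 16] [nat_lit 0,nat_lit 1,nat_lit 92,nat_lit 93,nat_lit 10,nat_lit 11,nat_lit 87,nat_lit 86] (Cert.ro (nat_lit 1) [nat_lit 1,nat_lit 2,nat_lit 14,nat_lit 16] [nat_lit 1,nat_lit 14,nat_lit 12,nat_lit 16] [nat_lit 0,nat_lit 1,nat_lit 3,nat_lit 2,nat_lit 47,nat_lit 46,nat_lit 45,nat_lit 44,nat_lit 10,nat_lit 11,nat_lit 8,nat_lit 9,nat_lit 37,nat_lit 36,nat_lit 38,nat_lit 39] (Cert.kw (nat_lit 2) (nat_lit 0) (nat_lit 2) (nat_lit 1) )))) (Cert.rep (nat_lit 120) [] [] [] (Cert.er (Cert.ro (nat_lit 0) [nat_lit 1,nat_lit 8,nat_lit 16] [nat_lit 8,nat_lit 9,nat_lit 16] [nat_lit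 0,nat_lit 1,nat_lit 92,nat_lit 93,nat_lit 10,nat_lit 11,nat_lit 87,nat_lit 86] (Cert.ro (nat_lit 1) [nat_lit 1,nat_lit 2,nat_lit 14,nat_lit 16] [nat_lit 1,nat_lit 14,nat_lit 12,nat_lit 16] [nat_lit 0,nat_lit 1,nat_lit 2,nat_lit 3,nat_lit 39,nat_lit 38,nat_lit 36,nat_lit 37,nat_lit 10,nat_lit 11,nat_lit 9,nat_lit 8,nat_lit 44,nat_lit 45,nat_lit 46,nat_lit 47] (Cert.kw (nat_lit 2) (nat_lit 0) (nat_lit 2) (nat_lit 1) )))) Cert.nil)) Cert.nil)))))))))) Cert.nil))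
noncomputable def f139 : Cert :=
  (Cert.st (nat_lit 0) (nat_lit 10) (nat_lit 0) (Cert.sp (nat_lit 1) (Cert.lf (Leaf.pt (nat_lit 9) (nat_lit 1) [nat_lit 10])) (Cert.sp (nat_lit 26) (Cert.lf (Leaf.pt (nat_lit 9) (nat_lit 26) [nat_lit 10])) (Cert.st (nat_lit 0) (nat_lit 26) (nat_lit 0) (Cert.sp (nat_lit 28) (Cert.lf (Leaf.pt (nat_lit 9) (nat_lit 28) [nat_lit 12])) (Cert.st (nat_lit 0) (nat_lit 28) (nat_lit 0) (Cert.sp (nat_lit 32) (Cert.lf (Leaf.pt (nat_lit 12) (nat_lit 32) [nat_lit 26,nat_lit 196])) (Cert.st (nat_lit 0) (nat_lit 32) (nat_lit 0) (Cert.sp (nat_lit 68) (Cert.lf (Leaf.pt (nat_lit 9) (nat_lit 68) [nat_lit 10])) (Cert.st (nat_lit 0) (nat_lit 68) (nat_lit 0) (Cert.sp (nat_lit 258) (Cert.lf (Leaf.pt (nat_lit 12) (nat_lit 258) [nat_lit 26,nat_lit 586])) (Cert.st (nat_lit 0) (nat_lit 258) (nat_lit 0) (Cert.sp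 (nat_lit 584) (Cert.lf (Leaf.pt (nat_lit 19) (nat_lit 584) [nat_lit 24,nat_lit 192])) (Cert.st (nat_lit 0) (nat_lit 584) (nat_lit 0) (Cert.sp (nat_lit 652) (Cert.lf (Leaf.pt (nat_lit 12) (nat_lit 652) [nat_lit 28,nat_lit 256])) (Cert.st (nat_lit 0) (nat_lit 652) (nat_lit 0) (Cert.sp (nat_lit 653) (Cert.lf (Leaf.pt (nat_lit 12) (nat_lit 653) [nat_lit 28,nat_lit 256])) (Cert.st (nat_lit 0) (nat_lit 653) (nat_lit 0) (Cert.nl (nat_lit 1) (Cert.sy (nat_lit 0) f139_0))))))))))))))))))))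
theorem fin139 : finOK DB PT 88 t88 139 t139 (nat_lit 0xc3000000c3000003c0000003c00000000000000000000000000000000000000330000003300000003300000033000000000000000000f0000000f0000000f00c0cf0f00303f000000000000000000300000c0300000c00000000000000000000000000000000f00000f0f0f0f0f0fcfc0303fc03fc03) f139 = true := by
  decide +kernel
noncomputable def f150_0 : Cert :=
  Cert.s2 (nat_lit 0) (nat_lit 68) (Cert.o1 (nat_lit 0) (nat_lit 68) (Cert.fu (nat_lit 10) (nat_lit 1) (nat_lit 0) (nat_lit 0) [] [nat_lit 68,nat_lit 1,nat_lit 16,nat_lit 32] [] [] [] [nat_lit 1] [[nat_lit 1]] [[nat_lit 68]] [Ins.fr [nat_lit 0],Ins.ts (nat_lit 3) [nat_lit 0] [],Ins.ts (nat_lit 4) [nat_lit 0] [nat_lit 0,nat_lit 0,nat_lit 0],Ins.ts (nat_lit 1) [nat_lit 0] [],Ins.fr [nat_lit 1],Ins.ts (nat_lit 3) [nat_lit 0] [],Ins.ts (nat_lit 0) [nat_lit 0,nat_lit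 0] [],Ins.ts (nat_lit 1) [nat_lit 0] [],Ins.ts (nat_lit 1) [nat_lit 0,nat_lit 1] [],Ins.fr [nat_lit 2],Ins.ts (nat_lit 2) [nat_lit 0] [],Ins.ts (nat_lit 0) [nat_lit 0,nat_lit 0] [],Ins.ts (nat_lit 0) [nat_lit 1,nat_lit 0] [nat_lit 0,nat_lit 1],Ins.ts (nat_lit 1) [nat_lit 0] [],Ins.ts (nat_lit 1) [nat_lit 0,nat_lit 3] [],Ins.ts (nat_lit 1) [nat_lit 0,nat_lit 2,nat_lit 3] [],Ins.ts (nat_lit 1) [nat_lit 0,nat_lit 1,nat_lit 3] [],Ins.ts (nat_lit 1) [nat_lit 0,nat_lit 1,nat_lit 2,nat_lit 3] [],Ins.fr [nat_lit 1,nat_lit 3],Ins.ts (nat_lit 0) [nat_lit 0,nat_lit 0] [],Ins.ts (nat_lit 0) [nat_lit 1,nat_lit 2,nat_lit 0] [nat_lit 0,nat_lit 1]] [] (Cert.rep (nat_lit 10) [] [nat_lit 68,nat_lit 36,nat_lit 16,nat_lit 8,nat_lit 2,nat_lit 1] [nat_lit 1024,nat_lit 512,nat_lit 256,nat_lit 128,nat_lit 4] (Cert.rep (nat_lit 1) [nat_lit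 2,nat_lit 16,nat_lit 36,nat_lit 68] [] [] (Cert.rep (nat_lit 26) [nat_lit 2,nat_lit 68] [] [] (Cert.rep (nat_lit 76) [] [] [] Cert.nil (Cert.rep (nat_lit 78) [] [] [] Cert.nil (Cert.rep (nat_lit 84) [] [] [] Cert.nil (Cert.rep (nat_lit 86) [] [] [] Cert.nil Cert.nil)))) (Cert.rep (nat_lit 60) [] [] [] Cert.nil (Cert.rep (nat_lit 68) [] [] [] (Cert.rep (nat_lit 16) [] [] [] Cert.nil (Cert.rep (nat_lit 17) [] [] [] Cert.nil (Cert.rep (nat_lit 84) [] [] [] Cert.nil (Cert.rep (nat_lit 85) [] [] [] Cert.nil Cert.nil)))) (Cert.rep (nat_lit 92) [] [] [] (Cert.rep (nat_lit 16) [] [] [] Cert.nil (Cert.rep (nat_lit 17) [] [] [] Cert.nil (Cert.rep (nat_lit 76) [] [] [] Cert.nil (Cert.rep (nat_lit 77) [] [] [] Cert.nil Cert.nil)))) Cert.nil)))) Cert.nil) Cert.nil))) (Cert.root (nat_lit 32) [] [nat_lit 8,nat_lit 4] [nat_lit 0,nat_lit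 1,nat_lit 2,nat_lit 3,nat_lit 4] [Ins.fr [nat_lit 0],Ins.ts (nat_lit 0) [nat_lit 0,nat_lit 0] [],Ins.ts (nat_lit 1) [nat_lit 0] [],Ins.ts (nat_lit 1) [nat_lit 0,nat_lit 1] [],Ins.fr [nat_lit 1],Ins.ts (nat_lit 1) [nat_lit 0,nat_lit 0] [],Ins.ts (nat_lit 0) [nat_lit 1,nat_lit 0,nat_lit 1] [nat_lit 0,nat_lit 0,nat_lit 0],Ins.ts (nat_lit 1) [nat_lit 0,nat_lit 0,nat_lit 0,nat_lit 0] [],Ins.df [nat_lit 0,nat_lit 0],Ins.df [nat_lit 0,nat_lit 0]] (Cert.rep (nat_lit 10) [nat_lit 2,nat_lit 16,nat_lit 36,nat_lit 68] [nat_lit 68,nat_lit 36,nat_lit 16,nat_lit 8,nat_lit 2,nat_lit 1] [nat_lit 1024,nat_lit 512,nat_lit 256,nat_lit 128,nat_lit 4] (Cert.rep (nat_lit 1) [] [] [] Cert.nil (Cert.rep (nat_lit 11) [] [] [] Cert.nil (Cert.rep (nat_lit 16) [] [] [] Cert.nil (Cert.rep (nat_lit 26) [] [] [] Cert.nil (Cert.rep (nat_lit 52)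 [] [] [] Cert.nil (Cert.rep (nat_lit 60) [] [] [] Cert.nil (Cert.rep (nat_lit 68) [nat_lit 16,nat_lit 68] [] [] (Cert.rep (nat_lit 96) [] [] [] (Cert.er (Cert.ro (nat_lit 0) [nat_lit 1,nat_lit 8,nat_lit 16] [nat_lit 8,nat_lit 9,nat_lit 16] [nat_lit 0,nat_lit 1,nat_lit 68,nat_lit 69,nat_lit 10,nat_lit 11,nat_lit 78,nat_lit 79] (Cert.ro (nat_lit 1) [nat_lit 1,nat_lit 2,nat_lit 14,nat_lit 16] [nat_lit 1,nat_lit 14,nat_lit 12,nat_lit 16] [nat_lit 0,nat_lit 1,nat_lit 2,nat_lit 3,nat_lit 39,nat_lit 38,nat_lit 36,nat_lit 37,nat_lit 10,nat_lit 11,nat_lit 9,nat_lit 8,nat_lit 44,nat_lit 45,nat_lit 46,nat_lit 47] (Cert.kw (nat_lit 2) (nat_lit 0) (nat_lit 2) (nat_lit 1) )))) (Cert.rep (nat_lit 104) [] [] [] (Cert.er (Cert.ro (nat_lit 0) [nat_lit 1,nat_lit 8,nat_lit 16] [nat_lit 8,nat_lit 9,nat_lit 16] [nat_lit 0,nat_lit 1,nat_lit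 68,nat_lit 69,nat_lit 10,nat_lit 11,nat_lit 78,nat_lit 79] (Cert.ro (nat_lit 1) [nat_lit 1,nat_lit 2,nat_lit 14,nat_lit 16] [nat_lit 1,nat_lit 14,nat_lit 12,nat_lit 16] [nat_lit 0,nat_lit 1,nat_lit 3,nat_lit 2,nat_lit 46,nat_lit 47,nat_lit 44,nat_lit 45,nat_lit 10,nat_lit 11,nat_lit 8,nat_lit 9,nat_lit 36,nat_lit 37,nat_lit 39,nat_lit 38] (Cert.kw (nat_lit 2) (nat_lit 0) (nat_lit 2) (nat_lit 1) )))) Cert.nil)) (Cert.rep (nat_lit 76) [nat_lit 16,nat_lit 70] [] [] (Cert.rep (nat_lit 96) [] [] [] (Cert.er (Cert.ro (nat_lit 0) [nat_lit 1,nat_lit 8,nat_lit 16] [nat_lit 8,nat_lit 9,nat_lit 16] [nat_lit 0,nat_lit 1,nat_lit 76,nat_lit 77,nat_lit 10,nat_lit 11,nat_lit 71,nat_lit 70] (Cert.ro (nat_lit 1) [nat_lit 1,nat_lit 2,nat_lit 14,nat_lit 16] [nat_lit 1,nat_lit 14,nat_lit 12,nat_lit 16] [nat_lit 0,nat_lit 1,nat_lit 2,nat_lit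 3,nat_lit 47,nat_lit 46,nat_lit 44,nat_lit 45,nat_lit 10,nat_lit 11,nat_lit 9,nat_lit 8,nat_lit 37,nat_lit 36,nat_lit 39,nat_lit 38] (Cert.lf (Leaf.st (nat_lit 2) (nat_lit 1) (nat_lit 1) (Leaf.cf (nat_lit 1))))))) (Cert.rep (nat_lit 104) [] [] [] (Cert.er (Cert.ro (nat_lit 0) [nat_lit 1,nat_lit 8,nat_lit 16] [nat_lit 8,nat_lit 9,nat_lit 16] [nat_lit 0,nat_lit 1,nat_lit 76,nat_lit 77,nat_lit 10,nat_lit 11,nat_lit 71,nat_lit 70] (Cert.ro (nat_lit 1) [nat_lit 1,nat_lit 2,nat_lit 14,nat_lit 16] [nat_lit 1,nat_lit 14,nat_lit 12,nat_lit 16] [nat_lit 0,nat_lit 1,nat_lit 3,nat_lit 2,nat_lit 39,nat_lit 38,nat_lit 37,nat_lit 36,nat_lit 10,nat_lit 11,nat_lit 8,nat_lit 9,nat_lit 44,nat_lit 45,nat_lit 47,nat_lit 46] (Cert.lf (Leaf.st (nat_lit 2) (nat_lit 1) (nat_lit 1) (Leaf.cf (nat_lit 1))))))) Cert.nil)) (Cert.rep (nat_lit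 84) [nat_lit 16,nat_lit 68] [] [] (Cert.rep (nat_lit 112) [] [] [] (Cert.er (Cert.ro (nat_lit 0) [nat_lit 1,nat_lit 8,nat_lit 16] [nat_lit 8,nat_lit 9,nat_lit 16] [nat_lit 0,nat_lit 1,nat_lit 84,nat_lit 85,nat_lit 10,nat_lit 11,nat_lit 94,nat_lit 95] (Cert.ro (nat_lit 1) [nat_lit 1,nat_lit 2,nat_lit 14,nat_lit 16] [nat_lit 1,nat_lit 14,nat_lit 12,nat_lit 16] [nat_lit 0,nat_lit 1,nat_lit 3,nat_lit 2,nat_lit 39,nat_lit 38,nat_lit 37,nat_lit 36,nat_lit 10,nat_lit 11,nat_lit 8,nat_lit 9,nat_lit 44,nat_lit 45,nat_lit 47,nat_lit 46] (Cert.lf (Leaf.st (nat_lit 2) (nat_lit 1) (nat_lit 1) (Leaf.cf (nat_lit 1))))))) (Cert.rep (nat_lit 120) [] [] [] (Cert.er (Cert.ro (nat_lit 0) [nat_lit 1,nat_lit 8,nat_lit 16] [nat_lit 8,nat_lit 9,nat_lit 16] [nat_lit 0,nat_lit 1,nat_lit 84,nat_lit 85,nat_lit 10,nat_lit 11,nat_lit 94,nat_lit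 95] (Cert.ro (nat_lit 1) [nat_lit 1,nat_lit 2,nat_lit 14,nat_lit 16] [nat_lit 1,nat_lit 14,nat_lit 12,nat_lit 16] [nat_lit 0,nat_lit 1,nat_lit 2,nat_lit 3,nat_lit 46,nat_lit 47,nat_lit 45,nat_lit 44,nat_lit 10,nat_lit 11,nat_lit 9,nat_lit 8,nat_lit 36,nat_lit 37,nat_lit 38,nat_lit 39] (Cert.lf (Leaf.st (nat_lit 2) (nat_lit 1) (nat_lit 1) (Leaf.cf (nat_lit 1))))))) Cert.nil)) (Cert.rep (nat_lit 92) [nat_lit 16,nat_lit 70] [] [] (Cert.rep (nat_lit 112) [] [] [] (Cert.er (Cert.ro (nat_lit 0) [nat_lit 1,nat_lit 8,nat_lit 16] [nat_lit 8,nat_lit 9,nat_lit 16] [nat_lit 0,nat_lit 1,nat_lit 92,nat_lit 93,nat_lit 10,nat_lit 11,nat_lit 87,nat_lit 86] (Cert.ro (nat_lit 1) [nat_lit 1,nat_lit 2,nat_lit 14,nat_lit 16] [nat_lit 1,nat_lit 14,nat_lit 12,nat_lit 16] [nat_lit 0,nat_lit 1,nat_lit 3,nat_lit 2,nat_lit 47,nat_lit 46,nat_lit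 45,nat_lit 44,nat_lit 10,nat_lit 11,nat_lit 8,nat_lit 9,nat_lit 37,nat_lit 36,nat_lit 38,nat_lit 39] (Cert.kw (nat_lit 2) (nat_lit 0) (nat_lit 2) (nat_lit 1) )))) (Cert.rep (nat_lit 120) [] [] [] (Cert.er (Cert.ro (nat_lit 0) [nat_lit 1,nat_lit 8,nat_lit 16] [nat_lit 8,nat_lit 9,nat_lit 16] [nat_lit 0,nat_lit 1,nat_lit 92,nat_lit 93,nat_lit 10,nat_lit 11,nat_lit 87,nat_lit 86] (Cert.ro (nat_lit 1) [nat_lit 1,nat_lit 2,nat_lit 14,nat_lit 16] [nat_lit 1,nat_lit 14,nat_lit 12,nat_lit 16] [nat_lit 0,nat_lit 1,nat_lit 2,nat_lit 3,nat_lit 39,nat_lit 38,nat_lit 36,nat_lit 37,nat_lit 10,nat_lit 11,nat_lit 9,nat_lit 8,nat_lit 44,nat_lit 45,nat_lit 46,nat_lit 47] (Cert.kw (nat_lit 2) (nat_lit 0) (nat_lit 2) (nat_lit 1) )))) Cert.nil)) Cert.nil)))))))))) Cert.nil))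
noncomputable def f150 : Cert :=
  (Cert.st (nat_lit 0) (nat_lit 10) (nat_lit 0) (Cert.sp (nat_lit 1) (Cert.lf (Leaf.pt (nat_lit 9) (nat_lit 1) [nat_lit 10])) (Cert.sp (nat_lit 26) (Cert.lf (Leaf.pt (nat_lit 9) (nat_lit 26) [nat_lit 10])) (Cert.st (nat_lit 0) (nat_lit 26) (nat_lit 0) (Cert.sp (nat_lit 28) (Cert.lf (Leaf.pt (nat_lit 9) (nat_lit 28) [nat_lit 12])) (Cert.st (nat_lit 0) (nat_lit 28) (nat_lit 0) (Cert.sp (nat_lit 32) (Cert.lf (Leaf.pt (nat_lit 12) (nat_lit 32) [nat_lit 26,nat_lit 196])) (Cert.st (nat_lit 0) (nat_lit 32) (nat_lit 0) (Cert.sp (nat_lit 68) (Cert.lf (Leaf.pt (nat_lit 9) (nat_lit 68) [nat_lit 10])) (Cert.st (nat_lit 0) (nat_lit 68) (nat_lit 0) (Cert.sp (nat_lit 258) (Cert.lf (Leaf.pt (nat_lit 19) (nat_lit 258) [nat_lit 2,nat_lit 192])) (Cert.st (nat_lit 0) (nat_lit 258) (nat_lit 0) (Cert.sp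 (nat_lit 592) (Cert.lf (Leaf.pt (nat_lit 19) (nat_lit 592) [nat_lit 24,nat_lit 192])) (Cert.st (nat_lit 0) (nat_lit 592) (nat_lit 0) (Cert.sp (nat_lit 1540) (Cert.lf (Leaf.pt (nat_lit 23) (nat_lit 1540) [nat_lit 1,nat_lit 218,nat_lit 258])) (Cert.st (nat_lit 0) (nat_lit 1540) (nat_lit 0) (Cert.nl (nat_lit 1) (Cert.sy (nat_lit 0) f150_0))))))))))))))))))
theorem fin150 : finOK DB PT 88 t88 150 t150 (nat_lit 0xf0000000f0f0000000f0000000000000f0000000f0000000f0000000f0000000f0000000f0000000f0000000f0f0000000f0000000000000f0000000f00000000000000000000000000000000000000000000000000000000000000000000000000000000000000000000000000000000000000000000000000000000000000000000000000000c3000000c3000003c0000003c00000000000000000000000000000000000003003000030030000330000003300000000000000000000f0000000f0000000f00c0cf0f00303f000000000000000000300000c0300000c00000000000000000000000000000000f00000f0f0f0f0f0fcfc0303fc03fc03)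 f150 = true := by
  decide +kernel

end Cfsg.Agent.L3S.Dat
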