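import Mathlib
import Cfsg.Agent.L33.DAll
import Cfsg.Agent.L3S.EF

/-!
Certificates for the Sylow subgroups.
-/

set_option autoImplicit false
set_option maxRecDepth 100000

namespace Cfsg.Agent.L3S.Dat

open Cfsg.Agent.L33 Cfsg.Agent.L33.Dat Cfsg.Agent.L3S

noncomputable def f3_0 : Cert :=
  Cert.root (nat_lit 16) [] [nat_lit 8,nat_lit 4] [nat_lit 0,nat_lit 1,nat_lit 2,nat_lit 3,nat_lit 4] [Ins.fr [nat_lit 0],Ins.ts (nat_lit 0) [nat_lit 0,nat_lit 0] [],Ins.ts (nat_lit 1) [nat_lit 0] [],Ins.ts (nat_lit 1) [nat_lit 0,nat_lit 1] [],Ins.fr [nat_lit 1],Ins.ts (nat_lit 1) [nat_lit 0,nat_lit 0] [],Ins.ts (nat_lit 1) [nat_lit 0,nat_lit 0,nat_lit 0,nat_lit 0] [],Ins.ts (nat_lit 0) [nat_lit 1,nat_lit 0,nat_lit 1] [nat_lit 0,nat_lit 0,nat_lit 0],Ins.df [nat_lit 0,nat_lit 0],Ins.df [nat_lit 0,nat_lit 0]] (Cert.rep (nat_lit 4) [nat_lit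 2,nat_lit 8] [nat_lit 8,nat_lit 4,nat_lit 2,nat_lit 1] [nat_lit 128,nat_lit 64,nat_lit 32,nat_lit 16] (Cert.rep (nat_lit 1) [] [] [] Cert.nil (Cert.rep (nat_lit 2) [] [] [] Cert.nil (Cert.rep (nat_lit 5) [] [] [] Cert.nil (Cert.rep (nat_lit 6) [] [] [] Cert.nil (Cert.rep (nat_lit 10) [] [] [] Cert.nil (Cert.rep (nat_lit 14) [] [] [] Cert.nil Cert.nil)))))) (Cert.rep (nat_lit 14) [nat_lit 4,nat_lit 16,nat_lit 98] [nat_lit 98,nat_lit 16,nat_lit 10,nat_lit 4,nat_lit 1] [nat_lit 128,nat_lit 32,nat_lit 2] (Cert.rep (nat_lit 1) [] [] [] Cert.nil (Cert.rep (nat_lit 4) [nat_lit 4] [] [] (Cert.rep (nat_lit 98) [] [] [] (Cert.er (Cert.ro (nat_lit 0) [nat_lit 1,nat_lit 8,nat_lit 16] [nat_lit 8,nat_lit 9,nat_lit 16] [nat_lit 0,nat_lit 1,nat_lit 4,nat_lit 5,nat_lit 14,nat_lit 15,nat_lit 10,nat_lit 11] (Cert.ro (nat_lit 1) [nat_lit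 1,nat_lit 2,nat_lit 14,nat_lit 16] [nat_lit 1,nat_lit 14,nat_lit 12,nat_lit 16] [nat_lit 0,nat_lit 1,nat_lit 27,nat_lit 26,nat_lit 102,nat_lit 103,nat_lit 124,nat_lit 125,nat_lit 14,nat_lit 15,nat_lit 21,nat_lit 20,nat_lit 105,nat_lit 104,nat_lit 115,nat_lit 114] (Cert.lf (Leaf.st (nat_lit 2) (nat_lit 1) (nat_lit 1) (Leaf.cf (nat_lit 1))))))) (Cert.rep (nat_lit 99) [] [] [] (Cert.er (Cert.ro (nat_lit 0) [nat_lit 1,nat_lit 8,nat_lit 16] [nat_lit 8,nat_lit 9,nat_lit 16] [nat_lit 0,nat_lit 1,nat_lit 4,nat_lit 5,nat_lit 14,nat_lit 15,nat_lit 10,nat_lit 11] (Cert.ro (nat_lit 1) [nat_lit 1,nat_lit 2,nat_lit 14,nat_lit 16] [nat_lit 1,nat_lit 14,nat_lit 12,nat_lit 16] [nat_lit 0,nat_lit 1,nat_lit 27,nat_lit 26,nat_lit 103,nat_lit 102,nat_lit 125,nat_lit 124,nat_lit 14,nat_lit 15,nat_lit 21,nat_lit 20,nat_lit 104,nat_lit 105,nat_lit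 114,nat_lit 115] (Cert.lf (Leaf.st (nat_lit 2) (nat_lit 1) (nat_lit 1) (Leaf.cf (nat_lit 1))))))) (Cert.rep (nat_lit 108) [] [] [] (Cert.er (Cert.ro (nat_lit 0) [nat_lit 1,nat_lit 8,nat_lit 16] [nat_lit 8,nat_lit 9,nat_lit 16] [nat_lit 0,nat_lit 1,nat_lit 4,nat_lit 5,nat_lit 14,nat_lit 15,nat_lit 10,nat_lit 11] (Cert.ro (nat_lit 1) [nat_lit 1,nat_lit 2,nat_lit 14,nat_lit 16] [nat_lit 1,nat_lit 14,nat_lit 12,nat_lit 16] [nat_lit 0,nat_lit 1,nat_lit 27,nat_lit 26,nat_lit 104,nat_lit 105,nat_lit 114,nat_lit 115,nat_lit 14,nat_lit 15,nat_lit 21,nat_lit 20,nat_lit 103,nat_lit 102,nat_lit 125,nat_lit 124] (Cert.lf (Leaf.st (nat_lit 2) (nat_lit 1) (nat_lit 1) (Leaf.cf (nat_lit 1))))))) (Cert.rep (nat_lit 109) [] [] [] (Cert.er (Cert.ro (nat_lit 0) [nat_lit 1,nat_lit 8,nat_lit 16] [nat_lit 8,nat_lit 9,nat_lit 16] [nat_lit 0,nat_lit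 1,nat_lit 4,nat_lit 5,nat_lit 14,nat_lit 15,nat_lit 10,nat_lit 11] (Cert.ro (nat_lit 1) [nat_lit 1,nat_lit 2,nat_lit 14,nat_lit 16] [nat_lit 1,nat_lit 14,nat_lit 12,nat_lit 16] [nat_lit 0,nat_lit 1,nat_lit 27,nat_lit 26,nat_lit 105,nat_lit 104,nat_lit 115,nat_lit 114,nat_lit 14,nat_lit 15,nat_lit 21,nat_lit 20,nat_lit 102,nat_lit 103,nat_lit 124,nat_lit 125] (Cert.lf (Leaf.st (nat_lit 2) (nat_lit 1) (nat_lit 1) (Leaf.cf (nat_lit 1))))))) Cert.nil)))) (Cert.rep (nat_lit 10) [nat_lit 4] [] [] (Cert.rep (nat_lit 98) [] [] [] (Cert.er (Cert.ro (nat_lit 0) [nat_lit 1,nat_lit 8,nat_lit 16] [nat_lit 8,nat_lit 9,nat_lit 16] [nat_lit 0,nat_lit 1,nat_lit 10,nat_lit 11,nat_lit 14,nat_lit 15,nat_lit 4,nat_lit 5] (Cert.ro (nat_lit 1) [nat_lit 1,nat_lit 2,nat_lit 14,nat_lit 16] [nat_lit 1,nat_lit 14,nat_lit 12,nat_lit 16] [nat_lit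 0,nat_lit 1,nat_lit 27,nat_lit 26,nat_lit 105,nat_lit 104,nat_lit 115,nat_lit 114,nat_lit 14,nat_lit 15,nat_lit 21,nat_lit 20,nat_lit 102,nat_lit 103,nat_lit 124,nat_lit 125] (Cert.kw (nat_lit 2) (nat_lit 0) (nat_lit 2) (nat_lit 1) )))) (Cert.rep (nat_lit 99) [] [] [] (Cert.er (Cert.ro (nat_lit 0) [nat_lit 1,nat_lit 8,nat_lit 16] [nat_lit 8,nat_lit 9,nat_lit 16] [nat_lit 0,nat_lit 1,nat_lit 10,nat_lit 11,nat_lit 14,nat_lit 15,nat_lit 4,nat_lit 5] (Cert.ro (nat_lit 1) [nat_lit 1,nat_lit 2,nat_lit 14,nat_lit 16] [nat_lit 1,nat_lit 14,nat_lit 12,nat_lit 16] [nat_lit 0,nat_lit 1,nat_lit 27,nat_lit 26,nat_lit 104,nat_lit 105,nat_lit 114,nat_lit 115,nat_lit 14,nat_lit 15,nat_lit 21,nat_lit 20,nat_lit 103,nat_lit 102,nat_lit 125,nat_lit 124] (Cert.kw (nat_lit 2) (nat_lit 0) (nat_lit 2) (nat_lit 1) )))) (Cert.rep (nat_lit 108)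 [] [] [] (Cert.er (Cert.ro (nat_lit 0) [nat_lit 1,nat_lit 8,nat_lit 16] [nat_lit 8,nat_lit 9,nat_lit 16] [nat_lit 0,nat_lit 1,nat_lit 10,nat_lit 11,nat_lit 14,nat_lit 15,nat_lit 4,nat_lit 5] (Cert.ro (nat_lit 1) [nat_lit 1,nat_lit 2,nat_lit 14,nat_lit 16] [nat_lit 1,nat_lit 14,nat_lit 12,nat_lit 16] [nat_lit 0,nat_lit 1,nat_lit 27,nat_lit 26,nat_lit 103,nat_lit 102,nat_lit 125,nat_lit 124,nat_lit 14,nat_lit 15,nat_lit 21,nat_lit 20,nat_lit 104,nat_lit 105,nat_lit 114,nat_lit 115] (Cert.kw (nat_lit 2) (nat_lit 0) (nat_lit 2) (nat_lit 1) )))) (Cert.rep (nat_lit 109) [] [] [] (Cert.er (Cert.ro (nat_lit 0) [nat_lit 1,nat_lit 8,nat_lit 16] [nat_lit 8,nat_lit 9,nat_lit 16] [nat_lit 0,nat_lit 1,nat_lit 10,nat_lit 11,nat_lit 14,nat_lit 15,nat_lit 4,nat_lit 5] (Cert.ro (nat_lit 1) [nat_lit 1,nat_lit 2,nat_lit 14,nat_lit 16] [nat_lit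 1,nat_lit 14,nat_lit 12,nat_lit 16] [nat_lit 0,nat_lit 1,nat_lit 27,nat_lit 26,nat_lit 102,nat_lit 103,nat_lit 124,nat_lit 125,nat_lit 14,nat_lit 15,nat_lit 21,nat_lit 20,nat_lit 105,nat_lit 104,nat_lit 115,nat_lit 114] (Cert.kw (nat_lit 2) (nat_lit 0) (nat_lit 2) (nat_lit 1) )))) Cert.nil)))) (Cert.rep (nat_lit 15) [] [] [] Cert.nil Cert.nil)))) (Cert.rep (nat_lit 132) [] [nat_lit 132,nat_lit 2,nat_lit 1] [nat_lit 8,nat_lit 64,nat_lit 4,nat_lit 36,nat_lit 24] (Cert.rep (nat_lit 1) [] [] [] Cert.nil (Cert.rep (nat_lit 2) [] [] [] Cert.nil (Cert.rep (nat_lit 3) [] [] [] Cert.nil (Cert.rep (nat_lit 133) [] [] [] Cert.nil (Cert.rep (nat_lit 134) [] [] [] Cert.nil (Cert.rep (nat_lit 135) [] [] [] Cert.nil Cert.nil)))))) Cert.nil)))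
noncomputable def f3 : Cert :=
  (Cert.st (nat_lit 0) (nat_lit 4) (nat_lit 0) (Cert.st (nat_lit 0) (nat_lit 14) (nat_lit 0) (Cert.sp (nat_lit 1) (Cert.lf (Leaf.pt (nat_lit 10) (nat_lit 1) [nat_lit 8,nat_lit 4])) (Cert.sp (nat_lit 2) (Cert.lf (Leaf.pt (nat_lit 10) (nat_lit 2) [nat_lit 36,nat_lit 1])) (Cert.st (nat_lit 0) (nat_lit 2) (nat_lit 0) (Cert.sp (nat_lit 10) (Cert.lf (Leaf.pt (nat_lit 5) (nat_lit 10) [nat_lit 4])) (Cert.st (nat_lit 0) (nat_lit 10) (nat_lit 0) (Cert.nl (nat_lit 1) (Cert.sy (nat_lit 0) (Cert.s2 (nat_lit 0) (nat_lit 10) (Cert.o1 (nat_lit 0) (nat_lit 10) (Cert.fu (nat_lit 4) (nat_lit 1) (nat_lit 0) (nat_lit 0) [] [nat_lit 10,nat_lit 1,nat_lit 18,nat_lit 64] [] [] [] [nat_lit 1] [[nat_lit 1]] [[nat_lit 10]] [Ins.fr [nat_lit 0],Ins.ts (nat_lit 3) [nat_lit 0] [],Ins.ts (nat_lit 4) [nat_lit 0] [nat_lit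 0,nat_lit 0,nat_lit 0],Ins.ts (nat_lit 1) [nat_lit 0] [],Ins.fr [nat_lit 1],Ins.ts (nat_lit 3) [nat_lit 0] [],Ins.ts (nat_lit 0) [nat_lit 0,nat_lit 0] [],Ins.ts (nat_lit 1) [nat_lit 0] [],Ins.ts (nat_lit 1) [nat_lit 0,nat_lit 1] [],Ins.ts (nat_lit 2) [nat_lit 0,nat_lit 2] [],Ins.ts (nat_lit 1) [nat_lit 0,nat_lit 2] [],Ins.fr [nat_lit 0,nat_lit 2],Ins.ts (nat_lit 0) [nat_lit 0,nat_lit 0] [nat_lit 1],Ins.fr [nat_lit 2,nat_lit 3,nat_lit 0],Ins.ts (nat_lit 0) [nat_lit 0,nat_lit 0] [nat_lit 2]] [] (Cert.rep (nat_lit 4) [] [nat_lit 8,nat_lit 4,nat_lit 2,nat_lit 1] [nat_lit 128,nat_lit 64,nat_lit 32,nat_lit 16] (Cert.rep (nat_lit 1) [nat_lit 2,nat_lit 8] [] [] (Cert.rep (nat_lit 2) [nat_lit 4] [] [] (Cert.rep (nat_lit 36) [] [] [] Cert.nil (Cert.rep (nat_lit 37) [] [] [] Cert.nil Cert.nil)) (Cert.rep (nat_lit 10) [] [] [] Cert.nil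 Cert.nil)) Cert.nil) (Cert.rep (nat_lit 14) [] [nat_lit 98,nat_lit 16,nat_lit 10,nat_lit 4,nat_lit 1] [nat_lit 128,nat_lit 32,nat_lit 2] (Cert.rep (nat_lit 1) [nat_lit 4,nat_lit 16,nat_lit 98] [] [] (Cert.rep (nat_lit 10) [] [] [] Cert.nil Cert.nil) Cert.nil) (Cert.rep (nat_lit 132) [] [nat_lit 132,nat_lit 2,nat_lit 1] [nat_lit 8,nat_lit 64,nat_lit 4,nat_lit 36,nat_lit 24] (Cert.rep (nat_lit 1) [] [] [] (Cert.rep (nat_lit 2) [nat_lit 132] [] [] (Cert.rep (nat_lit 36) [] [] [] Cert.nil (Cert.rep (nat_lit 37) [] [] [] Cert.nil Cert.nil)) (Cert.rep (nat_lit 3) [nat_lit 132] [] [] (Cert.rep (nat_lit 60) [] [] [] Cert.nil (Cert.rep (nat_lit 61) [] [] [] Cert.nil Cert.nil)) Cert.nil)) Cert.nil) Cert.nil))))) f3_0))))))))))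
theorem fin3 : finOK DB PT 34 t34 3 t3 (nat_lit 0xf00000f00f00000f0f00000ff00000f000030c00000303000f00000ff0c3ccff) f3 = true := by
  decide +kernel
noncomputable def f14_0 : Cert :=
  Cert.rep (nat_lit 129) [] [] [] (Cert.er (Cert.ro (nat_lit 0) [nat_lit 1,nat_lit 8,nat_lit 16] [nat_lit 8,nat_lit 9,nat_lit 16] [] (Cert.ro (nat_lit 1) [nat_lit 1,nat_lit 2,nat_lit 14,nat_lit 16] [nat_lit 1,nat_lit 14,nat_lit 12,nat_lit 16] [nat_lit 0,nat_lit 1,nat_lit 8,nat_lit 9,nat_lit 131,nat_lit 130,nat_lit 138,nat_lit 139,nat_lit 4,nat_lit 5,nat_lit 12,nat_lit 13,nat_lit 135,nat_lit 134,nat_lit 142,nat_lit 143] (Cert.lw (nat_lit 0) (nat_lit 2) (nat_lit 1) (Cert.s2 (nat_lit 0) (nat_lit 28) (Cert.o1 (nat_lit 0) (nat_lit 28) (Cert.fu (nat_lit 28) (nat_lit 1) (nat_lit 0) (nat_lit 0) [nat_lit 0] [nat_lit 297,nat_lit 162] [] [] [] [nat_lit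 1] [[nat_lit 1]] [[nat_lit 28]] [Ins.ts (nat_lit 1) [nat_lit 0] [],Ins.fr [nat_lit 0],Ins.ts (nat_lit 0) [nat_lit 0,nat_lit 0] [],Ins.ts (nat_lit 3) [nat_lit 0] [],Ins.ts (nat_lit 1) [nat_lit 0] [],Ins.ts (nat_lit 1) [nat_lit 0,nat_lit 1] [],Ins.fr [nat_lit 1],Ins.ts (nat_lit 1) [nat_lit 0,nat_lit 0,nat_lit 0,nat_lit 0] [],Ins.ts (nat_lit 0) [nat_lit 0,nat_lit 0,nat_lit 1,nat_lit 0,nat_lit 0] [nat_lit 1],Ins.ts (nat_lit 0) [nat_lit 1,nat_lit 0,nat_lit 1,nat_lit 2,nat_lit 0] [nat_lit 0,nat_lit 1,nat_lit 0,nat_lit 1],Ins.ts (nat_lit 0) [nat_lit 1,nat_lit 0,nat_lit 0,nat_lit 0,nat_lit 0] [nat_lit 0,nat_lit 0,nat_lit 0,nat_lit 0,nat_lit 1],Ins.ts (nat_lit 1) [nat_lit 0,nat_lit 0,nat_lit 0,nat_lit 0,nat_lit 2] []] [] (Cert.rep (nat_lit 1) [nat_lit 2,nat_lit 4,nat_lit 8,nat_lit 32,nat_lit 64,nat_lit 128,nat_lit 256] [nat_lit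 256,nat_lit 128,nat_lit 64,nat_lit 32,nat_lit 16,nat_lit 8,nat_lit 4,nat_lit 2,nat_lit 1] [] (Cert.rep (nat_lit 2) [] [] [] Cert.nil (Cert.rep (nat_lit 28) [] [] [] Cert.nil (Cert.rep (nat_lit 32) [] [] [] Cert.nil (Cert.rep (nat_lit 288) [] [] [] Cert.nil Cert.nil)))) Cert.nil))) (Cert.s2 (nat_lit 0) (nat_lit 32) (Cert.o1 (nat_lit 0) (nat_lit 32) (Cert.fu (nat_lit 32) (nat_lit 1) (nat_lit 0) (nat_lit 0) [nat_lit 0] [nat_lit 78] [] [] [] [nat_lit 1] [[nat_lit 1]] [[nat_lit 32]] [Ins.ts (nat_lit 1) [nat_lit 0] [],Ins.fr [nat_lit 0],Ins.ts (nat_lit 0) [nat_lit 0,nat_lit 0,nat_lit 0,nat_lit 0] [],Ins.ts (nat_lit 1) [nat_lit 0,nat_lit 0] [],Ins.ts (nat_lit 4) [nat_lit 0,nat_lit 0] [nat_lit 0,nat_lit 0,nat_lit 1],Ins.ts (nat_lit 4) [nat_lit 0,nat_lit 0,nat_lit 1] [nat_lit 0,nat_lit 0,nat_lit 2]] [(nat_lit 3,nat_lit 0),(nat_lit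 2,nat_lit 0)] (Cert.rep (nat_lit 1) [] [nat_lit 256,nat_lit 128,nat_lit 64,nat_lit 32,nat_lit 16,nat_lit 8,nat_lit 4,nat_lit 2,nat_lit 1] [] Cert.nil Cert.nil))) (Cert.o1 (nat_lit 0) (nat_lit 2) (Cert.fu (nat_lit 4) (nat_lit 1) (nat_lit 0) (nat_lit 0) [] [nat_lit 2,nat_lit 1,nat_lit 24] [] [] [] [nat_lit 1] [[nat_lit 1]] [[nat_lit 2]] [Ins.fr [nat_lit 0],Ins.ts (nat_lit 4) [nat_lit 0] [nat_lit 0,nat_lit 0,nat_lit 0],Ins.ts (nat_lit 1) [nat_lit 0] [],Ins.fr [nat_lit 1],Ins.ts (nat_lit 3) [nat_lit 0] [],Ins.ts (nat_lit 0) [nat_lit 0,nat_lit 0] [],Ins.ts (nat_lit 1) [nat_lit 0] [],Ins.ts (nat_lit 1) [nat_lit 0,nat_lit 1] [],Ins.fr [nat_lit 0,nat_lit 2],Ins.ts (nat_lit 0) [nat_lit 0,nat_lit 0] [nat_lit 1],Ins.ts (nat_lit 4) [nat_lit 2,nat_lit 3,nat_lit 0] [nat_lit 0,nat_lit 0,nat_lit 1]] [(nat_lit 2,nat_lit 0)] (Cert.rep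 (nat_lit 4) [] [nat_lit 128,nat_lit 8,nat_lit 4,nat_lit 2,nat_lit 1] [nat_lit 256,nat_lit 32,nat_lit 96,nat_lit 16] (Cert.rep (nat_lit 1) [nat_lit 2,nat_lit 8,nat_lit 128] [] [] (Cert.rep (nat_lit 2) [] [] [] Cert.nil Cert.nil) Cert.nil) Cert.nil))))))))) (Cert.rep (nat_lit 132) [] [] [] (Cert.er (Cert.ro (nat_lit 0) [nat_lit 1,nat_lit 8,nat_lit 16] [nat_lit 8,nat_lit 9,nat_lit 16] [] (Cert.ro (nat_lit 1) [nat_lit 1,nat_lit 2,nat_lit 14,nat_lit 16] [nat_lit 1,nat_lit 14,nat_lit 12,nat_lit 16] [nat_lit 0,nat_lit 1,nat_lit 8,nat_lit 9,nat_lit 134,nat_lit 135,nat_lit 143,nat_lit 142,nat_lit 4,nat_lit 5,nat_lit 12,nat_lit 13,nat_lit 130,nat_lit 131,nat_lit 139,nat_lit 138] (Cert.fu (nat_lit 4) (nat_lit 2) (nat_lit 4) (nat_lit 1) [nat_lit 1] [nat_lit 1,nat_lit 142,nat_lit 8,nat_lit 16] [] [] [nat_lit 128,nat_lit 16,nat_lit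 8,nat_lit 4,nat_lit 2,nat_lit 1] [nat_lit 1] [[nat_lit 8,nat_lit 1]] [[nat_lit 1],[nat_lit 4,nat_lit 1],[nat_lit 142,nat_lit 1]] [Ins.fr [nat_lit 0],Ins.ts (nat_lit 4) [nat_lit 0] [nat_lit 0,nat_lit 0,nat_lit 0],Ins.ts (nat_lit 1) [nat_lit 0] [],Ins.fr [nat_lit 1],Ins.ts (nat_lit 4) [nat_lit 0] [nat_lit 0,nat_lit 0,nat_lit 2],Ins.ts (nat_lit 1) [nat_lit 0] [],Ins.ts (nat_lit 0) [nat_lit 0,nat_lit 0] [nat_lit 1],Ins.fr [nat_lit 2],Ins.ts (nat_lit 0) [nat_lit 0,nat_lit 0] [nat_lit 2],Ins.ts (nat_lit 0) [nat_lit 1,nat_lit 0,nat_lit 1] [nat_lit 0],Ins.fr [nat_lit 2,nat_lit 3],Ins.ts (nat_lit 2) [nat_lit 0] [],Ins.ts (nat_lit 0) [nat_lit 0,nat_lit 0] [],Ins.ts (nat_lit 0) [nat_lit 2,nat_lit 0] [nat_lit 0,nat_lit 2],Ins.ts (nat_lit 2) [nat_lit 2,nat_lit 4,nat_lit 0] []] [] (Cert.rep (nat_lit 4) [] [nat_lit 128,nat_lit 8,nat_lit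 4,nat_lit 2,nat_lit 1] [nat_lit 16] (Cert.rep (nat_lit 1) [nat_lit 2] [] [] (Cert.rep (nat_lit 8) [nat_lit 8,nat_lit 128] [] [] (Cert.rep (nat_lit 130) [] [] [] Cert.nil (Cert.rep (nat_lit 134) [] [] [] Cert.nil Cert.nil)) Cert.nil) Cert.nil) Cert.nil))))) (Cert.rep (nat_lit 133) [] [] [] (Cert.er (Cert.ro (nat_lit 0) [nat_lit 1,nat_lit 8,nat_lit 16] [nat_lit 8,nat_lit 9,nat_lit 16] [] (Cert.ro (nat_lit 1) [nat_lit 1,nat_lit 2,nat_lit 14,nat_lit 16] [nat_lit 1,nat_lit 14,nat_lit 12,nat_lit 16] [nat_lit 0,nat_lit 1,nat_lit 8,nat_lit 9,nat_lit 135,nat_lit 134,nat_lit 142,nat_lit 143,nat_lit 4,nat_lit 5,nat_lit 12,nat_lit 13,nat_lit 131,nat_lit 130,nat_lit 138,nat_lit 139] (Cert.fu (nat_lit 4) (nat_lit 2) (nat_lit 4) (nat_lit 1) [nat_lit 1] [nat_lit 1,nat_lit 143,nat_lit 8,nat_lit 16] [] [] [nat_lit 128,nat_lit 16,nat_lit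 8,nat_lit 4,nat_lit 2,nat_lit 1] [nat_lit 1] [[nat_lit 8,nat_lit 1]] [[nat_lit 1],[nat_lit 4,nat_lit 1],[nat_lit 143,nat_lit 1]] [Ins.fr [nat_lit 0],Ins.ts (nat_lit 4) [nat_lit 0] [nat_lit 0,nat_lit 0,nat_lit 0],Ins.ts (nat_lit 1) [nat_lit 0] [],Ins.fr [nat_lit 1],Ins.ts (nat_lit 4) [nat_lit 0] [nat_lit 0,nat_lit 0,nat_lit 2],Ins.ts (nat_lit 1) [nat_lit 0] [],Ins.ts (nat_lit 0) [nat_lit 0,nat_lit 0] [nat_lit 1],Ins.fr [nat_lit 2],Ins.ts (nat_lit 0) [nat_lit 0,nat_lit 0] [nat_lit 2],Ins.ts (nat_lit 0) [nat_lit 1,nat_lit 0,nat_lit 1] [nat_lit 0],Ins.fr [nat_lit 2,nat_lit 3],Ins.ts (nat_lit 2) [nat_lit 0] [],Ins.ts (nat_lit 0) [nat_lit 0,nat_lit 0] [],Ins.ts (nat_lit 0) [nat_lit 2,nat_lit 0] [nat_lit 0,nat_lit 2],Ins.ts (nat_lit 2) [nat_lit 2,nat_lit 4,nat_lit 0] []] [] (Cert.rep (nat_lit 4) [] [nat_lit 128,nat_lit 8,nat_lit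 4,nat_lit 2,nat_lit 1] [nat_lit 16] (Cert.rep (nat_lit 1) [nat_lit 2] [] [] (Cert.rep (nat_lit 8) [nat_lit 8,nat_lit 128] [] [] (Cert.rep (nat_lit 130) [] [] [] Cert.nil (Cert.rep (nat_lit 134) [] [] [] Cert.nil Cert.nil)) Cert.nil) Cert.nil) Cert.nil))))) Cert.nil))
noncomputable def f14_1 : Cert :=
  Cert.rep (nat_lit 4) [nat_lit 2,nat_lit 8,nat_lit 128] [nat_lit 128,nat_lit 8,nat_lit 4,nat_lit 2,nat_lit 1] [nat_lit 256,nat_lit 32,nat_lit 96,nat_lit 16] (Cert.rep (nat_lit 1) [] [] [] Cert.nil (Cert.rep (nat_lit 2) [nat_lit 2] [] [] (Cert.rep (nat_lit 128) [] [] [] (Cert.er (Cert.ro (nat_lit 0) [nat_lit 1,nat_lit 8,nat_lit 16] [nat_lit 8,nat_lit 9,nat_lit 16] [] (Cert.ro (nat_lit 1) [nat_lit 1,nat_lit 2,nat_lit 14,nat_lit 16] [nat_lit 1,nat_lit 14,nat_lit 12,nat_lit 16] [nat_lit 0,nat_lit 1,nat_lit 8,nat_lit 9,nat_lit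 130,nat_lit 131,nat_lit 139,nat_lit 138,nat_lit 4,nat_lit 5,nat_lit 12,nat_lit 13,nat_lit 134,nat_lit 135,nat_lit 143,nat_lit 142] (Cert.lw (nat_lit 0) (nat_lit 2) (nat_lit 1) (Cert.s2 (nat_lit 0) (nat_lit 28) (Cert.o1 (nat_lit 0) (nat_lit 28) (Cert.fu (nat_lit 28) (nat_lit 1) (nat_lit 0) (nat_lit 0) [nat_lit 0] [nat_lit 297,nat_lit 162] [] [] [] [nat_lit 1] [[nat_lit 1]] [[nat_lit 28]] [Ins.ts (nat_lit 1) [nat_lit 0] [],Ins.fr [nat_lit 0],Ins.ts (nat_lit 0) [nat_lit 0,nat_lit 0] [],Ins.ts (nat_lit 3) [nat_lit 0] [],Ins.ts (nat_lit 1) [nat_lit 0] [],Ins.ts (nat_lit 1) [nat_lit 0,nat_lit 1] [],Ins.fr [nat_lit 1],Ins.ts (nat_lit 1) [nat_lit 0,nat_lit 0,nat_lit 0,nat_lit 0] [],Ins.ts (nat_lit 0) [nat_lit 0,nat_lit 0,nat_lit 1,nat_lit 0,nat_lit 0] [nat_lit 1],Ins.ts (nat_lit 0) [nat_lit 1,nat_lit 0,nat_lit 1,nat_lit 2,nat_lit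 0] [nat_lit 0,nat_lit 1,nat_lit 0,nat_lit 1],Ins.ts (nat_lit 0) [nat_lit 1,nat_lit 0,nat_lit 0,nat_lit 0,nat_lit 0] [nat_lit 0,nat_lit 0,nat_lit 0,nat_lit 0,nat_lit 1],Ins.ts (nat_lit 1) [nat_lit 0,nat_lit 0,nat_lit 0,nat_lit 0,nat_lit 2] []] [] (Cert.rep (nat_lit 1) [nat_lit 2,nat_lit 4,nat_lit 8,nat_lit 32,nat_lit 64,nat_lit 128,nat_lit 256] [nat_lit 256,nat_lit 128,nat_lit 64,nat_lit 32,nat_lit 16,nat_lit 8,nat_lit 4,nat_lit 2,nat_lit 1] [] (Cert.rep (nat_lit 2) [] [] [] Cert.nil (Cert.rep (nat_lit 28) [] [] [] Cert.nil (Cert.rep (nat_lit 32) [] [] [] Cert.nil (Cert.rep (nat_lit 288) [] [] [] Cert.nil Cert.nil)))) Cert.nil))) (Cert.s2 (nat_lit 0) (nat_lit 32) (Cert.o1 (nat_lit 0) (nat_lit 32) (Cert.fu (nat_lit 32) (nat_lit 1) (nat_lit 0) (nat_lit 0) [nat_lit 0] [nat_lit 78] [] [] [] [nat_lit 1] [[nat_lit 1]] [[nat_lit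 32]] [Ins.ts (nat_lit 1) [nat_lit 0] [],Ins.fr [nat_lit 0],Ins.ts (nat_lit 0) [nat_lit 0,nat_lit 0,nat_lit 0,nat_lit 0] [],Ins.ts (nat_lit 1) [nat_lit 0,nat_lit 0] [],Ins.ts (nat_lit 4) [nat_lit 0,nat_lit 0] [nat_lit 0,nat_lit 0,nat_lit 1],Ins.ts (nat_lit 4) [nat_lit 0,nat_lit 0,nat_lit 1] [nat_lit 0,nat_lit 0,nat_lit 2]] [(nat_lit 3,nat_lit 0),(nat_lit 2,nat_lit 0)] (Cert.rep (nat_lit 1) [] [nat_lit 256,nat_lit 128,nat_lit 64,nat_lit 32,nat_lit 16,nat_lit 8,nat_lit 4,nat_lit 2,nat_lit 1] [] Cert.nil Cert.nil))) (Cert.o1 (nat_lit 0) (nat_lit 2) (Cert.fu (nat_lit 4) (nat_lit 1) (nat_lit 0) (nat_lit 0) [] [nat_lit 2,nat_lit 1,nat_lit 24] [] [] [] [nat_lit 1] [[nat_lit 1]] [[nat_lit 2]] [Ins.fr [nat_lit 0],Ins.ts (nat_lit 4) [nat_lit 0] [nat_lit 0,nat_lit 0,nat_lit 0],Ins.ts (nat_lit 1) [nat_lit 0] [],Ins.fr [nat_lit 1],Ins.ts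 (nat_lit 3) [nat_lit 0] [],Ins.ts (nat_lit 0) [nat_lit 0,nat_lit 0] [],Ins.ts (nat_lit 1) [nat_lit 0] [],Ins.ts (nat_lit 1) [nat_lit 0,nat_lit 1] [],Ins.fr [nat_lit 0,nat_lit 2],Ins.ts (nat_lit 0) [nat_lit 0,nat_lit 0] [nat_lit 1],Ins.ts (nat_lit 4) [nat_lit 2,nat_lit 3,nat_lit 0] [nat_lit 0,nat_lit 0,nat_lit 1]] [(nat_lit 2,nat_lit 0)] (Cert.rep (nat_lit 4) [] [nat_lit 128,nat_lit 8,nat_lit 4,nat_lit 2,nat_lit 1] [nat_lit 256,nat_lit 32,nat_lit 96,nat_lit 16] (Cert.rep (nat_lit 1) [nat_lit 2,nat_lit 8,nat_lit 128] [] [] (Cert.rep (nat_lit 2) [] [] [] Cert.nil Cert.nil) Cert.nil) Cert.nil))))))))) f14_0) (Cert.rep (nat_lit 5) [] [] [] Cert.nil (Cert.rep (nat_lit 6) [nat_lit 2] [] [] (Cert.rep (nat_lit 128) [] [] [] (Cert.er (Cert.ro (nat_lit 0) [nat_lit 1,nat_lit 8,nat_lit 16] [nat_lit 8,nat_lit 9,nat_lit 16] [nat_lit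 0,nat_lit 1,nat_lit 6,nat_lit 7,nat_lit 4,nat_lit 5,nat_lit 2,nat_lit 3] (Cert.ro (nat_lit 1) [nat_lit 1,nat_lit 2,nat_lit 14,nat_lit 16] [nat_lit 1,nat_lit 14,nat_lit 12,nat_lit 16] [nat_lit 0,nat_lit 1,nat_lit 8,nat_lit 9,nat_lit 134,nat_lit 135,nat_lit 143,nat_lit 142,nat_lit 4,nat_lit 5,nat_lit 12,nat_lit 13,nat_lit 130,nat_lit 131,nat_lit 139,nat_lit 138] (Cert.lf (Leaf.st (nat_lit 2) (nat_lit 1) (nat_lit 1) (Leaf.cf (nat_lit 1))))))) (Cert.rep (nat_lit 129) [] [] [] (Cert.er (Cert.ro (nat_lit 0) [nat_lit 1,nat_lit 8,nat_lit 16] [nat_lit 8,nat_lit 9,nat_lit 16] [nat_lit 0,nat_lit 1,nat_lit 6,nat_lit 7,nat_lit 4,nat_lit 5,nat_lit 2,nat_lit 3] (Cert.ro (nat_lit 1) [nat_lit 1,nat_lit 2,nat_lit 14,nat_lit 16] [nat_lit 1,nat_lit 14,nat_lit 12,nat_lit 16] [nat_lit 0,nat_lit 1,nat_lit 8,nat_lit 9,nat_lit 135,nat_lit 134,nat_lit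 142,nat_lit 143,nat_lit 4,nat_lit 5,nat_lit 12,nat_lit 13,nat_lit 131,nat_lit 130,nat_lit 138,nat_lit 139] (Cert.lf (Leaf.st (nat_lit 2) (nat_lit 1) (nat_lit 1) (Leaf.cf (nat_lit 1))))))) (Cert.rep (nat_lit 132) [] [] [] (Cert.er (Cert.ro (nat_lit 0) [nat_lit 1,nat_lit 8,nat_lit 16] [nat_lit 8,nat_lit 9,nat_lit 16] [nat_lit 0,nat_lit 1,nat_lit 6,nat_lit 7,nat_lit 4,nat_lit 5,nat_lit 2,nat_lit 3] (Cert.ro (nat_lit 1) [nat_lit 1,nat_lit 2,nat_lit 14,nat_lit 16] [nat_lit 1,nat_lit 14,nat_lit 12,nat_lit 16] [nat_lit 0,nat_lit 1,nat_lit 8,nat_lit 9,nat_lit 130,nat_lit 131,nat_lit 139,nat_lit 138,nat_lit 4,nat_lit 5,nat_lit 12,nat_lit 13,nat_lit 134,nat_lit 135,nat_lit 143,nat_lit 142] (Cert.lf (Leaf.st (nat_lit 2) (nat_lit 1) (nat_lit 1) (Leaf.cf (nat_lit 1))))))) (Cert.rep (nat_lit 133) [] [] [] (Cert.er (Cert.ro (nat_lit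 0) [nat_lit 1,nat_lit 8,nat_lit 16] [nat_lit 8,nat_lit 9,nat_lit 16] [nat_lit 0,nat_lit 1,nat_lit 6,nat_lit 7,nat_lit 4,nat_lit 5,nat_lit 2,nat_lit 3] (Cert.ro (nat_lit 1) [nat_lit 1,nat_lit 2,nat_lit 14,nat_lit 16] [nat_lit 1,nat_lit 14,nat_lit 12,nat_lit 16] [nat_lit 0,nat_lit 1,nat_lit 8,nat_lit 9,nat_lit 131,nat_lit 130,nat_lit 138,nat_lit 139,nat_lit 4,nat_lit 5,nat_lit 12,nat_lit 13,nat_lit 135,nat_lit 134,nat_lit 142,nat_lit 143] (Cert.lf (Leaf.st (nat_lit 2) (nat_lit 1) (nat_lit 1) (Leaf.cf (nat_lit 1))))))) Cert.nil)))) Cert.nil)))) Cert.nil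
noncomputable def f14 : Cert :=
  (Cert.st (nat_lit 0) (nat_lit 4) (nat_lit 0) (Cert.sp (nat_lit 1) (Cert.lf (Leaf.pt (nat_lit 10) (nat_lit 1) [nat_lit 8,nat_lit 4])) (Cert.sp (nat_lit 2) (Cert.lf (Leaf.pt (nat_lit 10) (nat_lit 2) [nat_lit 36,nat_lit 1])) (Cert.st (nat_lit 0) (nat_lit 2) (nat_lit 0) (Cert.sp (nat_lit 28) (Cert.lf (Leaf.pt (nat_lit 10) (nat_lit 28) [nat_lit 40,nat_lit 1])) (Cert.st (nat_lit 0) (nat_lit 28) (nat_lit 0) (Cert.sp (nat_lit 32) (Cert.lf (Leaf.pt (nat_lit 10) (nat_lit 32) [nat_lit 78,nat_lit 1])) (Cert.st (nat_lit 0) (nat_lit 32) (nat_lit 0) (Cert.sp (nat_lit 288) (Cert.lf (Leaf.pt (nat_lit 10) (nat_lit 288) [nat_lit 68,nat_lit 1])) (Cert.st (nat_lit 0) (nat_lit 288) (nat_lit 0) (Cert.nl (nat_lit 1) (Cert.sy (nat_lit 0) (Cert.root (nat_lit 16) [] [nat_lit 8,nat_lit 4] [nat_lit 0,nat_lit 1,nat_lit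 2,nat_lit 3,nat_lit 4] [Ins.fr [nat_lit 0],Ins.ts (nat_lit 0) [nat_lit 0,nat_lit 0] [],Ins.ts (nat_lit 1) [nat_lit 0] [],Ins.ts (nat_lit 1) [nat_lit 0,nat_lit 1] [],Ins.fr [nat_lit 1],Ins.ts (nat_lit 1) [nat_lit 0,nat_lit 0] [],Ins.ts (nat_lit 1) [nat_lit 0,nat_lit 0,nat_lit 0,nat_lit 0] [],Ins.ts (nat_lit 0) [nat_lit 1,nat_lit 0,nat_lit 1] [nat_lit 0,nat_lit 0,nat_lit 0],Ins.df [nat_lit 0,nat_lit 0],Ins.df [nat_lit 0,nat_lit 0]] f14_1)))))))))))))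
theorem fin14 : finOK DB PT 34 t34 14 t14 (nat_lit 0xc0cc0c03030030300000000000000000c0cc0c030300303000000000030000300000000000000000c0c00000c0cc0c00c0330c0f000000ff0c3ccff) f14 = true := by
  decide +kernel
noncomputable def f40_0 : Cert :=
  Cert.ro (nat_lit 1) [nat_lit 1,nat_lit 2,nat_lit 14,nat_lit 16] [nat_lit 1,nat_lit 14,nat_lit 12,nat_lit 16] [nat_lit 0,nat_lit 1,nat_lit 16,nat_lit 17,nat_lit 262,nat_lit 263,nat_lit 279,nat_lit 278,nat_lit 8,nat_lit 9,nat_lit 24,nat_lit 25,nat_lit 270,nat_lit 271,nat_lit 287,nat_lit 286] (Cert.lw (nat_lit 0) (nat_lit 2) (nat_lit 1) (Cert.s2 (nat_lit 0) (nat_lit 12) (Cert.o1 (nat_lit 0) (nat_lit 12) (Cert.fu (nat_lit 8) (nat_lit 1) (nat_lit 0) (nat_lit 0) [] [nat_lit 12] [] [] [] [nat_lit 1] [[nat_lit 1]] [[nat_lit 12]] [Ins.fr [nat_lit 0],Ins.ts (nat_lit 4) [nat_lit 0] [nat_lit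 0,nat_lit 0,nat_lit 0],Ins.ts (nat_lit 1) [nat_lit 0] [],Ins.ts (nat_lit 3) [nat_lit 0,nat_lit 1] []] [] (Cert.rep (nat_lit 8) [] [nat_lit 256,nat_lit 16,nat_lit 8,nat_lit 4,nat_lit 2,nat_lit 1] [nat_lit 512,nat_lit 64,nat_lit 192,nat_lit 32] Cert.nil Cert.nil))) (Cert.s2 (nat_lit 0) (nat_lit 44) (Cert.o1 (nat_lit 0) (nat_lit 44) (Cert.fu (nat_lit 44) (nat_lit 1) (nat_lit 0) (nat_lit 0) [nat_lit 0] [nat_lit 352,nat_lit 735] [] [] [] [nat_lit 1] [[nat_lit 1]] [[nat_lit 44]] [Ins.ts (nat_lit 1) [nat_lit 0] [],Ins.fr [nat_lit 0],Ins.ts (nat_lit 1) [nat_lit 0,nat_lit 0,nat_lit 0,nat_lit 0] [],Ins.ts (nat_lit 1) [nat_lit 0,nat_lit 0,nat_lit 0,nat_lit 0,nat_lit 1] [],Ins.ts (nat_lit 0) [nat_lit 0,nat_lit 0,nat_lit 0,nat_lit 0,nat_lit 0,nat_lit 0,nat_lit 0,nat_lit 0] [],Ins.fr [nat_lit 1],Ins.ts (nat_lit 0) [nat_lit 0,nat_lit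 1,nat_lit 0,nat_lit 1] [nat_lit 2],Ins.ts (nat_lit 0) [nat_lit 0,nat_lit 0,nat_lit 0,nat_lit 0] [nat_lit 2],Ins.ts (nat_lit 0) [nat_lit 1,nat_lit 0,nat_lit 0,nat_lit 0,nat_lit 1] [nat_lit 0]] [] (Cert.rep (nat_lit 1) [nat_lit 2,nat_lit 4,nat_lit 8,nat_lit 16,nat_lit 64,nat_lit 128,nat_lit 256,nat_lit 512] [nat_lit 512,nat_lit 256,nat_lit 128,nat_lit 64,nat_lit 32,nat_lit 16,nat_lit 8,nat_lit 4,nat_lit 2,nat_lit 1] [] (Cert.rep (nat_lit 320) [] [] [] Cert.nil (Cert.rep (nat_lit 332) [] [] [] Cert.nil (Cert.rep (nat_lit 516) [] [] [] Cert.nil (Cert.rep (nat_lit 520) [] [] [] Cert.nil (Cert.rep (nat_lit 578) [] [] [] Cert.nil (Cert.rep (nat_lit 590) [] [] [] Cert.nil (Cert.rep (nat_lit 594) [] [] [] Cert.nil (Cert.rep (nat_lit 606) [] [] [] Cert.nil (Cert.rep (nat_lit 607) [] [] [] Cert.nil Cert.nil))))))))) Cert.nil)))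 (Cert.s2 (nat_lit 0) (nat_lit 68) (Cert.o1 (nat_lit 0) (nat_lit 68) (Cert.fu (nat_lit 68) (nat_lit 1) (nat_lit 0) (nat_lit 0) [nat_lit 0] [nat_lit 130] [] [] [] [nat_lit 1] [[nat_lit 1]] [[nat_lit 68]] [Ins.ts (nat_lit 1) [nat_lit 0] [],Ins.fr [nat_lit 0],Ins.ts (nat_lit 0) [nat_lit 0,nat_lit 0,nat_lit 0,nat_lit 0] [],Ins.ts (nat_lit 1) [nat_lit 0,nat_lit 0] [],Ins.ts (nat_lit 4) [nat_lit 0,nat_lit 0] [nat_lit 0,nat_lit 0,nat_lit 1],Ins.ts (nat_lit 4) [nat_lit 0,nat_lit 0,nat_lit 1] [nat_lit 0,nat_lit 0,nat_lit 2]] [(nat_lit 3,nat_lit 0),(nat_lit 2,nat_lit 0)] (Cert.rep (nat_lit 1) [] [nat_lit 512,nat_lit 256,nat_lit 128,nat_lit 64,nat_lit 32,nat_lit 16,nat_lit 8,nat_lit 4,nat_lit 2,nat_lit 1] [] Cert.nil Cert.nil))) (Cert.s2 (nat_lit 0) (nat_lit 72) (Cert.o1 (nat_lit 0) (nat_lit 72) (Cert.fu (nat_lit 72) (nat_lit 1)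 (nat_lit 0) (nat_lit 0) [nat_lit 0] [nat_lit 647] [] [] [] [nat_lit 1] [[nat_lit 1]] [[nat_lit 72]] [Ins.ts (nat_lit 1) [nat_lit 0] [],Ins.fr [nat_lit 0],Ins.ts (nat_lit 0) [nat_lit 0,nat_lit 0,nat_lit 0,nat_lit 0] [],Ins.ts (nat_lit 1) [nat_lit 0,nat_lit 0] [],Ins.ts (nat_lit 4) [nat_lit 0,nat_lit 0] [nat_lit 0,nat_lit 0,nat_lit 1],Ins.ts (nat_lit 4) [nat_lit 0,nat_lit 0,nat_lit 1] [nat_lit 0,nat_lit 0,nat_lit 2]] [(nat_lit 3,nat_lit 0),(nat_lit 2,nat_lit 0)] (Cert.rep (nat_lit 1) [] [nat_lit 512,nat_lit 256,nat_lit 128,nat_lit 64,nat_lit 32,nat_lit 16,nat_lit 8,nat_lit 4,nat_lit 2,nat_lit 1] [] Cert.nil Cert.nil))) (Cert.s2 (nat_lit 0) (nat_lit 73) (Cert.o1 (nat_lit 0) (nat_lit 73) (Cert.fu (nat_lit 73) (nat_lit 1) (nat_lit 0) (nat_lit 0) [nat_lit 0] [nat_lit 647] [] [] [] [nat_lit 1] [[nat_lit 1]] [[nat_lit 73]] [Ins.ts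 (nat_lit 1) [nat_lit 0] [],Ins.fr [nat_lit 0],Ins.ts (nat_lit 0) [nat_lit 0,nat_lit 0,nat_lit 0,nat_lit 0] [],Ins.ts (nat_lit 1) [nat_lit 0,nat_lit 0] [],Ins.ts (nat_lit 4) [nat_lit 0,nat_lit 0] [nat_lit 0,nat_lit 0,nat_lit 1],Ins.ts (nat_lit 4) [nat_lit 0,nat_lit 0,nat_lit 1] [nat_lit 0,nat_lit 0,nat_lit 2]] [(nat_lit 3,nat_lit 0),(nat_lit 2,nat_lit 0)] (Cert.rep (nat_lit 1) [] [nat_lit 512,nat_lit 256,nat_lit 128,nat_lit 64,nat_lit 32,nat_lit 16,nat_lit 8,nat_lit 4,nat_lit 2,nat_lit 1] [] Cert.nil Cert.nil))) (Cert.o1 (nat_lit 0) (nat_lit 2) (Cert.fu (nat_lit 8) (nat_lit 1) (nat_lit 0) (nat_lit 0) [] [nat_lit 2,nat_lit 1,nat_lit 4,nat_lit 32] [] [] [] [nat_lit 1] [[nat_lit 1]] [[nat_lit 2]] [Ins.fr [nat_lit 0],Ins.ts (nat_lit 4) [nat_lit 0] [nat_lit 0,nat_lit 0,nat_lit 0],Ins.ts (nat_lit 1) [nat_lit 0] [],Ins.fr [nat_lit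 1],Ins.ts (nat_lit 0) [nat_lit 0,nat_lit 0] [],Ins.ts (nat_lit 3) [nat_lit 0] [],Ins.ts (nat_lit 2) [nat_lit 0,nat_lit 2] [],Ins.ts (nat_lit 1) [nat_lit 0] [],Ins.ts (nat_lit 1) [nat_lit 0,nat_lit 1] [],Ins.fr [nat_lit 2],Ins.ts (nat_lit 0) [nat_lit 0,nat_lit 0] [],Ins.ts (nat_lit 3) [nat_lit 0] [],Ins.ts (nat_lit 0) [nat_lit 1,nat_lit 0] [nat_lit 0,nat_lit 1],Ins.ts (nat_lit 1) [nat_lit 0] [],Ins.ts (nat_lit 3) [nat_lit 0,nat_lit 3] [],Ins.fr [nat_lit 1,nat_lit 3],Ins.ts (nat_lit 0) [nat_lit 0,nat_lit 0] [],Ins.ts (nat_lit 0) [nat_lit 1,nat_lit 2,nat_lit 0] [nat_lit 0,nat_lit 1],Ins.ts (nat_lit 4) [nat_lit 1,nat_lit 0,nat_lit 3,nat_lit 4] [nat_lit 0,nat_lit 0,nat_lit 1]] [(nat_lit 2,nat_lit 0)] (Cert.rep (nat_lit 8) [] [nat_lit 256,nat_lit 16,nat_lit 8,nat_lit 4,nat_lit 2,nat_lit 1] [nat_lit 512,nat_lit 64,nat_lit 192,nat_lit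 32] (Cert.rep (nat_lit 1) [nat_lit 2,nat_lit 16,nat_lit 256] [] [] (Cert.rep (nat_lit 2) [] [] [] (Cert.rep (nat_lit 4) [] [] [] Cert.nil (Cert.rep (nat_lit 5) [] [] [] Cert.nil (Cert.rep (nat_lit 6) [] [] [] Cert.nil (Cert.rep (nat_lit 7) [] [] [] Cert.nil (Cert.rep (nat_lit 12) [] [] [] Cert.nil (Cert.rep (nat_lit 13) [] [] [] Cert.nil (Cert.rep (nat_lit 14) [] [] [] Cert.nil (Cert.rep (nat_lit 15) [] [] [] Cert.nil Cert.nil)))))))) Cert.nil) Cert.nil) Cert.nil)))))))))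
noncomputable def f40_1 : Cert :=
  Cert.rep (nat_lit 8) [nat_lit 2,nat_lit 4,nat_lit 16,nat_lit 256] [nat_lit 256,nat_lit 16,nat_lit 8,nat_lit 4,nat_lit 2,nat_lit 1] [nat_lit 512,nat_lit 64,nat_lit 192,nat_lit 32] (Cert.rep (nat_lit 1) [] [] [] Cert.nil (Cert.rep (nat_lit 2) [nat_lit 2,nat_lit 4] [] [] (Cert.rep (nat_lit 260) [] [] [] (Cert.er (Cert.ro (nat_lit 0) [nat_lit 1,nat_lit 8,nat_lit 16] [nat_lit 8,nat_lit 9,nat_lit 16] [nat_lit 0,nat_lit 1,nat_lit 2,nat_lit 3,nat_lit 8,nat_lit 9,nat_lit 10,nat_lit 11] f40_0)) (Cert.rep (nat_lit 268) [] [] [] (Cert.er (Cert.ro (nat_lit 0) [nat_lit 1,nat_lit 8,nat_lit 16] [nat_lit 8,nat_lit 9,nat_lit 16] [nat_lit 0,nat_lit 1,nat_lit 2,nat_lit 3,nat_lit 8,nat_lit 9,nat_lit 10,nat_lit 11] (Cert.ro (nat_lit 1) [nat_lit 1,nat_lit 2,nat_lit 14,nat_lit 16] [nat_lit 1,nat_lit 14,nat_lit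 12,nat_lit 16] [nat_lit 0,nat_lit 1,nat_lit 16,nat_lit 17,nat_lit 270,nat_lit 271,nat_lit 287,nat_lit 286,nat_lit 8,nat_lit 9,nat_lit 24,nat_lit 25,nat_lit 262,nat_lit 263,nat_lit 279,nat_lit 278] (Cert.fu (nat_lit 1) (nat_lit 2) (nat_lit 8) (nat_lit 1) [nat_lit 0] [nat_lit 8,nat_lit 286,nat_lit 37] [] [] [nat_lit 256,nat_lit 32,nat_lit 16,nat_lit 8,nat_lit 4,nat_lit 2,nat_lit 1] [nat_lit 1] [[nat_lit 16,nat_lit 1]] [[nat_lit 1],[nat_lit 8,nat_lit 1],[nat_lit 286,nat_lit 1]] [Ins.ts (nat_lit 1) [nat_lit 0] [],Ins.fr [nat_lit 0],Ins.ts (nat_lit 2) [nat_lit 0] [],Ins.ts (nat_lit 4) [nat_lit 0] [nat_lit 0,nat_lit 0,nat_lit 1],Ins.ts (nat_lit 1) [nat_lit 0] [],Ins.fr [nat_lit 1],Ins.ts (nat_lit 4) [nat_lit 0] [nat_lit 0,nat_lit 0,nat_lit 2],Ins.ts (nat_lit 1) [nat_lit 0] [],Ins.ts (nat_lit 0) [nat_lit 0,nat_lit 0] [nat_lit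 2],Ins.fr [nat_lit 2],Ins.ts (nat_lit 0) [nat_lit 0,nat_lit 0] [nat_lit 3],Ins.ts (nat_lit 2) [nat_lit 1,nat_lit 0,nat_lit 2] [],Ins.ts (nat_lit 0) [nat_lit 1,nat_lit 0,nat_lit 1] [nat_lit 0],Ins.ts (nat_lit 0) [nat_lit 0,nat_lit 2,nat_lit 0] [nat_lit 2],Ins.ts (nat_lit 3) [nat_lit 2,nat_lit 0] []] [] (Cert.rep (nat_lit 1) [nat_lit 32] [nat_lit 256,nat_lit 32,nat_lit 16,nat_lit 8,nat_lit 4,nat_lit 2,nat_lit 1] [] (Cert.rep (nat_lit 8) [nat_lit 2] [] [] (Cert.rep (nat_lit 16) [] [] [] Cert.nil Cert.nil) Cert.nil) Cert.nil))))) Cert.nil)) (Cert.rep (nat_lit 4) [] [] [] Cert.nil (Cert.rep (nat_lit 6) [nat_lit 2,nat_lit 4] [] [] (Cert.rep (nat_lit 256) [] [] [] (Cert.er (Cert.ro (nat_lit 0) [nat_lit 1,nat_lit 8,nat_lit 16] [nat_lit 8,nat_lit 9,nat_lit 16] [nat_lit 0,nat_lit 1,nat_lit 6,nat_lit 7,nat_lit 8,nat_lit 9,nat_lit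 14,nat_lit 15] (Cert.ro (nat_lit 1) [nat_lit 1,nat_lit 2,nat_lit 14,nat_lit 16] [nat_lit 1,nat_lit 14,nat_lit 12,nat_lit 16] [nat_lit 0,nat_lit 1,nat_lit 17,nat_lit 16,nat_lit 262,nat_lit 263,nat_lit 278,nat_lit 279,nat_lit 8,nat_lit 9,nat_lit 25,nat_lit 24,nat_lit 270,nat_lit 271,nat_lit 286,nat_lit 287] (Cert.lf (Leaf.st (nat_lit 2) (nat_lit 1) (nat_lit 5) (Leaf.cf (nat_lit 14))))))) (Cert.rep (nat_lit 264) [] [] [] (Cert.er (Cert.ro (nat_lit 0) [nat_lit 1,nat_lit 8,nat_lit 16] [nat_lit 8,nat_lit 9,nat_lit 16] [nat_lit 0,nat_lit 1,nat_lit 6,nat_lit 7,nat_lit 8,nat_lit 9,nat_lit 14,nat_lit 15] (Cert.ro (nat_lit 1) [nat_lit 1,nat_lit 2,nat_lit 14,nat_lit 16] [nat_lit 1,nat_lit 14,nat_lit 12,nat_lit 16] [nat_lit 0,nat_lit 1,nat_lit 17,nat_lit 16,nat_lit 270,nat_lit 271,nat_lit 286,nat_lit 287,nat_lit 8,nat_lit 9,nat_lit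 25,nat_lit 24,nat_lit 262,nat_lit 263,nat_lit 278,nat_lit 279] (Cert.lf (Leaf.st (nat_lit 2) (nat_lit 1) (nat_lit 5) (Leaf.cf (nat_lit 14))))))) Cert.nil)) (Cert.rep (nat_lit 9) [] [] [] Cert.nil (Cert.rep (nat_lit 10) [nat_lit 2,nat_lit 4] [] [] (Cert.rep (nat_lit 260) [] [] [] (Cert.er (Cert.ro (nat_lit 0) [nat_lit 1,nat_lit 8,nat_lit 16] [nat_lit 8,nat_lit 9,nat_lit 16] [nat_lit 0,nat_lit 1,nat_lit 10,nat_lit 11,nat_lit 8,nat_lit 9,nat_lit 2,nat_lit 3] (Cert.ro (nat_lit 1) [nat_lit 1,nat_lit 2,nat_lit 14,nat_lit 16] [nat_lit 1,nat_lit 14,nat_lit 12,nat_lit 16] [nat_lit 0,nat_lit 1,nat_lit 16,nat_lit 17,nat_lit 270,nat_lit 271,nat_lit 287,nat_lit 286,nat_lit 8,nat_lit 9,nat_lit 24,nat_lit 25,nat_lit 262,nat_lit 263,nat_lit 279,nat_lit 278] (Cert.lf (Leaf.st (nat_lit 2) (nat_lit 1) (nat_lit 1) (Leaf.cf (nat_lit 1)))))))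 (Cert.rep (nat_lit 268) [] [] [] (Cert.er (Cert.ro (nat_lit 0) [nat_lit 1,nat_lit 8,nat_lit 16] [nat_lit 8,nat_lit 9,nat_lit 16] [nat_lit 0,nat_lit 1,nat_lit 10,nat_lit 11,nat_lit 8,nat_lit 9,nat_lit 2,nat_lit 3] (Cert.ro (nat_lit 1) [nat_lit 1,nat_lit 2,nat_lit 14,nat_lit 16] [nat_lit 1,nat_lit 14,nat_lit 12,nat_lit 16] [nat_lit 0,nat_lit 1,nat_lit 16,nat_lit 17,nat_lit 262,nat_lit 263,nat_lit 279,nat_lit 278,nat_lit 8,nat_lit 9,nat_lit 24,nat_lit 25,nat_lit 270,nat_lit 271,nat_lit 287,nat_lit 286] (Cert.lf (Leaf.st (nat_lit 2) (nat_lit 1) (nat_lit 1) (Leaf.cf (nat_lit 1))))))) Cert.nil)) (Cert.rep (nat_lit 12) [] [] [] Cert.nil (Cert.rep (nat_lit 14) [nat_lit 2,nat_lit 4] [] [] (Cert.rep (nat_lit 256) [] [] [] (Cert.er (Cert.ro (nat_lit 0) [nat_lit 1,nat_lit 8,nat_lit 16] [nat_lit 8,nat_lit 9,nat_lit 16] [nat_lit 0,nat_lit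 1,nat_lit 14,nat_lit 15,nat_lit 8,nat_lit 9,nat_lit 6,nat_lit 7] (Cert.ro (nat_lit 1) [nat_lit 1,nat_lit 2,nat_lit 14,nat_lit 16] [nat_lit 1,nat_lit 14,nat_lit 12,nat_lit 16] [nat_lit 0,nat_lit 1,nat_lit 17,nat_lit 16,nat_lit 270,nat_lit 271,nat_lit 286,nat_lit 287,nat_lit 8,nat_lit 9,nat_lit 25,nat_lit 24,nat_lit 262,nat_lit 263,nat_lit 278,nat_lit 279] (Cert.lf (Leaf.st (nat_lit 2) (nat_lit 1) (nat_lit 5) (Leaf.cf (nat_lit 6))))))) (Cert.rep (nat_lit 264) [] [] [] (Cert.er (Cert.ro (nat_lit 0) [nat_lit 1,nat_lit 8,nat_lit 16] [nat_lit 8,nat_lit 9,nat_lit 16] [nat_lit 0,nat_lit 1,nat_lit 14,nat_lit 15,nat_lit 8,nat_lit 9,nat_lit 6,nat_lit 7] (Cert.ro (nat_lit 1) [nat_lit 1,nat_lit 2,nat_lit 14,nat_lit 16] [nat_lit 1,nat_lit 14,nat_lit 12,nat_lit 16] [nat_lit 0,nat_lit 1,nat_lit 17,nat_lit 16,nat_lit 262,nat_lit 263,nat_lit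 278,nat_lit 279,nat_lit 8,nat_lit 9,nat_lit 25,nat_lit 24,nat_lit 270,nat_lit 271,nat_lit 286,nat_lit 287] (Cert.lf (Leaf.st (nat_lit 2) (nat_lit 1) (nat_lit 5) (Leaf.cf (nat_lit 6))))))) Cert.nil)) (Cert.rep (nat_lit 258) [] [] [] Cert.nil (Cert.rep (nat_lit 266) [] [] [] Cert.nil Cert.nil)))))))))) Cert.nil
noncomputable def f40 : Cert :=
  (Cert.st (nat_lit 0) (nat_lit 8) (nat_lit 0) (Cert.sp (nat_lit 1) (Cert.lf (Leaf.pt (nat_lit 7) (nat_lit 1) [nat_lit 8,nat_lit 16])) (Cert.sp (nat_lit 2) (Cert.lf (Leaf.pt (nat_lit 0) (nat_lit 2) [nat_lit 96])) (Cert.st (nat_lit 0) (nat_lit 2) (nat_lit 0) (Cert.sp (nat_lit 4) (Cert.lf (Leaf.pt (nat_lit 7) (nat_lit 4) [nat_lit 8,nat_lit 16])) (Cert.st (nat_lit 0) (nat_lit 4) (nat_lit 0) (Cert.sp (nat_lit 12) (Cert.lf (Leaf.pt (nat_lit 7) (nat_lit 12) [nat_lit 8,nat_lit 16])) (Cert.st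 (nat_lit 0) (nat_lit 12) (nat_lit 0) (Cert.sp (nat_lit 14) (Cert.lf (Leaf.pt (nat_lit 11) (nat_lit 14) [nat_lit 2,nat_lit 64,nat_lit 1])) (Cert.st (nat_lit 0) (nat_lit 14) (nat_lit 0) (Cert.sp (nat_lit 44) (Cert.lf (Leaf.pt (nat_lit 11) (nat_lit 44) [nat_lit 12,nat_lit 84,nat_lit 1])) (Cert.st (nat_lit 0) (nat_lit 44) (nat_lit 0) (Cert.sp (nat_lit 68) (Cert.lf (Leaf.st (nat_lit 1) (nat_lit 516) (nat_lit 68) (Leaf.pt (nat_lit 7) (nat_lit 68) [nat_lit 69,nat_lit 130]))) (Cert.st (nat_lit 0) (nat_lit 68) (nat_lit 0) (Cert.sp (nat_lit 72) (Cert.lf (Leaf.pt (nat_lit 11) (nat_lit 72) [nat_lit 12,nat_lit 130,nat_lit 1])) (Cert.st (nat_lit 0) (nat_lit 72) (nat_lit 0) (Cert.sp (nat_lit 73) (Cert.lf (Leaf.pt (nat_lit 11) (nat_lit 73) [nat_lit 1,nat_lit 130,nat_lit 12])) (Cert.st (nat_lit 0) (nat_lit 73) (nat_lit 0) (Cert.sp (nat_lit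 266) (Cert.lf (Leaf.pt (nat_lit 7) (nat_lit 266) [nat_lit 8,nat_lit 20])) (Cert.st (nat_lit 0) (nat_lit 266) (nat_lit 0) (Cert.sp (nat_lit 518) (Cert.lf (Leaf.st (nat_lit 1) (nat_lit 68) (nat_lit 518) (Leaf.pt (nat_lit 7) (nat_lit 518) [nat_lit 519,nat_lit 198]))) (Cert.st (nat_lit 0) (nat_lit 518) (nat_lit 0) (Cert.nl (nat_lit 1) (Cert.sy (nat_lit 0) (Cert.root (nat_lit 32) [] [nat_lit 8,nat_lit 4] [nat_lit 0,nat_lit 1,nat_lit 2,nat_lit 3,nat_lit 4] [Ins.fr [nat_lit 0],Ins.ts (nat_lit 0) [nat_lit 0,nat_lit 0] [],Ins.ts (nat_lit 1) [nat_lit 0] [],Ins.ts (nat_lit 1) [nat_lit 0,nat_lit 1] [],Ins.fr [nat_lit 1],Ins.ts (nat_lit 1) [nat_lit 0,nat_lit 0] [],Ins.ts (nat_lit 0) [nat_lit 1,nat_lit 0,nat_lit 1] [nat_lit 0,nat_lit 0,nat_lit 0],Ins.ts (nat_lit 1) [nat_lit 0,nat_lit 0,nat_lit 0,nat_lit 0] [],Ins.df [nat_lit 0,nat_lit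 0],Ins.df [nat_lit 0,nat_lit 0]] f40_1)))))))))))))))))))))))))
theorem fin40 : finOK DB PT 88 t88 40 t40 (nat_lit 0xc000000c00000000000000000000000000000000000000000030000000000300030000300000000000000000000000000000000000000000000c00000000c030c03c0000c30c030000000000000000000000000000000000cc00cc0c0c0c0c0330033003300330c00c3003c00c300300000ff000000ff0c33cf00fccccffff) f40 = true := by
  decide +kernel
noncomputable def f47 : Cert :=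
  (Cert.st (nat_lit 0) (nat_lit 8) (nat_lit 0) (Cert.sp (nat_lit 1) (Cert.lf (Leaf.pt (nat_lit 7) (nat_lit 1) [nat_lit 8,nat_lit 16])) (Cert.sp (nat_lit 2) (Cert.lf (Leaf.pt (nat_lit 0) (nat_lit 2) [nat_lit 96])) (Cert.st (nat_lit 0) (nat_lit 2) (nat_lit 0) (Cert.sp (nat_lit 4) (Cert.lf (Leaf.pt (nat_lit 7) (nat_lit 4) [nat_lit 8,nat_lit 16])) (Cert.st (nat_lit 0) (nat_lit 4) (nat_lit 0) (Cert.sp (nat_lit 12) (Cert.lf (Leaf.pt (nat_lit 7) (nat_lit 12) [nat_lit 8,nat_lit 16])) (Cert.sp (nat_lit 13) (Cert.lf (Leaf.pt (nat_lit 7) (nat_lit 13) [nat_lit 8,nat_lit 16])) (Cert.sp (nat_lit 14) (Cert.lf (Leaf.pt (nat_lit 11) (nat_lit 14) [nat_lit 2,nat_lit 64,nat_lit 1])) (Cert.st (nat_lit 0) (nat_lit 14) (nat_lit 0) (Cert.sp (nat_lit 18) (Cert.lf (Leaf.pt (nat_lit 0) (nat_lit 18) [nat_lit 164])) (Cert.st (nat_lit 0) (nat_lit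 18) (nat_lit 0) (Cert.sp (nat_lit 30) (Cert.lf (Leaf.pt (nat_lit 11) (nat_lit 30) [nat_lit 12,nat_lit 132,nat_lit 1])) (Cert.st (nat_lit 0) (nat_lit 30) (nat_lit 0) (Cert.sp (nat_lit 32) (Cert.lf (Leaf.pt (nat_lit 0) (nat_lit 32) [nat_lit 84])) (Cert.st (nat_lit 0) (nat_lit 32) (nat_lit 0) (Cert.sp (nat_lit 44) (Cert.lf (Leaf.pt (nat_lit 11) (nat_lit 44) [nat_lit 12,nat_lit 84,nat_lit 1])) (Cert.st (nat_lit 0) (nat_lit 44) (nat_lit 0) (Cert.sp (nat_lit 68) (Cert.lf (Leaf.st (nat_lit 1) (nat_lit 128) (nat_lit 68) (Leaf.st (nat_lit 1) (nat_lit 4) (nat_lit 68) (Leaf.st (nat_lit 1) (nat_lit 144) (nat_lit 68) (Leaf.pt (nat_lit 15) (nat_lit 68) [nat_lit 1,nat_lit 2,nat_lit 44]))))) (Cert.st (nat_lit 0) (nat_lit 68) (nat_lit 0) (Cert.sp (nat_lit 72) (Cert.lf (Leaf.st (nat_lit 1) (nat_lit 128) (nat_lit 72) (Leaf.st (nat_lit 1)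 (nat_lit 4) (nat_lit 72) (Leaf.st (nat_lit 1) (nat_lit 144) (nat_lit 72) (Leaf.pt (nat_lit 15) (nat_lit 72) [nat_lit 1,nat_lit 2,nat_lit 44]))))) (Cert.st (nat_lit 0) (nat_lit 72) (nat_lit 0) (Cert.sp (nat_lit 128) (Cert.lf (Leaf.st (nat_lit 1) (nat_lit 68) (nat_lit 128) (Leaf.st (nat_lit 1) (nat_lit 4) (nat_lit 128) (Leaf.st (nat_lit 1) (nat_lit 2) (nat_lit 128) (Leaf.pt (nat_lit 15) (nat_lit 128) [nat_lit 1,nat_lit 18,nat_lit 44]))))) (Cert.st (nat_lit 0) (nat_lit 128) (nat_lit 0) (Cert.sp (nat_lit 140) (Cert.lf (Leaf.st (nat_lit 1) (nat_lit 68) (nat_lit 140) (Leaf.st (nat_lit 1) (nat_lit 4) (nat_lit 140) (Leaf.st (nat_lit 1) (nat_lit 2) (nat_lit 140) (Leaf.pt (nat_lit 15) (nat_lit 140) [nat_lit 1,nat_lit 18,nat_lit 44]))))) (Cert.st (nat_lit 0) (nat_lit 140) (nat_lit 0) (Cert.nl (nat_lit 1) (Cert.sy (nat_lit 0) (Cert.root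 (nat_lit 32) [] [nat_lit 8,nat_lit 4] [] [Ins.fr [nat_lit 0],Ins.ts (nat_lit 0) [nat_lit 0,nat_lit 0] [],Ins.ts (nat_lit 1) [nat_lit 0] [],Ins.ts (nat_lit 1) [nat_lit 0,nat_lit 1] [],Ins.fr [nat_lit 1],Ins.ts (nat_lit 1) [nat_lit 0,nat_lit 0] [],Ins.ts (nat_lit 1) [nat_lit 0,nat_lit 0,nat_lit 0,nat_lit 0] []] (Cert.rep (nat_lit 8) [nat_lit 2,nat_lit 16] [nat_lit 16,nat_lit 8,nat_lit 4,nat_lit 2,nat_lit 1] [nat_lit 128,nat_lit 64,nat_lit 32] (Cert.rep (nat_lit 1) [] [] [] Cert.nil (Cert.rep (nat_lit 2) [] [] [] Cert.nil (Cert.rep (nat_lit 4) [] [] [] Cert.nil (Cert.rep (nat_lit 5) [] [] [] Cert.nil (Cert.rep (nat_lit 6) [] [] [] Cert.nil (Cert.rep (nat_lit 9) [] [] [] Cert.nil (Cert.rep (nat_lit 10) [] [] [] Cert.nil (Cert.rep (nat_lit 12) [] [] [] Cert.nil (Cert.rep (nat_lit 13) [] [] [] Cert.nil (Cert.rep (nat_lit 14)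 [] [] [] Cert.nil (Cert.rep (nat_lit 18) [] [] [] Cert.nil (Cert.rep (nat_lit 22) [] [] [] Cert.nil (Cert.rep (nat_lit 26) [] [] [] Cert.nil (Cert.rep (nat_lit 30) [] [] [] Cert.nil Cert.nil)))))))))))))) Cert.nil))))))))))))))))))))))))))))))
theorem fin47 : finOK DB PT 88 t88 47 t47 (nat_lit 0xc00c3003c00c300300000ff000000ff0c33cf00fccccffff) f47 = true := by
  decide +kernel
noncomputable def f49 : Cert :=
  (Cert.st (nat_lit 0) (nat_lit 8) (nat_lit 0) (Cert.sp (nat_lit 1) (Cert.lf (Leaf.pt (nat_lit 7) (nat_lit 1) [nat_lit 8,nat_lit 16])) (Cert.sp (nat_lit 2) (Cert.lf (Leaf.pt (nat_lit 0) (nat_lit 2) [nat_lit 96])) (Cert.st (nat_lit 0) (nat_lit 2) (nat_lit 0) (Cert.sp (nat_lit 4) (Cert.lf (Leaf.pt (nat_lit 7) (nat_lit 4) [nat_lit 8,nat_lit 16])) (Cert.st (nat_lit 0) (nat_lit 4) (nat_lit 0) (Cert.sp (nat_lit 12) (Cert.lf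 (Leaf.pt (nat_lit 7) (nat_lit 12) [nat_lit 8,nat_lit 16])) (Cert.sp (nat_lit 13) (Cert.lf (Leaf.pt (nat_lit 7) (nat_lit 13) [nat_lit 8,nat_lit 16])) (Cert.sp (nat_lit 14) (Cert.lf (Leaf.pt (nat_lit 11) (nat_lit 14) [nat_lit 2,nat_lit 64,nat_lit 1])) (Cert.st (nat_lit 0) (nat_lit 14) (nat_lit 0) (Cert.sp (nat_lit 18) (Cert.lf (Leaf.pt (nat_lit 0) (nat_lit 18) [nat_lit 132])) (Cert.st (nat_lit 0) (nat_lit 18) (nat_lit 0) (Cert.sp (nat_lit 30) (Cert.lf (Leaf.pt (nat_lit 11) (nat_lit 30) [nat_lit 12,nat_lit 128,nat_lit 1])) (Cert.st (nat_lit 0) (nat_lit 30) (nat_lit 0) (Cert.sp (nat_lit 32) (Cert.lf (Leaf.pt (nat_lit 11) (nat_lit 32) [nat_lit 18,nat_lit 128,nat_lit 1])) (Cert.st (nat_lit 0) (nat_lit 32) (nat_lit 0) (Cert.sp (nat_lit 44) (Cert.lf (Leaf.pt (nat_lit 11) (nat_lit 44) [nat_lit 12,nat_lit 84,nat_lit 1])) (Cert.st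 (nat_lit 0) (nat_lit 44) (nat_lit 0) (Cert.sp (nat_lit 68) (Cert.lf (Leaf.st (nat_lit 1) (nat_lit 128) (nat_lit 68) (Leaf.st (nat_lit 1) (nat_lit 4) (nat_lit 68) (Leaf.st (nat_lit 1) (nat_lit 144) (nat_lit 68) (Leaf.pt (nat_lit 15) (nat_lit 68) [nat_lit 1,nat_lit 2,nat_lit 44]))))) (Cert.st (nat_lit 0) (nat_lit 68) (nat_lit 0) (Cert.sp (nat_lit 72) (Cert.lf (Leaf.st (nat_lit 1) (nat_lit 128) (nat_lit 72) (Leaf.st (nat_lit 1) (nat_lit 4) (nat_lit 72) (Leaf.st (nat_lit 1) (nat_lit 144) (nat_lit 72) (Leaf.pt (nat_lit 15) (nat_lit 72) [nat_lit 1,nat_lit 2,nat_lit 44]))))) (Cert.st (nat_lit 0) (nat_lit 72) (nat_lit 0) (Cert.nl (nat_lit 1) (Cert.sy (nat_lit 0) (Cert.root (nat_lit 32) [] [nat_lit 8,nat_lit 4] [] [Ins.fr [nat_lit 0],Ins.ts (nat_lit 0) [nat_lit 0,nat_lit 0] [],Ins.ts (nat_lit 1) [nat_lit 0] [],Ins.ts (nat_lit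 1) [nat_lit 0,nat_lit 1] [],Ins.fr [nat_lit 1],Ins.ts (nat_lit 1) [nat_lit 0,nat_lit 0] [],Ins.ts (nat_lit 1) [nat_lit 0,nat_lit 0,nat_lit 0,nat_lit 0] []] (Cert.rep (nat_lit 8) [nat_lit 2,nat_lit 16] [nat_lit 16,nat_lit 8,nat_lit 4,nat_lit 2,nat_lit 1] [nat_lit 128,nat_lit 64,nat_lit 32] (Cert.rep (nat_lit 1) [] [] [] Cert.nil (Cert.rep (nat_lit 2) [] [] [] Cert.nil (Cert.rep (nat_lit 4) [] [] [] Cert.nil (Cert.rep (nat_lit 5) [] [] [] Cert.nil (Cert.rep (nat_lit 6) [] [] [] Cert.nil (Cert.rep (nat_lit 9) [] [] [] Cert.nil (Cert.rep (nat_lit 10) [] [] [] Cert.nil (Cert.rep (nat_lit 12) [] [] [] Cert.nil (Cert.rep (nat_lit 13) [] [] [] Cert.nil (Cert.rep (nat_lit 14) [] [] [] Cert.nil (Cert.rep (nat_lit 18) [] [] [] Cert.nil (Cert.rep (nat_lit 22) [] [] [] Cert.nil (Cert.rep (nat_lit 26) [] [] [] Cert.nil (Cert.rep (nat_lit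 30) [] [] [] Cert.nil Cert.nil)))))))))))))) Cert.nil))))))))))))))))))))))))))
theorem fin49 : finOK DB PT 88 t88 49 t49 (nat_lit 0xff000000ff0c33cf00fccccffff) f49 = true := by
  decide +kernel
noncomputable def f60_0 : Cert :=
  Cert.rep (nat_lit 8) [nat_lit 2,nat_lit 16] [nat_lit 16,nat_lit 8,nat_lit 4,nat_lit 2,nat_lit 1] [nat_lit 256,nat_lit 128,nat_lit 64,nat_lit 32] (Cert.rep (nat_lit 1) [] [] [] Cert.nil (Cert.rep (nat_lit 2) [] [] [] Cert.nil (Cert.rep (nat_lit 4) [] [] [] Cert.nil (Cert.rep (nat_lit 5) [] [] [] Cert.nil (Cert.rep (nat_lit 6) [] [] [] Cert.nil (Cert.rep (nat_lit 9) [] [] [] Cert.nil (Cert.rep (nat_lit 10) [] [] [] Cert.nil (Cert.rep (nat_lit 12) [] [] [] Cert.nil (Cert.rep (nat_lit 13) [] [] [] Cert.nil (Cert.rep (nat_lit 14) [] [] [] Cert.nil (Cert.rep (nat_lit 18) [] [] [] Cert.nil (Cert.rep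 (nat_lit 22) [] [] [] Cert.nil (Cert.rep (nat_lit 26) [] [] [] Cert.nil (Cert.rep (nat_lit 30) [] [] [] Cert.nil Cert.nil)))))))))))))) (Cert.rep (nat_lit 26) [nat_lit 4,nat_lit 8,nat_lit 34,nat_lit 192] [nat_lit 192,nat_lit 34,nat_lit 18,nat_lit 8,nat_lit 4,nat_lit 1] [nat_lit 256,nat_lit 64,nat_lit 2] (Cert.rep (nat_lit 1) [] [] [] Cert.nil (Cert.rep (nat_lit 4) [nat_lit 4,nat_lit 8] [] [] (Cert.rep (nat_lit 204) [] [] [] (Cert.er (Cert.ro (nat_lit 0) [nat_lit 1,nat_lit 8,nat_lit 16] [nat_lit 8,nat_lit 9,nat_lit 16] [nat_lit 0,nat_lit 1,nat_lit 4,nat_lit 5,nat_lit 26,nat_lit 27,nat_lit 30,nat_lit 31] (Cert.ro (nat_lit 1) [nat_lit 1,nat_lit 2,nat_lit 14,nat_lit 16] [nat_lit 1,nat_lit 14,nat_lit 12,nat_lit 16] [nat_lit 0,nat_lit 1,nat_lit 42,nat_lit 43,nat_lit 200,nat_lit 201,nat_lit 227,nat_lit 226,nat_lit 26,nat_lit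 27,nat_lit 49,nat_lit 48,nat_lit 210,nat_lit 211,nat_lit 248,nat_lit 249] (Cert.lf (Leaf.st (nat_lit 2) (nat_lit 1) (nat_lit 5) (Leaf.cf (nat_lit 30))))))) (Cert.rep (nat_lit 214) [] [] [] (Cert.er (Cert.ro (nat_lit 0) [nat_lit 1,nat_lit 8,nat_lit 16] [nat_lit 8,nat_lit 9,nat_lit 16] [nat_lit 0,nat_lit 1,nat_lit 4,nat_lit 5,nat_lit 26,nat_lit 27,nat_lit 30,nat_lit 31] (Cert.ro (nat_lit 1) [nat_lit 1,nat_lit 2,nat_lit 14,nat_lit 16] [nat_lit 1,nat_lit 14,nat_lit 12,nat_lit 16] [nat_lit 0,nat_lit 1,nat_lit 42,nat_lit 43,nat_lit 210,nat_lit 211,nat_lit 248,nat_lit 249,nat_lit 26,nat_lit 27,nat_lit 49,nat_lit 48,nat_lit 200,nat_lit 201,nat_lit 227,nat_lit 226] (Cert.lf (Leaf.st (nat_lit 2) (nat_lit 1) (nat_lit 5) (Leaf.cf (nat_lit 30))))))) Cert.nil)) (Cert.rep (nat_lit 8) [nat_lit 4,nat_lit 8] [] [] (Cert.rep (nat_lit 192)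 [] [] [] (Cert.er (Cert.ro (nat_lit 0) [nat_lit 1,nat_lit 8,nat_lit 16] [nat_lit 8,nat_lit 9,nat_lit 16] [nat_lit 0,nat_lit 1,nat_lit 8,nat_lit 9,nat_lit 26,nat_lit 27,nat_lit 18,nat_lit 19] (Cert.ro (nat_lit 1) [nat_lit 1,nat_lit 2,nat_lit 14,nat_lit 16] [nat_lit 1,nat_lit 14,nat_lit 12,nat_lit 16] [nat_lit 0,nat_lit 1,nat_lit 43,nat_lit 42,nat_lit 200,nat_lit 201,nat_lit 226,nat_lit 227,nat_lit 26,nat_lit 27,nat_lit 48,nat_lit 49,nat_lit 210,nat_lit 211,nat_lit 249,nat_lit 248] (Cert.lf (Leaf.st (nat_lit 2) (nat_lit 1) (nat_lit 1) (Leaf.cf (nat_lit 1))))))) (Cert.rep (nat_lit 218) [] [] [] (Cert.er (Cert.ro (nat_lit 0) [nat_lit 1,nat_lit 8,nat_lit 16] [nat_lit 8,nat_lit 9,nat_lit 16] [nat_lit 0,nat_lit 1,nat_lit 8,nat_lit 9,nat_lit 26,nat_lit 27,nat_lit 18,nat_lit 19] (Cert.ro (nat_lit 1) [nat_lit 1,nat_lit 2,nat_lit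 14,nat_lit 16] [nat_lit 1,nat_lit 14,nat_lit 12,nat_lit 16] [nat_lit 0,nat_lit 1,nat_lit 43,nat_lit 42,nat_lit 210,nat_lit 211,nat_lit 249,nat_lit 248,nat_lit 26,nat_lit 27,nat_lit 48,nat_lit 49,nat_lit 200,nat_lit 201,nat_lit 226,nat_lit 227] (Cert.lf (Leaf.st (nat_lit 2) (nat_lit 1) (nat_lit 1) (Leaf.cf (nat_lit 1))))))) Cert.nil)) (Cert.rep (nat_lit 12) [] [] [] Cert.nil (Cert.rep (nat_lit 18) [nat_lit 4,nat_lit 8] [] [] (Cert.rep (nat_lit 192) [] [] [] (Cert.er (Cert.ro (nat_lit 0) [nat_lit 1,nat_lit 8,nat_lit 16] [nat_lit 8,nat_lit 9,nat_lit 16] [nat_lit 0,nat_lit 1,nat_lit 18,nat_lit 19,nat_lit 26,nat_lit 27,nat_lit 8,nat_lit 9] (Cert.ro (nat_lit 1) [nat_lit 1,nat_lit 2,nat_lit 14,nat_lit 16] [nat_lit 1,nat_lit 14,nat_lit 12,nat_lit 16] [nat_lit 0,nat_lit 1,nat_lit 43,nat_lit 42,nat_lit 210,nat_lit 211,nat_lit 249,nat_lit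 248,nat_lit 26,nat_lit 27,nat_lit 48,nat_lit 49,nat_lit 200,nat_lit 201,nat_lit 226,nat_lit 227] (Cert.kw (nat_lit 2) (nat_lit 0) (nat_lit 2) (nat_lit 1) )))) (Cert.rep (nat_lit 218) [] [] [] (Cert.er (Cert.ro (nat_lit 0) [nat_lit 1,nat_lit 8,nat_lit 16] [nat_lit 8,nat_lit 9,nat_lit 16] [nat_lit 0,nat_lit 1,nat_lit 18,nat_lit 19,nat_lit 26,nat_lit 27,nat_lit 8,nat_lit 9] (Cert.ro (nat_lit 1) [nat_lit 1,nat_lit 2,nat_lit 14,nat_lit 16] [nat_lit 1,nat_lit 14,nat_lit 12,nat_lit 16] [nat_lit 0,nat_lit 1,nat_lit 43,nat_lit 42,nat_lit 200,nat_lit 201,nat_lit 226,nat_lit 227,nat_lit 26,nat_lit 27,nat_lit 48,nat_lit 49,nat_lit 210,nat_lit 211,nat_lit 249,nat_lit 248] (Cert.kw (nat_lit 2) (nat_lit 0) (nat_lit 2) (nat_lit 1) )))) Cert.nil)) (Cert.rep (nat_lit 22) [] [] [] Cert.nil (Cert.rep (nat_lit 27) [] [] [] Cert.nil (Cert.rep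 (nat_lit 30) [nat_lit 4,nat_lit 8] [] [] (Cert.rep (nat_lit 204) [] [] [] (Cert.er (Cert.ro (nat_lit 0) [nat_lit 1,nat_lit 8,nat_lit 16] [nat_lit 8,nat_lit 9,nat_lit 16] [nat_lit 0,nat_lit 1,nat_lit 30,nat_lit 31,nat_lit 26,nat_lit 27,nat_lit 4,nat_lit 5] (Cert.ro (nat_lit 1) [nat_lit 1,nat_lit 2,nat_lit 14,nat_lit 16] [nat_lit 1,nat_lit 14,nat_lit 12,nat_lit 16] [nat_lit 0,nat_lit 1,nat_lit 42,nat_lit 43,nat_lit 210,nat_lit 211,nat_lit 248,nat_lit 249,nat_lit 26,nat_lit 27,nat_lit 49,nat_lit 48,nat_lit 200,nat_lit 201,nat_lit 227,nat_lit 226] (Cert.lf (Leaf.st (nat_lit 2) (nat_lit 1) (nat_lit 5) (Leaf.cf (nat_lit 4))))))) (Cert.rep (nat_lit 214) [] [] [] (Cert.er (Cert.ro (nat_lit 0) [nat_lit 1,nat_lit 8,nat_lit 16] [nat_lit 8,nat_lit 9,nat_lit 16] [nat_lit 0,nat_lit 1,nat_lit 30,nat_lit 31,nat_lit 26,nat_lit 27,nat_lit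 4,nat_lit 5] (Cert.ro (nat_lit 1) [nat_lit 1,nat_lit 2,nat_lit 14,nat_lit 16] [nat_lit 1,nat_lit 14,nat_lit 12,nat_lit 16] [nat_lit 0,nat_lit 1,nat_lit 42,nat_lit 43,nat_lit 200,nat_lit 201,nat_lit 227,nat_lit 226,nat_lit 26,nat_lit 27,nat_lit 49,nat_lit 48,nat_lit 210,nat_lit 211,nat_lit 248,nat_lit 249] (Cert.lf (Leaf.st (nat_lit 2) (nat_lit 1) (nat_lit 5) (Leaf.cf (nat_lit 4))))))) Cert.nil)) (Cert.rep (nat_lit 196) [] [] [] Cert.nil (Cert.rep (nat_lit 222) [] [] [] Cert.nil Cert.nil)))))))))) Cert.nil)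
noncomputable def f60 : Cert :=
  (Cert.st (nat_lit 0) (nat_lit 8) (nat_lit 0) (Cert.st (nat_lit 0) (nat_lit 26) (nat_lit 0) (Cert.sp (nat_lit 1) (Cert.lf (Leaf.pt (nat_lit 7) (nat_lit 1) [nat_lit 8,nat_lit 16])) (Cert.sp (nat_lit 2) (Cert.lf (Leaf.pt (nat_lit 0) (nat_lit 2) [nat_lit 96])) (Cert.st (nat_lit 0) (nat_lit 2) (nat_lit 0) (Cert.sp (nat_lit 4) (Cert.lf (Leaf.pt (nat_lit 7) (nat_lit 4) [nat_lit 8,nat_lit 16])) (Cert.st (nat_lit 0) (nat_lit 4) (nat_lit 0) (Cert.sp (nat_lit 12) (Cert.lf (Leaf.pt (nat_lit 7) (nat_lit 12) [nat_lit 8,nat_lit 16])) (Cert.st (nat_lit 0) (nat_lit 12) (nat_lit 0) (Cert.sp (nat_lit 18) (Cert.lf (Leaf.pt (nat_lit 7) (nat_lit 18) [nat_lit 146,nat_lit 36])) (Cert.st (nat_lit 0) (nat_lit 18) (nat_lit 0) (Cert.sp (nat_lit 22) (Cert.lf (Leaf.pt (nat_lit 7) (nat_lit 22) [nat_lit 26,nat_lit 38]))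 (Cert.st (nat_lit 0) (nat_lit 22) (nat_lit 0) (Cert.sp (nat_lit 30) (Cert.lf (Leaf.pt (nat_lit 8) (nat_lit 30) [nat_lit 4,nat_lit 18])) (Cert.st (nat_lit 0) (nat_lit 30) (nat_lit 0) (Cert.sp (nat_lit 128) (Cert.lf (Leaf.pt (nat_lit 7) (nat_lit 128) [nat_lit 146,nat_lit 36])) (Cert.st (nat_lit 0) (nat_lit 128) (nat_lit 0) (Cert.sp (nat_lit 264) (Cert.lf (Leaf.st (nat_lit 1) (nat_lit 40) (nat_lit 264) (Leaf.pt (nat_lit 7) (nat_lit 264) [nat_lit 265,nat_lit 72]))) (Cert.st (nat_lit 0) (nat_lit 264) (nat_lit 0) (Cert.nl (nat_lit 1) (Cert.sy (nat_lit 0) (Cert.s2 (nat_lit 0) (nat_lit 18) (Cert.o1 (nat_lit 0) (nat_lit 18) (Cert.fu (nat_lit 8) (nat_lit 1) (nat_lit 0) (nat_lit 0) [] [nat_lit 18,nat_lit 1,nat_lit 4,nat_lit 32,nat_lit 128] [] [] [] [nat_lit 1] [[nat_lit 1]] [[nat_lit 18]] [Ins.fr [nat_lit 0],Ins.ts (nat_lit 4) [nat_lit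 0] [nat_lit 0,nat_lit 0,nat_lit 0],Ins.ts (nat_lit 1) [nat_lit 0] [],Ins.fr [nat_lit 1],Ins.ts (nat_lit 2) [nat_lit 0,nat_lit 2] [],Ins.ts (nat_lit 0) [nat_lit 0,nat_lit 0] [],Ins.ts (nat_lit 1) [nat_lit 0] [],Ins.ts (nat_lit 3) [nat_lit 0] [],Ins.ts (nat_lit 1) [nat_lit 0,nat_lit 1] [],Ins.fr [nat_lit 2],Ins.ts (nat_lit 3) [nat_lit 0] [],Ins.ts (nat_lit 0) [nat_lit 0,nat_lit 0] [],Ins.ts (nat_lit 3) [nat_lit 0,nat_lit 3] [],Ins.ts (nat_lit 0) [nat_lit 1,nat_lit 0] [nat_lit 0,nat_lit 1],Ins.fr [nat_lit 1,nat_lit 3],Ins.ts (nat_lit 0) [nat_lit 0,nat_lit 0] [],Ins.ts (nat_lit 2) [nat_lit 0] [],Ins.ts (nat_lit 0) [nat_lit 1,nat_lit 2,nat_lit 0] [nat_lit 0,nat_lit 1],Ins.fr [nat_lit 0],Ins.ts (nat_lit 0) [nat_lit 0,nat_lit 0] [],Ins.ts (nat_lit 2) [nat_lit 0,nat_lit 4] []] [] (Cert.rep (nat_lit 8) [] [nat_lit 16,nat_lit 8,nat_lit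 4,nat_lit 2,nat_lit 1] [nat_lit 256,nat_lit 128,nat_lit 64,nat_lit 32] (Cert.rep (nat_lit 1) [nat_lit 2,nat_lit 16] [] [] (Cert.rep (nat_lit 2) [] [] [] (Cert.rep (nat_lit 4) [nat_lit 4] [] [] (Cert.rep (nat_lit 76) [] [] [] Cert.nil (Cert.rep (nat_lit 77) [] [] [] Cert.nil Cert.nil)) (Cert.rep (nat_lit 5) [nat_lit 4] [] [] (Cert.rep (nat_lit 76) [] [] [] Cert.nil (Cert.rep (nat_lit 77) [] [] [] Cert.nil Cert.nil)) (Cert.rep (nat_lit 6) [nat_lit 4] [] [] (Cert.rep (nat_lit 76) [] [] [] Cert.nil (Cert.rep (nat_lit 77) [] [] [] Cert.nil Cert.nil)) (Cert.rep (nat_lit 7) [nat_lit 4] [] [] (Cert.rep (nat_lit 76) [] [] [] Cert.nil (Cert.rep (nat_lit 77) [] [] [] Cert.nil Cert.nil)) (Cert.rep (nat_lit 12) [] [] [] Cert.nil (Cert.rep (nat_lit 13) [] [] [] Cert.nil (Cert.rep (nat_lit 14) [] [] [] Cert.nil (Cert.rep (nat_lit 15)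 [] [] [] Cert.nil Cert.nil)))))))) (Cert.rep (nat_lit 18) [] [] [] (Cert.rep (nat_lit 4) [] [] [] Cert.nil (Cert.rep (nat_lit 5) [] [] [] Cert.nil (Cert.rep (nat_lit 12) [] [] [] Cert.nil (Cert.rep (nat_lit 13) [] [] [] Cert.nil (Cert.rep (nat_lit 22) [] [] [] Cert.nil (Cert.rep (nat_lit 23) [] [] [] Cert.nil (Cert.rep (nat_lit 30) [] [] [] Cert.nil (Cert.rep (nat_lit 31) [] [] [] Cert.nil Cert.nil)))))))) Cert.nil)) Cert.nil) (Cert.rep (nat_lit 26) [] [nat_lit 192,nat_lit 34,nat_lit 18,nat_lit 8,nat_lit 4,nat_lit 1] [nat_lit 256,nat_lit 64,nat_lit 2] (Cert.rep (nat_lit 1) [nat_lit 4,nat_lit 34,nat_lit 192] [] [] (Cert.rep (nat_lit 18) [] [] [] (Cert.rep (nat_lit 4) [] [] [] Cert.nil (Cert.rep (nat_lit 5) [] [] [] Cert.nil (Cert.rep (nat_lit 12) [] [] [] Cert.nil (Cert.rep (nat_lit 13) [] [] [] Cert.nil (Cert.rep (nat_lit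 22) [] [] [] Cert.nil (Cert.rep (nat_lit 23) [] [] [] Cert.nil (Cert.rep (nat_lit 30) [] [] [] Cert.nil (Cert.rep (nat_lit 31) [] [] [] Cert.nil Cert.nil)))))))) Cert.nil) Cert.nil) Cert.nil)))) (Cert.root (nat_lit 32) [] [nat_lit 8,nat_lit 4] [nat_lit 0,nat_lit 1,nat_lit 2,nat_lit 3,nat_lit 4] [Ins.fr [nat_lit 0],Ins.ts (nat_lit 0) [nat_lit 0,nat_lit 0] [],Ins.ts (nat_lit 1) [nat_lit 0] [],Ins.ts (nat_lit 1) [nat_lit 0,nat_lit 1] [],Ins.fr [nat_lit 1],Ins.ts (nat_lit 1) [nat_lit 0,nat_lit 0] [],Ins.ts (nat_lit 1) [nat_lit 0,nat_lit 0,nat_lit 0,nat_lit 0] [],Ins.ts (nat_lit 0) [nat_lit 1,nat_lit 0,nat_lit 1] [nat_lit 0,nat_lit 0,nat_lit 0],Ins.df [nat_lit 0,nat_lit 0],Ins.df [nat_lit 0,nat_lit 0]] f60_0)))))))))))))))))))))))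
theorem fin60 : finOK DB PT 88 t88 60 t60 (nat_lit 0xf000000000f000000f000000000f000000f00000f0000000000f00000f000c30f000c00300f00c300f00300c000f00000ff00000f00fc33cf00fccccffff) f60 = true := by
  decide +kernel
noncomputable def f68_0 : Cert :=
  Cert.rep (nat_lit 8) [nat_lit 4,nat_lit 8] [] [] (Cert.rep (nat_lit 192) [] [] [] (Cert.er (Cert.ro (nat_lit 0) [nat_lit 1,nat_lit 8,nat_lit 16] [nat_lit 8,nat_lit 9,nat_lit 16] [nat_lit 0,nat_lit 1,nat_lit 8,nat_lit 9,nat_lit 26,nat_lit 27,nat_lit 18,nat_lit 19] (Cert.ro (nat_lit 1) [nat_lit 1,nat_lit 2,nat_lit 14,nat_lit 16] [nat_lit 1,nat_lit 14,nat_lit 12,nat_lit 16] [nat_lit 0,nat_lit 1,nat_lit 43,nat_lit 42,nat_lit 200,nat_lit 201,nat_lit 226,nat_lit 227,nat_lit 26,nat_lit 27,nat_lit 48,nat_lit 49,nat_lit 210,nat_lit 211,nat_lit 249,nat_lit 248] (Cert.lf (Leaf.st (nat_lit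 2) (nat_lit 1) (nat_lit 1) (Leaf.cf (nat_lit 1))))))) (Cert.rep (nat_lit 218) [] [] [] (Cert.er (Cert.ro (nat_lit 0) [nat_lit 1,nat_lit 8,nat_lit 16] [nat_lit 8,nat_lit 9,nat_lit 16] [nat_lit 0,nat_lit 1,nat_lit 8,nat_lit 9,nat_lit 26,nat_lit 27,nat_lit 18,nat_lit 19] (Cert.ro (nat_lit 1) [nat_lit 1,nat_lit 2,nat_lit 14,nat_lit 16] [nat_lit 1,nat_lit 14,nat_lit 12,nat_lit 16] [nat_lit 0,nat_lit 1,nat_lit 43,nat_lit 42,nat_lit 210,nat_lit 211,nat_lit 249,nat_lit 248,nat_lit 26,nat_lit 27,nat_lit 48,nat_lit 49,nat_lit 200,nat_lit 201,nat_lit 226,nat_lit 227] (Cert.lf (Leaf.st (nat_lit 2) (nat_lit 1) (nat_lit 1) (Leaf.cf (nat_lit 1))))))) Cert.nil)) (Cert.rep (nat_lit 12) [] [] [] Cert.nil (Cert.rep (nat_lit 18) [nat_lit 4,nat_lit 8] [] [] (Cert.rep (nat_lit 192) [] [] [] (Cert.er (Cert.ro (nat_lit 0) [nat_lit 1,nat_lit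 8,nat_lit 16] [nat_lit 8,nat_lit 9,nat_lit 16] [nat_lit 0,nat_lit 1,nat_lit 18,nat_lit 19,nat_lit 26,nat_lit 27,nat_lit 8,nat_lit 9] (Cert.ro (nat_lit 1) [nat_lit 1,nat_lit 2,nat_lit 14,nat_lit 16] [nat_lit 1,nat_lit 14,nat_lit 12,nat_lit 16] [nat_lit 0,nat_lit 1,nat_lit 43,nat_lit 42,nat_lit 210,nat_lit 211,nat_lit 249,nat_lit 248,nat_lit 26,nat_lit 27,nat_lit 48,nat_lit 49,nat_lit 200,nat_lit 201,nat_lit 226,nat_lit 227] (Cert.fu (nat_lit 1) (nat_lit 2) (nat_lit 26) (nat_lit 1) [nat_lit 0] [nat_lit 26,nat_lit 248,nat_lit 2] [] [] [nat_lit 192,nat_lit 32,nat_lit 16,nat_lit 8,nat_lit 4,nat_lit 2,nat_lit 1] [nat_lit 1] [[nat_lit 43,nat_lit 1]] [[nat_lit 1],[nat_lit 26,nat_lit 1],[nat_lit 248,nat_lit 1]] [Ins.ts (nat_lit 1) [nat_lit 0] [],Ins.fr [nat_lit 0],Ins.ts (nat_lit 2) [nat_lit 0] [],Ins.ts (nat_lit 4) [nat_lit 0]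 [nat_lit 0,nat_lit 0,nat_lit 1],Ins.ts (nat_lit 1) [nat_lit 0] [],Ins.fr [nat_lit 1],Ins.ts (nat_lit 4) [nat_lit 0] [nat_lit 0,nat_lit 0,nat_lit 2],Ins.ts (nat_lit 1) [nat_lit 0] [],Ins.ts (nat_lit 0) [nat_lit 0,nat_lit 0] [nat_lit 2],Ins.fr [nat_lit 2],Ins.ts (nat_lit 0) [nat_lit 0,nat_lit 0] [],Ins.ts (nat_lit 3) [nat_lit 0] [],Ins.ts (nat_lit 2) [nat_lit 1,nat_lit 0] [],Ins.ts (nat_lit 0) [nat_lit 1,nat_lit 0,nat_lit 1] [nat_lit 0]] [] (Cert.rep (nat_lit 1) [nat_lit 2] [nat_lit 192,nat_lit 32,nat_lit 16,nat_lit 8,nat_lit 4,nat_lit 2,nat_lit 1] [] (Cert.rep (nat_lit 26) [nat_lit 4] [] [] (Cert.rep (nat_lit 42) [] [] [] Cert.nil Cert.nil) Cert.nil) Cert.nil))))) (Cert.rep (nat_lit 218) [] [] [] (Cert.er (Cert.ro (nat_lit 0) [nat_lit 1,nat_lit 8,nat_lit 16] [nat_lit 8,nat_lit 9,nat_lit 16] [nat_lit 0,nat_lit 1,nat_lit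 18,nat_lit 19,nat_lit 26,nat_lit 27,nat_lit 8,nat_lit 9] (Cert.ro (nat_lit 1) [nat_lit 1,nat_lit 2,nat_lit 14,nat_lit 16] [nat_lit 1,nat_lit 14,nat_lit 12,nat_lit 16] [nat_lit 0,nat_lit 1,nat_lit 43,nat_lit 42,nat_lit 200,nat_lit 201,nat_lit 226,nat_lit 227,nat_lit 26,nat_lit 27,nat_lit 48,nat_lit 49,nat_lit 210,nat_lit 211,nat_lit 249,nat_lit 248] (Cert.lw (nat_lit 0) (nat_lit 2) (nat_lit 1) (Cert.s2 (nat_lit 0) (nat_lit 2) (Cert.o1 (nat_lit 0) (nat_lit 2) (Cert.fu (nat_lit 2) (nat_lit 1) (nat_lit 0) (nat_lit 0) [nat_lit 0] [nat_lit 132,nat_lit 136,nat_lit 192] [] [] [] [nat_lit 1] [[nat_lit 1]] [[nat_lit 2]] [Ins.ts (nat_lit 1) [nat_lit 0] [],Ins.fr [nat_lit 0],Ins.ts (nat_lit 1) [nat_lit 0,nat_lit 0] [],Ins.ts (nat_lit 1) [nat_lit 0,nat_lit 0,nat_lit 0,nat_lit 0,nat_lit 1] [],Ins.ts (nat_lit 1) [nat_lit 0,nat_lit 0,nat_lit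 0,nat_lit 0] [],Ins.fr [nat_lit 1],Ins.ts (nat_lit 0) [nat_lit 0,nat_lit 1,nat_lit 1,nat_lit 0] [],Ins.ts (nat_lit 0) [nat_lit 1,nat_lit 1,nat_lit 1] [nat_lit 0,nat_lit 1,nat_lit 0],Ins.fr [nat_lit 2],Ins.ts (nat_lit 0) [nat_lit 2,nat_lit 0] [nat_lit 0,nat_lit 2],Ins.ts (nat_lit 0) [nat_lit 2,nat_lit 3,nat_lit 2] [nat_lit 0,nat_lit 0]] [] (Cert.rep (nat_lit 1) [nat_lit 4,nat_lit 8,nat_lit 16,nat_lit 32,nat_lit 64,nat_lit 128,nat_lit 256] [nat_lit 256,nat_lit 128,nat_lit 64,nat_lit 32,nat_lit 16,nat_lit 8,nat_lit 4,nat_lit 2,nat_lit 1] [] (Cert.rep (nat_lit 260) [nat_lit 260] [] [] (Cert.rep (nat_lit 264) [] [] [] Cert.nil (Cert.rep (nat_lit 265) [] [] [] Cert.nil Cert.nil)) (Cert.rep (nat_lit 264) [nat_lit 264] [] [] (Cert.rep (nat_lit 260) [] [] [] Cert.nil (Cert.rep (nat_lit 261) [] [] [] Cert.nil Cert.nil)) Cert.nil))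 Cert.nil))) (Cert.nl (nat_lit 26) (Cert.sy (nat_lit 0) (Cert.o1 (nat_lit 0) (nat_lit 8) (Cert.fu (nat_lit 8) (nat_lit 4) (nat_lit 26) (nat_lit 0) [nat_lit 0] [nat_lit 11] [] [] [nat_lit 192,nat_lit 34,nat_lit 18,nat_lit 8,nat_lit 4,nat_lit 1] [nat_lit 1] [] [[nat_lit 8]] [Ins.fr [nat_lit 0],Ins.ts (nat_lit 2) [nat_lit 0] [],Ins.ts (nat_lit 0) [nat_lit 0,nat_lit 0] [],Ins.ts (nat_lit 4) [nat_lit 0,nat_lit 1] [nat_lit 0,nat_lit 0,nat_lit 1],Ins.ts (nat_lit 1) [nat_lit 0] [],Ins.ts (nat_lit 1) [nat_lit 0,nat_lit 1] []] [(nat_lit 3,nat_lit 2)] (Cert.rep (nat_lit 26) [] [nat_lit 192,nat_lit 34,nat_lit 18,nat_lit 8,nat_lit 4,nat_lit 1] [] Cert.nil Cert.nil)))))))))) Cert.nil)) (Cert.rep (nat_lit 22) [] [] [] Cert.nil (Cert.rep (nat_lit 27) [] [] [] Cert.nil (Cert.rep (nat_lit 30) [nat_lit 4,nat_lit 8] [] [] (Cert.rep (nat_lit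 204) [] [] [] (Cert.er (Cert.ro (nat_lit 0) [nat_lit 1,nat_lit 8,nat_lit 16] [nat_lit 8,nat_lit 9,nat_lit 16] [nat_lit 0,nat_lit 1,nat_lit 30,nat_lit 31,nat_lit 26,nat_lit 27,nat_lit 4,nat_lit 5] (Cert.ro (nat_lit 1) [nat_lit 1,nat_lit 2,nat_lit 14,nat_lit 16] [nat_lit 1,nat_lit 14,nat_lit 12,nat_lit 16] [nat_lit 0,nat_lit 1,nat_lit 42,nat_lit 43,nat_lit 210,nat_lit 211,nat_lit 248,nat_lit 249,nat_lit 26,nat_lit 27,nat_lit 49,nat_lit 48,nat_lit 200,nat_lit 201,nat_lit 227,nat_lit 226] (Cert.lf (Leaf.st (nat_lit 2) (nat_lit 1) (nat_lit 5) (Leaf.cf (nat_lit 4))))))) (Cert.rep (nat_lit 214) [] [] [] (Cert.er (Cert.ro (nat_lit 0) [nat_lit 1,nat_lit 8,nat_lit 16] [nat_lit 8,nat_lit 9,nat_lit 16] [nat_lit 0,nat_lit 1,nat_lit 30,nat_lit 31,nat_lit 26,nat_lit 27,nat_lit 4,nat_lit 5] (Cert.ro (nat_lit 1) [nat_lit 1,nat_lit 2,nat_lit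 14,nat_lit 16] [nat_lit 1,nat_lit 14,nat_lit 12,nat_lit 16] [nat_lit 0,nat_lit 1,nat_lit 42,nat_lit 43,nat_lit 200,nat_lit 201,nat_lit 227,nat_lit 226,nat_lit 26,nat_lit 27,nat_lit 49,nat_lit 48,nat_lit 210,nat_lit 211,nat_lit 248,nat_lit 249] (Cert.lf (Leaf.st (nat_lit 2) (nat_lit 1) (nat_lit 5) (Leaf.cf (nat_lit 4))))))) Cert.nil)) (Cert.rep (nat_lit 196) [] [] [] Cert.nil (Cert.rep (nat_lit 222) [] [] [] Cert.nil Cert.nil)))))))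
noncomputable def f68 : Cert :=
  (Cert.st (nat_lit 0) (nat_lit 8) (nat_lit 0) (Cert.st (nat_lit 0) (nat_lit 26) (nat_lit 0) (Cert.sp (nat_lit 1) (Cert.lf (Leaf.pt (nat_lit 7) (nat_lit 1) [nat_lit 8,nat_lit 16])) (Cert.sp (nat_lit 2) (Cert.lf (Leaf.pt (nat_lit 0) (nat_lit 2) [nat_lit 96])) (Cert.st (nat_lit 0) (nat_lit 2) (nat_lit 0) (Cert.sp (nat_lit 4) (Cert.lf (Leaf.pt (nat_lit 7) (nat_lit 4) [nat_lit 8,nat_lit 16])) (Cert.st (nat_lit 0) (nat_lit 4) (nat_lit 0) (Cert.sp (nat_lit 12) (Cert.lf (Leaf.pt (nat_lit 7) (nat_lit 12) [nat_lit 8,nat_lit 16])) (Cert.st (nat_lit 0) (nat_lit 12) (nat_lit 0) (Cert.sp (nat_lit 18) (Cert.lf (Leaf.pt (nat_lit 6) (nat_lit 18) [nat_lit 8])) (Cert.st (nat_lit 0) (nat_lit 18) (nat_lit 0) (Cert.sp (nat_lit 22) (Cert.lf (Leaf.pt (nat_lit 7) (nat_lit 22) [nat_lit 26,nat_lit 38])) (Cert.st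 (nat_lit 0) (nat_lit 22) (nat_lit 0) (Cert.sp (nat_lit 30) (Cert.lf (Leaf.pt (nat_lit 8) (nat_lit 30) [nat_lit 4,nat_lit 18])) (Cert.st (nat_lit 0) (nat_lit 30) (nat_lit 0) (Cert.sp (nat_lit 128) (Cert.lf (Leaf.st (nat_lit 1) (nat_lit 12) (nat_lit 128) (Leaf.pt (nat_lit 7) (nat_lit 128) [nat_lit 129,nat_lit 256]))) (Cert.st (nat_lit 0) (nat_lit 128) (nat_lit 0) (Cert.sp (nat_lit 196) (Cert.lf (Leaf.pt (nat_lit 7) (nat_lit 196) [nat_lit 26,nat_lit 38])) (Cert.st (nat_lit 0) (nat_lit 196) (nat_lit 0) (Cert.sp (nat_lit 268) (Cert.lf (Leaf.st (nat_lit 1) (nat_lit 128) (nat_lit 268) (Leaf.pt (nat_lit 7) (nat_lit 268) [nat_lit 269,nat_lit 72]))) (Cert.st (nat_lit 0) (nat_lit 268) (nat_lit 0) (Cert.nl (nat_lit 1) (Cert.sy (nat_lit 0) (Cert.root (nat_lit 32) [] [nat_lit 8,nat_lit 4] [nat_lit 0,nat_lit 1,nat_lit 2,nat_lit 3,nat_lit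 4] [Ins.fr [nat_lit 0],Ins.ts (nat_lit 0) [nat_lit 0,nat_lit 0] [],Ins.ts (nat_lit 1) [nat_lit 0] [],Ins.ts (nat_lit 1) [nat_lit 0,nat_lit 1] [],Ins.fr [nat_lit 1],Ins.ts (nat_lit 1) [nat_lit 0,nat_lit 0] [],Ins.ts (nat_lit 1) [nat_lit 0,nat_lit 0,nat_lit 0,nat_lit 0] [],Ins.ts (nat_lit 0) [nat_lit 1,nat_lit 0,nat_lit 1] [nat_lit 0,nat_lit 0,nat_lit 0],Ins.df [nat_lit 0,nat_lit 0],Ins.df [nat_lit 0,nat_lit 0]] (Cert.rep (nat_lit 8) [nat_lit 2,nat_lit 16] [nat_lit 16,nat_lit 8,nat_lit 4,nat_lit 2,nat_lit 1] [nat_lit 256,nat_lit 128,nat_lit 64,nat_lit 32] (Cert.rep (nat_lit 1) [] [] [] Cert.nil (Cert.rep (nat_lit 2) [] [] [] Cert.nil (Cert.rep (nat_lit 4) [] [] [] Cert.nil (Cert.rep (nat_lit 5) [] [] [] Cert.nil (Cert.rep (nat_lit 6) [] [] [] Cert.nil (Cert.rep (nat_lit 9) [] [] [] Cert.nil (Cert.rep (nat_lit 10) [] []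 [] Cert.nil (Cert.rep (nat_lit 12) [] [] [] Cert.nil (Cert.rep (nat_lit 13) [] [] [] Cert.nil (Cert.rep (nat_lit 14) [] [] [] Cert.nil (Cert.rep (nat_lit 18) [] [] [] Cert.nil (Cert.rep (nat_lit 22) [] [] [] Cert.nil (Cert.rep (nat_lit 26) [] [] [] Cert.nil (Cert.rep (nat_lit 30) [] [] [] Cert.nil Cert.nil)))))))))))))) (Cert.rep (nat_lit 26) [nat_lit 4,nat_lit 8,nat_lit 34,nat_lit 192] [nat_lit 192,nat_lit 34,nat_lit 18,nat_lit 8,nat_lit 4,nat_lit 1] [nat_lit 256,nat_lit 64,nat_lit 2] (Cert.rep (nat_lit 1) [] [] [] Cert.nil (Cert.rep (nat_lit 4) [nat_lit 4,nat_lit 8] [] [] (Cert.rep (nat_lit 204) [] [] [] (Cert.er (Cert.ro (nat_lit 0) [nat_lit 1,nat_lit 8,nat_lit 16] [nat_lit 8,nat_lit 9,nat_lit 16] [nat_lit 0,nat_lit 1,nat_lit 4,nat_lit 5,nat_lit 26,nat_lit 27,nat_lit 30,nat_lit 31] (Cert.ro (nat_lit 1) [nat_lit 1,nat_lit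 2,nat_lit 14,nat_lit 16] [nat_lit 1,nat_lit 14,nat_lit 12,nat_lit 16] [nat_lit 0,nat_lit 1,nat_lit 42,nat_lit 43,nat_lit 200,nat_lit 201,nat_lit 227,nat_lit 226,nat_lit 26,nat_lit 27,nat_lit 49,nat_lit 48,nat_lit 210,nat_lit 211,nat_lit 248,nat_lit 249] (Cert.lf (Leaf.st (nat_lit 2) (nat_lit 1) (nat_lit 5) (Leaf.cf (nat_lit 30))))))) (Cert.rep (nat_lit 214) [] [] [] (Cert.er (Cert.ro (nat_lit 0) [nat_lit 1,nat_lit 8,nat_lit 16] [nat_lit 8,nat_lit 9,nat_lit 16] [nat_lit 0,nat_lit 1,nat_lit 4,nat_lit 5,nat_lit 26,nat_lit 27,nat_lit 30,nat_lit 31] (Cert.ro (nat_lit 1) [nat_lit 1,nat_lit 2,nat_lit 14,nat_lit 16] [nat_lit 1,nat_lit 14,nat_lit 12,nat_lit 16] [nat_lit 0,nat_lit 1,nat_lit 42,nat_lit 43,nat_lit 210,nat_lit 211,nat_lit 248,nat_lit 249,nat_lit 26,nat_lit 27,nat_lit 49,nat_lit 48,nat_lit 200,nat_lit 201,nat_lit 227,nat_lit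 226] (Cert.lf (Leaf.st (nat_lit 2) (nat_lit 1) (nat_lit 5) (Leaf.cf (nat_lit 30))))))) Cert.nil)) f68_0)) Cert.nil))))))))))))))))))))))))))
theorem fin68 : finOK DB PT 88 t88 68 t68 (nat_lit 0xf000000f00000000000000000000000f00000000000000f0000c30f000c00300f00c300f00300c000f00000ff00000f00fc33cf00fccccffff) f68 = true := by
  decide +kernel
noncomputable def f76_0 : Cert :=
  Cert.rep (nat_lit 66) [nat_lit 14,nat_lit 66] [] [] (Cert.rep (nat_lit 94) [] [] [] (Cert.er (Cert.st (nat_lit 0) (nat_lit 146) (nat_lit 0) (Cert.ro (nat_lit 0) [nat_lit 1,nat_lit 8,nat_lit 16] [nat_lit 8,nat_lit 9,nat_lit 16] [nat_lit 0,nat_lit 1,nat_lit 66,nat_lit 67,nat_lit 146,nat_lit 147,nat_lit 250,nat_lit 251] (Cert.ro (nat_lit 1) [nat_lit 1,nat_lit 2,nat_lit 14,nat_lit 16] [nat_lit 1,nat_lit 14,nat_lit 12,nat_lit 16] [nat_lit 0,nat_lit 1,nat_lit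 43,nat_lit 42,nat_lit 54,nat_lit 55,nat_lit 28,nat_lit 29,nat_lit 146,nat_lit 147,nat_lit 185,nat_lit 184,nat_lit 164,nat_lit 165,nat_lit 142,nat_lit 143] (Cert.lw (nat_lit 0) (nat_lit 2) (nat_lit 1) (Cert.st (nat_lit 2) (nat_lit 1) (nat_lit 5) (Cert.st (nat_lit 0) (nat_lit 250) (nat_lit 0) (Cert.nl (nat_lit 146) (Cert.sy (nat_lit 0) (Cert.o1 (nat_lit 0) (nat_lit 8) (Cert.fu (nat_lit 8) (nat_lit 4) (nat_lit 146) (nat_lit 0) [nat_lit 0] [nat_lit 5,nat_lit 19] [] [] [nat_lit 128,nat_lit 66,nat_lit 36,nat_lit 18,nat_lit 14,nat_lit 1] [nat_lit 1] [] [[nat_lit 8]] [Ins.fr [nat_lit 0],Ins.ts (nat_lit 0) [nat_lit 0,nat_lit 0] [],Ins.ts (nat_lit 3) [nat_lit 0] [],Ins.ts (nat_lit 3) [nat_lit 0,nat_lit 1] [],Ins.fr [nat_lit 1],Ins.ts (nat_lit 0) [nat_lit 0,nat_lit 0] [],Ins.ts (nat_lit 3) [nat_lit 0] [],Ins.ts (nat_lit 2) [nat_lit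 0,nat_lit 2] [],Ins.ts (nat_lit 4) [nat_lit 0] [nat_lit 0,nat_lit 0,nat_lit 1],Ins.ts (nat_lit 1) [nat_lit 0] [],Ins.ts (nat_lit 3) [nat_lit 0,nat_lit 1] [],Ins.ts (nat_lit 0) [nat_lit 1,nat_lit 0] [nat_lit 0,nat_lit 1],Ins.ts (nat_lit 3) [nat_lit 0,nat_lit 1,nat_lit 2] []] [(nat_lit 3,nat_lit 2)] (Cert.rep (nat_lit 146) [nat_lit 14,nat_lit 18,nat_lit 36,nat_lit 66] [nat_lit 128,nat_lit 66,nat_lit 36,nat_lit 18,nat_lit 14,nat_lit 1] [] (Cert.rep (nat_lit 14) [] [] [] Cert.nil (Cert.rep (nat_lit 18) [] [] [] Cert.nil (Cert.rep (nat_lit 76) [] [] [] Cert.nil (Cert.rep (nat_lit 128) [] [] [] Cert.nil (Cert.rep (nat_lit 156) [] [] [] Cert.nil (Cert.rep (nat_lit 222) [] [] [] Cert.nil Cert.nil)))))) Cert.nil)))))))))))) (Cert.rep (nat_lit 204) [] [] [] (Cert.er (Cert.st (nat_lit 0) (nat_lit 146) (nat_lit 0) (Cert.ro (nat_lit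 0) [nat_lit 1,nat_lit 8,nat_lit 16] [nat_lit 8,nat_lit 9,nat_lit 16] [nat_lit 0,nat_lit 1,nat_lit 66,nat_lit 67,nat_lit 146,nat_lit 147,nat_lit 250,nat_lit 251] (Cert.ro (nat_lit 1) [nat_lit 1,nat_lit 2,nat_lit 14,nat_lit 16] [nat_lit 1,nat_lit 14,nat_lit 12,nat_lit 16] [nat_lit 0,nat_lit 1,nat_lit 42,nat_lit 43,nat_lit 142,nat_lit 143,nat_lit 164,nat_lit 165,nat_lit 146,nat_lit 147,nat_lit 184,nat_lit 185,nat_lit 28,nat_lit 29,nat_lit 54,nat_lit 55] (Cert.lw (nat_lit 0) (nat_lit 2) (nat_lit 1) (Cert.st (nat_lit 2) (nat_lit 1) (nat_lit 5) (Cert.st (nat_lit 0) (nat_lit 250) (nat_lit 0) (Cert.nl (nat_lit 146) (Cert.sy (nat_lit 0) (Cert.o1 (nat_lit 0) (nat_lit 8) (Cert.fu (nat_lit 8) (nat_lit 4) (nat_lit 146) (nat_lit 0) [nat_lit 0] [nat_lit 5,nat_lit 19] [] [] [nat_lit 128,nat_lit 66,nat_lit 36,nat_lit 18,nat_lit 14,nat_lit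 1] [nat_lit 1] [] [[nat_lit 8]] [Ins.fr [nat_lit 0],Ins.ts (nat_lit 0) [nat_lit 0,nat_lit 0] [],Ins.ts (nat_lit 3) [nat_lit 0] [],Ins.ts (nat_lit 3) [nat_lit 0,nat_lit 1] [],Ins.fr [nat_lit 1],Ins.ts (nat_lit 0) [nat_lit 0,nat_lit 0] [],Ins.ts (nat_lit 3) [nat_lit 0] [],Ins.ts (nat_lit 2) [nat_lit 0,nat_lit 2] [],Ins.ts (nat_lit 4) [nat_lit 0] [nat_lit 0,nat_lit 0,nat_lit 1],Ins.ts (nat_lit 1) [nat_lit 0] [],Ins.ts (nat_lit 3) [nat_lit 0,nat_lit 1] [],Ins.ts (nat_lit 0) [nat_lit 1,nat_lit 0] [nat_lit 0,nat_lit 1],Ins.ts (nat_lit 3) [nat_lit 0,nat_lit 1,nat_lit 2] []] [(nat_lit 3,nat_lit 2)] (Cert.rep (nat_lit 146) [nat_lit 14,nat_lit 18,nat_lit 36,nat_lit 66] [nat_lit 128,nat_lit 66,nat_lit 36,nat_lit 18,nat_lit 14,nat_lit 1] [] (Cert.rep (nat_lit 14) [] [] [] Cert.nil (Cert.rep (nat_lit 18) [] [] [] Cert.nil (Cert.rep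 (nat_lit 76) [] [] [] Cert.nil (Cert.rep (nat_lit 128) [] [] [] Cert.nil (Cert.rep (nat_lit 156) [] [] [] Cert.nil (Cert.rep (nat_lit 222) [] [] [] Cert.nil Cert.nil)))))) Cert.nil)))))))))))) Cert.nil)) (Cert.rep (nat_lit 76) [nat_lit 14,nat_lit 66] [] [] (Cert.rep (nat_lit 80) [] [] [] (Cert.er (Cert.st (nat_lit 0) (nat_lit 146) (nat_lit 0) (Cert.ro (nat_lit 0) [nat_lit 1,nat_lit 8,nat_lit 16] [nat_lit 8,nat_lit 9,nat_lit 16] [nat_lit 0,nat_lit 1,nat_lit 76,nat_lit 77,nat_lit 146,nat_lit 147,nat_lit 244,nat_lit 245] (Cert.ro (nat_lit 1) [nat_lit 1,nat_lit 2,nat_lit 14,nat_lit 16] [nat_lit 1,nat_lit 14,nat_lit 12,nat_lit 16] [nat_lit 0,nat_lit 1,nat_lit 42,nat_lit 43,nat_lit 54,nat_lit 55,nat_lit 29,nat_lit 28,nat_lit 146,nat_lit 147,nat_lit 184,nat_lit 185,nat_lit 164,nat_lit 165,nat_lit 143,nat_lit 142] (Cert.lf (Leaf.st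 (nat_lit 2) (nat_lit 1) (nat_lit 5) (Leaf.cf (nat_lit 244)))))))) (Cert.rep (nat_lit 194) [] [] [] (Cert.er (Cert.st (nat_lit 0) (nat_lit 146) (nat_lit 0) (Cert.ro (nat_lit 0) [nat_lit 1,nat_lit 8,nat_lit 16] [nat_lit 8,nat_lit 9,nat_lit 16] [nat_lit 0,nat_lit 1,nat_lit 76,nat_lit 77,nat_lit 146,nat_lit 147,nat_lit 244,nat_lit 245] (Cert.ro (nat_lit 1) [nat_lit 1,nat_lit 2,nat_lit 14,nat_lit 16] [nat_lit 1,nat_lit 14,nat_lit 12,nat_lit 16] [nat_lit 0,nat_lit 1,nat_lit 43,nat_lit 42,nat_lit 142,nat_lit 143,nat_lit 165,nat_lit 164,nat_lit 146,nat_lit 147,nat_lit 185,nat_lit 184,nat_lit 28,nat_lit 29,nat_lit 55,nat_lit 54] (Cert.lf (Leaf.st (nat_lit 2) (nat_lit 1) (nat_lit 5) (Leaf.cf (nat_lit 244)))))))) Cert.nil)) (Cert.rep (nat_lit 128) [] [] [] Cert.nil (Cert.rep (nat_lit 147) [] [] [] Cert.nil (Cert.rep (nat_lit 156)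 [] [] [] Cert.nil (Cert.rep (nat_lit 208) [nat_lit 14,nat_lit 102] [] [] (Cert.rep (nat_lit 94) [] [] [] (Cert.er (Cert.st (nat_lit 0) (nat_lit 146) (nat_lit 0) (Cert.ro (nat_lit 0) [nat_lit 1,nat_lit 8,nat_lit 16] [nat_lit 8,nat_lit 9,nat_lit 16] [nat_lit 0,nat_lit 1,nat_lit 208,nat_lit 209,nat_lit 146,nat_lit 147,nat_lit 105,nat_lit 104] (Cert.ro (nat_lit 1) [nat_lit 1,nat_lit 2,nat_lit 14,nat_lit 16] [nat_lit 1,nat_lit 14,nat_lit 12,nat_lit 16] [nat_lit 0,nat_lit 1,nat_lit 43,nat_lit 42,nat_lit 142,nat_lit 143,nat_lit 165,nat_lit 164,nat_lit 146,nat_lit 147,nat_lit 185,nat_lit 184,nat_lit 28,nat_lit 29,nat_lit 55,nat_lit 54] (Cert.kw (nat_lit 2) (nat_lit 0) (nat_lit 2) (nat_lit 1) ))))) (Cert.rep (nat_lit 204) [] [] [] (Cert.er (Cert.st (nat_lit 0) (nat_lit 146) (nat_lit 0) (Cert.ro (nat_lit 0) [nat_lit 1,nat_lit 8,nat_lit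 16] [nat_lit 8,nat_lit 9,nat_lit 16] [nat_lit 0,nat_lit 1,nat_lit 208,nat_lit 209,nat_lit 146,nat_lit 147,nat_lit 105,nat_lit 104] (Cert.ro (nat_lit 1) [nat_lit 1,nat_lit 2,nat_lit 14,nat_lit 16] [nat_lit 1,nat_lit 14,nat_lit 12,nat_lit 16] [nat_lit 0,nat_lit 1,nat_lit 42,nat_lit 43,nat_lit 55,nat_lit 54,nat_lit 28,nat_lit 29,nat_lit 146,nat_lit 147,nat_lit 184,nat_lit 185,nat_lit 165,nat_lit 164,nat_lit 142,nat_lit 143] (Cert.kw (nat_lit 2) (nat_lit 0) (nat_lit 2) (nat_lit 1) ))))) Cert.nil)) (Cert.rep (nat_lit 222) [nat_lit 14,nat_lit 102] [] [] (Cert.rep (nat_lit 80) [] [] [] (Cert.er (Cert.st (nat_lit 0) (nat_lit 146) (nat_lit 0) (Cert.ro (nat_lit 0) [nat_lit 1,nat_lit 8,nat_lit 16] [nat_lit 8,nat_lit 9,nat_lit 16] [nat_lit 0,nat_lit 1,nat_lit 222,nat_lit 223,nat_lit 146,nat_lit 147,nat_lit 103,nat_lit 102] (Cert.ro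 (nat_lit 1) [nat_lit 1,nat_lit 2,nat_lit 14,nat_lit 16] [nat_lit 1,nat_lit 14,nat_lit 12,nat_lit 16] [nat_lit 0,nat_lit 1,nat_lit 42,nat_lit 43,nat_lit 142,nat_lit 143,nat_lit 164,nat_lit 165,nat_lit 146,nat_lit 147,nat_lit 184,nat_lit 185,nat_lit 28,nat_lit 29,nat_lit 54,nat_lit 55] (Cert.kw (nat_lit 2) (nat_lit 0) (nat_lit 2) (nat_lit 1) ))))) (Cert.rep (nat_lit 194) [] [] [] (Cert.er (Cert.st (nat_lit 0) (nat_lit 146) (nat_lit 0) (Cert.ro (nat_lit 0) [nat_lit 1,nat_lit 8,nat_lit 16] [nat_lit 8,nat_lit 9,nat_lit 16] [nat_lit 0,nat_lit 1,nat_lit 222,nat_lit 223,nat_lit 146,nat_lit 147,nat_lit 103,nat_lit 102] (Cert.ro (nat_lit 1) [nat_lit 1,nat_lit 2,nat_lit 14,nat_lit 16] [nat_lit 1,nat_lit 14,nat_lit 12,nat_lit 16] [nat_lit 0,nat_lit 1,nat_lit 43,nat_lit 42,nat_lit 55,nat_lit 54,nat_lit 29,nat_lit 28,nat_lit 146,nat_lit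 147,nat_lit 185,nat_lit 184,nat_lit 165,nat_lit 164,nat_lit 143,nat_lit 142] (Cert.kw (nat_lit 2) (nat_lit 0) (nat_lit 2) (nat_lit 1) ))))) Cert.nil)) Cert.nil))))))
noncomputable def f76_1 : Cert :=
  Cert.rep (nat_lit 76) [nat_lit 14,nat_lit 66] [] [] (Cert.rep (nat_lit 92) [] [] [] (Cert.er (Cert.st (nat_lit 0) (nat_lit 156) (nat_lit 0) (Cert.ro (nat_lit 0) [nat_lit 1,nat_lit 8,nat_lit 16] [nat_lit 8,nat_lit 9,nat_lit 16] [nat_lit 0,nat_lit 1,nat_lit 76,nat_lit 77,nat_lit 156,nat_lit 157,nat_lit 250,nat_lit 251] (Cert.ro (nat_lit 1) [nat_lit 1,nat_lit 2,nat_lit 14,nat_lit 16] [nat_lit 1,nat_lit 14,nat_lit 12,nat_lit 16] [nat_lit 0,nat_lit 1,nat_lit 42,nat_lit 43,nat_lit 58,nat_lit 59,nat_lit 17,nat_lit 16,nat_lit 156,nat_lit 157,nat_lit 182,nat_lit 183,nat_lit 167,nat_lit 166,nat_lit 140,nat_lit 141] (Cert.lw (nat_lit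 0) (nat_lit 2) (nat_lit 1) (Cert.st (nat_lit 2) (nat_lit 1) (nat_lit 5) (Cert.st (nat_lit 0) (nat_lit 250) (nat_lit 0) (Cert.nl (nat_lit 156) (Cert.sy (nat_lit 0) (Cert.o1 (nat_lit 0) (nat_lit 8) (Cert.fu (nat_lit 8) (nat_lit 4) (nat_lit 156) (nat_lit 0) [nat_lit 0] [nat_lit 5,nat_lit 19] [] [] [nat_lit 130,nat_lit 66,nat_lit 36,nat_lit 16,nat_lit 14,nat_lit 1] [nat_lit 1] [] [[nat_lit 8]] [Ins.fr [nat_lit 0],Ins.ts (nat_lit 0) [nat_lit 0,nat_lit 0] [],Ins.ts (nat_lit 3) [nat_lit 0] [],Ins.ts (nat_lit 3) [nat_lit 0,nat_lit 1] [],Ins.fr [nat_lit 1],Ins.ts (nat_lit 0) [nat_lit 0,nat_lit 0] [],Ins.ts (nat_lit 3) [nat_lit 0] [],Ins.ts (nat_lit 2) [nat_lit 0,nat_lit 2] [],Ins.ts (nat_lit 4) [nat_lit 0] [nat_lit 0,nat_lit 0,nat_lit 1],Ins.ts (nat_lit 1) [nat_lit 0] [],Ins.ts (nat_lit 3) [nat_lit 0,nat_lit 1] [],Ins.ts (nat_lit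 0) [nat_lit 1,nat_lit 0] [nat_lit 0,nat_lit 1],Ins.ts (nat_lit 3) [nat_lit 0,nat_lit 1,nat_lit 2] []] [(nat_lit 3,nat_lit 2)] (Cert.rep (nat_lit 156) [nat_lit 14,nat_lit 16,nat_lit 36,nat_lit 66] [nat_lit 130,nat_lit 66,nat_lit 36,nat_lit 16,nat_lit 14,nat_lit 1] [] (Cert.rep (nat_lit 14) [] [] [] Cert.nil (Cert.rep (nat_lit 30) [] [] [] Cert.nil (Cert.rep (nat_lit 66) [] [] [] Cert.nil (Cert.rep (nat_lit 130) [] [] [] Cert.nil (Cert.rep (nat_lit 146) [] [] [] Cert.nil (Cert.rep (nat_lit 222) [] [] [] Cert.nil Cert.nil)))))) Cert.nil)))))))))))) (Cert.rep (nat_lit 192) [] [] [] (Cert.er (Cert.st (nat_lit 0) (nat_lit 156) (nat_lit 0) (Cert.ro (nat_lit 0) [nat_lit 1,nat_lit 8,nat_lit 16] [nat_lit 8,nat_lit 9,nat_lit 16] [nat_lit 0,nat_lit 1,nat_lit 76,nat_lit 77,nat_lit 156,nat_lit 157,nat_lit 250,nat_lit 251] (Cert.ro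 (nat_lit 1) [nat_lit 1,nat_lit 2,nat_lit 14,nat_lit 16] [nat_lit 1,nat_lit 14,nat_lit 12,nat_lit 16] [nat_lit 0,nat_lit 1,nat_lit 43,nat_lit 42,nat_lit 140,nat_lit 141,nat_lit 167,nat_lit 166,nat_lit 156,nat_lit 157,nat_lit 183,nat_lit 182,nat_lit 17,nat_lit 16,nat_lit 58,nat_lit 59] (Cert.lw (nat_lit 0) (nat_lit 2) (nat_lit 1) (Cert.st (nat_lit 2) (nat_lit 1) (nat_lit 5) (Cert.st (nat_lit 0) (nat_lit 250) (nat_lit 0) (Cert.nl (nat_lit 156) (Cert.sy (nat_lit 0) (Cert.o1 (nat_lit 0) (nat_lit 8) (Cert.fu (nat_lit 8) (nat_lit 4) (nat_lit 156) (nat_lit 0) [nat_lit 0] [nat_lit 5,nat_lit 19] [] [] [nat_lit 130,nat_lit 66,nat_lit 36,nat_lit 16,nat_lit 14,nat_lit 1] [nat_lit 1] [] [[nat_lit 8]] [Ins.fr [nat_lit 0],Ins.ts (nat_lit 0) [nat_lit 0,nat_lit 0] [],Ins.ts (nat_lit 3) [nat_lit 0] [],Ins.ts (nat_lit 3) [nat_lit 0,nat_lit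 1] [],Ins.fr [nat_lit 1],Ins.ts (nat_lit 0) [nat_lit 0,nat_lit 0] [],Ins.ts (nat_lit 3) [nat_lit 0] [],Ins.ts (nat_lit 2) [nat_lit 0,nat_lit 2] [],Ins.ts (nat_lit 4) [nat_lit 0] [nat_lit 0,nat_lit 0,nat_lit 1],Ins.ts (nat_lit 1) [nat_lit 0] [],Ins.ts (nat_lit 3) [nat_lit 0,nat_lit 1] [],Ins.ts (nat_lit 0) [nat_lit 1,nat_lit 0] [nat_lit 0,nat_lit 1],Ins.ts (nat_lit 3) [nat_lit 0,nat_lit 1,nat_lit 2] []] [(nat_lit 3,nat_lit 2)] (Cert.rep (nat_lit 156) [nat_lit 14,nat_lit 16,nat_lit 36,nat_lit 66] [nat_lit 130,nat_lit 66,nat_lit 36,nat_lit 16,nat_lit 14,nat_lit 1] [] (Cert.rep (nat_lit 14) [] [] [] Cert.nil (Cert.rep (nat_lit 30) [] [] [] Cert.nil (Cert.rep (nat_lit 66) [] [] [] Cert.nil (Cert.rep (nat_lit 130) [] [] [] Cert.nil (Cert.rep (nat_lit 146) [] [] [] Cert.nil (Cert.rep (nat_lit 222) [] [] [] Cert.nil Cert.nil))))))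 Cert.nil)))))))))))) Cert.nil)) (Cert.rep (nat_lit 130) [] [] [] Cert.nil (Cert.rep (nat_lit 146) [] [] [] Cert.nil (Cert.rep (nat_lit 157) [] [] [] Cert.nil (Cert.rep (nat_lit 208) [nat_lit 14,nat_lit 102] [] [] (Cert.rep (nat_lit 92) [] [] [] (Cert.er (Cert.st (nat_lit 0) (nat_lit 156) (nat_lit 0) (Cert.ro (nat_lit 0) [nat_lit 1,nat_lit 8,nat_lit 16] [nat_lit 8,nat_lit 9,nat_lit 16] [nat_lit 0,nat_lit 1,nat_lit 208,nat_lit 209,nat_lit 156,nat_lit 157,nat_lit 103,nat_lit 102] (Cert.ro (nat_lit 1) [nat_lit 1,nat_lit 2,nat_lit 14,nat_lit 16] [nat_lit 1,nat_lit 14,nat_lit 12,nat_lit 16] [nat_lit 0,nat_lit 1,nat_lit 42,nat_lit 43,nat_lit 141,nat_lit 140,nat_lit 167,nat_lit 166,nat_lit 156,nat_lit 157,nat_lit 182,nat_lit 183,nat_lit 16,nat_lit 17,nat_lit 58,nat_lit 59] (Cert.kw (nat_lit 2) (nat_lit 0) (nat_lit 2) (nat_lit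 1) ))))) (Cert.rep (nat_lit 192) [] [] [] (Cert.er (Cert.st (nat_lit 0) (nat_lit 156) (nat_lit 0) (Cert.ro (nat_lit 0) [nat_lit 1,nat_lit 8,nat_lit 16] [nat_lit 8,nat_lit 9,nat_lit 16] [nat_lit 0,nat_lit 1,nat_lit 208,nat_lit 209,nat_lit 156,nat_lit 157,nat_lit 103,nat_lit 102] (Cert.ro (nat_lit 1) [nat_lit 1,nat_lit 2,nat_lit 14,nat_lit 16] [nat_lit 1,nat_lit 14,nat_lit 12,nat_lit 16] [nat_lit 0,nat_lit 1,nat_lit 43,nat_lit 42,nat_lit 58,nat_lit 59,nat_lit 16,nat_lit 17,nat_lit 156,nat_lit 157,nat_lit 183,nat_lit 182,nat_lit 167,nat_lit 166,nat_lit 141,nat_lit 140] (Cert.kw (nat_lit 2) (nat_lit 0) (nat_lit 2) (nat_lit 1) ))))) Cert.nil)) (Cert.rep (nat_lit 222) [nat_lit 14,nat_lit 102] [] [] (Cert.rep (nat_lit 82) [] [] [] (Cert.er (Cert.st (nat_lit 0) (nat_lit 156) (nat_lit 0) (Cert.ro (nat_lit 0) [nat_lit 1,nat_lit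 8,nat_lit 16] [nat_lit 8,nat_lit 9,nat_lit 16] [nat_lit 0,nat_lit 1,nat_lit 222,nat_lit 223,nat_lit 156,nat_lit 157,nat_lit 105,nat_lit 104] (Cert.ro (nat_lit 1) [nat_lit 1,nat_lit 2,nat_lit 14,nat_lit 16] [nat_lit 1,nat_lit 14,nat_lit 12,nat_lit 16] [nat_lit 0,nat_lit 1,nat_lit 43,nat_lit 42,nat_lit 141,nat_lit 140,nat_lit 166,nat_lit 167,nat_lit 156,nat_lit 157,nat_lit 183,nat_lit 182,nat_lit 16,nat_lit 17,nat_lit 59,nat_lit 58] (Cert.kw (nat_lit 2) (nat_lit 0) (nat_lit 2) (nat_lit 1) ))))) (Cert.rep (nat_lit 206) [] [] [] (Cert.er (Cert.st (nat_lit 0) (nat_lit 156) (nat_lit 0) (Cert.ro (nat_lit 0) [nat_lit 1,nat_lit 8,nat_lit 16] [nat_lit 8,nat_lit 9,nat_lit 16] [nat_lit 0,nat_lit 1,nat_lit 222,nat_lit 223,nat_lit 156,nat_lit 157,nat_lit 105,nat_lit 104] (Cert.ro (nat_lit 1) [nat_lit 1,nat_lit 2,nat_lit 14,nat_lit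 16] [nat_lit 1,nat_lit 14,nat_lit 12,nat_lit 16] [nat_lit 0,nat_lit 1,nat_lit 42,nat_lit 43,nat_lit 58,nat_lit 59,nat_lit 17,nat_lit 16,nat_lit 156,nat_lit 157,nat_lit 182,nat_lit 183,nat_lit 167,nat_lit 166,nat_lit 140,nat_lit 141] (Cert.kw (nat_lit 2) (nat_lit 0) (nat_lit 2) (nat_lit 1) ))))) Cert.nil)) Cert.nil)))))
noncomputable def f76_2 : Cert :=
  Cert.rep (nat_lit 78) [nat_lit 14,nat_lit 64] [] [] (Cert.rep (nat_lit 86) [] [] [] (Cert.er (Cert.st (nat_lit 0) (nat_lit 208) (nat_lit 0) (Cert.ro (nat_lit 0) [nat_lit 1,nat_lit 8,nat_lit 16] [nat_lit 8,nat_lit 9,nat_lit 16] [nat_lit 0,nat_lit 1,nat_lit 78,nat_lit 79,nat_lit 208,nat_lit 209,nat_lit 180,nat_lit 181] (Cert.ro (nat_lit 1) [nat_lit 1,nat_lit 2,nat_lit 14,nat_lit 16] [nat_lit 1,nat_lit 14,nat_lit 12,nat_lit 16] [nat_lit 0,nat_lit 1,nat_lit 40,nat_lit 41,nat_lit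 48,nat_lit 49,nat_lit 24,nat_lit 25,nat_lit 208,nat_lit 209,nat_lit 248,nat_lit 249,nat_lit 225,nat_lit 224,nat_lit 201,nat_lit 200] (Cert.lw (nat_lit 0) (nat_lit 2) (nat_lit 1) (Cert.st (nat_lit 2) (nat_lit 1) (nat_lit 5) (Cert.st (nat_lit 0) (nat_lit 180) (nat_lit 0) (Cert.nl (nat_lit 208) (Cert.sy (nat_lit 0) (Cert.o1 (nat_lit 0) (nat_lit 8) (Cert.fu (nat_lit 8) (nat_lit 4) (nat_lit 208) (nat_lit 0) [nat_lit 0] [nat_lit 5,nat_lit 19] [] [] [nat_lit 132,nat_lit 64,nat_lit 38,nat_lit 22,nat_lit 14,nat_lit 1] [nat_lit 1] [] [[nat_lit 8]] [Ins.fr [nat_lit 0],Ins.ts (nat_lit 0) [nat_lit 0,nat_lit 0] [],Ins.ts (nat_lit 3) [nat_lit 0] [],Ins.ts (nat_lit 3) [nat_lit 0,nat_lit 1] [],Ins.fr [nat_lit 1],Ins.ts (nat_lit 0) [nat_lit 0,nat_lit 0] [],Ins.ts (nat_lit 3) [nat_lit 0] [],Ins.ts (nat_lit 2) [nat_lit 0,nat_lit 2] [],Ins.ts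 (nat_lit 4) [nat_lit 0] [nat_lit 0,nat_lit 0,nat_lit 1],Ins.ts (nat_lit 0) [nat_lit 1,nat_lit 0] [nat_lit 0,nat_lit 1],Ins.ts (nat_lit 1) [nat_lit 0] [],Ins.ts (nat_lit 3) [nat_lit 0,nat_lit 1] [],Ins.ts (nat_lit 3) [nat_lit 0,nat_lit 1,nat_lit 2] []] [(nat_lit 3,nat_lit 2)] (Cert.rep (nat_lit 208) [nat_lit 14,nat_lit 22,nat_lit 38,nat_lit 64] [nat_lit 132,nat_lit 64,nat_lit 38,nat_lit 22,nat_lit 14,nat_lit 1] [] (Cert.rep (nat_lit 14) [] [] [] Cert.nil (Cert.rep (nat_lit 22) [] [] [] Cert.nil (Cert.rep (nat_lit 64) [] [] [] Cert.nil (Cert.rep (nat_lit 146) [] [] [] Cert.nil (Cert.rep (nat_lit 198) [] [] [] Cert.nil (Cert.rep (nat_lit 222) [] [] [] Cert.nil Cert.nil)))))) Cert.nil)))))))))))) (Cert.rep (nat_lit 132) [] [] [] (Cert.er (Cert.st (nat_lit 0) (nat_lit 208) (nat_lit 0) (Cert.ro (nat_lit 0) [nat_lit 1,nat_lit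 8,nat_lit 16] [nat_lit 8,nat_lit 9,nat_lit 16] [nat_lit 0,nat_lit 1,nat_lit 78,nat_lit 79,nat_lit 208,nat_lit 209,nat_lit 180,nat_lit 181] (Cert.ro (nat_lit 1) [nat_lit 1,nat_lit 2,nat_lit 14,nat_lit 16] [nat_lit 1,nat_lit 14,nat_lit 12,nat_lit 16] [nat_lit 0,nat_lit 1,nat_lit 41,nat_lit 40,nat_lit 200,nat_lit 201,nat_lit 224,nat_lit 225,nat_lit 208,nat_lit 209,nat_lit 249,nat_lit 248,nat_lit 25,nat_lit 24,nat_lit 49,nat_lit 48] (Cert.lw (nat_lit 0) (nat_lit 2) (nat_lit 1) (Cert.st (nat_lit 2) (nat_lit 1) (nat_lit 5) (Cert.st (nat_lit 0) (nat_lit 180) (nat_lit 0) (Cert.nl (nat_lit 208) (Cert.sy (nat_lit 0) (Cert.o1 (nat_lit 0) (nat_lit 8) (Cert.fu (nat_lit 8) (nat_lit 4) (nat_lit 208) (nat_lit 0) [nat_lit 0] [nat_lit 5,nat_lit 19] [] [] [nat_lit 132,nat_lit 64,nat_lit 38,nat_lit 22,nat_lit 14,nat_lit 1] [nat_lit 1] []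 [[nat_lit 8]] [Ins.fr [nat_lit 0],Ins.ts (nat_lit 0) [nat_lit 0,nat_lit 0] [],Ins.ts (nat_lit 3) [nat_lit 0] [],Ins.ts (nat_lit 3) [nat_lit 0,nat_lit 1] [],Ins.fr [nat_lit 1],Ins.ts (nat_lit 0) [nat_lit 0,nat_lit 0] [],Ins.ts (nat_lit 3) [nat_lit 0] [],Ins.ts (nat_lit 2) [nat_lit 0,nat_lit 2] [],Ins.ts (nat_lit 4) [nat_lit 0] [nat_lit 0,nat_lit 0,nat_lit 1],Ins.ts (nat_lit 0) [nat_lit 1,nat_lit 0] [nat_lit 0,nat_lit 1],Ins.ts (nat_lit 1) [nat_lit 0] [],Ins.ts (nat_lit 3) [nat_lit 0,nat_lit 1] [],Ins.ts (nat_lit 3) [nat_lit 0,nat_lit 1,nat_lit 2] []] [(nat_lit 3,nat_lit 2)] (Cert.rep (nat_lit 208) [nat_lit 14,nat_lit 22,nat_lit 38,nat_lit 64] [nat_lit 132,nat_lit 64,nat_lit 38,nat_lit 22,nat_lit 14,nat_lit 1] [] (Cert.rep (nat_lit 14) [] [] [] Cert.nil (Cert.rep (nat_lit 22) [] [] [] Cert.nil (Cert.rep (nat_lit 64) []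 [] [] Cert.nil (Cert.rep (nat_lit 146) [] [] [] Cert.nil (Cert.rep (nat_lit 198) [] [] [] Cert.nil (Cert.rep (nat_lit 222) [] [] [] Cert.nil Cert.nil)))))) Cert.nil)))))))))))) Cert.nil)) (Cert.rep (nat_lit 146) [nat_lit 14,nat_lit 102] [] [] (Cert.rep (nat_lit 88) [] [] [] (Cert.er (Cert.st (nat_lit 0) (nat_lit 208) (nat_lit 0) (Cert.ro (nat_lit 0) [nat_lit 1,nat_lit 8,nat_lit 16] [nat_lit 8,nat_lit 9,nat_lit 16] [nat_lit 0,nat_lit 1,nat_lit 146,nat_lit 147,nat_lit 208,nat_lit 209,nat_lit 105,nat_lit 104] (Cert.ro (nat_lit 1) [nat_lit 1,nat_lit 2,nat_lit 14,nat_lit 16] [nat_lit 1,nat_lit 14,nat_lit 12,nat_lit 16] [nat_lit 0,nat_lit 1,nat_lit 41,nat_lit 40,nat_lit 200,nat_lit 201,nat_lit 224,nat_lit 225,nat_lit 208,nat_lit 209,nat_lit 249,nat_lit 248,nat_lit 25,nat_lit 24,nat_lit 49,nat_lit 48] (Cert.kw (nat_lit 2) (nat_lit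 0) (nat_lit 2) (nat_lit 1) ))))) (Cert.rep (nat_lit 138) [] [] [] (Cert.er (Cert.st (nat_lit 0) (nat_lit 208) (nat_lit 0) (Cert.ro (nat_lit 0) [nat_lit 1,nat_lit 8,nat_lit 16] [nat_lit 8,nat_lit 9,nat_lit 16] [nat_lit 0,nat_lit 1,nat_lit 146,nat_lit 147,nat_lit 208,nat_lit 209,nat_lit 105,nat_lit 104] (Cert.ro (nat_lit 1) [nat_lit 1,nat_lit 2,nat_lit 14,nat_lit 16] [nat_lit 1,nat_lit 14,nat_lit 12,nat_lit 16] [nat_lit 0,nat_lit 1,nat_lit 40,nat_lit 41,nat_lit 49,nat_lit 48,nat_lit 25,nat_lit 24,nat_lit 208,nat_lit 209,nat_lit 248,nat_lit 249,nat_lit 224,nat_lit 225,nat_lit 200,nat_lit 201] (Cert.kw (nat_lit 2) (nat_lit 0) (nat_lit 2) (nat_lit 1) ))))) Cert.nil)) (Cert.rep (nat_lit 156) [nat_lit 14,nat_lit 102] [] [] (Cert.rep (nat_lit 86) [] [] [] (Cert.er (Cert.st (nat_lit 0) (nat_lit 208) (nat_lit 0) (Cert.ro (nat_lit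 0) [nat_lit 1,nat_lit 8,nat_lit 16] [nat_lit 8,nat_lit 9,nat_lit 16] [nat_lit 0,nat_lit 1,nat_lit 156,nat_lit 157,nat_lit 208,nat_lit 209,nat_lit 103,nat_lit 102] (Cert.ro (nat_lit 1) [nat_lit 1,nat_lit 2,nat_lit 14,nat_lit 16] [nat_lit 1,nat_lit 14,nat_lit 12,nat_lit 16] [nat_lit 0,nat_lit 1,nat_lit 40,nat_lit 41,nat_lit 200,nat_lit 201,nat_lit 225,nat_lit 224,nat_lit 208,nat_lit 209,nat_lit 248,nat_lit 249,nat_lit 25,nat_lit 24,nat_lit 48,nat_lit 49] (Cert.kw (nat_lit 2) (nat_lit 0) (nat_lit 2) (nat_lit 1) ))))) (Cert.rep (nat_lit 132) [] [] [] (Cert.er (Cert.st (nat_lit 0) (nat_lit 208) (nat_lit 0) (Cert.ro (nat_lit 0) [nat_lit 1,nat_lit 8,nat_lit 16] [nat_lit 8,nat_lit 9,nat_lit 16] [nat_lit 0,nat_lit 1,nat_lit 156,nat_lit 157,nat_lit 208,nat_lit 209,nat_lit 103,nat_lit 102] (Cert.ro (nat_lit 1) [nat_lit 1,nat_lit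 2,nat_lit 14,nat_lit 16] [nat_lit 1,nat_lit 14,nat_lit 12,nat_lit 16] [nat_lit 0,nat_lit 1,nat_lit 41,nat_lit 40,nat_lit 49,nat_lit 48,nat_lit 24,nat_lit 25,nat_lit 208,nat_lit 209,nat_lit 249,nat_lit 248,nat_lit 224,nat_lit 225,nat_lit 201,nat_lit 200] (Cert.kw (nat_lit 2) (nat_lit 0) (nat_lit 2) (nat_lit 1) ))))) Cert.nil)) (Cert.rep (nat_lit 198) [] [] [] Cert.nil (Cert.rep (nat_lit 209) [] [] [] Cert.nil (Cert.rep (nat_lit 222) [] [] [] Cert.nil Cert.nil)))))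
noncomputable def f76_3 : Cert :=
  Cert.rep (nat_lit 146) [nat_lit 14,nat_lit 18,nat_lit 36,nat_lit 66] [nat_lit 128,nat_lit 66,nat_lit 36,nat_lit 18,nat_lit 14,nat_lit 1] [nat_lit 4,nat_lit 2] (Cert.rep (nat_lit 1) [] [] [] Cert.nil (Cert.rep (nat_lit 14) [] [] [] Cert.nil (Cert.rep (nat_lit 18) [] [] [] Cert.nil f76_0))) (Cert.rep (nat_lit 156) [nat_lit 14,nat_lit 16,nat_lit 36,nat_lit 66] [nat_lit 130,nat_lit 66,nat_lit 36,nat_lit 16,nat_lit 14,nat_lit 1] [nat_lit 4,nat_lit 2] (Cert.rep (nat_lit 1) [] [] [] Cert.nil (Cert.rep (nat_lit 14) [] [] [] Cert.nil (Cert.rep (nat_lit 30) [] [] [] Cert.nil (Cert.rep (nat_lit 66) [nat_lit 14,nat_lit 66] [] [] (Cert.rep (nat_lit 82) [] [] [] (Cert.er (Cert.st (nat_lit 0) (nat_lit 156) (nat_lit 0) (Cert.ro (nat_lit 0) [nat_lit 1,nat_lit 8,nat_lit 16] [nat_lit 8,nat_lit 9,nat_lit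 16] [nat_lit 0,nat_lit 1,nat_lit 66,nat_lit 67,nat_lit 156,nat_lit 157,nat_lit 244,nat_lit 245] (Cert.ro (nat_lit 1) [nat_lit 1,nat_lit 2,nat_lit 14,nat_lit 16] [nat_lit 1,nat_lit 14,nat_lit 12,nat_lit 16] [nat_lit 0,nat_lit 1,nat_lit 43,nat_lit 42,nat_lit 58,nat_lit 59,nat_lit 16,nat_lit 17,nat_lit 156,nat_lit 157,nat_lit 183,nat_lit 182,nat_lit 167,nat_lit 166,nat_lit 141,nat_lit 140] (Cert.lf (Leaf.st (nat_lit 2) (nat_lit 1) (nat_lit 5) (Leaf.cf (nat_lit 244)))))))) (Cert.rep (nat_lit 206) [] [] [] (Cert.er (Cert.st (nat_lit 0) (nat_lit 156) (nat_lit 0) (Cert.ro (nat_lit 0) [nat_lit 1,nat_lit 8,nat_lit 16] [nat_lit 8,nat_lit 9,nat_lit 16] [nat_lit 0,nat_lit 1,nat_lit 66,nat_lit 67,nat_lit 156,nat_lit 157,nat_lit 244,nat_lit 245] (Cert.ro (nat_lit 1) [nat_lit 1,nat_lit 2,nat_lit 14,nat_lit 16] [nat_lit 1,nat_lit 14,nat_lit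 12,nat_lit 16] [nat_lit 0,nat_lit 1,nat_lit 42,nat_lit 43,nat_lit 140,nat_lit 141,nat_lit 166,nat_lit 167,nat_lit 156,nat_lit 157,nat_lit 182,nat_lit 183,nat_lit 17,nat_lit 16,nat_lit 59,nat_lit 58] (Cert.lf (Leaf.st (nat_lit 2) (nat_lit 1) (nat_lit 5) (Leaf.cf (nat_lit 244)))))))) Cert.nil)) f76_1)))) (Cert.rep (nat_lit 208) [nat_lit 14,nat_lit 22,nat_lit 38,nat_lit 64] [nat_lit 132,nat_lit 64,nat_lit 38,nat_lit 22,nat_lit 14,nat_lit 1] [nat_lit 4,nat_lit 2] (Cert.rep (nat_lit 1) [] [] [] Cert.nil (Cert.rep (nat_lit 14) [] [] [] Cert.nil (Cert.rep (nat_lit 22) [] [] [] Cert.nil (Cert.rep (nat_lit 64) [nat_lit 14,nat_lit 64] [] [] (Cert.rep (nat_lit 88) [] [] [] (Cert.er (Cert.st (nat_lit 0) (nat_lit 208) (nat_lit 0) (Cert.ro (nat_lit 0) [nat_lit 1,nat_lit 8,nat_lit 16] [nat_lit 8,nat_lit 9,nat_lit 16] [nat_lit 0,nat_lit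 1,nat_lit 64,nat_lit 65,nat_lit 208,nat_lit 209,nat_lit 186,nat_lit 187] (Cert.ro (nat_lit 1) [nat_lit 1,nat_lit 2,nat_lit 14,nat_lit 16] [nat_lit 1,nat_lit 14,nat_lit 12,nat_lit 16] [nat_lit 0,nat_lit 1,nat_lit 41,nat_lit 40,nat_lit 48,nat_lit 49,nat_lit 25,nat_lit 24,nat_lit 208,nat_lit 209,nat_lit 249,nat_lit 248,nat_lit 225,nat_lit 224,nat_lit 200,nat_lit 201] (Cert.lw (nat_lit 0) (nat_lit 2) (nat_lit 1) (Cert.st (nat_lit 2) (nat_lit 1) (nat_lit 5) (Cert.st (nat_lit 0) (nat_lit 186) (nat_lit 0) (Cert.nl (nat_lit 208) (Cert.sy (nat_lit 0) (Cert.o1 (nat_lit 0) (nat_lit 8) (Cert.fu (nat_lit 8) (nat_lit 4) (nat_lit 208) (nat_lit 0) [nat_lit 0] [nat_lit 5,nat_lit 19] [] [] [nat_lit 132,nat_lit 64,nat_lit 38,nat_lit 22,nat_lit 14,nat_lit 1] [nat_lit 1] [] [[nat_lit 8]] [Ins.fr [nat_lit 0],Ins.ts (nat_lit 0) [nat_lit 0,nat_lit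 0] [],Ins.ts (nat_lit 3) [nat_lit 0] [],Ins.ts (nat_lit 3) [nat_lit 0,nat_lit 1] [],Ins.fr [nat_lit 1],Ins.ts (nat_lit 0) [nat_lit 0,nat_lit 0] [],Ins.ts (nat_lit 2) [nat_lit 0,nat_lit 2] [],Ins.ts (nat_lit 3) [nat_lit 0] [],Ins.ts (nat_lit 4) [nat_lit 0] [nat_lit 0,nat_lit 0,nat_lit 1],Ins.ts (nat_lit 0) [nat_lit 1,nat_lit 0] [nat_lit 0,nat_lit 1],Ins.ts (nat_lit 1) [nat_lit 0] [],Ins.ts (nat_lit 3) [nat_lit 0,nat_lit 1] [],Ins.ts (nat_lit 3) [nat_lit 0,nat_lit 1,nat_lit 2] []] [(nat_lit 3,nat_lit 2)] (Cert.rep (nat_lit 208) [nat_lit 14,nat_lit 22,nat_lit 38,nat_lit 64] [nat_lit 132,nat_lit 64,nat_lit 38,nat_lit 22,nat_lit 14,nat_lit 1] [] (Cert.rep (nat_lit 14) [] [] [] Cert.nil (Cert.rep (nat_lit 22) [] [] [] Cert.nil (Cert.rep (nat_lit 78) [] [] [] Cert.nil (Cert.rep (nat_lit 156) [] [] [] Cert.nil (Cert.rep (nat_lit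 198) [] [] [] Cert.nil (Cert.rep (nat_lit 222) [] [] [] Cert.nil Cert.nil)))))) Cert.nil)))))))))))) (Cert.rep (nat_lit 138) [] [] [] (Cert.er (Cert.st (nat_lit 0) (nat_lit 208) (nat_lit 0) (Cert.ro (nat_lit 0) [nat_lit 1,nat_lit 8,nat_lit 16] [nat_lit 8,nat_lit 9,nat_lit 16] [nat_lit 0,nat_lit 1,nat_lit 64,nat_lit 65,nat_lit 208,nat_lit 209,nat_lit 186,nat_lit 187] (Cert.ro (nat_lit 1) [nat_lit 1,nat_lit 2,nat_lit 14,nat_lit 16] [nat_lit 1,nat_lit 14,nat_lit 12,nat_lit 16] [nat_lit 0,nat_lit 1,nat_lit 40,nat_lit 41,nat_lit 200,nat_lit 201,nat_lit 225,nat_lit 224,nat_lit 208,nat_lit 209,nat_lit 248,nat_lit 249,nat_lit 25,nat_lit 24,nat_lit 48,nat_lit 49] (Cert.lw (nat_lit 0) (nat_lit 2) (nat_lit 1) (Cert.st (nat_lit 2) (nat_lit 1) (nat_lit 5) (Cert.st (nat_lit 0) (nat_lit 186) (nat_lit 0) (Cert.nl (nat_lit 208) (Cert.sy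 (nat_lit 0) (Cert.o1 (nat_lit 0) (nat_lit 8) (Cert.fu (nat_lit 8) (nat_lit 4) (nat_lit 208) (nat_lit 0) [nat_lit 0] [nat_lit 5,nat_lit 19] [] [] [nat_lit 132,nat_lit 64,nat_lit 38,nat_lit 22,nat_lit 14,nat_lit 1] [nat_lit 1] [] [[nat_lit 8]] [Ins.fr [nat_lit 0],Ins.ts (nat_lit 0) [nat_lit 0,nat_lit 0] [],Ins.ts (nat_lit 3) [nat_lit 0] [],Ins.ts (nat_lit 3) [nat_lit 0,nat_lit 1] [],Ins.fr [nat_lit 1],Ins.ts (nat_lit 0) [nat_lit 0,nat_lit 0] [],Ins.ts (nat_lit 2) [nat_lit 0,nat_lit 2] [],Ins.ts (nat_lit 3) [nat_lit 0] [],Ins.ts (nat_lit 4) [nat_lit 0] [nat_lit 0,nat_lit 0,nat_lit 1],Ins.ts (nat_lit 0) [nat_lit 1,nat_lit 0] [nat_lit 0,nat_lit 1],Ins.ts (nat_lit 1) [nat_lit 0] [],Ins.ts (nat_lit 3) [nat_lit 0,nat_lit 1] [],Ins.ts (nat_lit 3) [nat_lit 0,nat_lit 1,nat_lit 2] []] [(nat_lit 3,nat_lit 2)] (Cert.rep (nat_lit 208)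 [nat_lit 14,nat_lit 22,nat_lit 38,nat_lit 64] [nat_lit 132,nat_lit 64,nat_lit 38,nat_lit 22,nat_lit 14,nat_lit 1] [] (Cert.rep (nat_lit 14) [] [] [] Cert.nil (Cert.rep (nat_lit 22) [] [] [] Cert.nil (Cert.rep (nat_lit 78) [] [] [] Cert.nil (Cert.rep (nat_lit 156) [] [] [] Cert.nil (Cert.rep (nat_lit 198) [] [] [] Cert.nil (Cert.rep (nat_lit 222) [] [] [] Cert.nil Cert.nil)))))) Cert.nil)))))))))))) Cert.nil)) f76_2)))) Cert.nil))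
noncomputable def f76_4 : Cert :=
  Cert.rep (nat_lit 26) [nat_lit 4,nat_lit 8,nat_lit 34,nat_lit 192] [nat_lit 192,nat_lit 34,nat_lit 18,nat_lit 8,nat_lit 4,nat_lit 1] [nat_lit 64,nat_lit 2] (Cert.rep (nat_lit 1) [] [] [] Cert.nil (Cert.rep (nat_lit 4) [nat_lit 4,nat_lit 8] [] [] (Cert.rep (nat_lit 204) [] [] [] (Cert.er (Cert.ro (nat_lit 0) [nat_lit 1,nat_lit 8,nat_lit 16] [nat_lit 8,nat_lit 9,nat_lit 16] [nat_lit 0,nat_lit 1,nat_lit 4,nat_lit 5,nat_lit 26,nat_lit 27,nat_lit 30,nat_lit 31] (Cert.ro (nat_lit 1) [nat_lit 1,nat_lit 2,nat_lit 14,nat_lit 16] [nat_lit 1,nat_lit 14,nat_lit 12,nat_lit 16] [nat_lit 0,nat_lit 1,nat_lit 42,nat_lit 43,nat_lit 200,nat_lit 201,nat_lit 227,nat_lit 226,nat_lit 26,nat_lit 27,nat_lit 49,nat_lit 48,nat_lit 210,nat_lit 211,nat_lit 248,nat_lit 249] (Cert.lf (Leaf.st (nat_lit 2) (nat_lit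 1) (nat_lit 5) (Leaf.cf (nat_lit 30))))))) (Cert.rep (nat_lit 214) [] [] [] (Cert.er (Cert.ro (nat_lit 0) [nat_lit 1,nat_lit 8,nat_lit 16] [nat_lit 8,nat_lit 9,nat_lit 16] [nat_lit 0,nat_lit 1,nat_lit 4,nat_lit 5,nat_lit 26,nat_lit 27,nat_lit 30,nat_lit 31] (Cert.ro (nat_lit 1) [nat_lit 1,nat_lit 2,nat_lit 14,nat_lit 16] [nat_lit 1,nat_lit 14,nat_lit 12,nat_lit 16] [nat_lit 0,nat_lit 1,nat_lit 42,nat_lit 43,nat_lit 210,nat_lit 211,nat_lit 248,nat_lit 249,nat_lit 26,nat_lit 27,nat_lit 49,nat_lit 48,nat_lit 200,nat_lit 201,nat_lit 227,nat_lit 226] (Cert.lf (Leaf.st (nat_lit 2) (nat_lit 1) (nat_lit 5) (Leaf.cf (nat_lit 30))))))) Cert.nil)) (Cert.rep (nat_lit 8) [nat_lit 4,nat_lit 8] [] [] (Cert.rep (nat_lit 192) [] [] [] (Cert.er (Cert.ro (nat_lit 0) [nat_lit 1,nat_lit 8,nat_lit 16] [nat_lit 8,nat_lit 9,nat_lit 16] [nat_lit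 0,nat_lit 1,nat_lit 8,nat_lit 9,nat_lit 26,nat_lit 27,nat_lit 18,nat_lit 19] (Cert.ro (nat_lit 1) [nat_lit 1,nat_lit 2,nat_lit 14,nat_lit 16] [nat_lit 1,nat_lit 14,nat_lit 12,nat_lit 16] [nat_lit 0,nat_lit 1,nat_lit 43,nat_lit 42,nat_lit 200,nat_lit 201,nat_lit 226,nat_lit 227,nat_lit 26,nat_lit 27,nat_lit 48,nat_lit 49,nat_lit 210,nat_lit 211,nat_lit 249,nat_lit 248] (Cert.lf (Leaf.st (nat_lit 2) (nat_lit 1) (nat_lit 1) (Leaf.cf (nat_lit 1))))))) (Cert.rep (nat_lit 218) [] [] [] (Cert.er (Cert.ro (nat_lit 0) [nat_lit 1,nat_lit 8,nat_lit 16] [nat_lit 8,nat_lit 9,nat_lit 16] [nat_lit 0,nat_lit 1,nat_lit 8,nat_lit 9,nat_lit 26,nat_lit 27,nat_lit 18,nat_lit 19] (Cert.ro (nat_lit 1) [nat_lit 1,nat_lit 2,nat_lit 14,nat_lit 16] [nat_lit 1,nat_lit 14,nat_lit 12,nat_lit 16] [nat_lit 0,nat_lit 1,nat_lit 43,nat_lit 42,nat_lit 210,nat_lit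 211,nat_lit 249,nat_lit 248,nat_lit 26,nat_lit 27,nat_lit 48,nat_lit 49,nat_lit 200,nat_lit 201,nat_lit 226,nat_lit 227] (Cert.lf (Leaf.st (nat_lit 2) (nat_lit 1) (nat_lit 1) (Leaf.cf (nat_lit 1))))))) Cert.nil)) (Cert.rep (nat_lit 12) [] [] [] Cert.nil (Cert.rep (nat_lit 18) [nat_lit 4,nat_lit 8] [] [] (Cert.rep (nat_lit 192) [] [] [] (Cert.er (Cert.ro (nat_lit 0) [nat_lit 1,nat_lit 8,nat_lit 16] [nat_lit 8,nat_lit 9,nat_lit 16] [nat_lit 0,nat_lit 1,nat_lit 18,nat_lit 19,nat_lit 26,nat_lit 27,nat_lit 8,nat_lit 9] (Cert.ro (nat_lit 1) [nat_lit 1,nat_lit 2,nat_lit 14,nat_lit 16] [nat_lit 1,nat_lit 14,nat_lit 12,nat_lit 16] [nat_lit 0,nat_lit 1,nat_lit 43,nat_lit 42,nat_lit 210,nat_lit 211,nat_lit 249,nat_lit 248,nat_lit 26,nat_lit 27,nat_lit 48,nat_lit 49,nat_lit 200,nat_lit 201,nat_lit 226,nat_lit 227] (Cert.kw (nat_lit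 2) (nat_lit 0) (nat_lit 2) (nat_lit 1) )))) (Cert.rep (nat_lit 218) [] [] [] (Cert.er (Cert.ro (nat_lit 0) [nat_lit 1,nat_lit 8,nat_lit 16] [nat_lit 8,nat_lit 9,nat_lit 16] [nat_lit 0,nat_lit 1,nat_lit 18,nat_lit 19,nat_lit 26,nat_lit 27,nat_lit 8,nat_lit 9] (Cert.ro (nat_lit 1) [nat_lit 1,nat_lit 2,nat_lit 14,nat_lit 16] [nat_lit 1,nat_lit 14,nat_lit 12,nat_lit 16] [nat_lit 0,nat_lit 1,nat_lit 43,nat_lit 42,nat_lit 200,nat_lit 201,nat_lit 226,nat_lit 227,nat_lit 26,nat_lit 27,nat_lit 48,nat_lit 49,nat_lit 210,nat_lit 211,nat_lit 249,nat_lit 248] (Cert.kw (nat_lit 2) (nat_lit 0) (nat_lit 2) (nat_lit 1) )))) Cert.nil)) (Cert.rep (nat_lit 22) [] [] [] Cert.nil (Cert.rep (nat_lit 27) [] [] [] Cert.nil (Cert.rep (nat_lit 30) [nat_lit 4,nat_lit 8] [] [] (Cert.rep (nat_lit 204) [] [] [] (Cert.er (Cert.ro (nat_lit 0) [nat_lit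 1,nat_lit 8,nat_lit 16] [nat_lit 8,nat_lit 9,nat_lit 16] [nat_lit 0,nat_lit 1,nat_lit 30,nat_lit 31,nat_lit 26,nat_lit 27,nat_lit 4,nat_lit 5] (Cert.ro (nat_lit 1) [nat_lit 1,nat_lit 2,nat_lit 14,nat_lit 16] [nat_lit 1,nat_lit 14,nat_lit 12,nat_lit 16] [nat_lit 0,nat_lit 1,nat_lit 42,nat_lit 43,nat_lit 210,nat_lit 211,nat_lit 248,nat_lit 249,nat_lit 26,nat_lit 27,nat_lit 49,nat_lit 48,nat_lit 200,nat_lit 201,nat_lit 227,nat_lit 226] (Cert.lf (Leaf.st (nat_lit 2) (nat_lit 1) (nat_lit 5) (Leaf.cf (nat_lit 4))))))) (Cert.rep (nat_lit 214) [] [] [] (Cert.er (Cert.ro (nat_lit 0) [nat_lit 1,nat_lit 8,nat_lit 16] [nat_lit 8,nat_lit 9,nat_lit 16] [nat_lit 0,nat_lit 1,nat_lit 30,nat_lit 31,nat_lit 26,nat_lit 27,nat_lit 4,nat_lit 5] (Cert.ro (nat_lit 1) [nat_lit 1,nat_lit 2,nat_lit 14,nat_lit 16] [nat_lit 1,nat_lit 14,nat_lit 12,nat_lit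 16] [nat_lit 0,nat_lit 1,nat_lit 42,nat_lit 43,nat_lit 200,nat_lit 201,nat_lit 227,nat_lit 226,nat_lit 26,nat_lit 27,nat_lit 49,nat_lit 48,nat_lit 210,nat_lit 211,nat_lit 248,nat_lit 249] (Cert.lf (Leaf.st (nat_lit 2) (nat_lit 1) (nat_lit 5) (Leaf.cf (nat_lit 4))))))) Cert.nil)) (Cert.rep (nat_lit 196) [] [] [] Cert.nil (Cert.rep (nat_lit 222) [] [] [] Cert.nil Cert.nil)))))))))) (Cert.rep (nat_lit 64) [nat_lit 2,nat_lit 180] [nat_lit 180,nat_lit 64,nat_lit 12,nat_lit 2,nat_lit 1] [nat_lit 16,nat_lit 4,nat_lit 36] (Cert.rep (nat_lit 1) [] [] [] Cert.nil (Cert.rep (nat_lit 2) [] [] [] Cert.nil (Cert.rep (nat_lit 12) [] [] [] Cert.nil (Cert.rep (nat_lit 14) [] [] [] Cert.nil (Cert.rep (nat_lit 15) [] [] [] Cert.nil (Cert.rep (nat_lit 65) [] [] [] Cert.nil (Cert.rep (nat_lit 66) [] [] [] Cert.nil (Cert.rep (nat_lit 76) []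 [] [] Cert.nil (Cert.rep (nat_lit 78) [] [] [] Cert.nil (Cert.rep (nat_lit 79) [] [] [] Cert.nil (Cert.rep (nat_lit 180) [] [] [] Cert.nil (Cert.rep (nat_lit 186) [] [] [] Cert.nil (Cert.rep (nat_lit 208) [] [] [] Cert.nil (Cert.rep (nat_lit 222) [] [] [] Cert.nil Cert.nil)))))))))))))) (Cert.rep (nat_lit 76) [nat_lit 2,nat_lit 144] [nat_lit 144,nat_lit 64,nat_lit 12,nat_lit 2,nat_lit 1] [nat_lit 16,nat_lit 4,nat_lit 36] (Cert.rep (nat_lit 1) [] [] [] Cert.nil (Cert.rep (nat_lit 2) [] [] [] Cert.nil (Cert.rep (nat_lit 12) [] [] [] Cert.nil (Cert.rep (nat_lit 14) [] [] [] Cert.nil (Cert.rep (nat_lit 15) [] [] [] Cert.nil (Cert.rep (nat_lit 64) [] [] [] Cert.nil (Cert.rep (nat_lit 66) [] [] [] Cert.nil (Cert.rep (nat_lit 67) [] [] [] Cert.nil (Cert.rep (nat_lit 77) [] [] [] Cert.nil (Cert.rep (nat_lit 78) [] [] [] Cert.nil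 (Cert.rep (nat_lit 146) [] [] [] Cert.nil (Cert.rep (nat_lit 156) [] [] [] Cert.nil (Cert.rep (nat_lit 244) [] [] [] Cert.nil (Cert.rep (nat_lit 250) [] [] [] Cert.nil Cert.nil)))))))))))))) f76_3))
noncomputable def f76_5 : Cert :=
  Cert.st (nat_lit 0) (nat_lit 26) (nat_lit 0) (Cert.sp (nat_lit 1) (Cert.lf (Leaf.pt (nat_lit 7) (nat_lit 1) [nat_lit 8,nat_lit 16])) (Cert.sp (nat_lit 2) (Cert.lf (Leaf.pt (nat_lit 0) (nat_lit 2) [nat_lit 96])) (Cert.st (nat_lit 0) (nat_lit 2) (nat_lit 0) (Cert.sp (nat_lit 4) (Cert.lf (Leaf.pt (nat_lit 7) (nat_lit 4) [nat_lit 8,nat_lit 16])) (Cert.st (nat_lit 0) (nat_lit 4) (nat_lit 0) (Cert.sp (nat_lit 12) (Cert.lf (Leaf.pt (nat_lit 7) (nat_lit 12) [nat_lit 8,nat_lit 16])) (Cert.st (nat_lit 0) (nat_lit 12) (nat_lit 0) (Cert.sp (nat_lit 14) (Cert.lf (Leaf.pt (nat_lit 11) (nat_lit 14) [nat_lit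 2,nat_lit 68,nat_lit 1])) (Cert.st (nat_lit 0) (nat_lit 14) (nat_lit 0) (Cert.sp (nat_lit 18) (Cert.lf (Leaf.pt (nat_lit 6) (nat_lit 18) [nat_lit 8])) (Cert.st (nat_lit 0) (nat_lit 18) (nat_lit 0) (Cert.sp (nat_lit 22) (Cert.lf (Leaf.pt (nat_lit 7) (nat_lit 22) [nat_lit 26,nat_lit 38])) (Cert.st (nat_lit 0) (nat_lit 22) (nat_lit 0) (Cert.sp (nat_lit 30) (Cert.lf (Leaf.pt (nat_lit 8) (nat_lit 30) [nat_lit 4,nat_lit 18])) (Cert.st (nat_lit 0) (nat_lit 30) (nat_lit 0) (Cert.sp (nat_lit 128) (Cert.lf (Leaf.st (nat_lit 1) (nat_lit 68) (nat_lit 128) (Leaf.pt (nat_lit 7) (nat_lit 128) [nat_lit 130,nat_lit 36]))) (Cert.st (nat_lit 0) (nat_lit 128) (nat_lit 0) (Cert.sp (nat_lit 196) (Cert.lf (Leaf.pt (nat_lit 7) (nat_lit 196) [nat_lit 26,nat_lit 38])) (Cert.st (nat_lit 0) (nat_lit 196) (nat_lit 0) (Cert.sp (nat_lit 222) (Cert.lf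 (Leaf.pt (nat_lit 7) (nat_lit 222) [nat_lit 26,nat_lit 38])) (Cert.st (nat_lit 0) (nat_lit 222) (nat_lit 0) (Cert.nl (nat_lit 1) (Cert.sy (nat_lit 0) (Cert.s2 (nat_lit 0) (nat_lit 18) (Cert.o1 (nat_lit 0) (nat_lit 18) (Cert.fu (nat_lit 18) (nat_lit 1) (nat_lit 0) (nat_lit 0) [nat_lit 0] [nat_lit 132] [] [] [] [nat_lit 1] [[nat_lit 1]] [[nat_lit 18]] [Ins.ts (nat_lit 1) [nat_lit 0] [],Ins.fr [nat_lit 0],Ins.ts (nat_lit 1) [nat_lit 0,nat_lit 0] [],Ins.ts (nat_lit 1) [nat_lit 0,nat_lit 0,nat_lit 1] [],Ins.ts (nat_lit 1) [nat_lit 0,nat_lit 0,nat_lit 0,nat_lit 0,nat_lit 1] [],Ins.ts (nat_lit 1) [nat_lit 0,nat_lit 0,nat_lit 0,nat_lit 0] []] [] (Cert.rep (nat_lit 1) [] [nat_lit 128,nat_lit 64,nat_lit 32,nat_lit 16,nat_lit 8,nat_lit 4,nat_lit 2,nat_lit 1] [] Cert.nil Cert.nil))) (Cert.s2 (nat_lit 0) (nat_lit 146) (Cert.o1 (nat_lit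 0) (nat_lit 146) (Cert.fu (nat_lit 146) (nat_lit 1) (nat_lit 0) (nat_lit 0) [nat_lit 0] [nat_lit 80] [] [] [] [nat_lit 1] [[nat_lit 1]] [[nat_lit 146]] [Ins.ts (nat_lit 1) [nat_lit 0] [],Ins.fr [nat_lit 0],Ins.ts (nat_lit 1) [nat_lit 0,nat_lit 0] [],Ins.ts (nat_lit 1) [nat_lit 0,nat_lit 0,nat_lit 1] [],Ins.ts (nat_lit 1) [nat_lit 0,nat_lit 0,nat_lit 0,nat_lit 0,nat_lit 1] [],Ins.ts (nat_lit 1) [nat_lit 0,nat_lit 0,nat_lit 0,nat_lit 0] []] [] (Cert.rep (nat_lit 1) [] [nat_lit 128,nat_lit 64,nat_lit 32,nat_lit 16,nat_lit 8,nat_lit 4,nat_lit 2,nat_lit 1] [] Cert.nil Cert.nil))) (Cert.s2 (nat_lit 0) (nat_lit 156) (Cert.o1 (nat_lit 0) (nat_lit 156) (Cert.fu (nat_lit 156) (nat_lit 1) (nat_lit 0) (nat_lit 0) [nat_lit 0] [nat_lit 82] [] [] [] [nat_lit 1] [[nat_lit 1]] [[nat_lit 156]] [Ins.ts (nat_lit 1) [nat_lit 0] [],Ins.fr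 [nat_lit 0],Ins.ts (nat_lit 1) [nat_lit 0,nat_lit 0] [],Ins.ts (nat_lit 1) [nat_lit 0,nat_lit 0,nat_lit 1] [],Ins.ts (nat_lit 1) [nat_lit 0,nat_lit 0,nat_lit 0,nat_lit 0,nat_lit 1] [],Ins.ts (nat_lit 1) [nat_lit 0,nat_lit 0,nat_lit 0,nat_lit 0] []] [] (Cert.rep (nat_lit 1) [] [nat_lit 128,nat_lit 64,nat_lit 32,nat_lit 16,nat_lit 8,nat_lit 4,nat_lit 2,nat_lit 1] [] Cert.nil Cert.nil))) (Cert.s2 (nat_lit 0) (nat_lit 208) (Cert.o1 (nat_lit 0) (nat_lit 208) (Cert.fu (nat_lit 208) (nat_lit 1) (nat_lit 0) (nat_lit 0) [nat_lit 0] [nat_lit 86] [] [] [] [nat_lit 1] [[nat_lit 1]] [[nat_lit 208]] [Ins.ts (nat_lit 1) [nat_lit 0] [],Ins.fr [nat_lit 0],Ins.ts (nat_lit 1) [nat_lit 0,nat_lit 0] [],Ins.ts (nat_lit 1) [nat_lit 0,nat_lit 0,nat_lit 1] [],Ins.ts (nat_lit 1) [nat_lit 0,nat_lit 0,nat_lit 0,nat_lit 0,nat_lit 1] [],Ins.ts (nat_lit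 1) [nat_lit 0,nat_lit 0,nat_lit 0,nat_lit 0] []] [] (Cert.rep (nat_lit 1) [] [nat_lit 128,nat_lit 64,nat_lit 32,nat_lit 16,nat_lit 8,nat_lit 4,nat_lit 2,nat_lit 1] [] Cert.nil Cert.nil))) (Cert.s2 (nat_lit 0) (nat_lit 222) (Cert.o1 (nat_lit 0) (nat_lit 222) (Cert.fu (nat_lit 222) (nat_lit 1) (nat_lit 0) (nat_lit 0) [nat_lit 0] [nat_lit 84] [] [] [] [nat_lit 1] [[nat_lit 1]] [[nat_lit 222]] [Ins.ts (nat_lit 1) [nat_lit 0] [],Ins.fr [nat_lit 0],Ins.ts (nat_lit 1) [nat_lit 0,nat_lit 0] [],Ins.ts (nat_lit 1) [nat_lit 0,nat_lit 0,nat_lit 1] [],Ins.ts (nat_lit 1) [nat_lit 0,nat_lit 0,nat_lit 0,nat_lit 0,nat_lit 1] [],Ins.ts (nat_lit 1) [nat_lit 0,nat_lit 0,nat_lit 0,nat_lit 0] []] [] (Cert.rep (nat_lit 1) [] [nat_lit 128,nat_lit 64,nat_lit 32,nat_lit 16,nat_lit 8,nat_lit 4,nat_lit 2,nat_lit 1] [] Cert.nil Cert.nil))) (Cert.root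 (nat_lit 32) [] [nat_lit 8,nat_lit 4] [nat_lit 0,nat_lit 1,nat_lit 2,nat_lit 3,nat_lit 4] [Ins.fr [nat_lit 0],Ins.ts (nat_lit 0) [nat_lit 0,nat_lit 0] [],Ins.ts (nat_lit 1) [nat_lit 0] [],Ins.ts (nat_lit 1) [nat_lit 0,nat_lit 1] [],Ins.fr [nat_lit 1],Ins.ts (nat_lit 1) [nat_lit 0,nat_lit 0] [],Ins.ts (nat_lit 1) [nat_lit 0,nat_lit 0,nat_lit 0,nat_lit 0] [],Ins.ts (nat_lit 0) [nat_lit 1,nat_lit 0,nat_lit 1] [nat_lit 0,nat_lit 0,nat_lit 0],Ins.df [nat_lit 0,nat_lit 0],Ins.df [nat_lit 0,nat_lit 0]] (Cert.rep (nat_lit 8) [nat_lit 2,nat_lit 16] [nat_lit 16,nat_lit 8,nat_lit 4,nat_lit 2,nat_lit 1] [nat_lit 128,nat_lit 64,nat_lit 32] (Cert.rep (nat_lit 1) [] [] [] Cert.nil (Cert.rep (nat_lit 2) [] [] [] Cert.nil (Cert.rep (nat_lit 4) [] [] [] Cert.nil (Cert.rep (nat_lit 5) [] [] [] Cert.nil (Cert.rep (nat_lit 6) [] [] [] Cert.nil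 (Cert.rep (nat_lit 9) [] [] [] Cert.nil (Cert.rep (nat_lit 10) [] [] [] Cert.nil (Cert.rep (nat_lit 12) [] [] [] Cert.nil (Cert.rep (nat_lit 13) [] [] [] Cert.nil (Cert.rep (nat_lit 14) [] [] [] Cert.nil (Cert.rep (nat_lit 18) [] [] [] Cert.nil (Cert.rep (nat_lit 22) [] [] [] Cert.nil (Cert.rep (nat_lit 26) [] [] [] Cert.nil (Cert.rep (nat_lit 30) [] [] [] Cert.nil Cert.nil)))))))))))))) f76_4))))))))))))))))))))))))))))))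
noncomputable def f76 : Cert :=
  (Cert.st (nat_lit 0) (nat_lit 8) (nat_lit 0) f76_5)
theorem fin76 : finOK DB PT 88 t88 76 t76 (nat_lit 0xc30f000c00300f00c300f00300c000f00000ff00000f00fc33cf00fccccffff) f76 = true := by
  decide +kernel
noncomputable def f77_0 : Cert :=
  Cert.rep (nat_lit 8) [nat_lit 2,nat_lit 16] [nat_lit 16,nat_lit 8,nat_lit 4,nat_lit 2,nat_lit 1] [nat_lit 128,nat_lit 64,nat_lit 32] (Cert.rep (nat_lit 1) [] [] [] Cert.nil (Cert.rep (nat_lit 2) [] [] [] Cert.nil (Cert.rep (nat_lit 4) [] [] [] Cert.nil (Cert.rep (nat_lit 5) [] [] [] Cert.nil (Cert.rep (nat_lit 6) [] [] [] Cert.nil (Cert.rep (nat_lit 9) [] [] [] Cert.nil (Cert.rep (nat_lit 10) [] [] [] Cert.nil (Cert.rep (nat_lit 12) [] [] [] Cert.nil (Cert.rep (nat_lit 13) [] [] [] Cert.nil (Cert.rep (nat_lit 14) [] [] [] Cert.nil (Cert.rep (nat_lit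 18) [] [] [] Cert.nil (Cert.rep (nat_lit 22) [] [] [] Cert.nil (Cert.rep (nat_lit 26) [] [] [] Cert.nil (Cert.rep (nat_lit 30) [] [] [] Cert.nil Cert.nil)))))))))))))) (Cert.rep (nat_lit 26) [nat_lit 4,nat_lit 8,nat_lit 34,nat_lit 192] [nat_lit 192,nat_lit 34,nat_lit 18,nat_lit 8,nat_lit 4,nat_lit 1] [nat_lit 64,nat_lit 2] (Cert.rep (nat_lit 1) [] [] [] Cert.nil (Cert.rep (nat_lit 4) [nat_lit 4,nat_lit 8] [] [] (Cert.rep (nat_lit 200) [] [] [] (Cert.er (Cert.ro (nat_lit 0) [nat_lit 1,nat_lit 8,nat_lit 16] [nat_lit 8,nat_lit 9,nat_lit 16] [nat_lit 0,nat_lit 1,nat_lit 4,nat_lit 5,nat_lit 26,nat_lit 27,nat_lit 30,nat_lit 31] (Cert.ro (nat_lit 1) [nat_lit 1,nat_lit 2,nat_lit 14,nat_lit 16] [nat_lit 1,nat_lit 14,nat_lit 12,nat_lit 16] [nat_lit 0,nat_lit 1,nat_lit 39,nat_lit 38,nat_lit 204,nat_lit 205,nat_lit 235,nat_lit 234,nat_lit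 26,nat_lit 27,nat_lit 60,nat_lit 61,nat_lit 214,nat_lit 215,nat_lit 240,nat_lit 241] (Cert.lf (Leaf.st (nat_lit 2) (nat_lit 1) (nat_lit 5) (Leaf.cf (nat_lit 30))))))) (Cert.rep (nat_lit 210) [] [] [] (Cert.er (Cert.ro (nat_lit 0) [nat_lit 1,nat_lit 8,nat_lit 16] [nat_lit 8,nat_lit 9,nat_lit 16] [nat_lit 0,nat_lit 1,nat_lit 4,nat_lit 5,nat_lit 26,nat_lit 27,nat_lit 30,nat_lit 31] (Cert.ro (nat_lit 1) [nat_lit 1,nat_lit 2,nat_lit 14,nat_lit 16] [nat_lit 1,nat_lit 14,nat_lit 12,nat_lit 16] [nat_lit 0,nat_lit 1,nat_lit 39,nat_lit 38,nat_lit 214,nat_lit 215,nat_lit 240,nat_lit 241,nat_lit 26,nat_lit 27,nat_lit 60,nat_lit 61,nat_lit 204,nat_lit 205,nat_lit 235,nat_lit 234] (Cert.lf (Leaf.st (nat_lit 2) (nat_lit 1) (nat_lit 5) (Leaf.cf (nat_lit 30))))))) Cert.nil)) (Cert.rep (nat_lit 8) [nat_lit 4,nat_lit 8] [] [] (Cert.rep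 (nat_lit 196) [] [] [] (Cert.er (Cert.ro (nat_lit 0) [nat_lit 1,nat_lit 8,nat_lit 16] [nat_lit 8,nat_lit 9,nat_lit 16] [nat_lit 0,nat_lit 1,nat_lit 8,nat_lit 9,nat_lit 26,nat_lit 27,nat_lit 18,nat_lit 19] (Cert.ro (nat_lit 1) [nat_lit 1,nat_lit 2,nat_lit 14,nat_lit 16] [nat_lit 1,nat_lit 14,nat_lit 12,nat_lit 16] [nat_lit 0,nat_lit 1,nat_lit 38,nat_lit 39,nat_lit 204,nat_lit 205,nat_lit 234,nat_lit 235,nat_lit 26,nat_lit 27,nat_lit 61,nat_lit 60,nat_lit 214,nat_lit 215,nat_lit 241,nat_lit 240] (Cert.lf (Leaf.st (nat_lit 2) (nat_lit 1) (nat_lit 1) (Leaf.cf (nat_lit 1))))))) (Cert.rep (nat_lit 222) [] [] [] (Cert.er (Cert.ro (nat_lit 0) [nat_lit 1,nat_lit 8,nat_lit 16] [nat_lit 8,nat_lit 9,nat_lit 16] [nat_lit 0,nat_lit 1,nat_lit 8,nat_lit 9,nat_lit 26,nat_lit 27,nat_lit 18,nat_lit 19] (Cert.ro (nat_lit 1) [nat_lit 1,nat_lit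 2,nat_lit 14,nat_lit 16] [nat_lit 1,nat_lit 14,nat_lit 12,nat_lit 16] [nat_lit 0,nat_lit 1,nat_lit 38,nat_lit 39,nat_lit 214,nat_lit 215,nat_lit 241,nat_lit 240,nat_lit 26,nat_lit 27,nat_lit 61,nat_lit 60,nat_lit 204,nat_lit 205,nat_lit 234,nat_lit 235] (Cert.lf (Leaf.st (nat_lit 2) (nat_lit 1) (nat_lit 1) (Leaf.cf (nat_lit 1))))))) Cert.nil)) (Cert.rep (nat_lit 12) [] [] [] Cert.nil (Cert.rep (nat_lit 18) [nat_lit 4,nat_lit 8] [] [] (Cert.rep (nat_lit 196) [] [] [] (Cert.er (Cert.ro (nat_lit 0) [nat_lit 1,nat_lit 8,nat_lit 16] [nat_lit 8,nat_lit 9,nat_lit 16] [nat_lit 0,nat_lit 1,nat_lit 18,nat_lit 19,nat_lit 26,nat_lit 27,nat_lit 8,nat_lit 9] (Cert.ro (nat_lit 1) [nat_lit 1,nat_lit 2,nat_lit 14,nat_lit 16] [nat_lit 1,nat_lit 14,nat_lit 12,nat_lit 16] [nat_lit 0,nat_lit 1,nat_lit 38,nat_lit 39,nat_lit 214,nat_lit 215,nat_lit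 241,nat_lit 240,nat_lit 26,nat_lit 27,nat_lit 61,nat_lit 60,nat_lit 204,nat_lit 205,nat_lit 234,nat_lit 235] (Cert.kw (nat_lit 2) (nat_lit 0) (nat_lit 2) (nat_lit 1) )))) (Cert.rep (nat_lit 222) [] [] [] (Cert.er (Cert.ro (nat_lit 0) [nat_lit 1,nat_lit 8,nat_lit 16] [nat_lit 8,nat_lit 9,nat_lit 16] [nat_lit 0,nat_lit 1,nat_lit 18,nat_lit 19,nat_lit 26,nat_lit 27,nat_lit 8,nat_lit 9] (Cert.ro (nat_lit 1) [nat_lit 1,nat_lit 2,nat_lit 14,nat_lit 16] [nat_lit 1,nat_lit 14,nat_lit 12,nat_lit 16] [nat_lit 0,nat_lit 1,nat_lit 38,nat_lit 39,nat_lit 204,nat_lit 205,nat_lit 234,nat_lit 235,nat_lit 26,nat_lit 27,nat_lit 61,nat_lit 60,nat_lit 214,nat_lit 215,nat_lit 241,nat_lit 240] (Cert.kw (nat_lit 2) (nat_lit 0) (nat_lit 2) (nat_lit 1) )))) Cert.nil)) (Cert.rep (nat_lit 22) [] [] [] Cert.nil (Cert.rep (nat_lit 27) [] [] [] Cert.nil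 (Cert.rep (nat_lit 30) [nat_lit 4,nat_lit 8] [] [] (Cert.rep (nat_lit 200) [] [] [] (Cert.er (Cert.ro (nat_lit 0) [nat_lit 1,nat_lit 8,nat_lit 16] [nat_lit 8,nat_lit 9,nat_lit 16] [nat_lit 0,nat_lit 1,nat_lit 30,nat_lit 31,nat_lit 26,nat_lit 27,nat_lit 4,nat_lit 5] (Cert.ro (nat_lit 1) [nat_lit 1,nat_lit 2,nat_lit 14,nat_lit 16] [nat_lit 1,nat_lit 14,nat_lit 12,nat_lit 16] [nat_lit 0,nat_lit 1,nat_lit 39,nat_lit 38,nat_lit 214,nat_lit 215,nat_lit 240,nat_lit 241,nat_lit 26,nat_lit 27,nat_lit 60,nat_lit 61,nat_lit 204,nat_lit 205,nat_lit 235,nat_lit 234] (Cert.kw (nat_lit 2) (nat_lit 0) (nat_lit 2) (nat_lit 1) )))) (Cert.rep (nat_lit 210) [] [] [] (Cert.er (Cert.ro (nat_lit 0) [nat_lit 1,nat_lit 8,nat_lit 16] [nat_lit 8,nat_lit 9,nat_lit 16] [nat_lit 0,nat_lit 1,nat_lit 30,nat_lit 31,nat_lit 26,nat_lit 27,nat_lit 4,nat_lit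 5] (Cert.ro (nat_lit 1) [nat_lit 1,nat_lit 2,nat_lit 14,nat_lit 16] [nat_lit 1,nat_lit 14,nat_lit 12,nat_lit 16] [nat_lit 0,nat_lit 1,nat_lit 39,nat_lit 38,nat_lit 204,nat_lit 205,nat_lit 235,nat_lit 234,nat_lit 26,nat_lit 27,nat_lit 60,nat_lit 61,nat_lit 214,nat_lit 215,nat_lit 240,nat_lit 241] (Cert.kw (nat_lit 2) (nat_lit 0) (nat_lit 2) (nat_lit 1) )))) Cert.nil)) (Cert.rep (nat_lit 192) [] [] [] Cert.nil (Cert.rep (nat_lit 218) [] [] [] Cert.nil Cert.nil)))))))))) Cert.nil)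
noncomputable def f77 : Cert :=
  (Cert.st (nat_lit 0) (nat_lit 8) (nat_lit 0) (Cert.st (nat_lit 0) (nat_lit 26) (nat_lit 0) (Cert.sp (nat_lit 1) (Cert.lf (Leaf.pt (nat_lit 7) (nat_lit 1) [nat_lit 8,nat_lit 16])) (Cert.sp (nat_lit 2) (Cert.lf (Leaf.pt (nat_lit 0) (nat_lit 2) [nat_lit 96])) (Cert.st (nat_lit 0) (nat_lit 2) (nat_lit 0) (Cert.sp (nat_lit 4) (Cert.lf (Leaf.pt (nat_lit 7) (nat_lit 4) [nat_lit 8,nat_lit 16])) (Cert.st (nat_lit 0) (nat_lit 4) (nat_lit 0) (Cert.sp (nat_lit 12) (Cert.lf (Leaf.pt (nat_lit 7) (nat_lit 12) [nat_lit 8,nat_lit 16])) (Cert.st (nat_lit 0) (nat_lit 12) (nat_lit 0) (Cert.sp (nat_lit 14) (Cert.lf (Leaf.pt (nat_lit 11) (nat_lit 14) [nat_lit 2,nat_lit 68,nat_lit 1])) (Cert.st (nat_lit 0) (nat_lit 14) (nat_lit 0) (Cert.sp (nat_lit 18) (Cert.lf (Leaf.pt (nat_lit 6) (nat_lit 18) [nat_lit 8]))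 (Cert.st (nat_lit 0) (nat_lit 18) (nat_lit 0) (Cert.sp (nat_lit 22) (Cert.lf (Leaf.pt (nat_lit 7) (nat_lit 22) [nat_lit 26,nat_lit 38])) (Cert.st (nat_lit 0) (nat_lit 22) (nat_lit 0) (Cert.sp (nat_lit 64) (Cert.lf (Leaf.st (nat_lit 1) (nat_lit 36) (nat_lit 64) (Leaf.st (nat_lit 1) (nat_lit 4) (nat_lit 64) (Leaf.st (nat_lit 1) (nat_lit 144) (nat_lit 64) (Leaf.pt (nat_lit 15) (nat_lit 64) [nat_lit 1,nat_lit 2,nat_lit 12]))))) (Cert.st (nat_lit 0) (nat_lit 64) (nat_lit 0) (Cert.sp (nat_lit 192) (Cert.lf (Leaf.pt (nat_lit 7) (nat_lit 192) [nat_lit 26,nat_lit 42])) (Cert.st (nat_lit 0) (nat_lit 192) (nat_lit 0) (Cert.sp (nat_lit 194) (Cert.lf (Leaf.pt (nat_lit 11) (nat_lit 194) [nat_lit 2,nat_lit 68,nat_lit 1])) (Cert.st (nat_lit 0) (nat_lit 194) (nat_lit 0) (Cert.sp (nat_lit 212) (Cert.lf (Leaf.pt (nat_lit 7) (nat_lit 212)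 [nat_lit 50,nat_lit 24])) (Cert.st (nat_lit 0) (nat_lit 212) (nat_lit 0) (Cert.nl (nat_lit 1) (Cert.sy (nat_lit 0) (Cert.s2 (nat_lit 0) (nat_lit 18) (Cert.o1 (nat_lit 0) (nat_lit 18) (Cert.fu (nat_lit 18) (nat_lit 1) (nat_lit 0) (nat_lit 0) [nat_lit 0] [nat_lit 9,nat_lit 37] [] [] [] [nat_lit 1] [[nat_lit 1]] [[nat_lit 18]] [Ins.ts (nat_lit 1) [nat_lit 0] [],Ins.fr [nat_lit 0],Ins.ts (nat_lit 2) [nat_lit 0] [],Ins.ts (nat_lit 0) [nat_lit 0,nat_lit 0] [],Ins.ts (nat_lit 1) [nat_lit 0] [],Ins.fr [nat_lit 1],Ins.ts (nat_lit 0) [nat_lit 0,nat_lit 1,nat_lit 0] [nat_lit 1],Ins.ts (nat_lit 2) [nat_lit 1,nat_lit 0] [],Ins.ts (nat_lit 1) [nat_lit 0,nat_lit 0] [],Ins.ts (nat_lit 1) [nat_lit 0,nat_lit 0,nat_lit 2] []] [] (Cert.rep (nat_lit 1) [nat_lit 2,nat_lit 4,nat_lit 16,nat_lit 32,nat_lit 64,nat_lit 128] [nat_lit 128,nat_lit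 64,nat_lit 32,nat_lit 16,nat_lit 8,nat_lit 4,nat_lit 2,nat_lit 1] [] (Cert.rep (nat_lit 8) [] [] [] Cert.nil (Cert.rep (nat_lit 26) [] [] [] Cert.nil Cert.nil)) Cert.nil))) (Cert.root (nat_lit 32) [] [nat_lit 8,nat_lit 4] [nat_lit 0,nat_lit 1,nat_lit 2,nat_lit 3,nat_lit 4] [Ins.fr [nat_lit 0],Ins.ts (nat_lit 0) [nat_lit 0,nat_lit 0] [],Ins.ts (nat_lit 1) [nat_lit 0] [],Ins.ts (nat_lit 1) [nat_lit 0,nat_lit 1] [],Ins.fr [nat_lit 1],Ins.ts (nat_lit 1) [nat_lit 0,nat_lit 0] [],Ins.ts (nat_lit 1) [nat_lit 0,nat_lit 0,nat_lit 0,nat_lit 0] [],Ins.ts (nat_lit 0) [nat_lit 1,nat_lit 0,nat_lit 1] [nat_lit 0,nat_lit 0,nat_lit 0],Ins.df [nat_lit 0,nat_lit 0],Ins.df [nat_lit 0,nat_lit 0]] f77_0)))))))))))))))))))))))))))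
theorem fin77 : finOK DB PT 88 t88 77 t77 (nat_lit 0x300c00f00c30000f000000000000000000000ff00000f00fc33cf00fccccffff) f77 = true := by
  decide +kernel
noncomputable def f95_0 : Cert :=
  Cert.s2 (nat_lit 0) (nat_lit 92) (Cert.o1 (nat_lit 0) (nat_lit 92) (Cert.fu (nat_lit 10) (nat_lit 1) (nat_lit 0) (nat_lit 0) [] [nat_lit 92,nat_lit 1,nat_lit 16,nat_lit 32] [] [] [] [nat_lit 1] [[nat_lit 1]] [[nat_lit 92]] [Ins.fr [nat_lit 0],Ins.ts (nat_lit 3) [nat_lit 0] [],Ins.ts (nat_lit 4) [nat_lit 0] [nat_lit 0,nat_lit 0,nat_lit 0],Ins.ts (nat_lit 1) [nat_lit 0] [],Ins.fr [nat_lit 1],Ins.ts (nat_lit 3) [nat_lit 0] [],Ins.ts (nat_lit 0) [nat_lit 0,nat_lit 0] [],Ins.ts (nat_lit 1) [nat_lit 0] [],Ins.ts (nat_lit 4) [nat_lit 0] [nat_lit 0,nat_lit 0,nat_lit 1],Ins.ts (nat_lit 1) [nat_lit 0,nat_lit 1] [],Ins.fr [nat_lit 2],Ins.ts (nat_lit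 2) [nat_lit 0] [],Ins.ts (nat_lit 0) [nat_lit 0,nat_lit 0] [],Ins.ts (nat_lit 0) [nat_lit 1,nat_lit 0] [nat_lit 0,nat_lit 1],Ins.ts (nat_lit 1) [nat_lit 0] [],Ins.ts (nat_lit 4) [nat_lit 0,nat_lit 2,nat_lit 3] [nat_lit 0,nat_lit 0,nat_lit 2],Ins.ts (nat_lit 4) [nat_lit 0,nat_lit 1,nat_lit 2,nat_lit 3] [nat_lit 0,nat_lit 0,nat_lit 2],Ins.ts (nat_lit 1) [nat_lit 0,nat_lit 2,nat_lit 3] [],Ins.ts (nat_lit 1) [nat_lit 0,nat_lit 1,nat_lit 2,nat_lit 3] [],Ins.fr [nat_lit 1,nat_lit 3],Ins.ts (nat_lit 0) [nat_lit 0,nat_lit 0] [],Ins.ts (nat_lit 0) [nat_lit 1,nat_lit 2,nat_lit 0] [nat_lit 0,nat_lit 1]] [(nat_lit 2,nat_lit 0),(nat_lit 3,nat_lit 0)] (Cert.rep (nat_lit 10) [] [nat_lit 68,nat_lit 36,nat_lit 16,nat_lit 8,nat_lit 2,nat_lit 1] [nat_lit 1024,nat_lit 512,nat_lit 256,nat_lit 128,nat_lit 4] (Cert.rep (nat_lit 1) [nat_lit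 2,nat_lit 16,nat_lit 36,nat_lit 68] [] [] (Cert.rep (nat_lit 26) [] [] [] Cert.nil (Cert.rep (nat_lit 60) [] [] [] Cert.nil (Cert.rep (nat_lit 92) [] [] [] (Cert.rep (nat_lit 16) [] [] [] Cert.nil (Cert.rep (nat_lit 17) [] [] [] Cert.nil (Cert.rep (nat_lit 76) [] [] [] Cert.nil (Cert.rep (nat_lit 77) [] [] [] Cert.nil Cert.nil)))) Cert.nil))) Cert.nil) Cert.nil))) (Cert.root (nat_lit 32) [] [nat_lit 8,nat_lit 4] [nat_lit 0,nat_lit 1,nat_lit 2,nat_lit 3,nat_lit 4] [Ins.fr [nat_lit 0],Ins.ts (nat_lit 0) [nat_lit 0,nat_lit 0] [],Ins.ts (nat_lit 1) [nat_lit 0] [],Ins.ts (nat_lit 1) [nat_lit 0,nat_lit 1] [],Ins.fr [nat_lit 1],Ins.ts (nat_lit 1) [nat_lit 0,nat_lit 0] [],Ins.ts (nat_lit 0) [nat_lit 1,nat_lit 0,nat_lit 1] [nat_lit 0,nat_lit 0,nat_lit 0],Ins.ts (nat_lit 1) [nat_lit 0,nat_lit 0,nat_lit 0,nat_lit 0] [],Ins.df [nat_lit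 0,nat_lit 0],Ins.df [nat_lit 0,nat_lit 0]] (Cert.rep (nat_lit 10) [nat_lit 2,nat_lit 16,nat_lit 36,nat_lit 68] [nat_lit 68,nat_lit 36,nat_lit 16,nat_lit 8,nat_lit 2,nat_lit 1] [nat_lit 1024,nat_lit 512,nat_lit 256,nat_lit 128,nat_lit 4] (Cert.rep (nat_lit 1) [] [] [] Cert.nil (Cert.rep (nat_lit 11) [] [] [] Cert.nil (Cert.rep (nat_lit 16) [] [] [] Cert.nil (Cert.rep (nat_lit 26) [] [] [] Cert.nil (Cert.rep (nat_lit 52) [] [] [] Cert.nil (Cert.rep (nat_lit 60) [] [] [] Cert.nil (Cert.rep (nat_lit 68) [nat_lit 16,nat_lit 68] [] [] (Cert.rep (nat_lit 96) [] [] [] (Cert.er (Cert.ro (nat_lit 0) [nat_lit 1,nat_lit 8,nat_lit 16] [nat_lit 8,nat_lit 9,nat_lit 16] [nat_lit 0,nat_lit 1,nat_lit 68,nat_lit 69,nat_lit 10,nat_lit 11,nat_lit 78,nat_lit 79] (Cert.ro (nat_lit 1) [nat_lit 1,nat_lit 2,nat_lit 14,nat_lit 16] [nat_lit 1,nat_lit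 14,nat_lit 12,nat_lit 16] [nat_lit 0,nat_lit 1,nat_lit 2,nat_lit 3,nat_lit 39,nat_lit 38,nat_lit 36,nat_lit 37,nat_lit 10,nat_lit 11,nat_lit 9,nat_lit 8,nat_lit 44,nat_lit 45,nat_lit 46,nat_lit 47] (Cert.kw (nat_lit 2) (nat_lit 0) (nat_lit 2) (nat_lit 1) )))) (Cert.rep (nat_lit 104) [] [] [] (Cert.er (Cert.ro (nat_lit 0) [nat_lit 1,nat_lit 8,nat_lit 16] [nat_lit 8,nat_lit 9,nat_lit 16] [nat_lit 0,nat_lit 1,nat_lit 68,nat_lit 69,nat_lit 10,nat_lit 11,nat_lit 78,nat_lit 79] (Cert.ro (nat_lit 1) [nat_lit 1,nat_lit 2,nat_lit 14,nat_lit 16] [nat_lit 1,nat_lit 14,nat_lit 12,nat_lit 16] [nat_lit 0,nat_lit 1,nat_lit 3,nat_lit 2,nat_lit 46,nat_lit 47,nat_lit 44,nat_lit 45,nat_lit 10,nat_lit 11,nat_lit 8,nat_lit 9,nat_lit 36,nat_lit 37,nat_lit 39,nat_lit 38] (Cert.kw (nat_lit 2) (nat_lit 0) (nat_lit 2) (nat_lit 1) )))) Cert.nil))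 (Cert.rep (nat_lit 76) [nat_lit 16,nat_lit 70] [] [] (Cert.rep (nat_lit 96) [] [] [] (Cert.er (Cert.ro (nat_lit 0) [nat_lit 1,nat_lit 8,nat_lit 16] [nat_lit 8,nat_lit 9,nat_lit 16] [nat_lit 0,nat_lit 1,nat_lit 76,nat_lit 77,nat_lit 10,nat_lit 11,nat_lit 71,nat_lit 70] (Cert.ro (nat_lit 1) [nat_lit 1,nat_lit 2,nat_lit 14,nat_lit 16] [nat_lit 1,nat_lit 14,nat_lit 12,nat_lit 16] [nat_lit 0,nat_lit 1,nat_lit 2,nat_lit 3,nat_lit 47,nat_lit 46,nat_lit 44,nat_lit 45,nat_lit 10,nat_lit 11,nat_lit 9,nat_lit 8,nat_lit 37,nat_lit 36,nat_lit 39,nat_lit 38] (Cert.lf (Leaf.st (nat_lit 2) (nat_lit 1) (nat_lit 1) (Leaf.cf (nat_lit 1))))))) (Cert.rep (nat_lit 104) [] [] [] (Cert.er (Cert.ro (nat_lit 0) [nat_lit 1,nat_lit 8,nat_lit 16] [nat_lit 8,nat_lit 9,nat_lit 16] [nat_lit 0,nat_lit 1,nat_lit 76,nat_lit 77,nat_lit 10,nat_lit 11,nat_lit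 71,nat_lit 70] (Cert.ro (nat_lit 1) [nat_lit 1,nat_lit 2,nat_lit 14,nat_lit 16] [nat_lit 1,nat_lit 14,nat_lit 12,nat_lit 16] [nat_lit 0,nat_lit 1,nat_lit 3,nat_lit 2,nat_lit 39,nat_lit 38,nat_lit 37,nat_lit 36,nat_lit 10,nat_lit 11,nat_lit 8,nat_lit 9,nat_lit 44,nat_lit 45,nat_lit 47,nat_lit 46] (Cert.lf (Leaf.st (nat_lit 2) (nat_lit 1) (nat_lit 1) (Leaf.cf (nat_lit 1))))))) Cert.nil)) (Cert.rep (nat_lit 84) [nat_lit 16,nat_lit 68] [] [] (Cert.rep (nat_lit 112) [] [] [] (Cert.er (Cert.ro (nat_lit 0) [nat_lit 1,nat_lit 8,nat_lit 16] [nat_lit 8,nat_lit 9,nat_lit 16] [nat_lit 0,nat_lit 1,nat_lit 84,nat_lit 85,nat_lit 10,nat_lit 11,nat_lit 94,nat_lit 95] (Cert.ro (nat_lit 1) [nat_lit 1,nat_lit 2,nat_lit 14,nat_lit 16] [nat_lit 1,nat_lit 14,nat_lit 12,nat_lit 16] [nat_lit 0,nat_lit 1,nat_lit 3,nat_lit 2,nat_lit 39,nat_lit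 38,nat_lit 37,nat_lit 36,nat_lit 10,nat_lit 11,nat_lit 8,nat_lit 9,nat_lit 44,nat_lit 45,nat_lit 47,nat_lit 46] (Cert.lf (Leaf.st (nat_lit 2) (nat_lit 1) (nat_lit 1) (Leaf.cf (nat_lit 1))))))) (Cert.rep (nat_lit 120) [] [] [] (Cert.er (Cert.ro (nat_lit 0) [nat_lit 1,nat_lit 8,nat_lit 16] [nat_lit 8,nat_lit 9,nat_lit 16] [nat_lit 0,nat_lit 1,nat_lit 84,nat_lit 85,nat_lit 10,nat_lit 11,nat_lit 94,nat_lit 95] (Cert.ro (nat_lit 1) [nat_lit 1,nat_lit 2,nat_lit 14,nat_lit 16] [nat_lit 1,nat_lit 14,nat_lit 12,nat_lit 16] [nat_lit 0,nat_lit 1,nat_lit 2,nat_lit 3,nat_lit 46,nat_lit 47,nat_lit 45,nat_lit 44,nat_lit 10,nat_lit 11,nat_lit 9,nat_lit 8,nat_lit 36,nat_lit 37,nat_lit 38,nat_lit 39] (Cert.lf (Leaf.st (nat_lit 2) (nat_lit 1) (nat_lit 1) (Leaf.cf (nat_lit 1))))))) Cert.nil)) (Cert.rep (nat_lit 92) [nat_lit 16,nat_lit 70]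 [] [] (Cert.rep (nat_lit 112) [] [] [] (Cert.er (Cert.ro (nat_lit 0) [nat_lit 1,nat_lit 8,nat_lit 16] [nat_lit 8,nat_lit 9,nat_lit 16] [nat_lit 0,nat_lit 1,nat_lit 92,nat_lit 93,nat_lit 10,nat_lit 11,nat_lit 87,nat_lit 86] (Cert.ro (nat_lit 1) [nat_lit 1,nat_lit 2,nat_lit 14,nat_lit 16] [nat_lit 1,nat_lit 14,nat_lit 12,nat_lit 16] [nat_lit 0,nat_lit 1,nat_lit 3,nat_lit 2,nat_lit 47,nat_lit 46,nat_lit 45,nat_lit 44,nat_lit 10,nat_lit 11,nat_lit 8,nat_lit 9,nat_lit 37,nat_lit 36,nat_lit 38,nat_lit 39] (Cert.kw (nat_lit 2) (nat_lit 0) (nat_lit 2) (nat_lit 1) )))) (Cert.rep (nat_lit 120) [] [] [] (Cert.er (Cert.ro (nat_lit 0) [nat_lit 1,nat_lit 8,nat_lit 16] [nat_lit 8,nat_lit 9,nat_lit 16] [nat_lit 0,nat_lit 1,nat_lit 92,nat_lit 93,nat_lit 10,nat_lit 11,nat_lit 87,nat_lit 86] (Cert.ro (nat_lit 1) [nat_lit 1,nat_lit 2,nat_lit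 14,nat_lit 16] [nat_lit 1,nat_lit 14,nat_lit 12,nat_lit 16] [nat_lit 0,nat_lit 1,nat_lit 2,nat_lit 3,nat_lit 39,nat_lit 38,nat_lit 36,nat_lit 37,nat_lit 10,nat_lit 11,nat_lit 9,nat_lit 8,nat_lit 44,nat_lit 45,nat_lit 46,nat_lit 47] (Cert.kw (nat_lit 2) (nat_lit 0) (nat_lit 2) (nat_lit 1) )))) Cert.nil)) Cert.nil)))))))))) Cert.nil))
noncomputable def f95 : Cert :=
  (Cert.st (nat_lit 0) (nat_lit 10) (nat_lit 0) (Cert.sp (nat_lit 1) (Cert.lf (Leaf.pt (nat_lit 9) (nat_lit 1) [nat_lit 10])) (Cert.sp (nat_lit 26) (Cert.lf (Leaf.pt (nat_lit 9) (nat_lit 26) [nat_lit 10])) (Cert.st (nat_lit 0) (nat_lit 26) (nat_lit 0) (Cert.sp (nat_lit 28) (Cert.lf (Leaf.pt (nat_lit 9) (nat_lit 28) [nat_lit 12])) (Cert.st (nat_lit 0) (nat_lit 28) (nat_lit 0) (Cert.sp (nat_lit 32) (Cert.lf (Leaf.pt (nat_lit 12) (nat_lit 32) [nat_lit 26,nat_lit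 196])) (Cert.st (nat_lit 0) (nat_lit 32) (nat_lit 0) (Cert.sp (nat_lit 68) (Cert.lf (Leaf.pt (nat_lit 9) (nat_lit 68) [nat_lit 10])) (Cert.st (nat_lit 0) (nat_lit 68) (nat_lit 0) (Cert.sp (nat_lit 92) (Cert.lf (Leaf.pt (nat_lit 9) (nat_lit 92) [nat_lit 10])) (Cert.st (nat_lit 0) (nat_lit 92) (nat_lit 0) (Cert.sp (nat_lit 132) (Cert.lf (Leaf.pt (nat_lit 12) (nat_lit 132) [nat_lit 26,nat_lit 1290])) (Cert.st (nat_lit 0) (nat_lit 132) (nat_lit 0) (Cert.sp (nat_lit 256) (Cert.lf (Leaf.pt (nat_lit 13) (nat_lit 256) [nat_lit 68])) (Cert.st (nat_lit 0) (nat_lit 256) (nat_lit 0) (Cert.sp (nat_lit 257) (Cert.lf (Leaf.pt (nat_lit 13) (nat_lit 257) [nat_lit 1])) (Cert.st (nat_lit 0) (nat_lit 257) (nat_lit 0) (Cert.sp (nat_lit 584) (Cert.lf (Leaf.pt (nat_lit 19) (nat_lit 584) [nat_lit 24,nat_lit 192])) (Cert.st (nat_lit 0) (nat_lit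 584) (nat_lit 0) (Cert.sp (nat_lit 648) (Cert.lf (Leaf.pt (nat_lit 12) (nat_lit 648) [nat_lit 28,nat_lit 258])) (Cert.st (nat_lit 0) (nat_lit 648) (nat_lit 0) (Cert.sp (nat_lit 1040) (Cert.lf (Leaf.pt (nat_lit 12) (nat_lit 1040) [nat_lit 588,nat_lit 258])) (Cert.st (nat_lit 0) (nat_lit 1040) (nat_lit 0) (Cert.sp (nat_lit 1164) (Cert.lf (Leaf.pt (nat_lit 12) (nat_lit 1164) [nat_lit 584,nat_lit 280])) (Cert.st (nat_lit 0) (nat_lit 1164) (nat_lit 0) (Cert.sp (nat_lit 1560) (Cert.lf (Leaf.pt (nat_lit 12) (nat_lit 1560) [nat_lit 256,nat_lit 650])) (Cert.st (nat_lit 0) (nat_lit 1560) (nat_lit 0) (Cert.sp (nat_lit 1664) (Cert.lf (Leaf.pt (nat_lit 12) (nat_lit 1664) [nat_lit 282,nat_lit 596])) (Cert.st (nat_lit 0) (nat_lit 1664) (nat_lit 0) (Cert.nl (nat_lit 1) (Cert.sy (nat_lit 0) (Cert.s2 (nat_lit 0) (nat_lit 68) (Cert.o1 (nat_lit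 0) (nat_lit 68) (Cert.fu (nat_lit 10) (nat_lit 1) (nat_lit 0) (nat_lit 0) [] [nat_lit 68,nat_lit 1,nat_lit 16,nat_lit 32,nat_lit 256] [] [] [] [nat_lit 1] [[nat_lit 1]] [[nat_lit 68]] [Ins.fr [nat_lit 0],Ins.ts (nat_lit 3) [nat_lit 0] [],Ins.ts (nat_lit 4) [nat_lit 0] [nat_lit 0,nat_lit 0,nat_lit 0],Ins.ts (nat_lit 1) [nat_lit 0] [],Ins.fr [nat_lit 1],Ins.ts (nat_lit 3) [nat_lit 0] [],Ins.ts (nat_lit 0) [nat_lit 0,nat_lit 0] [],Ins.ts (nat_lit 1) [nat_lit 0] [],Ins.ts (nat_lit 1) [nat_lit 0,nat_lit 1] [],Ins.fr [nat_lit 2],Ins.ts (nat_lit 2) [nat_lit 0] [],Ins.ts (nat_lit 0) [nat_lit 0,nat_lit 0] [],Ins.ts (nat_lit 0) [nat_lit 1,nat_lit 0] [nat_lit 0,nat_lit 1],Ins.ts (nat_lit 1) [nat_lit 0] [],Ins.ts (nat_lit 1) [nat_lit 0,nat_lit 3] [],Ins.ts (nat_lit 1) [nat_lit 0,nat_lit 2,nat_lit 3] [],Ins.ts (nat_lit 1) [nat_lit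 0,nat_lit 1,nat_lit 3] [],Ins.ts (nat_lit 1) [nat_lit 0,nat_lit 1,nat_lit 2,nat_lit 3] [],Ins.fr [nat_lit 1,nat_lit 3],Ins.ts (nat_lit 0) [nat_lit 0,nat_lit 0] [],Ins.ts (nat_lit 0) [nat_lit 1,nat_lit 2,nat_lit 0] [nat_lit 0,nat_lit 1],Ins.fr [nat_lit 1],Ins.ts (nat_lit 0) [nat_lit 0,nat_lit 0] [],Ins.ts (nat_lit 0) [nat_lit 3,nat_lit 0] [nat_lit 0,nat_lit 3]] [] (Cert.rep (nat_lit 10) [] [nat_lit 68,nat_lit 36,nat_lit 16,nat_lit 8,nat_lit 2,nat_lit 1] [nat_lit 1024,nat_lit 512,nat_lit 256,nat_lit 128,nat_lit 4] (Cert.rep (nat_lit 1) [nat_lit 2,nat_lit 16,nat_lit 36,nat_lit 68] [] [] (Cert.rep (nat_lit 26) [nat_lit 2,nat_lit 68] [] [] (Cert.rep (nat_lit 76) [nat_lit 10] [] [] (Cert.rep (nat_lit 256) [] [] [] Cert.nil (Cert.rep (nat_lit 257) [] [] [] Cert.nil (Cert.rep (nat_lit 326) [] [] [] Cert.nil (Cert.rep (nat_lit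 327) [] [] [] Cert.nil Cert.nil)))) (Cert.rep (nat_lit 78) [nat_lit 10] [] [] (Cert.rep (nat_lit 256) [] [] [] Cert.nil (Cert.rep (nat_lit 257) [] [] [] Cert.nil (Cert.rep (nat_lit 324) [] [] [] Cert.nil (Cert.rep (nat_lit 325) [] [] [] Cert.nil Cert.nil)))) (Cert.rep (nat_lit 84) [nat_lit 10] [] [] (Cert.rep (nat_lit 256) [] [] [] Cert.nil (Cert.rep (nat_lit 257) [] [] [] Cert.nil (Cert.rep (nat_lit 324) [] [] [] Cert.nil (Cert.rep (nat_lit 325) [] [] [] Cert.nil Cert.nil)))) (Cert.rep (nat_lit 86) [nat_lit 10] [] [] (Cert.rep (nat_lit 256) [] [] [] Cert.nil (Cert.rep (nat_lit 257) [] [] [] Cert.nil (Cert.rep (nat_lit 326) [] [] [] Cert.nil (Cert.rep (nat_lit 327) [] [] [] Cert.nil Cert.nil)))) Cert.nil)))) (Cert.rep (nat_lit 60) [] [] [] Cert.nil (Cert.rep (nat_lit 68) [] [] [] (Cert.rep (nat_lit 16) [] [] [] Cert.nil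 (Cert.rep (nat_lit 17) [] [] [] Cert.nil (Cert.rep (nat_lit 84) [] [] [] Cert.nil (Cert.rep (nat_lit 85) [] [] [] Cert.nil Cert.nil)))) (Cert.rep (nat_lit 92) [] [] [] (Cert.rep (nat_lit 16) [] [] [] Cert.nil (Cert.rep (nat_lit 17) [] [] [] Cert.nil (Cert.rep (nat_lit 76) [] [] [] Cert.nil (Cert.rep (nat_lit 77) [] [] [] Cert.nil Cert.nil)))) Cert.nil)))) Cert.nil) Cert.nil))) f95_0)))))))))))))))))))))))))))))))))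
theorem fin95 : finOK DB PT 88 t88 95 t95 (nat_lit 0xf0000000f0000000f0000000f0000000000000f0000000f0f0000000f0000000f0000000f0000000000000f0000000f0f0000000f0000000f0000000f000000000c0000000c000000300000003000000000c0000000c000000c0000000c00000003000000030000000030000000300000c0000000c00000000300000003000000000000000000000000c3000000c30000c0030000c0030000000000000000000000000000000000003003000030030000003300000033000000000000000000f0000000f0000000f00c0cf0f00303f0f00000f0f00000f00c0000030c0000030000000000000000f00000f0f00000f0f00000f0f0f0f0f0fcfc0303fc03fc03) f95 = true := by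
  decide +kernel
noncomputable def f106_0 : Cert :=
  Cert.s2 (nat_lit 0) (nat_lit 68) (Cert.o1 (nat_lit 0) (nat_lit 68) (Cert.fu (nat_lit 10) (nat_lit 1) (nat_lit 0) (nat_lit 0) [] [nat_lit 68,nat_lit 1,nat_lit 16,nat_lit 32,nat_lit 256] [] [] [] [nat_lit 1] [[nat_lit 1]] [[nat_lit 68]] [Ins.fr [nat_lit 0],Ins.ts (nat_lit 3) [nat_lit 0] [],Ins.ts (nat_lit 4) [nat_lit 0] [nat_lit 0,nat_lit 0,nat_lit 0],Ins.ts (nat_lit 1) [nat_lit 0] [],Ins.fr [nat_lit 1],Ins.ts (nat_lit 3) [nat_lit 0] [],Ins.ts (nat_lit 0) [nat_lit 0,nat_lit 0] [],Ins.ts (nat_lit 1) [nat_lit 0] [],Ins.ts (nat_lit 1) [nat_lit 0,nat_lit 1] [],Ins.fr [nat_lit 2],Ins.ts (nat_lit 2) [nat_lit 0] [],Ins.ts (nat_lit 0) [nat_lit 0,nat_lit 0] [],Ins.ts (nat_lit 0) [nat_lit 1,nat_lit 0] [nat_lit 0,nat_lit 1],Ins.ts (nat_lit 1) [nat_lit 0] [],Ins.ts (nat_lit 1) [nat_lit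 0,nat_lit 3] [],Ins.ts (nat_lit 1) [nat_lit 0,nat_lit 2,nat_lit 3] [],Ins.ts (nat_lit 1) [nat_lit 0,nat_lit 1,nat_lit 3] [],Ins.ts (nat_lit 1) [nat_lit 0,nat_lit 1,nat_lit 2,nat_lit 3] [],Ins.fr [nat_lit 1,nat_lit 3],Ins.ts (nat_lit 0) [nat_lit 0,nat_lit 0] [],Ins.ts (nat_lit 0) [nat_lit 1,nat_lit 2,nat_lit 0] [nat_lit 0,nat_lit 1],Ins.fr [nat_lit 1],Ins.ts (nat_lit 0) [nat_lit 0,nat_lit 0] []] [] (Cert.rep (nat_lit 10) [] [nat_lit 68,nat_lit 36,nat_lit 16,nat_lit 8,nat_lit 2,nat_lit 1] [nat_lit 1024,nat_lit 512,nat_lit 256,nat_lit 128,nat_lit 4] (Cert.rep (nat_lit 1) [nat_lit 2,nat_lit 16,nat_lit 36,nat_lit 68] [] [] (Cert.rep (nat_lit 26) [nat_lit 2,nat_lit 68] [] [] (Cert.rep (nat_lit 76) [nat_lit 10] [] [] (Cert.rep (nat_lit 256) [] [] [] Cert.nil (Cert.rep (nat_lit 257) [] [] [] Cert.nil (Cert.rep (nat_lit 326) []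 [] [] Cert.nil (Cert.rep (nat_lit 327) [] [] [] Cert.nil Cert.nil)))) (Cert.rep (nat_lit 78) [nat_lit 10] [] [] (Cert.rep (nat_lit 256) [] [] [] Cert.nil (Cert.rep (nat_lit 257) [] [] [] Cert.nil (Cert.rep (nat_lit 324) [] [] [] Cert.nil (Cert.rep (nat_lit 325) [] [] [] Cert.nil Cert.nil)))) (Cert.rep (nat_lit 84) [nat_lit 10] [] [] (Cert.rep (nat_lit 256) [] [] [] Cert.nil (Cert.rep (nat_lit 257) [] [] [] Cert.nil (Cert.rep (nat_lit 324) [] [] [] Cert.nil (Cert.rep (nat_lit 325) [] [] [] Cert.nil Cert.nil)))) (Cert.rep (nat_lit 86) [nat_lit 10] [] [] (Cert.rep (nat_lit 256) [] [] [] Cert.nil (Cert.rep (nat_lit 257) [] [] [] Cert.nil (Cert.rep (nat_lit 326) [] [] [] Cert.nil (Cert.rep (nat_lit 327) [] [] [] Cert.nil Cert.nil)))) Cert.nil)))) (Cert.rep (nat_lit 60) [] [] [] Cert.nil (Cert.rep (nat_lit 68) [] [] [] (Cert.rep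 (nat_lit 16) [] [] [] Cert.nil (Cert.rep (nat_lit 17) [] [] [] Cert.nil (Cert.rep (nat_lit 84) [] [] [] Cert.nil (Cert.rep (nat_lit 85) [] [] [] Cert.nil Cert.nil)))) (Cert.rep (nat_lit 92) [] [] [] (Cert.rep (nat_lit 16) [] [] [] Cert.nil (Cert.rep (nat_lit 17) [] [] [] Cert.nil (Cert.rep (nat_lit 76) [] [] [] Cert.nil (Cert.rep (nat_lit 77) [] [] [] Cert.nil Cert.nil)))) Cert.nil)))) Cert.nil) Cert.nil))) (Cert.root (nat_lit 32) [] [nat_lit 8,nat_lit 4] [nat_lit 0,nat_lit 1,nat_lit 2,nat_lit 3,nat_lit 4] [Ins.fr [nat_lit 0],Ins.ts (nat_lit 0) [nat_lit 0,nat_lit 0] [],Ins.ts (nat_lit 1) [nat_lit 0] [],Ins.ts (nat_lit 1) [nat_lit 0,nat_lit 1] [],Ins.fr [nat_lit 1],Ins.ts (nat_lit 1) [nat_lit 0,nat_lit 0] [],Ins.ts (nat_lit 0) [nat_lit 1,nat_lit 0,nat_lit 1] [nat_lit 0,nat_lit 0,nat_lit 0],Ins.ts (nat_lit 1) [nat_lit 0,nat_lit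 0,nat_lit 0,nat_lit 0] [],Ins.df [nat_lit 0,nat_lit 0],Ins.df [nat_lit 0,nat_lit 0]] (Cert.rep (nat_lit 10) [nat_lit 2,nat_lit 16,nat_lit 36,nat_lit 68] [nat_lit 68,nat_lit 36,nat_lit 16,nat_lit 8,nat_lit 2,nat_lit 1] [nat_lit 1024,nat_lit 512,nat_lit 256,nat_lit 128,nat_lit 4] (Cert.rep (nat_lit 1) [] [] [] Cert.nil (Cert.rep (nat_lit 11) [] [] [] Cert.nil (Cert.rep (nat_lit 16) [] [] [] Cert.nil (Cert.rep (nat_lit 26) [] [] [] Cert.nil (Cert.rep (nat_lit 52) [] [] [] Cert.nil (Cert.rep (nat_lit 60) [] [] [] Cert.nil (Cert.rep (nat_lit 68) [nat_lit 16,nat_lit 68] [] [] (Cert.rep (nat_lit 96) [] [] [] (Cert.er (Cert.ro (nat_lit 0) [nat_lit 1,nat_lit 8,nat_lit 16] [nat_lit 8,nat_lit 9,nat_lit 16] [nat_lit 0,nat_lit 1,nat_lit 68,nat_lit 69,nat_lit 10,nat_lit 11,nat_lit 78,nat_lit 79] (Cert.ro (nat_lit 1) [nat_lit 1,nat_lit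 2,nat_lit 14,nat_lit 16] [nat_lit 1,nat_lit 14,nat_lit 12,nat_lit 16] [nat_lit 0,nat_lit 1,nat_lit 2,nat_lit 3,nat_lit 39,nat_lit 38,nat_lit 36,nat_lit 37,nat_lit 10,nat_lit 11,nat_lit 9,nat_lit 8,nat_lit 44,nat_lit 45,nat_lit 46,nat_lit 47] (Cert.kw (nat_lit 2) (nat_lit 0) (nat_lit 2) (nat_lit 1) )))) (Cert.rep (nat_lit 104) [] [] [] (Cert.er (Cert.ro (nat_lit 0) [nat_lit 1,nat_lit 8,nat_lit 16] [nat_lit 8,nat_lit 9,nat_lit 16] [nat_lit 0,nat_lit 1,nat_lit 68,nat_lit 69,nat_lit 10,nat_lit 11,nat_lit 78,nat_lit 79] (Cert.ro (nat_lit 1) [nat_lit 1,nat_lit 2,nat_lit 14,nat_lit 16] [nat_lit 1,nat_lit 14,nat_lit 12,nat_lit 16] [nat_lit 0,nat_lit 1,nat_lit 3,nat_lit 2,nat_lit 46,nat_lit 47,nat_lit 44,nat_lit 45,nat_lit 10,nat_lit 11,nat_lit 8,nat_lit 9,nat_lit 36,nat_lit 37,nat_lit 39,nat_lit 38] (Cert.kw (nat_lit 2) (nat_lit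 0) (nat_lit 2) (nat_lit 1) )))) Cert.nil)) (Cert.rep (nat_lit 76) [nat_lit 16,nat_lit 70] [] [] (Cert.rep (nat_lit 96) [] [] [] (Cert.er (Cert.ro (nat_lit 0) [nat_lit 1,nat_lit 8,nat_lit 16] [nat_lit 8,nat_lit 9,nat_lit 16] [nat_lit 0,nat_lit 1,nat_lit 76,nat_lit 77,nat_lit 10,nat_lit 11,nat_lit 71,nat_lit 70] (Cert.ro (nat_lit 1) [nat_lit 1,nat_lit 2,nat_lit 14,nat_lit 16] [nat_lit 1,nat_lit 14,nat_lit 12,nat_lit 16] [nat_lit 0,nat_lit 1,nat_lit 2,nat_lit 3,nat_lit 47,nat_lit 46,nat_lit 44,nat_lit 45,nat_lit 10,nat_lit 11,nat_lit 9,nat_lit 8,nat_lit 37,nat_lit 36,nat_lit 39,nat_lit 38] (Cert.lf (Leaf.st (nat_lit 2) (nat_lit 1) (nat_lit 1) (Leaf.cf (nat_lit 1))))))) (Cert.rep (nat_lit 104) [] [] [] (Cert.er (Cert.ro (nat_lit 0) [nat_lit 1,nat_lit 8,nat_lit 16] [nat_lit 8,nat_lit 9,nat_lit 16] [nat_lit 0,nat_lit 1,nat_lit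 76,nat_lit 77,nat_lit 10,nat_lit 11,nat_lit 71,nat_lit 70] (Cert.ro (nat_lit 1) [nat_lit 1,nat_lit 2,nat_lit 14,nat_lit 16] [nat_lit 1,nat_lit 14,nat_lit 12,nat_lit 16] [nat_lit 0,nat_lit 1,nat_lit 3,nat_lit 2,nat_lit 39,nat_lit 38,nat_lit 37,nat_lit 36,nat_lit 10,nat_lit 11,nat_lit 8,nat_lit 9,nat_lit 44,nat_lit 45,nat_lit 47,nat_lit 46] (Cert.lf (Leaf.st (nat_lit 2) (nat_lit 1) (nat_lit 1) (Leaf.cf (nat_lit 1))))))) Cert.nil)) (Cert.rep (nat_lit 84) [nat_lit 16,nat_lit 68] [] [] (Cert.rep (nat_lit 112) [] [] [] (Cert.er (Cert.ro (nat_lit 0) [nat_lit 1,nat_lit 8,nat_lit 16] [nat_lit 8,nat_lit 9,nat_lit 16] [nat_lit 0,nat_lit 1,nat_lit 84,nat_lit 85,nat_lit 10,nat_lit 11,nat_lit 94,nat_lit 95] (Cert.ro (nat_lit 1) [nat_lit 1,nat_lit 2,nat_lit 14,nat_lit 16] [nat_lit 1,nat_lit 14,nat_lit 12,nat_lit 16] [nat_lit 0,nat_lit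 1,nat_lit 3,nat_lit 2,nat_lit 39,nat_lit 38,nat_lit 37,nat_lit 36,nat_lit 10,nat_lit 11,nat_lit 8,nat_lit 9,nat_lit 44,nat_lit 45,nat_lit 47,nat_lit 46] (Cert.lf (Leaf.st (nat_lit 2) (nat_lit 1) (nat_lit 1) (Leaf.cf (nat_lit 1))))))) (Cert.rep (nat_lit 120) [] [] [] (Cert.er (Cert.ro (nat_lit 0) [nat_lit 1,nat_lit 8,nat_lit 16] [nat_lit 8,nat_lit 9,nat_lit 16] [nat_lit 0,nat_lit 1,nat_lit 84,nat_lit 85,nat_lit 10,nat_lit 11,nat_lit 94,nat_lit 95] (Cert.ro (nat_lit 1) [nat_lit 1,nat_lit 2,nat_lit 14,nat_lit 16] [nat_lit 1,nat_lit 14,nat_lit 12,nat_lit 16] [nat_lit 0,nat_lit 1,nat_lit 2,nat_lit 3,nat_lit 46,nat_lit 47,nat_lit 45,nat_lit 44,nat_lit 10,nat_lit 11,nat_lit 9,nat_lit 8,nat_lit 36,nat_lit 37,nat_lit 38,nat_lit 39] (Cert.lf (Leaf.st (nat_lit 2) (nat_lit 1) (nat_lit 1) (Leaf.cf (nat_lit 1))))))) Cert.nil)) (Cert.rep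 (nat_lit 92) [nat_lit 16,nat_lit 70] [] [] (Cert.rep (nat_lit 112) [] [] [] (Cert.er (Cert.ro (nat_lit 0) [nat_lit 1,nat_lit 8,nat_lit 16] [nat_lit 8,nat_lit 9,nat_lit 16] [nat_lit 0,nat_lit 1,nat_lit 92,nat_lit 93,nat_lit 10,nat_lit 11,nat_lit 87,nat_lit 86] (Cert.ro (nat_lit 1) [nat_lit 1,nat_lit 2,nat_lit 14,nat_lit 16] [nat_lit 1,nat_lit 14,nat_lit 12,nat_lit 16] [nat_lit 0,nat_lit 1,nat_lit 3,nat_lit 2,nat_lit 47,nat_lit 46,nat_lit 45,nat_lit 44,nat_lit 10,nat_lit 11,nat_lit 8,nat_lit 9,nat_lit 37,nat_lit 36,nat_lit 38,nat_lit 39] (Cert.kw (nat_lit 2) (nat_lit 0) (nat_lit 2) (nat_lit 1) )))) (Cert.rep (nat_lit 120) [] [] [] (Cert.er (Cert.ro (nat_lit 0) [nat_lit 1,nat_lit 8,nat_lit 16] [nat_lit 8,nat_lit 9,nat_lit 16] [nat_lit 0,nat_lit 1,nat_lit 92,nat_lit 93,nat_lit 10,nat_lit 11,nat_lit 87,nat_lit 86] (Cert.ro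 (nat_lit 1) [nat_lit 1,nat_lit 2,nat_lit 14,nat_lit 16] [nat_lit 1,nat_lit 14,nat_lit 12,nat_lit 16] [nat_lit 0,nat_lit 1,nat_lit 2,nat_lit 3,nat_lit 39,nat_lit 38,nat_lit 36,nat_lit 37,nat_lit 10,nat_lit 11,nat_lit 9,nat_lit 8,nat_lit 44,nat_lit 45,nat_lit 46,nat_lit 47] (Cert.kw (nat_lit 2) (nat_lit 0) (nat_lit 2) (nat_lit 1) )))) Cert.nil)) Cert.nil)))))))))) Cert.nil))
noncomputable def f106 : Cert :=
  (Cert.st (nat_lit 0) (nat_lit 10) (nat_lit 0) (Cert.sp (nat_lit 1) (Cert.lf (Leaf.pt (nat_lit 9) (nat_lit 1) [nat_lit 10])) (Cert.sp (nat_lit 26) (Cert.lf (Leaf.pt (nat_lit 9) (nat_lit 26) [nat_lit 10])) (Cert.st (nat_lit 0) (nat_lit 26) (nat_lit 0) (Cert.sp (nat_lit 28) (Cert.lf (Leaf.pt (nat_lit 9) (nat_lit 28) [nat_lit 12])) (Cert.st (nat_lit 0) (nat_lit 28) (nat_lit 0) (Cert.sp (nat_lit 32) (Cert.lf (Leaf.pt (nat_lit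 12) (nat_lit 32) [nat_lit 26,nat_lit 196])) (Cert.st (nat_lit 0) (nat_lit 32) (nat_lit 0) (Cert.sp (nat_lit 68) (Cert.lf (Leaf.pt (nat_lit 9) (nat_lit 68) [nat_lit 10])) (Cert.st (nat_lit 0) (nat_lit 68) (nat_lit 0) (Cert.sp (nat_lit 132) (Cert.lf (Leaf.pt (nat_lit 12) (nat_lit 132) [nat_lit 32,nat_lit 1102])) (Cert.st (nat_lit 0) (nat_lit 132) (nat_lit 0) (Cert.sp (nat_lit 256) (Cert.lf (Leaf.pt (nat_lit 13) (nat_lit 256) [nat_lit 68])) (Cert.st (nat_lit 0) (nat_lit 256) (nat_lit 0) (Cert.sp (nat_lit 257) (Cert.lf (Leaf.pt (nat_lit 13) (nat_lit 257) [nat_lit 1])) (Cert.st (nat_lit 0) (nat_lit 257) (nat_lit 0) (Cert.sp (nat_lit 584) (Cert.lf (Leaf.pt (nat_lit 19) (nat_lit 584) [nat_lit 24,nat_lit 192])) (Cert.st (nat_lit 0) (nat_lit 584) (nat_lit 0) (Cert.sp (nat_lit 648) (Cert.lf (Leaf.pt (nat_lit 12) (nat_lit 648) [nat_lit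 28,nat_lit 258])) (Cert.st (nat_lit 0) (nat_lit 648) (nat_lit 0) (Cert.sp (nat_lit 649) (Cert.lf (Leaf.pt (nat_lit 12) (nat_lit 649) [nat_lit 28,nat_lit 258])) (Cert.st (nat_lit 0) (nat_lit 649) (nat_lit 0) (Cert.nl (nat_lit 1) (Cert.sy (nat_lit 0) f106_0))))))))))))))))))))))))
theorem fin106 : finOK DB PT 88 t88 106 t106 (nat_lit 0xc3000000c30000c0030000c0030000000000000000000000000000000000003003000030030000003300000033000000000000000000f0000000f0000000f00c0cf0f00303f0f00000f0f00000f00c0000030c0000030000000000000000f00000f0f00000f0f00000f0f0f0f0f0fcfc0303fc03fc03) f106 = true := by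
  decide +kernel
noncomputable def f107_0 : Cert :=
  Cert.rep (nat_lit 10) [nat_lit 2,nat_lit 16,nat_lit 36,nat_lit 68] [nat_lit 68,nat_lit 36,nat_lit 16,nat_lit 8,nat_lit 2,nat_lit 1] [nat_lit 512,nat_lit 256,nat_lit 128,nat_lit 4] (Cert.rep (nat_lit 1) [] [] [] Cert.nil (Cert.rep (nat_lit 11) [] [] [] Cert.nil (Cert.rep (nat_lit 16) [] [] [] Cert.nil (Cert.rep (nat_lit 26) [] [] [] Cert.nil (Cert.rep (nat_lit 52) [] [] [] Cert.nil (Cert.rep (nat_lit 60) [] [] [] Cert.nil (Cert.rep (nat_lit 68) [nat_lit 16,nat_lit 68] [] [] (Cert.rep (nat_lit 96) [] [] [] (Cert.er (Cert.ro (nat_lit 0) [nat_lit 1,nat_lit 8,nat_lit 16] [nat_lit 8,nat_lit 9,nat_lit 16] [nat_lit 0,nat_lit 1,nat_lit 68,nat_lit 69,nat_lit 10,nat_lit 11,nat_lit 78,nat_lit 79] (Cert.ro (nat_lit 1) [nat_lit 1,nat_lit 2,nat_lit 14,nat_lit 16] [nat_lit 1,nat_lit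 14,nat_lit 12,nat_lit 16] [nat_lit 0,nat_lit 1,nat_lit 2,nat_lit 3,nat_lit 39,nat_lit 38,nat_lit 36,nat_lit 37,nat_lit 10,nat_lit 11,nat_lit 9,nat_lit 8,nat_lit 44,nat_lit 45,nat_lit 46,nat_lit 47] (Cert.kw (nat_lit 2) (nat_lit 0) (nat_lit 2) (nat_lit 1) )))) (Cert.rep (nat_lit 104) [] [] [] (Cert.er (Cert.ro (nat_lit 0) [nat_lit 1,nat_lit 8,nat_lit 16] [nat_lit 8,nat_lit 9,nat_lit 16] [nat_lit 0,nat_lit 1,nat_lit 68,nat_lit 69,nat_lit 10,nat_lit 11,nat_lit 78,nat_lit 79] (Cert.ro (nat_lit 1) [nat_lit 1,nat_lit 2,nat_lit 14,nat_lit 16] [nat_lit 1,nat_lit 14,nat_lit 12,nat_lit 16] [nat_lit 0,nat_lit 1,nat_lit 3,nat_lit 2,nat_lit 46,nat_lit 47,nat_lit 44,nat_lit 45,nat_lit 10,nat_lit 11,nat_lit 8,nat_lit 9,nat_lit 36,nat_lit 37,nat_lit 39,nat_lit 38] (Cert.kw (nat_lit 2) (nat_lit 0) (nat_lit 2) (nat_lit 1) )))) Cert.nil))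 (Cert.rep (nat_lit 76) [nat_lit 16,nat_lit 70] [] [] (Cert.rep (nat_lit 96) [] [] [] (Cert.er (Cert.ro (nat_lit 0) [nat_lit 1,nat_lit 8,nat_lit 16] [nat_lit 8,nat_lit 9,nat_lit 16] [nat_lit 0,nat_lit 1,nat_lit 76,nat_lit 77,nat_lit 10,nat_lit 11,nat_lit 71,nat_lit 70] (Cert.ro (nat_lit 1) [nat_lit 1,nat_lit 2,nat_lit 14,nat_lit 16] [nat_lit 1,nat_lit 14,nat_lit 12,nat_lit 16] [nat_lit 0,nat_lit 1,nat_lit 2,nat_lit 3,nat_lit 47,nat_lit 46,nat_lit 44,nat_lit 45,nat_lit 10,nat_lit 11,nat_lit 9,nat_lit 8,nat_lit 37,nat_lit 36,nat_lit 39,nat_lit 38] (Cert.lf (Leaf.st (nat_lit 2) (nat_lit 1) (nat_lit 1) (Leaf.cf (nat_lit 1))))))) (Cert.rep (nat_lit 104) [] [] [] (Cert.er (Cert.ro (nat_lit 0) [nat_lit 1,nat_lit 8,nat_lit 16] [nat_lit 8,nat_lit 9,nat_lit 16] [nat_lit 0,nat_lit 1,nat_lit 76,nat_lit 77,nat_lit 10,nat_lit 11,nat_lit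 71,nat_lit 70] (Cert.ro (nat_lit 1) [nat_lit 1,nat_lit 2,nat_lit 14,nat_lit 16] [nat_lit 1,nat_lit 14,nat_lit 12,nat_lit 16] [nat_lit 0,nat_lit 1,nat_lit 3,nat_lit 2,nat_lit 39,nat_lit 38,nat_lit 37,nat_lit 36,nat_lit 10,nat_lit 11,nat_lit 8,nat_lit 9,nat_lit 44,nat_lit 45,nat_lit 47,nat_lit 46] (Cert.lf (Leaf.st (nat_lit 2) (nat_lit 1) (nat_lit 1) (Leaf.cf (nat_lit 1))))))) Cert.nil)) (Cert.rep (nat_lit 84) [nat_lit 16,nat_lit 68] [] [] (Cert.rep (nat_lit 112) [] [] [] (Cert.er (Cert.ro (nat_lit 0) [nat_lit 1,nat_lit 8,nat_lit 16] [nat_lit 8,nat_lit 9,nat_lit 16] [nat_lit 0,nat_lit 1,nat_lit 84,nat_lit 85,nat_lit 10,nat_lit 11,nat_lit 94,nat_lit 95] (Cert.ro (nat_lit 1) [nat_lit 1,nat_lit 2,nat_lit 14,nat_lit 16] [nat_lit 1,nat_lit 14,nat_lit 12,nat_lit 16] [nat_lit 0,nat_lit 1,nat_lit 3,nat_lit 2,nat_lit 39,nat_lit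 38,nat_lit 37,nat_lit 36,nat_lit 10,nat_lit 11,nat_lit 8,nat_lit 9,nat_lit 44,nat_lit 45,nat_lit 47,nat_lit 46] (Cert.lf (Leaf.st (nat_lit 2) (nat_lit 1) (nat_lit 1) (Leaf.cf (nat_lit 1))))))) (Cert.rep (nat_lit 120) [] [] [] (Cert.er (Cert.ro (nat_lit 0) [nat_lit 1,nat_lit 8,nat_lit 16] [nat_lit 8,nat_lit 9,nat_lit 16] [nat_lit 0,nat_lit 1,nat_lit 84,nat_lit 85,nat_lit 10,nat_lit 11,nat_lit 94,nat_lit 95] (Cert.ro (nat_lit 1) [nat_lit 1,nat_lit 2,nat_lit 14,nat_lit 16] [nat_lit 1,nat_lit 14,nat_lit 12,nat_lit 16] [nat_lit 0,nat_lit 1,nat_lit 2,nat_lit 3,nat_lit 46,nat_lit 47,nat_lit 45,nat_lit 44,nat_lit 10,nat_lit 11,nat_lit 9,nat_lit 8,nat_lit 36,nat_lit 37,nat_lit 38,nat_lit 39] (Cert.lf (Leaf.st (nat_lit 2) (nat_lit 1) (nat_lit 1) (Leaf.cf (nat_lit 1))))))) Cert.nil)) (Cert.rep (nat_lit 92) [nat_lit 16,nat_lit 70]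 [] [] (Cert.rep (nat_lit 112) [] [] [] (Cert.er (Cert.ro (nat_lit 0) [nat_lit 1,nat_lit 8,nat_lit 16] [nat_lit 8,nat_lit 9,nat_lit 16] [nat_lit 0,nat_lit 1,nat_lit 92,nat_lit 93,nat_lit 10,nat_lit 11,nat_lit 87,nat_lit 86] (Cert.ro (nat_lit 1) [nat_lit 1,nat_lit 2,nat_lit 14,nat_lit 16] [nat_lit 1,nat_lit 14,nat_lit 12,nat_lit 16] [nat_lit 0,nat_lit 1,nat_lit 3,nat_lit 2,nat_lit 47,nat_lit 46,nat_lit 45,nat_lit 44,nat_lit 10,nat_lit 11,nat_lit 8,nat_lit 9,nat_lit 37,nat_lit 36,nat_lit 38,nat_lit 39] (Cert.kw (nat_lit 2) (nat_lit 0) (nat_lit 2) (nat_lit 1) )))) (Cert.rep (nat_lit 120) [] [] [] (Cert.er (Cert.ro (nat_lit 0) [nat_lit 1,nat_lit 8,nat_lit 16] [nat_lit 8,nat_lit 9,nat_lit 16] [nat_lit 0,nat_lit 1,nat_lit 92,nat_lit 93,nat_lit 10,nat_lit 11,nat_lit 87,nat_lit 86] (Cert.ro (nat_lit 1) [nat_lit 1,nat_lit 2,nat_lit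 14,nat_lit 16] [nat_lit 1,nat_lit 14,nat_lit 12,nat_lit 16] [nat_lit 0,nat_lit 1,nat_lit 2,nat_lit 3,nat_lit 39,nat_lit 38,nat_lit 36,nat_lit 37,nat_lit 10,nat_lit 11,nat_lit 9,nat_lit 8,nat_lit 44,nat_lit 45,nat_lit 46,nat_lit 47] (Cert.kw (nat_lit 2) (nat_lit 0) (nat_lit 2) (nat_lit 1) )))) Cert.nil)) Cert.nil)))))))))) (Cert.rep (nat_lit 76) [nat_lit 10,nat_lit 16,nat_lit 34,nat_lit 384] [nat_lit 384,nat_lit 70,nat_lit 34,nat_lit 16,nat_lit 10,nat_lit 1] [nat_lit 512,nat_lit 128,nat_lit 4,nat_lit 2] (Cert.rep (nat_lit 1) [] [] [] Cert.nil (Cert.rep (nat_lit 10) [nat_lit 10,nat_lit 16] [] [] (Cert.rep (nat_lit 384) [] [] [] (Cert.er (Cert.ro (nat_lit 0) [nat_lit 1,nat_lit 8,nat_lit 16] [nat_lit 8,nat_lit 9,nat_lit 16] [nat_lit 0,nat_lit 1,nat_lit 10,nat_lit 11,nat_lit 76,nat_lit 77,nat_lit 71,nat_lit 70] (Cert.ro (nat_lit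 1) [nat_lit 1,nat_lit 2,nat_lit 14,nat_lit 16] [nat_lit 1,nat_lit 14,nat_lit 12,nat_lit 16] [nat_lit 0,nat_lit 1,nat_lit 35,nat_lit 34,nat_lit 394,nat_lit 395,nat_lit 425,nat_lit 424,nat_lit 76,nat_lit 77,nat_lit 110,nat_lit 111,nat_lit 455,nat_lit 454,nat_lit 485,nat_lit 484] (Cert.lf (Leaf.st (nat_lit 2) (nat_lit 1) (nat_lit 1) (Leaf.cf (nat_lit 1))))))) (Cert.rep (nat_lit 460) [] [] [] (Cert.er (Cert.ro (nat_lit 0) [nat_lit 1,nat_lit 8,nat_lit 16] [nat_lit 8,nat_lit 9,nat_lit 16] [nat_lit 0,nat_lit 1,nat_lit 10,nat_lit 11,nat_lit 76,nat_lit 77,nat_lit 71,nat_lit 70] (Cert.ro (nat_lit 1) [nat_lit 1,nat_lit 2,nat_lit 14,nat_lit 16] [nat_lit 1,nat_lit 14,nat_lit 12,nat_lit 16] [nat_lit 0,nat_lit 1,nat_lit 35,nat_lit 34,nat_lit 455,nat_lit 454,nat_lit 485,nat_lit 484,nat_lit 76,nat_lit 77,nat_lit 110,nat_lit 111,nat_lit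 394,nat_lit 395,nat_lit 425,nat_lit 424] (Cert.lf (Leaf.st (nat_lit 2) (nat_lit 1) (nat_lit 1) (Leaf.cf (nat_lit 1))))))) Cert.nil)) (Cert.rep (nat_lit 16) [nat_lit 10,nat_lit 16] [] [] (Cert.rep (nat_lit 410) [] [] [] (Cert.er (Cert.ro (nat_lit 0) [nat_lit 1,nat_lit 8,nat_lit 16] [nat_lit 8,nat_lit 9,nat_lit 16] [nat_lit 0,nat_lit 1,nat_lit 16,nat_lit 17,nat_lit 76,nat_lit 77,nat_lit 92,nat_lit 93] (Cert.ro (nat_lit 1) [nat_lit 1,nat_lit 2,nat_lit 14,nat_lit 16] [nat_lit 1,nat_lit 14,nat_lit 12,nat_lit 16] [nat_lit 0,nat_lit 1,nat_lit 34,nat_lit 35,nat_lit 394,nat_lit 395,nat_lit 424,nat_lit 425,nat_lit 76,nat_lit 77,nat_lit 111,nat_lit 110,nat_lit 455,nat_lit 454,nat_lit 484,nat_lit 485] (Cert.lf (Leaf.st (nat_lit 2) (nat_lit 1) (nat_lit 1) (Leaf.cf (nat_lit 1))))))) (Cert.rep (nat_lit 470) [] [] [] (Cert.er (Cert.ro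 (nat_lit 0) [nat_lit 1,nat_lit 8,nat_lit 16] [nat_lit 8,nat_lit 9,nat_lit 16] [nat_lit 0,nat_lit 1,nat_lit 16,nat_lit 17,nat_lit 76,nat_lit 77,nat_lit 92,nat_lit 93] (Cert.ro (nat_lit 1) [nat_lit 1,nat_lit 2,nat_lit 14,nat_lit 16] [nat_lit 1,nat_lit 14,nat_lit 12,nat_lit 16] [nat_lit 0,nat_lit 1,nat_lit 34,nat_lit 35,nat_lit 454,nat_lit 455,nat_lit 485,nat_lit 484,nat_lit 76,nat_lit 77,nat_lit 111,nat_lit 110,nat_lit 395,nat_lit 394,nat_lit 425,nat_lit 424] (Cert.lf (Leaf.st (nat_lit 2) (nat_lit 1) (nat_lit 1) (Leaf.cf (nat_lit 1))))))) Cert.nil)) (Cert.rep (nat_lit 26) [] [] [] Cert.nil (Cert.rep (nat_lit 70) [nat_lit 10,nat_lit 16] [] [] (Cert.rep (nat_lit 384) [] [] [] (Cert.er (Cert.ro (nat_lit 0) [nat_lit 1,nat_lit 8,nat_lit 16] [nat_lit 8,nat_lit 9,nat_lit 16] [nat_lit 0,nat_lit 1,nat_lit 70,nat_lit 71,nat_lit 76,nat_lit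 77,nat_lit 11,nat_lit 10] (Cert.ro (nat_lit 1) [nat_lit 1,nat_lit 2,nat_lit 14,nat_lit 16] [nat_lit 1,nat_lit 14,nat_lit 12,nat_lit 16] [nat_lit 0,nat_lit 1,nat_lit 35,nat_lit 34,nat_lit 454,nat_lit 455,nat_lit 484,nat_lit 485,nat_lit 76,nat_lit 77,nat_lit 110,nat_lit 111,nat_lit 395,nat_lit 394,nat_lit 424,nat_lit 425] (Cert.kw (nat_lit 2) (nat_lit 0) (nat_lit 2) (nat_lit 1) )))) (Cert.rep (nat_lit 460) [] [] [] (Cert.er (Cert.ro (nat_lit 0) [nat_lit 1,nat_lit 8,nat_lit 16] [nat_lit 8,nat_lit 9,nat_lit 16] [nat_lit 0,nat_lit 1,nat_lit 70,nat_lit 71,nat_lit 76,nat_lit 77,nat_lit 11,nat_lit 10] (Cert.ro (nat_lit 1) [nat_lit 1,nat_lit 2,nat_lit 14,nat_lit 16] [nat_lit 1,nat_lit 14,nat_lit 12,nat_lit 16] [nat_lit 0,nat_lit 1,nat_lit 35,nat_lit 34,nat_lit 395,nat_lit 394,nat_lit 424,nat_lit 425,nat_lit 76,nat_lit 77,nat_lit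 110,nat_lit 111,nat_lit 454,nat_lit 455,nat_lit 484,nat_lit 485] (Cert.kw (nat_lit 2) (nat_lit 0) (nat_lit 2) (nat_lit 1) )))) Cert.nil)) (Cert.rep (nat_lit 77) [] [] [] Cert.nil (Cert.rep (nat_lit 86) [] [] [] Cert.nil (Cert.rep (nat_lit 92) [nat_lit 10,nat_lit 16] [] [] (Cert.rep (nat_lit 410) [] [] [] (Cert.er (Cert.ro (nat_lit 0) [nat_lit 1,nat_lit 8,nat_lit 16] [nat_lit 8,nat_lit 9,nat_lit 16] [nat_lit 0,nat_lit 1,nat_lit 92,nat_lit 93,nat_lit 76,nat_lit 77,nat_lit 16,nat_lit 17] (Cert.ro (nat_lit 1) [nat_lit 1,nat_lit 2,nat_lit 14,nat_lit 16] [nat_lit 1,nat_lit 14,nat_lit 12,nat_lit 16] [nat_lit 0,nat_lit 1,nat_lit 34,nat_lit 35,nat_lit 455,nat_lit 454,nat_lit 484,nat_lit 485,nat_lit 76,nat_lit 77,nat_lit 111,nat_lit 110,nat_lit 394,nat_lit 395,nat_lit 424,nat_lit 425] (Cert.kw (nat_lit 2) (nat_lit 0) (nat_lit 2)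 (nat_lit 1) )))) (Cert.rep (nat_lit 470) [] [] [] (Cert.er (Cert.ro (nat_lit 0) [nat_lit 1,nat_lit 8,nat_lit 16] [nat_lit 8,nat_lit 9,nat_lit 16] [nat_lit 0,nat_lit 1,nat_lit 92,nat_lit 93,nat_lit 76,nat_lit 77,nat_lit 16,nat_lit 17] (Cert.ro (nat_lit 1) [nat_lit 1,nat_lit 2,nat_lit 14,nat_lit 16] [nat_lit 1,nat_lit 14,nat_lit 12,nat_lit 16] [nat_lit 0,nat_lit 1,nat_lit 34,nat_lit 35,nat_lit 395,nat_lit 394,nat_lit 425,nat_lit 424,nat_lit 76,nat_lit 77,nat_lit 111,nat_lit 110,nat_lit 454,nat_lit 455,nat_lit 485,nat_lit 484] (Cert.kw (nat_lit 2) (nat_lit 0) (nat_lit 2) (nat_lit 1) )))) Cert.nil)) (Cert.rep (nat_lit 400) [] [] [] Cert.nil (Cert.rep (nat_lit 476) [] [] [] Cert.nil Cert.nil)))))))))) Cert.nil)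
noncomputable def f107_1 : Cert :=
  Cert.s2 (nat_lit 0) (nat_lit 68) (Cert.o1 (nat_lit 0) (nat_lit 68) (Cert.fu (nat_lit 10) (nat_lit 1) (nat_lit 0) (nat_lit 0) [] [nat_lit 68,nat_lit 1,nat_lit 16,nat_lit 32,nat_lit 256] [] [] [] [nat_lit 1] [[nat_lit 1]] [[nat_lit 68]] [Ins.fr [nat_lit 0],Ins.ts (nat_lit 3) [nat_lit 0] [],Ins.ts (nat_lit 4) [nat_lit 0] [nat_lit 0,nat_lit 0,nat_lit 0],Ins.ts (nat_lit 1) [nat_lit 0] [],Ins.fr [nat_lit 1],Ins.ts (nat_lit 3) [nat_lit 0] [],Ins.ts (nat_lit 0) [nat_lit 0,nat_lit 0] [],Ins.ts (nat_lit 1) [nat_lit 0] [],Ins.ts (nat_lit 1) [nat_lit 0,nat_lit 1] [],Ins.fr [nat_lit 2],Ins.ts (nat_lit 2) [nat_lit 0] [],Ins.ts (nat_lit 0) [nat_lit 0,nat_lit 0] [],Ins.ts (nat_lit 0) [nat_lit 1,nat_lit 0] [nat_lit 0,nat_lit 1],Ins.ts (nat_lit 1) [nat_lit 0] [],Ins.ts (nat_lit 1) [nat_lit 0,nat_lit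 3] [],Ins.ts (nat_lit 1) [nat_lit 0,nat_lit 2,nat_lit 3] [],Ins.ts (nat_lit 1) [nat_lit 0,nat_lit 1,nat_lit 3] [],Ins.ts (nat_lit 1) [nat_lit 0,nat_lit 1,nat_lit 2,nat_lit 3] [],Ins.fr [nat_lit 1,nat_lit 3],Ins.ts (nat_lit 0) [nat_lit 0,nat_lit 0] [],Ins.ts (nat_lit 0) [nat_lit 1,nat_lit 2,nat_lit 0] [nat_lit 0,nat_lit 1],Ins.fr [nat_lit 1]] [] (Cert.rep (nat_lit 10) [] [nat_lit 68,nat_lit 36,nat_lit 16,nat_lit 8,nat_lit 2,nat_lit 1] [nat_lit 512,nat_lit 256,nat_lit 128,nat_lit 4] (Cert.rep (nat_lit 1) [nat_lit 2,nat_lit 16,nat_lit 36,nat_lit 68] [] [] (Cert.rep (nat_lit 26) [nat_lit 2,nat_lit 68] [] [] (Cert.rep (nat_lit 76) [nat_lit 10] [] [] (Cert.rep (nat_lit 256) [] [] [] Cert.nil (Cert.rep (nat_lit 257) [] [] [] Cert.nil (Cert.rep (nat_lit 326) [] [] [] Cert.nil (Cert.rep (nat_lit 327) [] [] [] Cert.nil Cert.nil))))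 (Cert.rep (nat_lit 78) [nat_lit 10] [] [] (Cert.rep (nat_lit 256) [] [] [] Cert.nil (Cert.rep (nat_lit 257) [] [] [] Cert.nil (Cert.rep (nat_lit 324) [] [] [] Cert.nil (Cert.rep (nat_lit 325) [] [] [] Cert.nil Cert.nil)))) (Cert.rep (nat_lit 84) [nat_lit 10] [] [] (Cert.rep (nat_lit 256) [] [] [] Cert.nil (Cert.rep (nat_lit 257) [] [] [] Cert.nil (Cert.rep (nat_lit 324) [] [] [] Cert.nil (Cert.rep (nat_lit 325) [] [] [] Cert.nil Cert.nil)))) (Cert.rep (nat_lit 86) [nat_lit 10] [] [] (Cert.rep (nat_lit 256) [] [] [] Cert.nil (Cert.rep (nat_lit 257) [] [] [] Cert.nil (Cert.rep (nat_lit 326) [] [] [] Cert.nil (Cert.rep (nat_lit 327) [] [] [] Cert.nil Cert.nil)))) Cert.nil)))) (Cert.rep (nat_lit 60) [] [] [] Cert.nil (Cert.rep (nat_lit 68) [] [] [] (Cert.rep (nat_lit 16) [] [] [] Cert.nil (Cert.rep (nat_lit 17) [] [] [] Cert.nil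 (Cert.rep (nat_lit 84) [] [] [] Cert.nil (Cert.rep (nat_lit 85) [] [] [] Cert.nil Cert.nil)))) (Cert.rep (nat_lit 92) [] [] [] (Cert.rep (nat_lit 16) [] [] [] Cert.nil (Cert.rep (nat_lit 17) [] [] [] Cert.nil (Cert.rep (nat_lit 76) [] [] [] Cert.nil (Cert.rep (nat_lit 77) [] [] [] Cert.nil Cert.nil)))) Cert.nil)))) Cert.nil) (Cert.rep (nat_lit 76) [] [nat_lit 384,nat_lit 70,nat_lit 34,nat_lit 16,nat_lit 10,nat_lit 1] [nat_lit 512,nat_lit 128,nat_lit 4,nat_lit 2] (Cert.rep (nat_lit 1) [nat_lit 10,nat_lit 16,nat_lit 34,nat_lit 384] [] [] (Cert.rep (nat_lit 26) [nat_lit 10,nat_lit 34] [] [] (Cert.rep (nat_lit 10) [nat_lit 10] [] [] (Cert.rep (nat_lit 256) [] [] [] Cert.nil (Cert.rep (nat_lit 257) [] [] [] Cert.nil (Cert.rep (nat_lit 326) [] [] [] Cert.nil (Cert.rep (nat_lit 327) [] [] [] Cert.nil Cert.nil)))) (Cert.rep (nat_lit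 16) [nat_lit 10] [] [] (Cert.rep (nat_lit 256) [] [] [] Cert.nil (Cert.rep (nat_lit 257) [] [] [] Cert.nil (Cert.rep (nat_lit 326) [] [] [] Cert.nil (Cert.rep (nat_lit 327) [] [] [] Cert.nil Cert.nil)))) (Cert.rep (nat_lit 40) [nat_lit 40] [] [] (Cert.rep (nat_lit 256) [] [] [] Cert.nil (Cert.rep (nat_lit 257) [] [] [] Cert.nil (Cert.rep (nat_lit 357) [] [] [] Cert.nil (Cert.rep (nat_lit 356) [] [] [] Cert.nil Cert.nil)))) (Cert.rep (nat_lit 50) [nat_lit 40] [] [] (Cert.rep (nat_lit 256) [] [] [] Cert.nil (Cert.rep (nat_lit 257) [] [] [] Cert.nil (Cert.rep (nat_lit 357) [] [] [] Cert.nil (Cert.rep (nat_lit 356) [] [] [] Cert.nil Cert.nil)))) Cert.nil)))) (Cert.rep (nat_lit 70) [] [] [] (Cert.rep (nat_lit 16) [] [] [] Cert.nil (Cert.rep (nat_lit 17) [] [] [] Cert.nil (Cert.rep (nat_lit 86) [] [] [] Cert.nil (Cert.rep (nat_lit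 87) [] [] [] Cert.nil Cert.nil)))) (Cert.rep (nat_lit 92) [] [] [] (Cert.rep (nat_lit 10) [] [] [] Cert.nil (Cert.rep (nat_lit 11) [] [] [] Cert.nil (Cert.rep (nat_lit 86) [] [] [] Cert.nil (Cert.rep (nat_lit 87) [] [] [] Cert.nil Cert.nil)))) (Cert.rep (nat_lit 476) [] [] [] Cert.nil Cert.nil)))) Cert.nil) Cert.nil)))) (Cert.s2 (nat_lit 0) (nat_lit 92) (Cert.o1 (nat_lit 0) (nat_lit 92) (Cert.fu (nat_lit 10) (nat_lit 1) (nat_lit 0) (nat_lit 0) [] [nat_lit 92,nat_lit 1,nat_lit 16,nat_lit 32] [] [] [] [nat_lit 1] [[nat_lit 1]] [[nat_lit 92]] [Ins.fr [nat_lit 0],Ins.ts (nat_lit 3) [nat_lit 0] [],Ins.ts (nat_lit 4) [nat_lit 0] [nat_lit 0,nat_lit 0,nat_lit 0],Ins.ts (nat_lit 1) [nat_lit 0] [],Ins.fr [nat_lit 1],Ins.ts (nat_lit 3) [nat_lit 0] [],Ins.ts (nat_lit 0) [nat_lit 0,nat_lit 0] [],Ins.ts (nat_lit 1) [nat_lit 0] [],Ins.ts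 (nat_lit 4) [nat_lit 0] [nat_lit 0,nat_lit 0,nat_lit 1],Ins.ts (nat_lit 1) [nat_lit 0,nat_lit 1] [],Ins.fr [nat_lit 2],Ins.ts (nat_lit 2) [nat_lit 0] [],Ins.ts (nat_lit 0) [nat_lit 0,nat_lit 0] [],Ins.ts (nat_lit 0) [nat_lit 1,nat_lit 0] [nat_lit 0,nat_lit 1],Ins.ts (nat_lit 1) [nat_lit 0] [],Ins.ts (nat_lit 4) [nat_lit 0,nat_lit 2,nat_lit 3] [nat_lit 0,nat_lit 0,nat_lit 2],Ins.ts (nat_lit 4) [nat_lit 0,nat_lit 1,nat_lit 2,nat_lit 3] [nat_lit 0,nat_lit 0,nat_lit 2],Ins.ts (nat_lit 1) [nat_lit 0,nat_lit 2,nat_lit 3] [],Ins.ts (nat_lit 1) [nat_lit 0,nat_lit 1,nat_lit 2,nat_lit 3] [],Ins.fr [nat_lit 1,nat_lit 3]] [(nat_lit 2,nat_lit 0),(nat_lit 3,nat_lit 0)] (Cert.rep (nat_lit 10) [] [nat_lit 68,nat_lit 36,nat_lit 16,nat_lit 8,nat_lit 2,nat_lit 1] [nat_lit 512,nat_lit 256,nat_lit 128,nat_lit 4] (Cert.rep (nat_lit 1) [nat_lit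 2,nat_lit 16,nat_lit 36,nat_lit 68] [] [] (Cert.rep (nat_lit 26) [] [] [] Cert.nil (Cert.rep (nat_lit 60) [] [] [] Cert.nil (Cert.rep (nat_lit 92) [] [] [] (Cert.rep (nat_lit 16) [] [] [] Cert.nil (Cert.rep (nat_lit 17) [] [] [] Cert.nil (Cert.rep (nat_lit 76) [] [] [] Cert.nil (Cert.rep (nat_lit 77) [] [] [] Cert.nil Cert.nil)))) Cert.nil))) Cert.nil) (Cert.rep (nat_lit 76) [] [nat_lit 384,nat_lit 70,nat_lit 34,nat_lit 16,nat_lit 10,nat_lit 1] [nat_lit 512,nat_lit 128,nat_lit 4,nat_lit 2] (Cert.rep (nat_lit 1) [nat_lit 10,nat_lit 16,nat_lit 34,nat_lit 384] [] [] (Cert.rep (nat_lit 26) [] [] [] Cert.nil (Cert.rep (nat_lit 92) [] [] [] (Cert.rep (nat_lit 10) [] [] [] Cert.nil (Cert.rep (nat_lit 11) [] [] [] Cert.nil (Cert.rep (nat_lit 86) [] [] [] Cert.nil (Cert.rep (nat_lit 87) [] [] [] Cert.nil Cert.nil)))) (Cert.rep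 (nat_lit 476) [] [] [] Cert.nil Cert.nil))) Cert.nil) Cert.nil)))) (Cert.root (nat_lit 32) [] [nat_lit 8,nat_lit 4] [nat_lit 0,nat_lit 1,nat_lit 2,nat_lit 3,nat_lit 4] [Ins.fr [nat_lit 0],Ins.ts (nat_lit 0) [nat_lit 0,nat_lit 0] [],Ins.ts (nat_lit 1) [nat_lit 0] [],Ins.ts (nat_lit 1) [nat_lit 0,nat_lit 1] [],Ins.fr [nat_lit 1],Ins.ts (nat_lit 1) [nat_lit 0,nat_lit 0] [],Ins.ts (nat_lit 0) [nat_lit 1,nat_lit 0,nat_lit 1] [nat_lit 0,nat_lit 0,nat_lit 0],Ins.ts (nat_lit 1) [nat_lit 0,nat_lit 0,nat_lit 0,nat_lit 0] [],Ins.df [nat_lit 0,nat_lit 0],Ins.df [nat_lit 0,nat_lit 0]] f107_0))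
noncomputable def f107 : Cert :=
  (Cert.st (nat_lit 0) (nat_lit 10) (nat_lit 0) (Cert.st (nat_lit 0) (nat_lit 76) (nat_lit 0) (Cert.sp (nat_lit 1) (Cert.lf (Leaf.pt (nat_lit 9) (nat_lit 1) [nat_lit 10])) (Cert.sp (nat_lit 26) (Cert.lf (Leaf.pt (nat_lit 9) (nat_lit 26) [nat_lit 10])) (Cert.st (nat_lit 0) (nat_lit 26) (nat_lit 0) (Cert.sp (nat_lit 28) (Cert.lf (Leaf.pt (nat_lit 9) (nat_lit 28) [nat_lit 12])) (Cert.st (nat_lit 0) (nat_lit 28) (nat_lit 0) (Cert.sp (nat_lit 32) (Cert.lf (Leaf.pt (nat_lit 12) (nat_lit 32) [nat_lit 26,nat_lit 196])) (Cert.st (nat_lit 0) (nat_lit 32) (nat_lit 0) (Cert.sp (nat_lit 68) (Cert.lf (Leaf.pt (nat_lit 9) (nat_lit 68) [nat_lit 10])) (Cert.st (nat_lit 0) (nat_lit 68) (nat_lit 0) (Cert.sp (nat_lit 92) (Cert.lf (Leaf.pt (nat_lit 9) (nat_lit 92) [nat_lit 10])) (Cert.st (nat_lit 0) (nat_lit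 92) (nat_lit 0) (Cert.sp (nat_lit 132) (Cert.lf (Leaf.pt (nat_lit 26) (nat_lit 132) [nat_lit 1,nat_lit 26,nat_lit 32,nat_lit 256])) (Cert.st (nat_lit 0) (nat_lit 132) (nat_lit 0) (Cert.sp (nat_lit 256) (Cert.lf (Leaf.pt (nat_lit 13) (nat_lit 256) [nat_lit 68])) (Cert.st (nat_lit 0) (nat_lit 256) (nat_lit 0) (Cert.sp (nat_lit 257) (Cert.lf (Leaf.pt (nat_lit 13) (nat_lit 257) [nat_lit 1])) (Cert.st (nat_lit 0) (nat_lit 257) (nat_lit 0) (Cert.sp (nat_lit 476) (Cert.lf (Leaf.pt (nat_lit 9) (nat_lit 476) [nat_lit 76])) (Cert.st (nat_lit 0) (nat_lit 476) (nat_lit 0) (Cert.sp (nat_lit 584) (Cert.lf (Leaf.pt (nat_lit 19) (nat_lit 584) [nat_lit 24,nat_lit 192])) (Cert.st (nat_lit 0) (nat_lit 584) (nat_lit 0) (Cert.sp (nat_lit 648) (Cert.lf (Leaf.pt (nat_lit 12) (nat_lit 648) [nat_lit 28,nat_lit 258])) (Cert.st (nat_lit 0) (nat_lit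 648) (nat_lit 0) (Cert.sp (nat_lit 649) (Cert.lf (Leaf.pt (nat_lit 12) (nat_lit 649) [nat_lit 28,nat_lit 258])) (Cert.st (nat_lit 0) (nat_lit 649) (nat_lit 0) (Cert.nl (nat_lit 1) (Cert.sy (nat_lit 0) f107_1)))))))))))))))))))))))))))))
theorem fin107 : finOK DB PT 88 t88 107 t107 (nat_lit 0xc3000000c30000c0030000c0030000000000000000000000000000000000003003000030030000003300000033000000000000000000f0000000f0000000f00c0cf0f00303f0f00000f0f00000f00c0000030c0000030000000000000000f00000f0f00000f0f00000f0f0f0f0f0fcfc0303fc03fc03) f107 = true := by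
  decide +kernel
noncomputable def f115_0 : Cert :=
  Cert.s2 (nat_lit 0) (nat_lit 92) (Cert.o1 (nat_lit 0) (nat_lit 92) (Cert.fu (nat_lit 10) (nat_lit 1) (nat_lit 0) (nat_lit 0) [] [nat_lit 92,nat_lit 1,nat_lit 16,nat_lit 32] [] [] [] [nat_lit 1] [[nat_lit 1]] [[nat_lit 92]] [Ins.fr [nat_lit 0],Ins.ts (nat_lit 3) [nat_lit 0] [],Ins.ts (nat_lit 4) [nat_lit 0] [nat_lit 0,nat_lit 0,nat_lit 0],Ins.ts (nat_lit 1) [nat_lit 0] [],Ins.fr [nat_lit 1],Ins.ts (nat_lit 3) [nat_lit 0] [],Ins.ts (nat_lit 0) [nat_lit 0,nat_lit 0] [],Ins.ts (nat_lit 1) [nat_lit 0] [],Ins.ts (nat_lit 4) [nat_lit 0] [nat_lit 0,nat_lit 0,nat_lit 1],Ins.ts (nat_lit 1) [nat_lit 0,nat_lit 1] [],Ins.fr [nat_lit 2],Ins.ts (nat_lit 2) [nat_lit 0] [],Ins.ts (nat_lit 0) [nat_lit 0,nat_lit 0] [],Ins.ts (nat_lit 0) [nat_lit 1,nat_lit 0] [nat_lit 0,nat_lit 1],Ins.ts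 (nat_lit 1) [nat_lit 0] [],Ins.ts (nat_lit 4) [nat_lit 0,nat_lit 2,nat_lit 3] [nat_lit 0,nat_lit 0,nat_lit 2],Ins.ts (nat_lit 4) [nat_lit 0,nat_lit 1,nat_lit 2,nat_lit 3] [nat_lit 0,nat_lit 0,nat_lit 2],Ins.ts (nat_lit 1) [nat_lit 0,nat_lit 2,nat_lit 3] [],Ins.ts (nat_lit 1) [nat_lit 0,nat_lit 1,nat_lit 2,nat_lit 3] [],Ins.fr [nat_lit 1,nat_lit 3],Ins.ts (nat_lit 0) [nat_lit 0,nat_lit 0] [],Ins.ts (nat_lit 0) [nat_lit 1,nat_lit 2,nat_lit 0] [nat_lit 0,nat_lit 1]] [(nat_lit 2,nat_lit 0),(nat_lit 3,nat_lit 0)] (Cert.rep (nat_lit 10) [] [nat_lit 68,nat_lit 36,nat_lit 16,nat_lit 8,nat_lit 2,nat_lit 1] [nat_lit 1024,nat_lit 512,nat_lit 256,nat_lit 128,nat_lit 4] (Cert.rep (nat_lit 1) [nat_lit 2,nat_lit 16,nat_lit 36,nat_lit 68] [] [] (Cert.rep (nat_lit 26) [] [] [] Cert.nil (Cert.rep (nat_lit 60) [] [] [] Cert.nil (Cert.rep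 (nat_lit 92) [] [] [] (Cert.rep (nat_lit 16) [] [] [] Cert.nil (Cert.rep (nat_lit 17) [] [] [] Cert.nil (Cert.rep (nat_lit 76) [] [] [] Cert.nil (Cert.rep (nat_lit 77) [] [] [] Cert.nil Cert.nil)))) Cert.nil))) Cert.nil) Cert.nil))) (Cert.root (nat_lit 32) [] [nat_lit 8,nat_lit 4] [nat_lit 0,nat_lit 1,nat_lit 2,nat_lit 3,nat_lit 4] [Ins.fr [nat_lit 0],Ins.ts (nat_lit 0) [nat_lit 0,nat_lit 0] [],Ins.ts (nat_lit 1) [nat_lit 0] [],Ins.ts (nat_lit 1) [nat_lit 0,nat_lit 1] [],Ins.fr [nat_lit 1],Ins.ts (nat_lit 1) [nat_lit 0,nat_lit 0] [],Ins.ts (nat_lit 0) [nat_lit 1,nat_lit 0,nat_lit 1] [nat_lit 0,nat_lit 0,nat_lit 0],Ins.ts (nat_lit 1) [nat_lit 0,nat_lit 0,nat_lit 0,nat_lit 0] [],Ins.df [nat_lit 0,nat_lit 0],Ins.df [nat_lit 0,nat_lit 0]] (Cert.rep (nat_lit 10) [nat_lit 2,nat_lit 16,nat_lit 36,nat_lit 68] [nat_lit 68,nat_lit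 36,nat_lit 16,nat_lit 8,nat_lit 2,nat_lit 1] [nat_lit 1024,nat_lit 512,nat_lit 256,nat_lit 128,nat_lit 4] (Cert.rep (nat_lit 1) [] [] [] Cert.nil (Cert.rep (nat_lit 11) [] [] [] Cert.nil (Cert.rep (nat_lit 16) [] [] [] Cert.nil (Cert.rep (nat_lit 26) [] [] [] Cert.nil (Cert.rep (nat_lit 52) [] [] [] Cert.nil (Cert.rep (nat_lit 60) [] [] [] Cert.nil (Cert.rep (nat_lit 68) [nat_lit 16,nat_lit 68] [] [] (Cert.rep (nat_lit 96) [] [] [] (Cert.er (Cert.ro (nat_lit 0) [nat_lit 1,nat_lit 8,nat_lit 16] [nat_lit 8,nat_lit 9,nat_lit 16] [nat_lit 0,nat_lit 1,nat_lit 68,nat_lit 69,nat_lit 10,nat_lit 11,nat_lit 78,nat_lit 79] (Cert.ro (nat_lit 1) [nat_lit 1,nat_lit 2,nat_lit 14,nat_lit 16] [nat_lit 1,nat_lit 14,nat_lit 12,nat_lit 16] [nat_lit 0,nat_lit 1,nat_lit 2,nat_lit 3,nat_lit 39,nat_lit 38,nat_lit 36,nat_lit 37,nat_lit 10,nat_lit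 11,nat_lit 9,nat_lit 8,nat_lit 44,nat_lit 45,nat_lit 46,nat_lit 47] (Cert.kw (nat_lit 2) (nat_lit 0) (nat_lit 2) (nat_lit 1) )))) (Cert.rep (nat_lit 104) [] [] [] (Cert.er (Cert.ro (nat_lit 0) [nat_lit 1,nat_lit 8,nat_lit 16] [nat_lit 8,nat_lit 9,nat_lit 16] [nat_lit 0,nat_lit 1,nat_lit 68,nat_lit 69,nat_lit 10,nat_lit 11,nat_lit 78,nat_lit 79] (Cert.ro (nat_lit 1) [nat_lit 1,nat_lit 2,nat_lit 14,nat_lit 16] [nat_lit 1,nat_lit 14,nat_lit 12,nat_lit 16] [nat_lit 0,nat_lit 1,nat_lit 3,nat_lit 2,nat_lit 46,nat_lit 47,nat_lit 44,nat_lit 45,nat_lit 10,nat_lit 11,nat_lit 8,nat_lit 9,nat_lit 36,nat_lit 37,nat_lit 39,nat_lit 38] (Cert.kw (nat_lit 2) (nat_lit 0) (nat_lit 2) (nat_lit 1) )))) Cert.nil)) (Cert.rep (nat_lit 76) [nat_lit 16,nat_lit 70] [] [] (Cert.rep (nat_lit 96) [] [] [] (Cert.er (Cert.ro (nat_lit 0) [nat_lit 1,nat_lit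 8,nat_lit 16] [nat_lit 8,nat_lit 9,nat_lit 16] [nat_lit 0,nat_lit 1,nat_lit 76,nat_lit 77,nat_lit 10,nat_lit 11,nat_lit 71,nat_lit 70] (Cert.ro (nat_lit 1) [nat_lit 1,nat_lit 2,nat_lit 14,nat_lit 16] [nat_lit 1,nat_lit 14,nat_lit 12,nat_lit 16] [nat_lit 0,nat_lit 1,nat_lit 2,nat_lit 3,nat_lit 47,nat_lit 46,nat_lit 44,nat_lit 45,nat_lit 10,nat_lit 11,nat_lit 9,nat_lit 8,nat_lit 37,nat_lit 36,nat_lit 39,nat_lit 38] (Cert.lf (Leaf.st (nat_lit 2) (nat_lit 1) (nat_lit 1) (Leaf.cf (nat_lit 1))))))) (Cert.rep (nat_lit 104) [] [] [] (Cert.er (Cert.ro (nat_lit 0) [nat_lit 1,nat_lit 8,nat_lit 16] [nat_lit 8,nat_lit 9,nat_lit 16] [nat_lit 0,nat_lit 1,nat_lit 76,nat_lit 77,nat_lit 10,nat_lit 11,nat_lit 71,nat_lit 70] (Cert.ro (nat_lit 1) [nat_lit 1,nat_lit 2,nat_lit 14,nat_lit 16] [nat_lit 1,nat_lit 14,nat_lit 12,nat_lit 16] [nat_lit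 0,nat_lit 1,nat_lit 3,nat_lit 2,nat_lit 39,nat_lit 38,nat_lit 37,nat_lit 36,nat_lit 10,nat_lit 11,nat_lit 8,nat_lit 9,nat_lit 44,nat_lit 45,nat_lit 47,nat_lit 46] (Cert.lf (Leaf.st (nat_lit 2) (nat_lit 1) (nat_lit 1) (Leaf.cf (nat_lit 1))))))) Cert.nil)) (Cert.rep (nat_lit 84) [nat_lit 16,nat_lit 68] [] [] (Cert.rep (nat_lit 112) [] [] [] (Cert.er (Cert.ro (nat_lit 0) [nat_lit 1,nat_lit 8,nat_lit 16] [nat_lit 8,nat_lit 9,nat_lit 16] [nat_lit 0,nat_lit 1,nat_lit 84,nat_lit 85,nat_lit 10,nat_lit 11,nat_lit 94,nat_lit 95] (Cert.ro (nat_lit 1) [nat_lit 1,nat_lit 2,nat_lit 14,nat_lit 16] [nat_lit 1,nat_lit 14,nat_lit 12,nat_lit 16] [nat_lit 0,nat_lit 1,nat_lit 3,nat_lit 2,nat_lit 39,nat_lit 38,nat_lit 37,nat_lit 36,nat_lit 10,nat_lit 11,nat_lit 8,nat_lit 9,nat_lit 44,nat_lit 45,nat_lit 47,nat_lit 46] (Cert.lf (Leaf.st (nat_lit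 2) (nat_lit 1) (nat_lit 1) (Leaf.cf (nat_lit 1))))))) (Cert.rep (nat_lit 120) [] [] [] (Cert.er (Cert.ro (nat_lit 0) [nat_lit 1,nat_lit 8,nat_lit 16] [nat_lit 8,nat_lit 9,nat_lit 16] [nat_lit 0,nat_lit 1,nat_lit 84,nat_lit 85,nat_lit 10,nat_lit 11,nat_lit 94,nat_lit 95] (Cert.ro (nat_lit 1) [nat_lit 1,nat_lit 2,nat_lit 14,nat_lit 16] [nat_lit 1,nat_lit 14,nat_lit 12,nat_lit 16] [nat_lit 0,nat_lit 1,nat_lit 2,nat_lit 3,nat_lit 46,nat_lit 47,nat_lit 45,nat_lit 44,nat_lit 10,nat_lit 11,nat_lit 9,nat_lit 8,nat_lit 36,nat_lit 37,nat_lit 38,nat_lit 39] (Cert.lf (Leaf.st (nat_lit 2) (nat_lit 1) (nat_lit 1) (Leaf.cf (nat_lit 1))))))) Cert.nil)) (Cert.rep (nat_lit 92) [nat_lit 16,nat_lit 70] [] [] (Cert.rep (nat_lit 112) [] [] [] (Cert.er (Cert.ro (nat_lit 0) [nat_lit 1,nat_lit 8,nat_lit 16] [nat_lit 8,nat_lit 9,nat_lit 16] [nat_lit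 0,nat_lit 1,nat_lit 92,nat_lit 93,nat_lit 10,nat_lit 11,nat_lit 87,nat_lit 86] (Cert.ro (nat_lit 1) [nat_lit 1,nat_lit 2,nat_lit 14,nat_lit 16] [nat_lit 1,nat_lit 14,nat_lit 12,nat_lit 16] [nat_lit 0,nat_lit 1,nat_lit 3,nat_lit 2,nat_lit 47,nat_lit 46,nat_lit 45,nat_lit 44,nat_lit 10,nat_lit 11,nat_lit 8,nat_lit 9,nat_lit 37,nat_lit 36,nat_lit 38,nat_lit 39] (Cert.kw (nat_lit 2) (nat_lit 0) (nat_lit 2) (nat_lit 1) )))) (Cert.rep (nat_lit 120) [] [] [] (Cert.er (Cert.ro (nat_lit 0) [nat_lit 1,nat_lit 8,nat_lit 16] [nat_lit 8,nat_lit 9,nat_lit 16] [nat_lit 0,nat_lit 1,nat_lit 92,nat_lit 93,nat_lit 10,nat_lit 11,nat_lit 87,nat_lit 86] (Cert.ro (nat_lit 1) [nat_lit 1,nat_lit 2,nat_lit 14,nat_lit 16] [nat_lit 1,nat_lit 14,nat_lit 12,nat_lit 16] [nat_lit 0,nat_lit 1,nat_lit 2,nat_lit 3,nat_lit 39,nat_lit 38,nat_lit 36,nat_lit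 37,nat_lit 10,nat_lit 11,nat_lit 9,nat_lit 8,nat_lit 44,nat_lit 45,nat_lit 46,nat_lit 47] (Cert.kw (nat_lit 2) (nat_lit 0) (nat_lit 2) (nat_lit 1) )))) Cert.nil)) Cert.nil)))))))))) Cert.nil))
noncomputable def f115 : Cert :=
  (Cert.st (nat_lit 0) (nat_lit 10) (nat_lit 0) (Cert.sp (nat_lit 1) (Cert.lf (Leaf.pt (nat_lit 9) (nat_lit 1) [nat_lit 10])) (Cert.sp (nat_lit 26) (Cert.lf (Leaf.pt (nat_lit 9) (nat_lit 26) [nat_lit 10])) (Cert.st (nat_lit 0) (nat_lit 26) (nat_lit 0) (Cert.sp (nat_lit 28) (Cert.lf (Leaf.pt (nat_lit 9) (nat_lit 28) [nat_lit 12])) (Cert.st (nat_lit 0) (nat_lit 28) (nat_lit 0) (Cert.sp (nat_lit 32) (Cert.lf (Leaf.pt (nat_lit 12) (nat_lit 32) [nat_lit 26,nat_lit 196])) (Cert.st (nat_lit 0) (nat_lit 32) (nat_lit 0) (Cert.sp (nat_lit 68) (Cert.lf (Leaf.pt (nat_lit 9) (nat_lit 68) [nat_lit 10])) (Cert.st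 (nat_lit 0) (nat_lit 68) (nat_lit 0) (Cert.sp (nat_lit 92) (Cert.lf (Leaf.pt (nat_lit 9) (nat_lit 92) [nat_lit 10])) (Cert.st (nat_lit 0) (nat_lit 92) (nat_lit 0) (Cert.sp (nat_lit 132) (Cert.lf (Leaf.pt (nat_lit 12) (nat_lit 132) [nat_lit 26,nat_lit 1032])) (Cert.st (nat_lit 0) (nat_lit 132) (nat_lit 0) (Cert.sp (nat_lit 256) (Cert.lf (Leaf.pt (nat_lit 13) (nat_lit 256) [nat_lit 68])) (Cert.st (nat_lit 0) (nat_lit 256) (nat_lit 0) (Cert.sp (nat_lit 592) (Cert.lf (Leaf.pt (nat_lit 19) (nat_lit 592) [nat_lit 24,nat_lit 192])) (Cert.st (nat_lit 0) (nat_lit 592) (nat_lit 0) (Cert.sp (nat_lit 1040) (Cert.lf (Leaf.pt (nat_lit 19) (nat_lit 1040) [nat_lit 218,nat_lit 280])) (Cert.st (nat_lit 0) (nat_lit 1040) (nat_lit 0) (Cert.nl (nat_lit 1) (Cert.sy (nat_lit 0) (Cert.s2 (nat_lit 0) (nat_lit 68) (Cert.o1 (nat_lit 0) (nat_lit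 68) (Cert.fu (nat_lit 10) (nat_lit 1) (nat_lit 0) (nat_lit 0) [] [nat_lit 68,nat_lit 1,nat_lit 16,nat_lit 32,nat_lit 256] [] [] [] [nat_lit 1] [[nat_lit 1]] [[nat_lit 68]] [Ins.fr [nat_lit 0],Ins.ts (nat_lit 3) [nat_lit 0] [],Ins.ts (nat_lit 4) [nat_lit 0] [nat_lit 0,nat_lit 0,nat_lit 0],Ins.ts (nat_lit 1) [nat_lit 0] [],Ins.fr [nat_lit 1],Ins.ts (nat_lit 3) [nat_lit 0] [],Ins.ts (nat_lit 0) [nat_lit 0,nat_lit 0] [],Ins.ts (nat_lit 1) [nat_lit 0] [],Ins.ts (nat_lit 1) [nat_lit 0,nat_lit 1] [],Ins.fr [nat_lit 2],Ins.ts (nat_lit 2) [nat_lit 0] [],Ins.ts (nat_lit 0) [nat_lit 0,nat_lit 0] [],Ins.ts (nat_lit 0) [nat_lit 1,nat_lit 0] [nat_lit 0,nat_lit 1],Ins.ts (nat_lit 1) [nat_lit 0] [],Ins.ts (nat_lit 1) [nat_lit 0,nat_lit 3] [],Ins.ts (nat_lit 1) [nat_lit 0,nat_lit 2,nat_lit 3] [],Ins.ts (nat_lit 1) [nat_lit 0,nat_lit 1,nat_lit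 3] [],Ins.ts (nat_lit 1) [nat_lit 0,nat_lit 1,nat_lit 2,nat_lit 3] [],Ins.fr [nat_lit 1,nat_lit 3],Ins.ts (nat_lit 0) [nat_lit 0,nat_lit 0] [],Ins.ts (nat_lit 0) [nat_lit 1,nat_lit 2,nat_lit 0] [nat_lit 0,nat_lit 1],Ins.fr [nat_lit 1],Ins.ts (nat_lit 0) [nat_lit 0,nat_lit 0] [],Ins.ts (nat_lit 0) [nat_lit 3,nat_lit 0] [nat_lit 0,nat_lit 3]] [] (Cert.rep (nat_lit 10) [] [nat_lit 68,nat_lit 36,nat_lit 16,nat_lit 8,nat_lit 2,nat_lit 1] [nat_lit 1024,nat_lit 512,nat_lit 256,nat_lit 128,nat_lit 4] (Cert.rep (nat_lit 1) [nat_lit 2,nat_lit 16,nat_lit 36,nat_lit 68] [] [] (Cert.rep (nat_lit 26) [nat_lit 2,nat_lit 68] [] [] (Cert.rep (nat_lit 76) [nat_lit 10] [] [] (Cert.rep (nat_lit 256) [] [] [] Cert.nil (Cert.rep (nat_lit 257) [] [] [] Cert.nil (Cert.rep (nat_lit 326) [] [] [] Cert.nil (Cert.rep (nat_lit 327) [] [] [] Cert.nil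 Cert.nil)))) (Cert.rep (nat_lit 78) [nat_lit 10] [] [] (Cert.rep (nat_lit 256) [] [] [] Cert.nil (Cert.rep (nat_lit 257) [] [] [] Cert.nil (Cert.rep (nat_lit 324) [] [] [] Cert.nil (Cert.rep (nat_lit 325) [] [] [] Cert.nil Cert.nil)))) (Cert.rep (nat_lit 84) [nat_lit 10] [] [] (Cert.rep (nat_lit 256) [] [] [] Cert.nil (Cert.rep (nat_lit 257) [] [] [] Cert.nil (Cert.rep (nat_lit 324) [] [] [] Cert.nil (Cert.rep (nat_lit 325) [] [] [] Cert.nil Cert.nil)))) (Cert.rep (nat_lit 86) [nat_lit 10] [] [] (Cert.rep (nat_lit 256) [] [] [] Cert.nil (Cert.rep (nat_lit 257) [] [] [] Cert.nil (Cert.rep (nat_lit 326) [] [] [] Cert.nil (Cert.rep (nat_lit 327) [] [] [] Cert.nil Cert.nil)))) Cert.nil)))) (Cert.rep (nat_lit 60) [] [] [] Cert.nil (Cert.rep (nat_lit 68) [] [] [] (Cert.rep (nat_lit 16) [] [] [] Cert.nil (Cert.rep (nat_lit 17)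 [] [] [] Cert.nil (Cert.rep (nat_lit 84) [] [] [] Cert.nil (Cert.rep (nat_lit 85) [] [] [] Cert.nil Cert.nil)))) (Cert.rep (nat_lit 92) [] [] [] (Cert.rep (nat_lit 16) [] [] [] Cert.nil (Cert.rep (nat_lit 17) [] [] [] Cert.nil (Cert.rep (nat_lit 76) [] [] [] Cert.nil (Cert.rep (nat_lit 77) [] [] [] Cert.nil Cert.nil)))) Cert.nil)))) Cert.nil) Cert.nil))) f115_0)))))))))))))))))))))))
theorem fin115 : finOK DB PT 88 t88 115 t115 (nat_lit 0xc0000000c000000300000003000000030000000300000000003000000030000000c0000000c0000c0000000c0000000c0000000c00000000300000003000000000000000000000000c3000000c30000c0030000c0030000000000000000000000000000000000000330000003300000330000003300000000000000000000f0000000f0000000f00c0cf0f00303f0f00000f0f00000f00c0000030c0000030000000000000000f00000f0f00000f0f00000f0f0f0f0f0fcfc0303fc03fc03) f115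 = true := by
  decide +kernel
noncomputable def f117_0 : Cert :=
  Cert.s2 (nat_lit 0) (nat_lit 68) (Cert.o1 (nat_lit 0) (nat_lit 68) (Cert.fu (nat_lit 10) (nat_lit 1) (nat_lit 0) (nat_lit 0) [] [nat_lit 68,nat_lit 1,nat_lit 16,nat_lit 32,nat_lit 256] [] [] [] [nat_lit 1] [[nat_lit 1]] [[nat_lit 68]] [Ins.fr [nat_lit 0],Ins.ts (nat_lit 3) [nat_lit 0] [],Ins.ts (nat_lit 4) [nat_lit 0] [nat_lit 0,nat_lit 0,nat_lit 0],Ins.ts (nat_lit 1) [nat_lit 0] [],Ins.fr [nat_lit 1],Ins.ts (nat_lit 3) [nat_lit 0] [],Ins.ts (nat_lit 0) [nat_lit 0,nat_lit 0] [],Ins.ts (nat_lit 1) [nat_lit 0] [],Ins.ts (nat_lit 1) [nat_lit 0,nat_lit 1] [],Ins.fr [nat_lit 2],Ins.ts (nat_lit 2) [nat_lit 0] [],Ins.ts (nat_lit 0) [nat_lit 0,nat_lit 0] [],Ins.ts (nat_lit 0) [nat_lit 1,nat_lit 0] [nat_lit 0,nat_lit 1],Ins.ts (nat_lit 1) [nat_lit 0] [],Ins.ts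 (nat_lit 1) [nat_lit 0,nat_lit 3] [],Ins.ts (nat_lit 1) [nat_lit 0,nat_lit 2,nat_lit 3] [],Ins.ts (nat_lit 1) [nat_lit 0,nat_lit 1,nat_lit 3] [],Ins.ts (nat_lit 1) [nat_lit 0,nat_lit 1,nat_lit 2,nat_lit 3] [],Ins.fr [nat_lit 1,nat_lit 3],Ins.ts (nat_lit 0) [nat_lit 0,nat_lit 0] [],Ins.ts (nat_lit 0) [nat_lit 1,nat_lit 2,nat_lit 0] [nat_lit 0,nat_lit 1],Ins.fr [nat_lit 1],Ins.ts (nat_lit 0) [nat_lit 0,nat_lit 0] []] [] (Cert.rep (nat_lit 10) [] [nat_lit 68,nat_lit 36,nat_lit 16,nat_lit 8,nat_lit 2,nat_lit 1] [nat_lit 1024,nat_lit 512,nat_lit 256,nat_lit 128,nat_lit 4] (Cert.rep (nat_lit 1) [nat_lit 2,nat_lit 16,nat_lit 36,nat_lit 68] [] [] (Cert.rep (nat_lit 26) [nat_lit 2,nat_lit 68] [] [] (Cert.rep (nat_lit 76) [nat_lit 10] [] [] (Cert.rep (nat_lit 256) [] [] [] Cert.nil (Cert.rep (nat_lit 257) [] [] [] Cert.nil (Cert.rep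 (nat_lit 326) [] [] [] Cert.nil (Cert.rep (nat_lit 327) [] [] [] Cert.nil Cert.nil)))) (Cert.rep (nat_lit 78) [nat_lit 10] [] [] (Cert.rep (nat_lit 256) [] [] [] Cert.nil (Cert.rep (nat_lit 257) [] [] [] Cert.nil (Cert.rep (nat_lit 324) [] [] [] Cert.nil (Cert.rep (nat_lit 325) [] [] [] Cert.nil Cert.nil)))) (Cert.rep (nat_lit 84) [nat_lit 10] [] [] (Cert.rep (nat_lit 256) [] [] [] Cert.nil (Cert.rep (nat_lit 257) [] [] [] Cert.nil (Cert.rep (nat_lit 324) [] [] [] Cert.nil (Cert.rep (nat_lit 325) [] [] [] Cert.nil Cert.nil)))) (Cert.rep (nat_lit 86) [nat_lit 10] [] [] (Cert.rep (nat_lit 256) [] [] [] Cert.nil (Cert.rep (nat_lit 257) [] [] [] Cert.nil (Cert.rep (nat_lit 326) [] [] [] Cert.nil (Cert.rep (nat_lit 327) [] [] [] Cert.nil Cert.nil)))) Cert.nil)))) (Cert.rep (nat_lit 60) [] [] [] Cert.nil (Cert.rep (nat_lit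 68) [] [] [] (Cert.rep (nat_lit 16) [] [] [] Cert.nil (Cert.rep (nat_lit 17) [] [] [] Cert.nil (Cert.rep (nat_lit 84) [] [] [] Cert.nil (Cert.rep (nat_lit 85) [] [] [] Cert.nil Cert.nil)))) (Cert.rep (nat_lit 92) [] [] [] (Cert.rep (nat_lit 16) [] [] [] Cert.nil (Cert.rep (nat_lit 17) [] [] [] Cert.nil (Cert.rep (nat_lit 76) [] [] [] Cert.nil (Cert.rep (nat_lit 77) [] [] [] Cert.nil Cert.nil)))) Cert.nil)))) Cert.nil) Cert.nil))) (Cert.root (nat_lit 32) [] [nat_lit 8,nat_lit 4] [nat_lit 0,nat_lit 1,nat_lit 2,nat_lit 3,nat_lit 4] [Ins.fr [nat_lit 0],Ins.ts (nat_lit 0) [nat_lit 0,nat_lit 0] [],Ins.ts (nat_lit 1) [nat_lit 0] [],Ins.ts (nat_lit 1) [nat_lit 0,nat_lit 1] [],Ins.fr [nat_lit 1],Ins.ts (nat_lit 1) [nat_lit 0,nat_lit 0] [],Ins.ts (nat_lit 0) [nat_lit 1,nat_lit 0,nat_lit 1] [nat_lit 0,nat_lit 0,nat_lit 0],Ins.ts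 (nat_lit 1) [nat_lit 0,nat_lit 0,nat_lit 0,nat_lit 0] [],Ins.df [nat_lit 0,nat_lit 0],Ins.df [nat_lit 0,nat_lit 0]] (Cert.rep (nat_lit 10) [nat_lit 2,nat_lit 16,nat_lit 36,nat_lit 68] [nat_lit 68,nat_lit 36,nat_lit 16,nat_lit 8,nat_lit 2,nat_lit 1] [nat_lit 1024,nat_lit 512,nat_lit 256,nat_lit 128,nat_lit 4] (Cert.rep (nat_lit 1) [] [] [] Cert.nil (Cert.rep (nat_lit 11) [] [] [] Cert.nil (Cert.rep (nat_lit 16) [] [] [] Cert.nil (Cert.rep (nat_lit 26) [] [] [] Cert.nil (Cert.rep (nat_lit 52) [] [] [] Cert.nil (Cert.rep (nat_lit 60) [] [] [] Cert.nil (Cert.rep (nat_lit 68) [nat_lit 16,nat_lit 68] [] [] (Cert.rep (nat_lit 96) [] [] [] (Cert.er (Cert.ro (nat_lit 0) [nat_lit 1,nat_lit 8,nat_lit 16] [nat_lit 8,nat_lit 9,nat_lit 16] [nat_lit 0,nat_lit 1,nat_lit 68,nat_lit 69,nat_lit 10,nat_lit 11,nat_lit 78,nat_lit 79] (Cert.ro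 (nat_lit 1) [nat_lit 1,nat_lit 2,nat_lit 14,nat_lit 16] [nat_lit 1,nat_lit 14,nat_lit 12,nat_lit 16] [nat_lit 0,nat_lit 1,nat_lit 2,nat_lit 3,nat_lit 39,nat_lit 38,nat_lit 36,nat_lit 37,nat_lit 10,nat_lit 11,nat_lit 9,nat_lit 8,nat_lit 44,nat_lit 45,nat_lit 46,nat_lit 47] (Cert.kw (nat_lit 2) (nat_lit 0) (nat_lit 2) (nat_lit 1) )))) (Cert.rep (nat_lit 104) [] [] [] (Cert.er (Cert.ro (nat_lit 0) [nat_lit 1,nat_lit 8,nat_lit 16] [nat_lit 8,nat_lit 9,nat_lit 16] [nat_lit 0,nat_lit 1,nat_lit 68,nat_lit 69,nat_lit 10,nat_lit 11,nat_lit 78,nat_lit 79] (Cert.ro (nat_lit 1) [nat_lit 1,nat_lit 2,nat_lit 14,nat_lit 16] [nat_lit 1,nat_lit 14,nat_lit 12,nat_lit 16] [nat_lit 0,nat_lit 1,nat_lit 3,nat_lit 2,nat_lit 46,nat_lit 47,nat_lit 44,nat_lit 45,nat_lit 10,nat_lit 11,nat_lit 8,nat_lit 9,nat_lit 36,nat_lit 37,nat_lit 39,nat_lit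 38] (Cert.kw (nat_lit 2) (nat_lit 0) (nat_lit 2) (nat_lit 1) )))) Cert.nil)) (Cert.rep (nat_lit 76) [nat_lit 16,nat_lit 70] [] [] (Cert.rep (nat_lit 96) [] [] [] (Cert.er (Cert.ro (nat_lit 0) [nat_lit 1,nat_lit 8,nat_lit 16] [nat_lit 8,nat_lit 9,nat_lit 16] [nat_lit 0,nat_lit 1,nat_lit 76,nat_lit 77,nat_lit 10,nat_lit 11,nat_lit 71,nat_lit 70] (Cert.ro (nat_lit 1) [nat_lit 1,nat_lit 2,nat_lit 14,nat_lit 16] [nat_lit 1,nat_lit 14,nat_lit 12,nat_lit 16] [nat_lit 0,nat_lit 1,nat_lit 2,nat_lit 3,nat_lit 47,nat_lit 46,nat_lit 44,nat_lit 45,nat_lit 10,nat_lit 11,nat_lit 9,nat_lit 8,nat_lit 37,nat_lit 36,nat_lit 39,nat_lit 38] (Cert.lf (Leaf.st (nat_lit 2) (nat_lit 1) (nat_lit 1) (Leaf.cf (nat_lit 1))))))) (Cert.rep (nat_lit 104) [] [] [] (Cert.er (Cert.ro (nat_lit 0) [nat_lit 1,nat_lit 8,nat_lit 16] [nat_lit 8,nat_lit 9,nat_lit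 16] [nat_lit 0,nat_lit 1,nat_lit 76,nat_lit 77,nat_lit 10,nat_lit 11,nat_lit 71,nat_lit 70] (Cert.ro (nat_lit 1) [nat_lit 1,nat_lit 2,nat_lit 14,nat_lit 16] [nat_lit 1,nat_lit 14,nat_lit 12,nat_lit 16] [nat_lit 0,nat_lit 1,nat_lit 3,nat_lit 2,nat_lit 39,nat_lit 38,nat_lit 37,nat_lit 36,nat_lit 10,nat_lit 11,nat_lit 8,nat_lit 9,nat_lit 44,nat_lit 45,nat_lit 47,nat_lit 46] (Cert.lf (Leaf.st (nat_lit 2) (nat_lit 1) (nat_lit 1) (Leaf.cf (nat_lit 1))))))) Cert.nil)) (Cert.rep (nat_lit 84) [nat_lit 16,nat_lit 68] [] [] (Cert.rep (nat_lit 112) [] [] [] (Cert.er (Cert.ro (nat_lit 0) [nat_lit 1,nat_lit 8,nat_lit 16] [nat_lit 8,nat_lit 9,nat_lit 16] [nat_lit 0,nat_lit 1,nat_lit 84,nat_lit 85,nat_lit 10,nat_lit 11,nat_lit 94,nat_lit 95] (Cert.ro (nat_lit 1) [nat_lit 1,nat_lit 2,nat_lit 14,nat_lit 16] [nat_lit 1,nat_lit 14,nat_lit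 12,nat_lit 16] [nat_lit 0,nat_lit 1,nat_lit 3,nat_lit 2,nat_lit 39,nat_lit 38,nat_lit 37,nat_lit 36,nat_lit 10,nat_lit 11,nat_lit 8,nat_lit 9,nat_lit 44,nat_lit 45,nat_lit 47,nat_lit 46] (Cert.lf (Leaf.st (nat_lit 2) (nat_lit 1) (nat_lit 1) (Leaf.cf (nat_lit 1))))))) (Cert.rep (nat_lit 120) [] [] [] (Cert.er (Cert.ro (nat_lit 0) [nat_lit 1,nat_lit 8,nat_lit 16] [nat_lit 8,nat_lit 9,nat_lit 16] [nat_lit 0,nat_lit 1,nat_lit 84,nat_lit 85,nat_lit 10,nat_lit 11,nat_lit 94,nat_lit 95] (Cert.ro (nat_lit 1) [nat_lit 1,nat_lit 2,nat_lit 14,nat_lit 16] [nat_lit 1,nat_lit 14,nat_lit 12,nat_lit 16] [nat_lit 0,nat_lit 1,nat_lit 2,nat_lit 3,nat_lit 46,nat_lit 47,nat_lit 45,nat_lit 44,nat_lit 10,nat_lit 11,nat_lit 9,nat_lit 8,nat_lit 36,nat_lit 37,nat_lit 38,nat_lit 39] (Cert.lf (Leaf.st (nat_lit 2) (nat_lit 1) (nat_lit 1) (Leaf.cf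 (nat_lit 1))))))) Cert.nil)) (Cert.rep (nat_lit 92) [nat_lit 16,nat_lit 70] [] [] (Cert.rep (nat_lit 112) [] [] [] (Cert.er (Cert.ro (nat_lit 0) [nat_lit 1,nat_lit 8,nat_lit 16] [nat_lit 8,nat_lit 9,nat_lit 16] [nat_lit 0,nat_lit 1,nat_lit 92,nat_lit 93,nat_lit 10,nat_lit 11,nat_lit 87,nat_lit 86] (Cert.ro (nat_lit 1) [nat_lit 1,nat_lit 2,nat_lit 14,nat_lit 16] [nat_lit 1,nat_lit 14,nat_lit 12,nat_lit 16] [nat_lit 0,nat_lit 1,nat_lit 3,nat_lit 2,nat_lit 47,nat_lit 46,nat_lit 45,nat_lit 44,nat_lit 10,nat_lit 11,nat_lit 8,nat_lit 9,nat_lit 37,nat_lit 36,nat_lit 38,nat_lit 39] (Cert.kw (nat_lit 2) (nat_lit 0) (nat_lit 2) (nat_lit 1) )))) (Cert.rep (nat_lit 120) [] [] [] (Cert.er (Cert.ro (nat_lit 0) [nat_lit 1,nat_lit 8,nat_lit 16] [nat_lit 8,nat_lit 9,nat_lit 16] [nat_lit 0,nat_lit 1,nat_lit 92,nat_lit 93,nat_lit 10,nat_lit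 11,nat_lit 87,nat_lit 86] (Cert.ro (nat_lit 1) [nat_lit 1,nat_lit 2,nat_lit 14,nat_lit 16] [nat_lit 1,nat_lit 14,nat_lit 12,nat_lit 16] [nat_lit 0,nat_lit 1,nat_lit 2,nat_lit 3,nat_lit 39,nat_lit 38,nat_lit 36,nat_lit 37,nat_lit 10,nat_lit 11,nat_lit 9,nat_lit 8,nat_lit 44,nat_lit 45,nat_lit 46,nat_lit 47] (Cert.kw (nat_lit 2) (nat_lit 0) (nat_lit 2) (nat_lit 1) )))) Cert.nil)) Cert.nil)))))))))) Cert.nil))
noncomputable def f117 : Cert :=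
  (Cert.st (nat_lit 0) (nat_lit 10) (nat_lit 0) (Cert.sp (nat_lit 1) (Cert.lf (Leaf.pt (nat_lit 9) (nat_lit 1) [nat_lit 10])) (Cert.sp (nat_lit 26) (Cert.lf (Leaf.pt (nat_lit 9) (nat_lit 26) [nat_lit 10])) (Cert.st (nat_lit 0) (nat_lit 26) (nat_lit 0) (Cert.sp (nat_lit 28) (Cert.lf (Leaf.pt (nat_lit 9) (nat_lit 28) [nat_lit 12])) (Cert.st (nat_lit 0) (nat_lit 28) (nat_lit 0) (Cert.sp (nat_lit 32) (Cert.lf (Leaf.pt (nat_lit 12) (nat_lit 32) [nat_lit 26,nat_lit 196])) (Cert.st (nat_lit 0) (nat_lit 32) (nat_lit 0) (Cert.sp (nat_lit 68) (Cert.lf (Leaf.pt (nat_lit 9) (nat_lit 68) [nat_lit 10])) (Cert.st (nat_lit 0) (nat_lit 68) (nat_lit 0) (Cert.sp (nat_lit 132) (Cert.lf (Leaf.pt (nat_lit 12) (nat_lit 132) [nat_lit 32,nat_lit 1102])) (Cert.st (nat_lit 0) (nat_lit 132) (nat_lit 0) (Cert.sp (nat_lit 256) (Cert.lf (Leaf.pt (nat_lit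 13) (nat_lit 256) [nat_lit 68])) (Cert.st (nat_lit 0) (nat_lit 256) (nat_lit 0) (Cert.sp (nat_lit 592) (Cert.lf (Leaf.pt (nat_lit 19) (nat_lit 592) [nat_lit 24,nat_lit 192])) (Cert.st (nat_lit 0) (nat_lit 592) (nat_lit 0) (Cert.sp (nat_lit 1548) (Cert.lf (Leaf.pt (nat_lit 23) (nat_lit 1548) [nat_lit 1,nat_lit 192,nat_lit 282])) (Cert.st (nat_lit 0) (nat_lit 1548) (nat_lit 0) (Cert.nl (nat_lit 1) (Cert.sy (nat_lit 0) f117_0))))))))))))))))))))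
theorem fin117 : finOK DB PT 88 t88 117 t117 (nat_lit 0xf0000000f00000f0000000f000000000f0000000f0000000f0000000f0000000f0000000f0000000f0000000f00000f0000000f000000000f0000000f0000000000000000000000000000000000000000000000000000000000000000000000000000000000000000000000000000000000000000000000000000000000000000000000000000000c3000000c30000c0030000c0030000000000000000000000000000000000000330000003300000330000003300000000000000000000f0000000f0000000f00c0cf0f00303f0f00000f0f00000f00c0000030c0000030000000000000000f00000f0f00000f0f00000f0f0f0f0f0fcfc0303fc03fc03) f117 = true := by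
  decide +kernel
noncomputable def f125_0 : Cert :=
  Cert.s2 (nat_lit 0) (nat_lit 92) (Cert.o1 (nat_lit 0) (nat_lit 92) (Cert.fu (nat_lit 10) (nat_lit 1) (nat_lit 0) (nat_lit 0) [] [nat_lit 92,nat_lit 1,nat_lit 16,nat_lit 32] [] [] [] [nat_lit 1] [[nat_lit 1]] [[nat_lit 92]] [Ins.fr [nat_lit 0],Ins.ts (nat_lit 3) [nat_lit 0] [],Ins.ts (nat_lit 4) [nat_lit 0] [nat_lit 0,nat_lit 0,nat_lit 0],Ins.ts (nat_lit 1) [nat_lit 0] [],Ins.fr [nat_lit 1],Ins.ts (nat_lit 3) [nat_lit 0] [],Ins.ts (nat_lit 0) [nat_lit 0,nat_lit 0] [],Ins.ts (nat_lit 1) [nat_lit 0] [],Ins.ts (nat_lit 4) [nat_lit 0] [nat_lit 0,nat_lit 0,nat_lit 1],Ins.ts (nat_lit 1) [nat_lit 0,nat_lit 1] [],Ins.fr [nat_lit 2],Ins.ts (nat_lit 2) [nat_lit 0] [],Ins.ts (nat_lit 0) [nat_lit 0,nat_lit 0] [],Ins.ts (nat_lit 0) [nat_lit 1,nat_lit 0] [nat_lit 0,nat_lit 1],Ins.ts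 (nat_lit 1) [nat_lit 0] [],Ins.ts (nat_lit 4) [nat_lit 0,nat_lit 2,nat_lit 3] [nat_lit 0,nat_lit 0,nat_lit 2],Ins.ts (nat_lit 4) [nat_lit 0,nat_lit 1,nat_lit 2,nat_lit 3] [nat_lit 0,nat_lit 0,nat_lit 2],Ins.ts (nat_lit 1) [nat_lit 0,nat_lit 2,nat_lit 3] [],Ins.ts (nat_lit 1) [nat_lit 0,nat_lit 1,nat_lit 2,nat_lit 3] [],Ins.fr [nat_lit 1,nat_lit 3],Ins.ts (nat_lit 0) [nat_lit 0,nat_lit 0] [],Ins.ts (nat_lit 0) [nat_lit 1,nat_lit 2,nat_lit 0] [nat_lit 0,nat_lit 1]] [(nat_lit 2,nat_lit 0),(nat_lit 3,nat_lit 0)] (Cert.rep (nat_lit 10) [] [nat_lit 68,nat_lit 36,nat_lit 16,nat_lit 8,nat_lit 2,nat_lit 1] [nat_lit 1024,nat_lit 512,nat_lit 256,nat_lit 128,nat_lit 4] (Cert.rep (nat_lit 1) [nat_lit 2,nat_lit 16,nat_lit 36,nat_lit 68] [] [] (Cert.rep (nat_lit 26) [] [] [] Cert.nil (Cert.rep (nat_lit 60) [] [] [] Cert.nil (Cert.rep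 (nat_lit 92) [] [] [] (Cert.rep (nat_lit 16) [] [] [] Cert.nil (Cert.rep (nat_lit 17) [] [] [] Cert.nil (Cert.rep (nat_lit 76) [] [] [] Cert.nil (Cert.rep (nat_lit 77) [] [] [] Cert.nil Cert.nil)))) Cert.nil))) Cert.nil) Cert.nil))) (Cert.root (nat_lit 32) [] [nat_lit 8,nat_lit 4] [nat_lit 0,nat_lit 1,nat_lit 2,nat_lit 3,nat_lit 4] [Ins.fr [nat_lit 0],Ins.ts (nat_lit 0) [nat_lit 0,nat_lit 0] [],Ins.ts (nat_lit 1) [nat_lit 0] [],Ins.ts (nat_lit 1) [nat_lit 0,nat_lit 1] [],Ins.fr [nat_lit 1],Ins.ts (nat_lit 1) [nat_lit 0,nat_lit 0] [],Ins.ts (nat_lit 0) [nat_lit 1,nat_lit 0,nat_lit 1] [nat_lit 0,nat_lit 0,nat_lit 0],Ins.ts (nat_lit 1) [nat_lit 0,nat_lit 0,nat_lit 0,nat_lit 0] [],Ins.df [nat_lit 0,nat_lit 0],Ins.df [nat_lit 0,nat_lit 0]] (Cert.rep (nat_lit 10) [nat_lit 2,nat_lit 16,nat_lit 36,nat_lit 68] [nat_lit 68,nat_lit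 36,nat_lit 16,nat_lit 8,nat_lit 2,nat_lit 1] [nat_lit 1024,nat_lit 512,nat_lit 256,nat_lit 128,nat_lit 4] (Cert.rep (nat_lit 1) [] [] [] Cert.nil (Cert.rep (nat_lit 11) [] [] [] Cert.nil (Cert.rep (nat_lit 16) [] [] [] Cert.nil (Cert.rep (nat_lit 26) [] [] [] Cert.nil (Cert.rep (nat_lit 52) [] [] [] Cert.nil (Cert.rep (nat_lit 60) [] [] [] Cert.nil (Cert.rep (nat_lit 68) [nat_lit 16,nat_lit 68] [] [] (Cert.rep (nat_lit 96) [] [] [] (Cert.er (Cert.ro (nat_lit 0) [nat_lit 1,nat_lit 8,nat_lit 16] [nat_lit 8,nat_lit 9,nat_lit 16] [nat_lit 0,nat_lit 1,nat_lit 68,nat_lit 69,nat_lit 10,nat_lit 11,nat_lit 78,nat_lit 79] (Cert.ro (nat_lit 1) [nat_lit 1,nat_lit 2,nat_lit 14,nat_lit 16] [nat_lit 1,nat_lit 14,nat_lit 12,nat_lit 16] [nat_lit 0,nat_lit 1,nat_lit 2,nat_lit 3,nat_lit 39,nat_lit 38,nat_lit 36,nat_lit 37,nat_lit 10,nat_lit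 11,nat_lit 9,nat_lit 8,nat_lit 44,nat_lit 45,nat_lit 46,nat_lit 47] (Cert.kw (nat_lit 2) (nat_lit 0) (nat_lit 2) (nat_lit 1) )))) (Cert.rep (nat_lit 104) [] [] [] (Cert.er (Cert.ro (nat_lit 0) [nat_lit 1,nat_lit 8,nat_lit 16] [nat_lit 8,nat_lit 9,nat_lit 16] [nat_lit 0,nat_lit 1,nat_lit 68,nat_lit 69,nat_lit 10,nat_lit 11,nat_lit 78,nat_lit 79] (Cert.ro (nat_lit 1) [nat_lit 1,nat_lit 2,nat_lit 14,nat_lit 16] [nat_lit 1,nat_lit 14,nat_lit 12,nat_lit 16] [nat_lit 0,nat_lit 1,nat_lit 3,nat_lit 2,nat_lit 46,nat_lit 47,nat_lit 44,nat_lit 45,nat_lit 10,nat_lit 11,nat_lit 8,nat_lit 9,nat_lit 36,nat_lit 37,nat_lit 39,nat_lit 38] (Cert.kw (nat_lit 2) (nat_lit 0) (nat_lit 2) (nat_lit 1) )))) Cert.nil)) (Cert.rep (nat_lit 76) [nat_lit 16,nat_lit 70] [] [] (Cert.rep (nat_lit 96) [] [] [] (Cert.er (Cert.ro (nat_lit 0) [nat_lit 1,nat_lit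 8,nat_lit 16] [nat_lit 8,nat_lit 9,nat_lit 16] [nat_lit 0,nat_lit 1,nat_lit 76,nat_lit 77,nat_lit 10,nat_lit 11,nat_lit 71,nat_lit 70] (Cert.ro (nat_lit 1) [nat_lit 1,nat_lit 2,nat_lit 14,nat_lit 16] [nat_lit 1,nat_lit 14,nat_lit 12,nat_lit 16] [nat_lit 0,nat_lit 1,nat_lit 2,nat_lit 3,nat_lit 47,nat_lit 46,nat_lit 44,nat_lit 45,nat_lit 10,nat_lit 11,nat_lit 9,nat_lit 8,nat_lit 37,nat_lit 36,nat_lit 39,nat_lit 38] (Cert.lf (Leaf.st (nat_lit 2) (nat_lit 1) (nat_lit 1) (Leaf.cf (nat_lit 1))))))) (Cert.rep (nat_lit 104) [] [] [] (Cert.er (Cert.ro (nat_lit 0) [nat_lit 1,nat_lit 8,nat_lit 16] [nat_lit 8,nat_lit 9,nat_lit 16] [nat_lit 0,nat_lit 1,nat_lit 76,nat_lit 77,nat_lit 10,nat_lit 11,nat_lit 71,nat_lit 70] (Cert.ro (nat_lit 1) [nat_lit 1,nat_lit 2,nat_lit 14,nat_lit 16] [nat_lit 1,nat_lit 14,nat_lit 12,nat_lit 16] [nat_lit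 0,nat_lit 1,nat_lit 3,nat_lit 2,nat_lit 39,nat_lit 38,nat_lit 37,nat_lit 36,nat_lit 10,nat_lit 11,nat_lit 8,nat_lit 9,nat_lit 44,nat_lit 45,nat_lit 47,nat_lit 46] (Cert.lf (Leaf.st (nat_lit 2) (nat_lit 1) (nat_lit 1) (Leaf.cf (nat_lit 1))))))) Cert.nil)) (Cert.rep (nat_lit 84) [nat_lit 16,nat_lit 68] [] [] (Cert.rep (nat_lit 112) [] [] [] (Cert.er (Cert.ro (nat_lit 0) [nat_lit 1,nat_lit 8,nat_lit 16] [nat_lit 8,nat_lit 9,nat_lit 16] [nat_lit 0,nat_lit 1,nat_lit 84,nat_lit 85,nat_lit 10,nat_lit 11,nat_lit 94,nat_lit 95] (Cert.ro (nat_lit 1) [nat_lit 1,nat_lit 2,nat_lit 14,nat_lit 16] [nat_lit 1,nat_lit 14,nat_lit 12,nat_lit 16] [nat_lit 0,nat_lit 1,nat_lit 3,nat_lit 2,nat_lit 39,nat_lit 38,nat_lit 37,nat_lit 36,nat_lit 10,nat_lit 11,nat_lit 8,nat_lit 9,nat_lit 44,nat_lit 45,nat_lit 47,nat_lit 46] (Cert.lf (Leaf.st (nat_lit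 2) (nat_lit 1) (nat_lit 1) (Leaf.cf (nat_lit 1))))))) (Cert.rep (nat_lit 120) [] [] [] (Cert.er (Cert.ro (nat_lit 0) [nat_lit 1,nat_lit 8,nat_lit 16] [nat_lit 8,nat_lit 9,nat_lit 16] [nat_lit 0,nat_lit 1,nat_lit 84,nat_lit 85,nat_lit 10,nat_lit 11,nat_lit 94,nat_lit 95] (Cert.ro (nat_lit 1) [nat_lit 1,nat_lit 2,nat_lit 14,nat_lit 16] [nat_lit 1,nat_lit 14,nat_lit 12,nat_lit 16] [nat_lit 0,nat_lit 1,nat_lit 2,nat_lit 3,nat_lit 46,nat_lit 47,nat_lit 45,nat_lit 44,nat_lit 10,nat_lit 11,nat_lit 9,nat_lit 8,nat_lit 36,nat_lit 37,nat_lit 38,nat_lit 39] (Cert.lf (Leaf.st (nat_lit 2) (nat_lit 1) (nat_lit 1) (Leaf.cf (nat_lit 1))))))) Cert.nil)) (Cert.rep (nat_lit 92) [nat_lit 16,nat_lit 70] [] [] (Cert.rep (nat_lit 112) [] [] [] (Cert.er (Cert.ro (nat_lit 0) [nat_lit 1,nat_lit 8,nat_lit 16] [nat_lit 8,nat_lit 9,nat_lit 16] [nat_lit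 0,nat_lit 1,nat_lit 92,nat_lit 93,nat_lit 10,nat_lit 11,nat_lit 87,nat_lit 86] (Cert.ro (nat_lit 1) [nat_lit 1,nat_lit 2,nat_lit 14,nat_lit 16] [nat_lit 1,nat_lit 14,nat_lit 12,nat_lit 16] [nat_lit 0,nat_lit 1,nat_lit 3,nat_lit 2,nat_lit 47,nat_lit 46,nat_lit 45,nat_lit 44,nat_lit 10,nat_lit 11,nat_lit 8,nat_lit 9,nat_lit 37,nat_lit 36,nat_lit 38,nat_lit 39] (Cert.kw (nat_lit 2) (nat_lit 0) (nat_lit 2) (nat_lit 1) )))) (Cert.rep (nat_lit 120) [] [] [] (Cert.er (Cert.ro (nat_lit 0) [nat_lit 1,nat_lit 8,nat_lit 16] [nat_lit 8,nat_lit 9,nat_lit 16] [nat_lit 0,nat_lit 1,nat_lit 92,nat_lit 93,nat_lit 10,nat_lit 11,nat_lit 87,nat_lit 86] (Cert.ro (nat_lit 1) [nat_lit 1,nat_lit 2,nat_lit 14,nat_lit 16] [nat_lit 1,nat_lit 14,nat_lit 12,nat_lit 16] [nat_lit 0,nat_lit 1,nat_lit 2,nat_lit 3,nat_lit 39,nat_lit 38,nat_lit 36,nat_lit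 37,nat_lit 10,nat_lit 11,nat_lit 9,nat_lit 8,nat_lit 44,nat_lit 45,nat_lit 46,nat_lit 47] (Cert.kw (nat_lit 2) (nat_lit 0) (nat_lit 2) (nat_lit 1) )))) Cert.nil)) Cert.nil)))))))))) Cert.nil))
noncomputable def f125 : Cert :=
  (Cert.st (nat_lit 0) (nat_lit 10) (nat_lit 0) (Cert.sp (nat_lit 1) (Cert.lf (Leaf.pt (nat_lit 9) (nat_lit 1) [nat_lit 10])) (Cert.sp (nat_lit 26) (Cert.lf (Leaf.pt (nat_lit 9) (nat_lit 26) [nat_lit 10])) (Cert.st (nat_lit 0) (nat_lit 26) (nat_lit 0) (Cert.sp (nat_lit 28) (Cert.lf (Leaf.pt (nat_lit 9) (nat_lit 28) [nat_lit 12])) (Cert.st (nat_lit 0) (nat_lit 28) (nat_lit 0) (Cert.sp (nat_lit 32) (Cert.lf (Leaf.pt (nat_lit 12) (nat_lit 32) [nat_lit 26,nat_lit 196])) (Cert.st (nat_lit 0) (nat_lit 32) (nat_lit 0) (Cert.sp (nat_lit 68) (Cert.lf (Leaf.pt (nat_lit 9) (nat_lit 68) [nat_lit 10])) (Cert.st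 (nat_lit 0) (nat_lit 68) (nat_lit 0) (Cert.sp (nat_lit 92) (Cert.lf (Leaf.pt (nat_lit 9) (nat_lit 92) [nat_lit 10])) (Cert.st (nat_lit 0) (nat_lit 92) (nat_lit 0) (Cert.sp (nat_lit 258) (Cert.lf (Leaf.pt (nat_lit 12) (nat_lit 258) [nat_lit 26,nat_lit 586])) (Cert.st (nat_lit 0) (nat_lit 258) (nat_lit 0) (Cert.sp (nat_lit 584) (Cert.lf (Leaf.pt (nat_lit 19) (nat_lit 584) [nat_lit 24,nat_lit 192])) (Cert.st (nat_lit 0) (nat_lit 584) (nat_lit 0) (Cert.sp (nat_lit 652) (Cert.lf (Leaf.pt (nat_lit 12) (nat_lit 652) [nat_lit 28,nat_lit 256])) (Cert.st (nat_lit 0) (nat_lit 652) (nat_lit 0) (Cert.sp (nat_lit 1040) (Cert.lf (Leaf.pt (nat_lit 12) (nat_lit 1040) [nat_lit 70,nat_lit 158])) (Cert.st (nat_lit 0) (nat_lit 1040) (nat_lit 0) (Cert.sp (nat_lit 1164) (Cert.lf (Leaf.pt (nat_lit 12) (nat_lit 1164) [nat_lit 94,nat_lit 158]))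 (Cert.st (nat_lit 0) (nat_lit 1164) (nat_lit 0) (Cert.nl (nat_lit 1) (Cert.sy (nat_lit 0) (Cert.s2 (nat_lit 0) (nat_lit 68) (Cert.o1 (nat_lit 0) (nat_lit 68) (Cert.fu (nat_lit 10) (nat_lit 1) (nat_lit 0) (nat_lit 0) [] [nat_lit 68,nat_lit 1,nat_lit 16,nat_lit 32] [] [] [] [nat_lit 1] [[nat_lit 1]] [[nat_lit 68]] [Ins.fr [nat_lit 0],Ins.ts (nat_lit 3) [nat_lit 0] [],Ins.ts (nat_lit 4) [nat_lit 0] [nat_lit 0,nat_lit 0,nat_lit 0],Ins.ts (nat_lit 1) [nat_lit 0] [],Ins.fr [nat_lit 1],Ins.ts (nat_lit 3) [nat_lit 0] [],Ins.ts (nat_lit 0) [nat_lit 0,nat_lit 0] [],Ins.ts (nat_lit 1) [nat_lit 0] [],Ins.ts (nat_lit 1) [nat_lit 0,nat_lit 1] [],Ins.fr [nat_lit 2],Ins.ts (nat_lit 2) [nat_lit 0] [],Ins.ts (nat_lit 0) [nat_lit 0,nat_lit 0] [],Ins.ts (nat_lit 0) [nat_lit 1,nat_lit 0] [nat_lit 0,nat_lit 1],Ins.ts (nat_lit 1) [nat_lit 0]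 [],Ins.ts (nat_lit 1) [nat_lit 0,nat_lit 3] [],Ins.ts (nat_lit 1) [nat_lit 0,nat_lit 2,nat_lit 3] [],Ins.ts (nat_lit 1) [nat_lit 0,nat_lit 1,nat_lit 3] [],Ins.ts (nat_lit 1) [nat_lit 0,nat_lit 1,nat_lit 2,nat_lit 3] [],Ins.fr [nat_lit 1,nat_lit 3],Ins.ts (nat_lit 0) [nat_lit 0,nat_lit 0] [],Ins.ts (nat_lit 0) [nat_lit 1,nat_lit 2,nat_lit 0] [nat_lit 0,nat_lit 1]] [] (Cert.rep (nat_lit 10) [] [nat_lit 68,nat_lit 36,nat_lit 16,nat_lit 8,nat_lit 2,nat_lit 1] [nat_lit 1024,nat_lit 512,nat_lit 256,nat_lit 128,nat_lit 4] (Cert.rep (nat_lit 1) [nat_lit 2,nat_lit 16,nat_lit 36,nat_lit 68] [] [] (Cert.rep (nat_lit 26) [nat_lit 2,nat_lit 68] [] [] (Cert.rep (nat_lit 76) [] [] [] Cert.nil (Cert.rep (nat_lit 78) [] [] [] Cert.nil (Cert.rep (nat_lit 84) [] [] [] Cert.nil (Cert.rep (nat_lit 86) [] [] [] Cert.nil Cert.nil)))) (Cert.rep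 (nat_lit 60) [] [] [] Cert.nil (Cert.rep (nat_lit 68) [] [] [] (Cert.rep (nat_lit 16) [] [] [] Cert.nil (Cert.rep (nat_lit 17) [] [] [] Cert.nil (Cert.rep (nat_lit 84) [] [] [] Cert.nil (Cert.rep (nat_lit 85) [] [] [] Cert.nil Cert.nil)))) (Cert.rep (nat_lit 92) [] [] [] (Cert.rep (nat_lit 16) [] [] [] Cert.nil (Cert.rep (nat_lit 17) [] [] [] Cert.nil (Cert.rep (nat_lit 76) [] [] [] Cert.nil (Cert.rep (nat_lit 77) [] [] [] Cert.nil Cert.nil)))) Cert.nil)))) Cert.nil) Cert.nil))) f125_0)))))))))))))))))))))))))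
theorem fin125 : finOK DB PT 88 t88 125 t125 (nat_lit 0xc0000000c000000300000003000000000c0000000c000000c0000000c00000003000000030000000030000000300000c0000000c00000000300000003000000000000000000000000c3000000c3000003c0000003c00000000000000000000000000000000000000330000003300000003300000033000000000000000000f0000000f0000000f00c0cf0f00303f000000000000000000300000c0300000c00000000000000000000000000000000f00000f0f0f0f0f0fcfc0303fc03fc03) f125 = true := by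
  decide +kernel
noncomputable def f132_0 : Cert :=
  Cert.s2 (nat_lit 0) (nat_lit 92) (Cert.o1 (nat_lit 0) (nat_lit 92) (Cert.fu (nat_lit 10) (nat_lit 1) (nat_lit 0) (nat_lit 0) [] [nat_lit 92,nat_lit 1,nat_lit 16,nat_lit 32,nat_lit 256] [] [] [] [nat_lit 1] [[nat_lit 1]] [[nat_lit 92]] [Ins.fr [nat_lit 0],Ins.ts (nat_lit 3) [nat_lit 0] [],Ins.ts (nat_lit 4) [nat_lit 0] [nat_lit 0,nat_lit 0,nat_lit 0],Ins.ts (nat_lit 1) [nat_lit 0] [],Ins.fr [nat_lit 1],Ins.ts (nat_lit 3) [nat_lit 0] [],Ins.ts (nat_lit 0) [nat_lit 0,nat_lit 0] [],Ins.ts (nat_lit 1) [nat_lit 0] [],Ins.ts (nat_lit 4) [nat_lit 0] [nat_lit 0,nat_lit 0,nat_lit 1],Ins.ts (nat_lit 1) [nat_lit 0,nat_lit 1] [],Ins.fr [nat_lit 2],Ins.ts (nat_lit 2) [nat_lit 0] [],Ins.ts (nat_lit 0) [nat_lit 0,nat_lit 0] [],Ins.ts (nat_lit 0) [nat_lit 1,nat_lit 0] [nat_lit 0,nat_lit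 1],Ins.ts (nat_lit 1) [nat_lit 0] [],Ins.ts (nat_lit 4) [nat_lit 0,nat_lit 2,nat_lit 3] [nat_lit 0,nat_lit 0,nat_lit 2],Ins.ts (nat_lit 4) [nat_lit 0,nat_lit 1,nat_lit 2,nat_lit 3] [nat_lit 0,nat_lit 0,nat_lit 2],Ins.ts (nat_lit 1) [nat_lit 0,nat_lit 2,nat_lit 3] [],Ins.ts (nat_lit 1) [nat_lit 0,nat_lit 1,nat_lit 2,nat_lit 3] [],Ins.fr [nat_lit 1,nat_lit 3],Ins.ts (nat_lit 0) [nat_lit 0,nat_lit 0] [],Ins.fr [nat_lit 1],Ins.ts (nat_lit 0) [nat_lit 0,nat_lit 0] [nat_lit 3]] [(nat_lit 2,nat_lit 0),(nat_lit 3,nat_lit 0)] (Cert.rep (nat_lit 10) [] [nat_lit 68,nat_lit 36,nat_lit 16,nat_lit 8,nat_lit 2,nat_lit 1] [nat_lit 1024,nat_lit 512,nat_lit 256,nat_lit 128,nat_lit 4] (Cert.rep (nat_lit 1) [nat_lit 2,nat_lit 16,nat_lit 36,nat_lit 68] [] [] (Cert.rep (nat_lit 26) [] [] [] Cert.nil (Cert.rep (nat_lit 60) [] [] [] Cert.nil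 (Cert.rep (nat_lit 92) [] [] [] (Cert.rep (nat_lit 16) [nat_lit 10] [] [] (Cert.rep (nat_lit 1185) [] [] [] Cert.nil (Cert.rep (nat_lit 1184) [] [] [] Cert.nil (Cert.rep (nat_lit 1211) [] [] [] Cert.nil (Cert.rep (nat_lit 1210) [] [] [] Cert.nil Cert.nil)))) (Cert.rep (nat_lit 17) [nat_lit 10] [] [] (Cert.rep (nat_lit 1185) [] [] [] Cert.nil (Cert.rep (nat_lit 1184) [] [] [] Cert.nil (Cert.rep (nat_lit 1211) [] [] [] Cert.nil (Cert.rep (nat_lit 1210) [] [] [] Cert.nil Cert.nil)))) (Cert.rep (nat_lit 76) [nat_lit 10] [] [] (Cert.rep (nat_lit 1185) [] [] [] Cert.nil (Cert.rep (nat_lit 1184) [] [] [] Cert.nil (Cert.rep (nat_lit 1211) [] [] [] Cert.nil (Cert.rep (nat_lit 1210) [] [] [] Cert.nil Cert.nil)))) (Cert.rep (nat_lit 77) [nat_lit 10] [] [] (Cert.rep (nat_lit 1185) [] [] [] Cert.nil (Cert.rep (nat_lit 1184) [] []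 [] Cert.nil (Cert.rep (nat_lit 1211) [] [] [] Cert.nil (Cert.rep (nat_lit 1210) [] [] [] Cert.nil Cert.nil)))) Cert.nil)))) Cert.nil))) Cert.nil) Cert.nil))) (Cert.root (nat_lit 32) [] [nat_lit 8,nat_lit 4] [nat_lit 0,nat_lit 1,nat_lit 2,nat_lit 3,nat_lit 4] [Ins.fr [nat_lit 0],Ins.ts (nat_lit 0) [nat_lit 0,nat_lit 0] [],Ins.ts (nat_lit 1) [nat_lit 0] [],Ins.ts (nat_lit 1) [nat_lit 0,nat_lit 1] [],Ins.fr [nat_lit 1],Ins.ts (nat_lit 1) [nat_lit 0,nat_lit 0] [],Ins.ts (nat_lit 0) [nat_lit 1,nat_lit 0,nat_lit 1] [nat_lit 0,nat_lit 0,nat_lit 0],Ins.ts (nat_lit 1) [nat_lit 0,nat_lit 0,nat_lit 0,nat_lit 0] [],Ins.df [nat_lit 0,nat_lit 0],Ins.df [nat_lit 0,nat_lit 0]] (Cert.rep (nat_lit 10) [nat_lit 2,nat_lit 16,nat_lit 36,nat_lit 68] [nat_lit 68,nat_lit 36,nat_lit 16,nat_lit 8,nat_lit 2,nat_lit 1] [nat_lit 1024,nat_lit 512,nat_lit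 256,nat_lit 128,nat_lit 4] (Cert.rep (nat_lit 1) [] [] [] Cert.nil (Cert.rep (nat_lit 11) [] [] [] Cert.nil (Cert.rep (nat_lit 16) [] [] [] Cert.nil (Cert.rep (nat_lit 26) [] [] [] Cert.nil (Cert.rep (nat_lit 52) [] [] [] Cert.nil (Cert.rep (nat_lit 60) [] [] [] Cert.nil (Cert.rep (nat_lit 68) [nat_lit 16,nat_lit 68] [] [] (Cert.rep (nat_lit 96) [] [] [] (Cert.er (Cert.ro (nat_lit 0) [nat_lit 1,nat_lit 8,nat_lit 16] [nat_lit 8,nat_lit 9,nat_lit 16] [nat_lit 0,nat_lit 1,nat_lit 68,nat_lit 69,nat_lit 10,nat_lit 11,nat_lit 78,nat_lit 79] (Cert.ro (nat_lit 1) [nat_lit 1,nat_lit 2,nat_lit 14,nat_lit 16] [nat_lit 1,nat_lit 14,nat_lit 12,nat_lit 16] [nat_lit 0,nat_lit 1,nat_lit 2,nat_lit 3,nat_lit 39,nat_lit 38,nat_lit 36,nat_lit 37,nat_lit 10,nat_lit 11,nat_lit 9,nat_lit 8,nat_lit 44,nat_lit 45,nat_lit 46,nat_lit 47] (Cert.kw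 (nat_lit 2) (nat_lit 0) (nat_lit 2) (nat_lit 1) )))) (Cert.rep (nat_lit 104) [] [] [] (Cert.er (Cert.ro (nat_lit 0) [nat_lit 1,nat_lit 8,nat_lit 16] [nat_lit 8,nat_lit 9,nat_lit 16] [nat_lit 0,nat_lit 1,nat_lit 68,nat_lit 69,nat_lit 10,nat_lit 11,nat_lit 78,nat_lit 79] (Cert.ro (nat_lit 1) [nat_lit 1,nat_lit 2,nat_lit 14,nat_lit 16] [nat_lit 1,nat_lit 14,nat_lit 12,nat_lit 16] [nat_lit 0,nat_lit 1,nat_lit 3,nat_lit 2,nat_lit 46,nat_lit 47,nat_lit 44,nat_lit 45,nat_lit 10,nat_lit 11,nat_lit 8,nat_lit 9,nat_lit 36,nat_lit 37,nat_lit 39,nat_lit 38] (Cert.kw (nat_lit 2) (nat_lit 0) (nat_lit 2) (nat_lit 1) )))) Cert.nil)) (Cert.rep (nat_lit 76) [nat_lit 16,nat_lit 70] [] [] (Cert.rep (nat_lit 96) [] [] [] (Cert.er (Cert.ro (nat_lit 0) [nat_lit 1,nat_lit 8,nat_lit 16] [nat_lit 8,nat_lit 9,nat_lit 16] [nat_lit 0,nat_lit 1,nat_lit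 76,nat_lit 77,nat_lit 10,nat_lit 11,nat_lit 71,nat_lit 70] (Cert.ro (nat_lit 1) [nat_lit 1,nat_lit 2,nat_lit 14,nat_lit 16] [nat_lit 1,nat_lit 14,nat_lit 12,nat_lit 16] [nat_lit 0,nat_lit 1,nat_lit 2,nat_lit 3,nat_lit 47,nat_lit 46,nat_lit 44,nat_lit 45,nat_lit 10,nat_lit 11,nat_lit 9,nat_lit 8,nat_lit 37,nat_lit 36,nat_lit 39,nat_lit 38] (Cert.lf (Leaf.st (nat_lit 2) (nat_lit 1) (nat_lit 1) (Leaf.cf (nat_lit 1))))))) (Cert.rep (nat_lit 104) [] [] [] (Cert.er (Cert.ro (nat_lit 0) [nat_lit 1,nat_lit 8,nat_lit 16] [nat_lit 8,nat_lit 9,nat_lit 16] [nat_lit 0,nat_lit 1,nat_lit 76,nat_lit 77,nat_lit 10,nat_lit 11,nat_lit 71,nat_lit 70] (Cert.ro (nat_lit 1) [nat_lit 1,nat_lit 2,nat_lit 14,nat_lit 16] [nat_lit 1,nat_lit 14,nat_lit 12,nat_lit 16] [nat_lit 0,nat_lit 1,nat_lit 3,nat_lit 2,nat_lit 39,nat_lit 38,nat_lit 37,nat_lit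 36,nat_lit 10,nat_lit 11,nat_lit 8,nat_lit 9,nat_lit 44,nat_lit 45,nat_lit 47,nat_lit 46] (Cert.lf (Leaf.st (nat_lit 2) (nat_lit 1) (nat_lit 1) (Leaf.cf (nat_lit 1))))))) Cert.nil)) (Cert.rep (nat_lit 84) [nat_lit 16,nat_lit 68] [] [] (Cert.rep (nat_lit 112) [] [] [] (Cert.er (Cert.ro (nat_lit 0) [nat_lit 1,nat_lit 8,nat_lit 16] [nat_lit 8,nat_lit 9,nat_lit 16] [nat_lit 0,nat_lit 1,nat_lit 84,nat_lit 85,nat_lit 10,nat_lit 11,nat_lit 94,nat_lit 95] (Cert.ro (nat_lit 1) [nat_lit 1,nat_lit 2,nat_lit 14,nat_lit 16] [nat_lit 1,nat_lit 14,nat_lit 12,nat_lit 16] [nat_lit 0,nat_lit 1,nat_lit 3,nat_lit 2,nat_lit 39,nat_lit 38,nat_lit 37,nat_lit 36,nat_lit 10,nat_lit 11,nat_lit 8,nat_lit 9,nat_lit 44,nat_lit 45,nat_lit 47,nat_lit 46] (Cert.lf (Leaf.st (nat_lit 2) (nat_lit 1) (nat_lit 1) (Leaf.cf (nat_lit 1))))))) (Cert.rep (nat_lit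 120) [] [] [] (Cert.er (Cert.ro (nat_lit 0) [nat_lit 1,nat_lit 8,nat_lit 16] [nat_lit 8,nat_lit 9,nat_lit 16] [nat_lit 0,nat_lit 1,nat_lit 84,nat_lit 85,nat_lit 10,nat_lit 11,nat_lit 94,nat_lit 95] (Cert.ro (nat_lit 1) [nat_lit 1,nat_lit 2,nat_lit 14,nat_lit 16] [nat_lit 1,nat_lit 14,nat_lit 12,nat_lit 16] [nat_lit 0,nat_lit 1,nat_lit 2,nat_lit 3,nat_lit 46,nat_lit 47,nat_lit 45,nat_lit 44,nat_lit 10,nat_lit 11,nat_lit 9,nat_lit 8,nat_lit 36,nat_lit 37,nat_lit 38,nat_lit 39] (Cert.lf (Leaf.st (nat_lit 2) (nat_lit 1) (nat_lit 1) (Leaf.cf (nat_lit 1))))))) Cert.nil)) (Cert.rep (nat_lit 92) [nat_lit 16,nat_lit 70] [] [] (Cert.rep (nat_lit 112) [] [] [] (Cert.er (Cert.ro (nat_lit 0) [nat_lit 1,nat_lit 8,nat_lit 16] [nat_lit 8,nat_lit 9,nat_lit 16] [nat_lit 0,nat_lit 1,nat_lit 92,nat_lit 93,nat_lit 10,nat_lit 11,nat_lit 87,nat_lit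 86] (Cert.ro (nat_lit 1) [nat_lit 1,nat_lit 2,nat_lit 14,nat_lit 16] [nat_lit 1,nat_lit 14,nat_lit 12,nat_lit 16] [nat_lit 0,nat_lit 1,nat_lit 3,nat_lit 2,nat_lit 47,nat_lit 46,nat_lit 45,nat_lit 44,nat_lit 10,nat_lit 11,nat_lit 8,nat_lit 9,nat_lit 37,nat_lit 36,nat_lit 38,nat_lit 39] (Cert.kw (nat_lit 2) (nat_lit 0) (nat_lit 2) (nat_lit 1) )))) (Cert.rep (nat_lit 120) [] [] [] (Cert.er (Cert.ro (nat_lit 0) [nat_lit 1,nat_lit 8,nat_lit 16] [nat_lit 8,nat_lit 9,nat_lit 16] [nat_lit 0,nat_lit 1,nat_lit 92,nat_lit 93,nat_lit 10,nat_lit 11,nat_lit 87,nat_lit 86] (Cert.ro (nat_lit 1) [nat_lit 1,nat_lit 2,nat_lit 14,nat_lit 16] [nat_lit 1,nat_lit 14,nat_lit 12,nat_lit 16] [nat_lit 0,nat_lit 1,nat_lit 2,nat_lit 3,nat_lit 39,nat_lit 38,nat_lit 36,nat_lit 37,nat_lit 10,nat_lit 11,nat_lit 9,nat_lit 8,nat_lit 44,nat_lit 45,nat_lit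 46,nat_lit 47] (Cert.kw (nat_lit 2) (nat_lit 0) (nat_lit 2) (nat_lit 1) )))) Cert.nil)) Cert.nil)))))))))) Cert.nil))
noncomputable def f132 : Cert :=
  (Cert.st (nat_lit 0) (nat_lit 10) (nat_lit 0) (Cert.sp (nat_lit 1) (Cert.lf (Leaf.pt (nat_lit 9) (nat_lit 1) [nat_lit 10])) (Cert.sp (nat_lit 26) (Cert.lf (Leaf.pt (nat_lit 9) (nat_lit 26) [nat_lit 10])) (Cert.st (nat_lit 0) (nat_lit 26) (nat_lit 0) (Cert.sp (nat_lit 28) (Cert.lf (Leaf.pt (nat_lit 9) (nat_lit 28) [nat_lit 12])) (Cert.st (nat_lit 0) (nat_lit 28) (nat_lit 0) (Cert.sp (nat_lit 32) (Cert.lf (Leaf.pt (nat_lit 12) (nat_lit 32) [nat_lit 26,nat_lit 196])) (Cert.st (nat_lit 0) (nat_lit 32) (nat_lit 0) (Cert.sp (nat_lit 68) (Cert.lf (Leaf.pt (nat_lit 9) (nat_lit 68) [nat_lit 10])) (Cert.st (nat_lit 0) (nat_lit 68) (nat_lit 0) (Cert.sp (nat_lit 92) (Cert.lf (Leaf.pt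 (nat_lit 9) (nat_lit 92) [nat_lit 10])) (Cert.st (nat_lit 0) (nat_lit 92) (nat_lit 0) (Cert.sp (nat_lit 258) (Cert.lf (Leaf.pt (nat_lit 12) (nat_lit 258) [nat_lit 26,nat_lit 586])) (Cert.st (nat_lit 0) (nat_lit 258) (nat_lit 0) (Cert.sp (nat_lit 584) (Cert.lf (Leaf.pt (nat_lit 19) (nat_lit 584) [nat_lit 24,nat_lit 192])) (Cert.st (nat_lit 0) (nat_lit 584) (nat_lit 0) (Cert.sp (nat_lit 652) (Cert.lf (Leaf.pt (nat_lit 12) (nat_lit 652) [nat_lit 28,nat_lit 256])) (Cert.st (nat_lit 0) (nat_lit 652) (nat_lit 0) (Cert.sp (nat_lit 653) (Cert.lf (Leaf.pt (nat_lit 12) (nat_lit 653) [nat_lit 28,nat_lit 256])) (Cert.st (nat_lit 0) (nat_lit 653) (nat_lit 0) (Cert.sp (nat_lit 1030) (Cert.lf (Leaf.pt (nat_lit 18) (nat_lit 1030) [nat_lit 714,nat_lit 1])) (Cert.st (nat_lit 0) (nat_lit 1030) (nat_lit 0) (Cert.sp (nat_lit 1052) (Cert.lf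 (Leaf.pt (nat_lit 13) (nat_lit 1052) [nat_lit 26])) (Cert.st (nat_lit 0) (nat_lit 1052) (nat_lit 0) (Cert.sp (nat_lit 1152) (Cert.lf (Leaf.pt (nat_lit 18) (nat_lit 1152) [nat_lit 524,nat_lit 1])) (Cert.st (nat_lit 0) (nat_lit 1152) (nat_lit 0) (Cert.sp (nat_lit 1178) (Cert.lf (Leaf.pt (nat_lit 13) (nat_lit 1178) [nat_lit 26])) (Cert.st (nat_lit 0) (nat_lit 1178) (nat_lit 0) (Cert.sp (nat_lit 1552) (Cert.lf (Leaf.pt (nat_lit 13) (nat_lit 1552) [nat_lit 848])) (Cert.st (nat_lit 0) (nat_lit 1552) (nat_lit 0) (Cert.sp (nat_lit 1672) (Cert.lf (Leaf.pt (nat_lit 13) (nat_lit 1672) [nat_lit 258])) (Cert.st (nat_lit 0) (nat_lit 1672) (nat_lit 0) (Cert.nl (nat_lit 1) (Cert.sy (nat_lit 0) (Cert.s2 (nat_lit 0) (nat_lit 68) (Cert.o1 (nat_lit 0) (nat_lit 68) (Cert.fu (nat_lit 10) (nat_lit 1) (nat_lit 0) (nat_lit 0) [] [nat_lit 68,nat_lit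 1,nat_lit 16,nat_lit 32,nat_lit 256] [] [] [] [nat_lit 1] [[nat_lit 1]] [[nat_lit 68]] [Ins.fr [nat_lit 0],Ins.ts (nat_lit 3) [nat_lit 0] [],Ins.ts (nat_lit 4) [nat_lit 0] [nat_lit 0,nat_lit 0,nat_lit 0],Ins.ts (nat_lit 1) [nat_lit 0] [],Ins.fr [nat_lit 1],Ins.ts (nat_lit 3) [nat_lit 0] [],Ins.ts (nat_lit 0) [nat_lit 0,nat_lit 0] [],Ins.ts (nat_lit 1) [nat_lit 0] [],Ins.ts (nat_lit 1) [nat_lit 0,nat_lit 1] [],Ins.fr [nat_lit 2],Ins.ts (nat_lit 2) [nat_lit 0] [],Ins.ts (nat_lit 0) [nat_lit 0,nat_lit 0] [],Ins.ts (nat_lit 0) [nat_lit 1,nat_lit 0] [nat_lit 0,nat_lit 1],Ins.ts (nat_lit 1) [nat_lit 0] [],Ins.ts (nat_lit 1) [nat_lit 0,nat_lit 3] [],Ins.ts (nat_lit 1) [nat_lit 0,nat_lit 2,nat_lit 3] [],Ins.ts (nat_lit 1) [nat_lit 0,nat_lit 1,nat_lit 3] [],Ins.ts (nat_lit 1) [nat_lit 0,nat_lit 1,nat_lit 2,nat_lit 3] [],Ins.fr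 [nat_lit 1,nat_lit 3],Ins.ts (nat_lit 0) [nat_lit 0,nat_lit 0] [],Ins.ts (nat_lit 0) [nat_lit 1,nat_lit 2,nat_lit 0] [nat_lit 0,nat_lit 1],Ins.fr [nat_lit 1],Ins.ts (nat_lit 0) [nat_lit 0,nat_lit 0] [nat_lit 3]] [] (Cert.rep (nat_lit 10) [] [nat_lit 68,nat_lit 36,nat_lit 16,nat_lit 8,nat_lit 2,nat_lit 1] [nat_lit 1024,nat_lit 512,nat_lit 256,nat_lit 128,nat_lit 4] (Cert.rep (nat_lit 1) [nat_lit 2,nat_lit 16,nat_lit 36,nat_lit 68] [] [] (Cert.rep (nat_lit 26) [nat_lit 2,nat_lit 68] [] [] (Cert.rep (nat_lit 76) [] [] [] Cert.nil (Cert.rep (nat_lit 78) [] [] [] Cert.nil (Cert.rep (nat_lit 84) [] [] [] Cert.nil (Cert.rep (nat_lit 86) [] [] [] Cert.nil Cert.nil)))) (Cert.rep (nat_lit 60) [] [] [] Cert.nil (Cert.rep (nat_lit 68) [] [] [] (Cert.rep (nat_lit 16) [nat_lit 10] [] [] (Cert.rep (nat_lit 1030) [] [] [] Cert.nil (Cert.rep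 (nat_lit 1031) [] [] [] Cert.nil (Cert.rep (nat_lit 1052) [] [] [] Cert.nil (Cert.rep (nat_lit 1053) [] [] [] Cert.nil Cert.nil)))) (Cert.rep (nat_lit 17) [nat_lit 10] [] [] (Cert.rep (nat_lit 1030) [] [] [] Cert.nil (Cert.rep (nat_lit 1031) [] [] [] Cert.nil (Cert.rep (nat_lit 1052) [] [] [] Cert.nil (Cert.rep (nat_lit 1053) [] [] [] Cert.nil Cert.nil)))) (Cert.rep (nat_lit 84) [nat_lit 10] [] [] (Cert.rep (nat_lit 1030) [] [] [] Cert.nil (Cert.rep (nat_lit 1031) [] [] [] Cert.nil (Cert.rep (nat_lit 1052) [] [] [] Cert.nil (Cert.rep (nat_lit 1053) [] [] [] Cert.nil Cert.nil)))) (Cert.rep (nat_lit 85) [nat_lit 10] [] [] (Cert.rep (nat_lit 1030) [] [] [] Cert.nil (Cert.rep (nat_lit 1031) [] [] [] Cert.nil (Cert.rep (nat_lit 1052) [] [] [] Cert.nil (Cert.rep (nat_lit 1053) [] [] [] Cert.nil Cert.nil)))) Cert.nil)))) (Cert.rep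 (nat_lit 92) [] [] [] (Cert.rep (nat_lit 16) [nat_lit 10] [] [] (Cert.rep (nat_lit 1185) [] [] [] Cert.nil (Cert.rep (nat_lit 1184) [] [] [] Cert.nil (Cert.rep (nat_lit 1211) [] [] [] Cert.nil (Cert.rep (nat_lit 1210) [] [] [] Cert.nil Cert.nil)))) (Cert.rep (nat_lit 17) [nat_lit 10] [] [] (Cert.rep (nat_lit 1185) [] [] [] Cert.nil (Cert.rep (nat_lit 1184) [] [] [] Cert.nil (Cert.rep (nat_lit 1211) [] [] [] Cert.nil (Cert.rep (nat_lit 1210) [] [] [] Cert.nil Cert.nil)))) (Cert.rep (nat_lit 76) [nat_lit 10] [] [] (Cert.rep (nat_lit 1185) [] [] [] Cert.nil (Cert.rep (nat_lit 1184) [] [] [] Cert.nil (Cert.rep (nat_lit 1211) [] [] [] Cert.nil (Cert.rep (nat_lit 1210) [] [] [] Cert.nil Cert.nil)))) (Cert.rep (nat_lit 77) [nat_lit 10] [] [] (Cert.rep (nat_lit 1185) [] [] [] Cert.nil (Cert.rep (nat_lit 1184) [] [] [] Cert.nil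 (Cert.rep (nat_lit 1211) [] [] [] Cert.nil (Cert.rep (nat_lit 1210) [] [] [] Cert.nil Cert.nil)))) Cert.nil)))) Cert.nil)))) Cert.nil) Cert.nil))) f132_0)))))))))))))))))))))))))))))))))))
theorem fin132 : finOK DB PT 88 t88 132 t132 (nat_lit 0xf0000000f0000000f0000000f000000000f0000000f00000f0000000f0000000f0000000f000000000f0000000f00000f0000000f0000000f0000000f0000300000c0300000c00c0000030c0000030c0000030c000003300000c0300000c0300000c0300000c00c0000030c0000030c0000030c000003300000c0300000c000000000000000000000c3000000c3000003c0000003c00000000000000000000000000000000000000330000003300000003300000033000000000000000000f0000000f0000000f00c0cf0f00303f000000000000000000300000c0300000c00000000000000000000000000000000f00000f0f0f0f0f0fcfc0303fc03fc03) f132 = true := by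
  decide +kernel
noncomputable def f140_0 : Cert :=
  Cert.s2 (nat_lit 0) (nat_lit 68) (Cert.o1 (nat_lit 0) (nat_lit 68) (Cert.fu (nat_lit 10) (nat_lit 1) (nat_lit 0) (nat_lit 0) [] [nat_lit 68,nat_lit 1,nat_lit 16,nat_lit 32] [] [] [] [nat_lit 1] [[nat_lit 1]] [[nat_lit 68]] [Ins.fr [nat_lit 0],Ins.ts (nat_lit 3) [nat_lit 0] [],Ins.ts (nat_lit 4) [nat_lit 0] [nat_lit 0,nat_lit 0,nat_lit 0],Ins.ts (nat_lit 1) [nat_lit 0] [],Ins.fr [nat_lit 1],Ins.ts (nat_lit 3) [nat_lit 0] [],Ins.ts (nat_lit 0) [nat_lit 0,nat_lit 0] [],Ins.ts (nat_lit 1) [nat_lit 0] [],Ins.ts (nat_lit 1) [nat_lit 0,nat_lit 1] [],Ins.fr [nat_lit 2],Ins.ts (nat_lit 2) [nat_lit 0] [],Ins.ts (nat_lit 0) [nat_lit 0,nat_lit 0] [],Ins.ts (nat_lit 0) [nat_lit 1,nat_lit 0] [nat_lit 0,nat_lit 1],Ins.ts (nat_lit 1) [nat_lit 0] [],Ins.ts (nat_lit 1) [nat_lit 0,nat_lit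 3] [],Ins.ts (nat_lit 1) [nat_lit 0,nat_lit 2,nat_lit 3] [],Ins.ts (nat_lit 1) [nat_lit 0,nat_lit 1,nat_lit 3] [],Ins.ts (nat_lit 1) [nat_lit 0,nat_lit 1,nat_lit 2,nat_lit 3] [],Ins.fr [nat_lit 1,nat_lit 3],Ins.ts (nat_lit 0) [nat_lit 0,nat_lit 0] [],Ins.ts (nat_lit 0) [nat_lit 1,nat_lit 2,nat_lit 0] [nat_lit 0,nat_lit 1]] [] (Cert.rep (nat_lit 10) [] [nat_lit 68,nat_lit 36,nat_lit 16,nat_lit 8,nat_lit 2,nat_lit 1] [nat_lit 1024,nat_lit 512,nat_lit 256,nat_lit 128,nat_lit 4] (Cert.rep (nat_lit 1) [nat_lit 2,nat_lit 16,nat_lit 36,nat_lit 68] [] [] (Cert.rep (nat_lit 26) [nat_lit 2,nat_lit 68] [] [] (Cert.rep (nat_lit 76) [] [] [] Cert.nil (Cert.rep (nat_lit 78) [] [] [] Cert.nil (Cert.rep (nat_lit 84) [] [] [] Cert.nil (Cert.rep (nat_lit 86) [] [] [] Cert.nil Cert.nil)))) (Cert.rep (nat_lit 60) [] [] [] Cert.nil (Cert.rep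 (nat_lit 68) [] [] [] (Cert.rep (nat_lit 16) [] [] [] Cert.nil (Cert.rep (nat_lit 17) [] [] [] Cert.nil (Cert.rep (nat_lit 84) [] [] [] Cert.nil (Cert.rep (nat_lit 85) [] [] [] Cert.nil Cert.nil)))) (Cert.rep (nat_lit 92) [] [] [] (Cert.rep (nat_lit 16) [] [] [] Cert.nil (Cert.rep (nat_lit 17) [] [] [] Cert.nil (Cert.rep (nat_lit 76) [] [] [] Cert.nil (Cert.rep (nat_lit 77) [] [] [] Cert.nil Cert.nil)))) Cert.nil)))) Cert.nil) Cert.nil))) (Cert.root (nat_lit 32) [] [nat_lit 8,nat_lit 4] [nat_lit 0,nat_lit 1,nat_lit 2,nat_lit 3,nat_lit 4] [Ins.fr [nat_lit 0],Ins.ts (nat_lit 0) [nat_lit 0,nat_lit 0] [],Ins.ts (nat_lit 1) [nat_lit 0] [],Ins.ts (nat_lit 1) [nat_lit 0,nat_lit 1] [],Ins.fr [nat_lit 1],Ins.ts (nat_lit 1) [nat_lit 0,nat_lit 0] [],Ins.ts (nat_lit 0) [nat_lit 1,nat_lit 0,nat_lit 1] [nat_lit 0,nat_lit 0,nat_lit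 0],Ins.ts (nat_lit 1) [nat_lit 0,nat_lit 0,nat_lit 0,nat_lit 0] [],Ins.df [nat_lit 0,nat_lit 0],Ins.df [nat_lit 0,nat_lit 0]] (Cert.rep (nat_lit 10) [nat_lit 2,nat_lit 16,nat_lit 36,nat_lit 68] [nat_lit 68,nat_lit 36,nat_lit 16,nat_lit 8,nat_lit 2,nat_lit 1] [nat_lit 1024,nat_lit 512,nat_lit 256,nat_lit 128,nat_lit 4] (Cert.rep (nat_lit 1) [] [] [] Cert.nil (Cert.rep (nat_lit 11) [] [] [] Cert.nil (Cert.rep (nat_lit 16) [] [] [] Cert.nil (Cert.rep (nat_lit 26) [] [] [] Cert.nil (Cert.rep (nat_lit 52) [] [] [] Cert.nil (Cert.rep (nat_lit 60) [] [] [] Cert.nil (Cert.rep (nat_lit 68) [nat_lit 16,nat_lit 68] [] [] (Cert.rep (nat_lit 96) [] [] [] (Cert.er (Cert.ro (nat_lit 0) [nat_lit 1,nat_lit 8,nat_lit 16] [nat_lit 8,nat_lit 9,nat_lit 16] [nat_lit 0,nat_lit 1,nat_lit 68,nat_lit 69,nat_lit 10,nat_lit 11,nat_lit 78,nat_lit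 79] (Cert.ro (nat_lit 1) [nat_lit 1,nat_lit 2,nat_lit 14,nat_lit 16] [nat_lit 1,nat_lit 14,nat_lit 12,nat_lit 16] [nat_lit 0,nat_lit 1,nat_lit 2,nat_lit 3,nat_lit 39,nat_lit 38,nat_lit 36,nat_lit 37,nat_lit 10,nat_lit 11,nat_lit 9,nat_lit 8,nat_lit 44,nat_lit 45,nat_lit 46,nat_lit 47] (Cert.kw (nat_lit 2) (nat_lit 0) (nat_lit 2) (nat_lit 1) )))) (Cert.rep (nat_lit 104) [] [] [] (Cert.er (Cert.ro (nat_lit 0) [nat_lit 1,nat_lit 8,nat_lit 16] [nat_lit 8,nat_lit 9,nat_lit 16] [nat_lit 0,nat_lit 1,nat_lit 68,nat_lit 69,nat_lit 10,nat_lit 11,nat_lit 78,nat_lit 79] (Cert.ro (nat_lit 1) [nat_lit 1,nat_lit 2,nat_lit 14,nat_lit 16] [nat_lit 1,nat_lit 14,nat_lit 12,nat_lit 16] [nat_lit 0,nat_lit 1,nat_lit 3,nat_lit 2,nat_lit 46,nat_lit 47,nat_lit 44,nat_lit 45,nat_lit 10,nat_lit 11,nat_lit 8,nat_lit 9,nat_lit 36,nat_lit 37,nat_lit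 39,nat_lit 38] (Cert.kw (nat_lit 2) (nat_lit 0) (nat_lit 2) (nat_lit 1) )))) Cert.nil)) (Cert.rep (nat_lit 76) [nat_lit 16,nat_lit 70] [] [] (Cert.rep (nat_lit 96) [] [] [] (Cert.er (Cert.ro (nat_lit 0) [nat_lit 1,nat_lit 8,nat_lit 16] [nat_lit 8,nat_lit 9,nat_lit 16] [nat_lit 0,nat_lit 1,nat_lit 76,nat_lit 77,nat_lit 10,nat_lit 11,nat_lit 71,nat_lit 70] (Cert.ro (nat_lit 1) [nat_lit 1,nat_lit 2,nat_lit 14,nat_lit 16] [nat_lit 1,nat_lit 14,nat_lit 12,nat_lit 16] [nat_lit 0,nat_lit 1,nat_lit 2,nat_lit 3,nat_lit 47,nat_lit 46,nat_lit 44,nat_lit 45,nat_lit 10,nat_lit 11,nat_lit 9,nat_lit 8,nat_lit 37,nat_lit 36,nat_lit 39,nat_lit 38] (Cert.lf (Leaf.st (nat_lit 2) (nat_lit 1) (nat_lit 1) (Leaf.cf (nat_lit 1))))))) (Cert.rep (nat_lit 104) [] [] [] (Cert.er (Cert.ro (nat_lit 0) [nat_lit 1,nat_lit 8,nat_lit 16] [nat_lit 8,nat_lit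 9,nat_lit 16] [nat_lit 0,nat_lit 1,nat_lit 76,nat_lit 77,nat_lit 10,nat_lit 11,nat_lit 71,nat_lit 70] (Cert.ro (nat_lit 1) [nat_lit 1,nat_lit 2,nat_lit 14,nat_lit 16] [nat_lit 1,nat_lit 14,nat_lit 12,nat_lit 16] [nat_lit 0,nat_lit 1,nat_lit 3,nat_lit 2,nat_lit 39,nat_lit 38,nat_lit 37,nat_lit 36,nat_lit 10,nat_lit 11,nat_lit 8,nat_lit 9,nat_lit 44,nat_lit 45,nat_lit 47,nat_lit 46] (Cert.lf (Leaf.st (nat_lit 2) (nat_lit 1) (nat_lit 1) (Leaf.cf (nat_lit 1))))))) Cert.nil)) (Cert.rep (nat_lit 84) [nat_lit 16,nat_lit 68] [] [] (Cert.rep (nat_lit 112) [] [] [] (Cert.er (Cert.ro (nat_lit 0) [nat_lit 1,nat_lit 8,nat_lit 16] [nat_lit 8,nat_lit 9,nat_lit 16] [nat_lit 0,nat_lit 1,nat_lit 84,nat_lit 85,nat_lit 10,nat_lit 11,nat_lit 94,nat_lit 95] (Cert.ro (nat_lit 1) [nat_lit 1,nat_lit 2,nat_lit 14,nat_lit 16] [nat_lit 1,nat_lit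 14,nat_lit 12,nat_lit 16] [nat_lit 0,nat_lit 1,nat_lit 3,nat_lit 2,nat_lit 39,nat_lit 38,nat_lit 37,nat_lit 36,nat_lit 10,nat_lit 11,nat_lit 8,nat_lit 9,nat_lit 44,nat_lit 45,nat_lit 47,nat_lit 46] (Cert.lf (Leaf.st (nat_lit 2) (nat_lit 1) (nat_lit 1) (Leaf.cf (nat_lit 1))))))) (Cert.rep (nat_lit 120) [] [] [] (Cert.er (Cert.ro (nat_lit 0) [nat_lit 1,nat_lit 8,nat_lit 16] [nat_lit 8,nat_lit 9,nat_lit 16] [nat_lit 0,nat_lit 1,nat_lit 84,nat_lit 85,nat_lit 10,nat_lit 11,nat_lit 94,nat_lit 95] (Cert.ro (nat_lit 1) [nat_lit 1,nat_lit 2,nat_lit 14,nat_lit 16] [nat_lit 1,nat_lit 14,nat_lit 12,nat_lit 16] [nat_lit 0,nat_lit 1,nat_lit 2,nat_lit 3,nat_lit 46,nat_lit 47,nat_lit 45,nat_lit 44,nat_lit 10,nat_lit 11,nat_lit 9,nat_lit 8,nat_lit 36,nat_lit 37,nat_lit 38,nat_lit 39] (Cert.lf (Leaf.st (nat_lit 2) (nat_lit 1) (nat_lit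 1) (Leaf.cf (nat_lit 1))))))) Cert.nil)) (Cert.rep (nat_lit 92) [nat_lit 16,nat_lit 70] [] [] (Cert.rep (nat_lit 112) [] [] [] (Cert.er (Cert.ro (nat_lit 0) [nat_lit 1,nat_lit 8,nat_lit 16] [nat_lit 8,nat_lit 9,nat_lit 16] [nat_lit 0,nat_lit 1,nat_lit 92,nat_lit 93,nat_lit 10,nat_lit 11,nat_lit 87,nat_lit 86] (Cert.ro (nat_lit 1) [nat_lit 1,nat_lit 2,nat_lit 14,nat_lit 16] [nat_lit 1,nat_lit 14,nat_lit 12,nat_lit 16] [nat_lit 0,nat_lit 1,nat_lit 3,nat_lit 2,nat_lit 47,nat_lit 46,nat_lit 45,nat_lit 44,nat_lit 10,nat_lit 11,nat_lit 8,nat_lit 9,nat_lit 37,nat_lit 36,nat_lit 38,nat_lit 39] (Cert.kw (nat_lit 2) (nat_lit 0) (nat_lit 2) (nat_lit 1) )))) (Cert.rep (nat_lit 120) [] [] [] (Cert.er (Cert.ro (nat_lit 0) [nat_lit 1,nat_lit 8,nat_lit 16] [nat_lit 8,nat_lit 9,nat_lit 16] [nat_lit 0,nat_lit 1,nat_lit 92,nat_lit 93,nat_lit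 10,nat_lit 11,nat_lit 87,nat_lit 86] (Cert.ro (nat_lit 1) [nat_lit 1,nat_lit 2,nat_lit 14,nat_lit 16] [nat_lit 1,nat_lit 14,nat_lit 12,nat_lit 16] [nat_lit 0,nat_lit 1,nat_lit 2,nat_lit 3,nat_lit 39,nat_lit 38,nat_lit 36,nat_lit 37,nat_lit 10,nat_lit 11,nat_lit 9,nat_lit 8,nat_lit 44,nat_lit 45,nat_lit 46,nat_lit 47] (Cert.kw (nat_lit 2) (nat_lit 0) (nat_lit 2) (nat_lit 1) )))) Cert.nil)) Cert.nil)))))))))) Cert.nil))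
noncomputable def f140 : Cert :=
  (Cert.st (nat_lit 0) (nat_lit 10) (nat_lit 0) (Cert.sp (nat_lit 1) (Cert.lf (Leaf.pt (nat_lit 9) (nat_lit 1) [nat_lit 10])) (Cert.sp (nat_lit 26) (Cert.lf (Leaf.pt (nat_lit 9) (nat_lit 26) [nat_lit 10])) (Cert.st (nat_lit 0) (nat_lit 26) (nat_lit 0) (Cert.sp (nat_lit 28) (Cert.lf (Leaf.pt (nat_lit 9) (nat_lit 28) [nat_lit 12])) (Cert.st (nat_lit 0) (nat_lit 28) (nat_lit 0) (Cert.sp (nat_lit 32) (Cert.lf (Leaf.pt (nat_lit 12) (nat_lit 32) [nat_lit 26,nat_lit 196])) (Cert.st (nat_lit 0) (nat_lit 32) (nat_lit 0) (Cert.sp (nat_lit 68) (Cert.lf (Leaf.pt (nat_lit 9) (nat_lit 68) [nat_lit 10])) (Cert.st (nat_lit 0) (nat_lit 68) (nat_lit 0) (Cert.sp (nat_lit 258) (Cert.lf (Leaf.pt (nat_lit 12) (nat_lit 258) [nat_lit 26,nat_lit 586])) (Cert.st (nat_lit 0) (nat_lit 258) (nat_lit 0) (Cert.sp (nat_lit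 584) (Cert.lf (Leaf.pt (nat_lit 19) (nat_lit 584) [nat_lit 24,nat_lit 192])) (Cert.st (nat_lit 0) (nat_lit 584) (nat_lit 0) (Cert.sp (nat_lit 652) (Cert.lf (Leaf.pt (nat_lit 12) (nat_lit 652) [nat_lit 28,nat_lit 256])) (Cert.st (nat_lit 0) (nat_lit 652) (nat_lit 0) (Cert.nl (nat_lit 1) (Cert.sy (nat_lit 0) f140_0))))))))))))))))))
theorem fin140 : finOK DB PT 88 t88 140 t140 (nat_lit 0xc3000000c3000003c0000003c00000000000000000000000000000000000000330000003300000003300000033000000000000000000f0000000f0000000f00c0cf0f00303f000000000000000000300000c0300000c00000000000000000000000000000000f00000f0f0f0f0f0fcfc0303fc03fc03) f140 = true := by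
  decide +kernel
noncomputable def f252_0 : Cert :=
  Cert.rep (nat_lit 64) [] [] [] (Cert.er (Cert.ro (nat_lit 0) [nat_lit 1,nat_lit 8,nat_lit 16] [nat_lit 8,nat_lit 9,nat_lit 16] [nat_lit 0,nat_lit 1,nat_lit 8,nat_lit 9,nat_lit 16,nat_lit 17,nat_lit 24,nat_lit 25] (Cert.ro (nat_lit 1) [nat_lit 1,nat_lit 2,nat_lit 14,nat_lit 16] [nat_lit 1,nat_lit 14,nat_lit 12,nat_lit 16] [nat_lit 0,nat_lit 1,nat_lit 51,nat_lit 50,nat_lit 72,nat_lit 73,nat_lit 123,nat_lit 122,nat_lit 16,nat_lit 17,nat_lit 35,nat_lit 34,nat_lit 88,nat_lit 89,nat_lit 107,nat_lit 106] (Cert.lw (nat_lit 0) (nat_lit 2) (nat_lit 1) (Cert.s2 (nat_lit 0) (nat_lit 48) (Cert.o1 (nat_lit 0) (nat_lit 48) (Cert.fu (nat_lit 16) (nat_lit 1) (nat_lit 0) (nat_lit 0) [] [nat_lit 48,nat_lit 2,nat_lit 8,nat_lit 68] [] [] [] [nat_lit 1] [[nat_lit 1]] [[nat_lit 48]] [Ins.fr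 [nat_lit 0],Ins.ts (nat_lit 3) [nat_lit 0] [],Ins.ts (nat_lit 4) [nat_lit 0] [nat_lit 0,nat_lit 0,nat_lit 0],Ins.ts (nat_lit 1) [nat_lit 0] [],Ins.fr [nat_lit 1],Ins.ts (nat_lit 1) [nat_lit 0,nat_lit 0] [],Ins.ts (nat_lit 1) [nat_lit 0,nat_lit 0,nat_lit 1] [],Ins.ts (nat_lit 0) [nat_lit 0,nat_lit 0,nat_lit 0,nat_lit 0] [],Ins.fr [nat_lit 2],Ins.ts (nat_lit 3) [nat_lit 0] [],Ins.ts (nat_lit 0) [nat_lit 0,nat_lit 0] [],Ins.ts (nat_lit 2) [nat_lit 0,nat_lit 3] [],Ins.ts (nat_lit 1) [nat_lit 0] [],Ins.ts (nat_lit 2) [nat_lit 1,nat_lit 0,nat_lit 3] [],Ins.ts (nat_lit 0) [nat_lit 1,nat_lit 0,nat_lit 1] [nat_lit 0],Ins.fr [nat_lit 1,nat_lit 1,nat_lit 3],Ins.ts (nat_lit 0) [nat_lit 0,nat_lit 0] [],Ins.ts (nat_lit 3) [nat_lit 0] [],Ins.ts (nat_lit 0) [nat_lit 2,nat_lit 0,nat_lit 2] [nat_lit 0]] [] (Cert.rep (nat_lit 16) [] [nat_lit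 64,nat_lit 32,nat_lit 16,nat_lit 8,nat_lit 2,nat_lit 1] [nat_lit 128,nat_lit 4] (Cert.rep (nat_lit 1) [] [] [] Cert.nil Cert.nil) (Cert.rep (nat_lit 24) [] [nat_lit 134,nat_lit 32,nat_lit 16,nat_lit 8,nat_lit 1] [nat_lit 4,nat_lit 68,nat_lit 2] (Cert.rep (nat_lit 1) [nat_lit 8] [] [] (Cert.rep (nat_lit 140) [nat_lit 140] [] [] (Cert.rep (nat_lit 8) [] [] [] Cert.nil (Cert.rep (nat_lit 9) [] [] [] Cert.nil (Cert.rep (nat_lit 134) [] [] [] Cert.nil (Cert.rep (nat_lit 135) [] [] [] Cert.nil Cert.nil)))) (Cert.rep (nat_lit 141) [nat_lit 140] [] [] (Cert.rep (nat_lit 8) [] [] [] Cert.nil (Cert.rep (nat_lit 9) [] [] [] Cert.nil (Cert.rep (nat_lit 134) [] [] [] Cert.nil (Cert.rep (nat_lit 135) [] [] [] Cert.nil Cert.nil)))) (Cert.rep (nat_lit 150) [] [] [] Cert.nil (Cert.rep (nat_lit 151) [] [] [] Cert.nil Cert.nil)))) Cert.nil)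 (Cert.rep (nat_lit 28) [] [nat_lit 70,nat_lit 32,nat_lit 18,nat_lit 14,nat_lit 1] [nat_lit 128,nat_lit 4,nat_lit 2] (Cert.rep (nat_lit 1) [] [] [] Cert.nil Cert.nil) (Cert.rep (nat_lit 156) [] [nat_lit 134,nat_lit 68,nat_lit 40,nat_lit 24,nat_lit 1] [nat_lit 8,nat_lit 4,nat_lit 2] (Cert.rep (nat_lit 1) [nat_lit 24] [] [] (Cert.rep (nat_lit 94) [] [] [] Cert.nil (Cert.rep (nat_lit 95) [] [] [] Cert.nil (Cert.rep (nat_lit 192) [nat_lit 94] [] [] (Cert.rep (nat_lit 68) [] [] [] Cert.nil (Cert.rep (nat_lit 69) [] [] [] Cert.nil (Cert.rep (nat_lit 134) [] [] [] Cert.nil (Cert.rep (nat_lit 135) [] [] [] Cert.nil Cert.nil)))) (Cert.rep (nat_lit 193) [nat_lit 94] [] [] (Cert.rep (nat_lit 68) [] [] [] Cert.nil (Cert.rep (nat_lit 69) [] [] [] Cert.nil (Cert.rep (nat_lit 134) [] [] [] Cert.nil (Cert.rep (nat_lit 135) [] [] [] Cert.nil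 Cert.nil)))) Cert.nil)))) Cert.nil) Cert.nil)))))) (Cert.o1 (nat_lit 0) (nat_lit 8) (Cert.fu (nat_lit 16) (nat_lit 1) (nat_lit 0) (nat_lit 0) [] [nat_lit 8,nat_lit 41,nat_lit 32] [] [] [] [nat_lit 1] [[nat_lit 1]] [[nat_lit 8]] [Ins.fr [nat_lit 0],Ins.ts (nat_lit 3) [nat_lit 0] [],Ins.ts (nat_lit 4) [nat_lit 0] [nat_lit 0,nat_lit 0,nat_lit 0],Ins.ts (nat_lit 1) [nat_lit 0] [],Ins.fr [nat_lit 1],Ins.ts (nat_lit 2) [nat_lit 0] [],Ins.ts (nat_lit 0) [nat_lit 0,nat_lit 0] [],Ins.ts (nat_lit 4) [nat_lit 0,nat_lit 1,nat_lit 2] [nat_lit 0,nat_lit 0,nat_lit 1],Ins.ts (nat_lit 1) [nat_lit 0] [],Ins.ts (nat_lit 4) [nat_lit 0,nat_lit 2] [nat_lit 0,nat_lit 0,nat_lit 2],Ins.ts (nat_lit 1) [nat_lit 0,nat_lit 1,nat_lit 2] [],Ins.fr [nat_lit 2],Ins.ts (nat_lit 2) [nat_lit 0] [],Ins.ts (nat_lit 0) [nat_lit 0,nat_lit 0] [],Ins.ts (nat_lit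 1) [nat_lit 0] [],Ins.ts (nat_lit 0) [nat_lit 1,nat_lit 0] [nat_lit 0,nat_lit 1],Ins.ts (nat_lit 1) [nat_lit 0,nat_lit 3] [],Ins.ts (nat_lit 1) [nat_lit 0,nat_lit 1] [],Ins.ts (nat_lit 4) [nat_lit 0,nat_lit 1] [nat_lit 0,nat_lit 0,nat_lit 2],Ins.ts (nat_lit 1) [nat_lit 0,nat_lit 2,nat_lit 3] [],Ins.ts (nat_lit 1) [nat_lit 0,nat_lit 1,nat_lit 2] [],Ins.ts (nat_lit 4) [nat_lit 0,nat_lit 2,nat_lit 3] [nat_lit 0,nat_lit 0,nat_lit 2]] [(nat_lit 3,nat_lit 0),(nat_lit 2,nat_lit 0)] (Cert.rep (nat_lit 16) [] [nat_lit 64,nat_lit 32,nat_lit 16,nat_lit 8,nat_lit 2,nat_lit 1] [nat_lit 128,nat_lit 4] (Cert.rep (nat_lit 1) [nat_lit 8,nat_lit 32,nat_lit 64] [] [] (Cert.rep (nat_lit 90) [] [] [] Cert.nil Cert.nil) Cert.nil) (Cert.rep (nat_lit 24) [] [nat_lit 134,nat_lit 32,nat_lit 16,nat_lit 8,nat_lit 1] [nat_lit 4,nat_lit 68,nat_lit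 2] (Cert.rep (nat_lit 1) [nat_lit 8] [] [] (Cert.rep (nat_lit 156) [] [] [] Cert.nil (Cert.rep (nat_lit 157) [] [] [] Cert.nil Cert.nil)) Cert.nil) (Cert.rep (nat_lit 28) [] [nat_lit 70,nat_lit 32,nat_lit 18,nat_lit 14,nat_lit 1] [nat_lit 128,nat_lit 4,nat_lit 2] (Cert.rep (nat_lit 1) [nat_lit 32,nat_lit 70] [] [] (Cert.rep (nat_lit 32) [] [] [] Cert.nil (Cert.rep (nat_lit 90) [] [] [] Cert.nil (Cert.rep (nat_lit 104) [] [] [] Cert.nil Cert.nil))) Cert.nil) (Cert.rep (nat_lit 156) [] [nat_lit 134,nat_lit 68,nat_lit 40,nat_lit 24,nat_lit 1] [nat_lit 8,nat_lit 4,nat_lit 2] (Cert.rep (nat_lit 1) [nat_lit 24,nat_lit 68] [] [] (Cert.rep (nat_lit 24) [] [] [] Cert.nil (Cert.rep (nat_lit 25) [] [] [] Cert.nil (Cert.rep (nat_lit 216) [] [] [] Cert.nil (Cert.rep (nat_lit 217) [] [] [] Cert.nil Cert.nil)))) Cert.nil) Cert.nil)))))))))))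 (Cert.rep (nat_lit 80) [] [] [] (Cert.er (Cert.ro (nat_lit 0) [nat_lit 1,nat_lit 8,nat_lit 16] [nat_lit 8,nat_lit 9,nat_lit 16] [nat_lit 0,nat_lit 1,nat_lit 8,nat_lit 9,nat_lit 16,nat_lit 17,nat_lit 24,nat_lit 25] (Cert.ro (nat_lit 1) [nat_lit 1,nat_lit 2,nat_lit 14,nat_lit 16] [nat_lit 1,nat_lit 14,nat_lit 12,nat_lit 16] [nat_lit 0,nat_lit 1,nat_lit 51,nat_lit 50,nat_lit 88,nat_lit 89,nat_lit 107,nat_lit 106,nat_lit 16,nat_lit 17,nat_lit 35,nat_lit 34,nat_lit 72,nat_lit 73,nat_lit 123,nat_lit 122] (Cert.fu (nat_lit 16) (nat_lit 2) (nat_lit 16) (nat_lit 1) [nat_lit 1] [nat_lit 1,nat_lit 106,nat_lit 32] [] [] [nat_lit 64,nat_lit 32,nat_lit 16,nat_lit 8,nat_lit 4,nat_lit 2,nat_lit 1] [nat_lit 1] [[nat_lit 51,nat_lit 1]] [[nat_lit 1],[nat_lit 16,nat_lit 1],[nat_lit 106,nat_lit 1]] [Ins.fr [nat_lit 0],Ins.ts (nat_lit 3) [nat_lit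 0] [],Ins.ts (nat_lit 4) [nat_lit 0] [nat_lit 0,nat_lit 0,nat_lit 0],Ins.ts (nat_lit 1) [nat_lit 0] [],Ins.fr [nat_lit 1],Ins.ts (nat_lit 4) [nat_lit 0] [nat_lit 0,nat_lit 0,nat_lit 2],Ins.ts (nat_lit 1) [nat_lit 0] [],Ins.ts (nat_lit 0) [nat_lit 0,nat_lit 0] [nat_lit 1],Ins.fr [nat_lit 2],Ins.ts (nat_lit 2) [nat_lit 0] [],Ins.ts (nat_lit 0) [nat_lit 0,nat_lit 0] [],Ins.ts (nat_lit 3) [nat_lit 1,nat_lit 0] [],Ins.ts (nat_lit 1) [nat_lit 0] [],Ins.ts (nat_lit 0) [nat_lit 1,nat_lit 0,nat_lit 1] [nat_lit 0]] [] (Cert.rep (nat_lit 16) [] [nat_lit 64,nat_lit 32,nat_lit 16,nat_lit 8,nat_lit 2,nat_lit 1] [nat_lit 4] (Cert.rep (nat_lit 1) [nat_lit 8] [] [] (Cert.rep (nat_lit 50) [] [] [] Cert.nil Cert.nil) Cert.nil) Cert.nil))))) Cert.nil)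
noncomputable def f252_1 : Cert :=
  Cert.rep (nat_lit 66) [] [] [] (Cert.er (Cert.ro (nat_lit 0) [nat_lit 1,nat_lit 8,nat_lit 16] [nat_lit 8,nat_lit 9,nat_lit 16] [nat_lit 0,nat_lit 1,nat_lit 10,nat_lit 11,nat_lit 16,nat_lit 17,nat_lit 26,nat_lit 27] (Cert.ro (nat_lit 1) [nat_lit 1,nat_lit 2,nat_lit 14,nat_lit 16] [nat_lit 1,nat_lit 14,nat_lit 12,nat_lit 16] [nat_lit 0,nat_lit 1,nat_lit 51,nat_lit 50,nat_lit 72,nat_lit 73,nat_lit 123,nat_lit 122,nat_lit 16,nat_lit 17,nat_lit 35,nat_lit 34,nat_lit 88,nat_lit 89,nat_lit 107,nat_lit 106] (Cert.lw (nat_lit 0) (nat_lit 2) (nat_lit 1) (Cert.s2 (nat_lit 0) (nat_lit 48) (Cert.o1 (nat_lit 0) (nat_lit 48) (Cert.fu (nat_lit 16) (nat_lit 1) (nat_lit 0) (nat_lit 0) [] [nat_lit 48,nat_lit 2,nat_lit 8,nat_lit 68] [] [] [] [nat_lit 1] [[nat_lit 1]] [[nat_lit 48]] [Ins.fr [nat_lit 0],Ins.ts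 (nat_lit 3) [nat_lit 0] [],Ins.ts (nat_lit 4) [nat_lit 0] [nat_lit 0,nat_lit 0,nat_lit 0],Ins.ts (nat_lit 1) [nat_lit 0] [],Ins.fr [nat_lit 1],Ins.ts (nat_lit 1) [nat_lit 0,nat_lit 0] [],Ins.ts (nat_lit 1) [nat_lit 0,nat_lit 0,nat_lit 1] [],Ins.ts (nat_lit 0) [nat_lit 0,nat_lit 0,nat_lit 0,nat_lit 0] [],Ins.fr [nat_lit 2],Ins.ts (nat_lit 3) [nat_lit 0] [],Ins.ts (nat_lit 0) [nat_lit 0,nat_lit 0] [],Ins.ts (nat_lit 2) [nat_lit 0,nat_lit 3] [],Ins.ts (nat_lit 1) [nat_lit 0] [],Ins.ts (nat_lit 2) [nat_lit 1,nat_lit 0,nat_lit 3] [],Ins.ts (nat_lit 0) [nat_lit 1,nat_lit 0,nat_lit 1] [nat_lit 0],Ins.fr [nat_lit 1,nat_lit 1,nat_lit 3],Ins.ts (nat_lit 0) [nat_lit 0,nat_lit 0] [],Ins.ts (nat_lit 3) [nat_lit 0] [],Ins.ts (nat_lit 0) [nat_lit 2,nat_lit 0,nat_lit 2] [nat_lit 0]] [] (Cert.rep (nat_lit 16) [] [nat_lit 64,nat_lit 32,nat_lit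 16,nat_lit 8,nat_lit 2,nat_lit 1] [nat_lit 128,nat_lit 4] (Cert.rep (nat_lit 1) [] [] [] Cert.nil Cert.nil) (Cert.rep (nat_lit 24) [] [nat_lit 134,nat_lit 32,nat_lit 16,nat_lit 8,nat_lit 1] [nat_lit 4,nat_lit 68,nat_lit 2] (Cert.rep (nat_lit 1) [nat_lit 8] [] [] (Cert.rep (nat_lit 140) [nat_lit 140] [] [] (Cert.rep (nat_lit 8) [] [] [] Cert.nil (Cert.rep (nat_lit 9) [] [] [] Cert.nil (Cert.rep (nat_lit 134) [] [] [] Cert.nil (Cert.rep (nat_lit 135) [] [] [] Cert.nil Cert.nil)))) (Cert.rep (nat_lit 141) [nat_lit 140] [] [] (Cert.rep (nat_lit 8) [] [] [] Cert.nil (Cert.rep (nat_lit 9) [] [] [] Cert.nil (Cert.rep (nat_lit 134) [] [] [] Cert.nil (Cert.rep (nat_lit 135) [] [] [] Cert.nil Cert.nil)))) (Cert.rep (nat_lit 150) [] [] [] Cert.nil (Cert.rep (nat_lit 151) [] [] [] Cert.nil Cert.nil)))) Cert.nil) (Cert.rep (nat_lit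 28) [] [nat_lit 70,nat_lit 32,nat_lit 18,nat_lit 14,nat_lit 1] [nat_lit 128,nat_lit 4,nat_lit 2] (Cert.rep (nat_lit 1) [] [] [] Cert.nil Cert.nil) (Cert.rep (nat_lit 156) [] [nat_lit 134,nat_lit 68,nat_lit 40,nat_lit 24,nat_lit 1] [nat_lit 8,nat_lit 4,nat_lit 2] (Cert.rep (nat_lit 1) [nat_lit 24] [] [] (Cert.rep (nat_lit 94) [] [] [] Cert.nil (Cert.rep (nat_lit 95) [] [] [] Cert.nil (Cert.rep (nat_lit 192) [nat_lit 94] [] [] (Cert.rep (nat_lit 68) [] [] [] Cert.nil (Cert.rep (nat_lit 69) [] [] [] Cert.nil (Cert.rep (nat_lit 134) [] [] [] Cert.nil (Cert.rep (nat_lit 135) [] [] [] Cert.nil Cert.nil)))) (Cert.rep (nat_lit 193) [nat_lit 94] [] [] (Cert.rep (nat_lit 68) [] [] [] Cert.nil (Cert.rep (nat_lit 69) [] [] [] Cert.nil (Cert.rep (nat_lit 134) [] [] [] Cert.nil (Cert.rep (nat_lit 135) [] [] [] Cert.nil Cert.nil))))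 Cert.nil)))) Cert.nil) Cert.nil)))))) (Cert.o1 (nat_lit 0) (nat_lit 8) (Cert.fu (nat_lit 16) (nat_lit 1) (nat_lit 0) (nat_lit 0) [] [nat_lit 8,nat_lit 41,nat_lit 32] [] [] [] [nat_lit 1] [[nat_lit 1]] [[nat_lit 8]] [Ins.fr [nat_lit 0],Ins.ts (nat_lit 3) [nat_lit 0] [],Ins.ts (nat_lit 4) [nat_lit 0] [nat_lit 0,nat_lit 0,nat_lit 0],Ins.ts (nat_lit 1) [nat_lit 0] [],Ins.fr [nat_lit 1],Ins.ts (nat_lit 2) [nat_lit 0] [],Ins.ts (nat_lit 0) [nat_lit 0,nat_lit 0] [],Ins.ts (nat_lit 4) [nat_lit 0,nat_lit 1,nat_lit 2] [nat_lit 0,nat_lit 0,nat_lit 1],Ins.ts (nat_lit 1) [nat_lit 0] [],Ins.ts (nat_lit 4) [nat_lit 0,nat_lit 2] [nat_lit 0,nat_lit 0,nat_lit 2],Ins.ts (nat_lit 1) [nat_lit 0,nat_lit 1,nat_lit 2] [],Ins.fr [nat_lit 2],Ins.ts (nat_lit 2) [nat_lit 0] [],Ins.ts (nat_lit 0) [nat_lit 0,nat_lit 0] [],Ins.ts (nat_lit 1) [nat_lit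 0] [],Ins.ts (nat_lit 0) [nat_lit 1,nat_lit 0] [nat_lit 0,nat_lit 1],Ins.ts (nat_lit 1) [nat_lit 0,nat_lit 3] [],Ins.ts (nat_lit 1) [nat_lit 0,nat_lit 1] [],Ins.ts (nat_lit 4) [nat_lit 0,nat_lit 1] [nat_lit 0,nat_lit 0,nat_lit 2],Ins.ts (nat_lit 1) [nat_lit 0,nat_lit 2,nat_lit 3] [],Ins.ts (nat_lit 1) [nat_lit 0,nat_lit 1,nat_lit 2] [],Ins.ts (nat_lit 4) [nat_lit 0,nat_lit 2,nat_lit 3] [nat_lit 0,nat_lit 0,nat_lit 2]] [(nat_lit 3,nat_lit 0),(nat_lit 2,nat_lit 0)] (Cert.rep (nat_lit 16) [] [nat_lit 64,nat_lit 32,nat_lit 16,nat_lit 8,nat_lit 2,nat_lit 1] [nat_lit 128,nat_lit 4] (Cert.rep (nat_lit 1) [nat_lit 8,nat_lit 32,nat_lit 64] [] [] (Cert.rep (nat_lit 90) [] [] [] Cert.nil Cert.nil) Cert.nil) (Cert.rep (nat_lit 24) [] [nat_lit 134,nat_lit 32,nat_lit 16,nat_lit 8,nat_lit 1] [nat_lit 4,nat_lit 68,nat_lit 2] (Cert.rep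 (nat_lit 1) [nat_lit 8] [] [] (Cert.rep (nat_lit 156) [] [] [] Cert.nil (Cert.rep (nat_lit 157) [] [] [] Cert.nil Cert.nil)) Cert.nil) (Cert.rep (nat_lit 28) [] [nat_lit 70,nat_lit 32,nat_lit 18,nat_lit 14,nat_lit 1] [nat_lit 128,nat_lit 4,nat_lit 2] (Cert.rep (nat_lit 1) [nat_lit 32,nat_lit 70] [] [] (Cert.rep (nat_lit 32) [] [] [] Cert.nil (Cert.rep (nat_lit 90) [] [] [] Cert.nil (Cert.rep (nat_lit 104) [] [] [] Cert.nil Cert.nil))) Cert.nil) (Cert.rep (nat_lit 156) [] [nat_lit 134,nat_lit 68,nat_lit 40,nat_lit 24,nat_lit 1] [nat_lit 8,nat_lit 4,nat_lit 2] (Cert.rep (nat_lit 1) [nat_lit 24,nat_lit 68] [] [] (Cert.rep (nat_lit 24) [] [] [] Cert.nil (Cert.rep (nat_lit 25) [] [] [] Cert.nil (Cert.rep (nat_lit 216) [] [] [] Cert.nil (Cert.rep (nat_lit 217) [] [] [] Cert.nil Cert.nil)))) Cert.nil) Cert.nil))))))))))) (Cert.rep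 (nat_lit 82) [] [] [] (Cert.er (Cert.ro (nat_lit 0) [nat_lit 1,nat_lit 8,nat_lit 16] [nat_lit 8,nat_lit 9,nat_lit 16] [nat_lit 0,nat_lit 1,nat_lit 10,nat_lit 11,nat_lit 16,nat_lit 17,nat_lit 26,nat_lit 27] (Cert.ro (nat_lit 1) [nat_lit 1,nat_lit 2,nat_lit 14,nat_lit 16] [nat_lit 1,nat_lit 14,nat_lit 12,nat_lit 16] [nat_lit 0,nat_lit 1,nat_lit 51,nat_lit 50,nat_lit 88,nat_lit 89,nat_lit 107,nat_lit 106,nat_lit 16,nat_lit 17,nat_lit 35,nat_lit 34,nat_lit 72,nat_lit 73,nat_lit 123,nat_lit 122] (Cert.fu (nat_lit 16) (nat_lit 2) (nat_lit 16) (nat_lit 1) [nat_lit 1] [nat_lit 1,nat_lit 106,nat_lit 32] [] [] [nat_lit 64,nat_lit 32,nat_lit 16,nat_lit 8,nat_lit 4,nat_lit 2,nat_lit 1] [nat_lit 1] [[nat_lit 51,nat_lit 1]] [[nat_lit 1],[nat_lit 16,nat_lit 1],[nat_lit 106,nat_lit 1]] [Ins.fr [nat_lit 0],Ins.ts (nat_lit 3) [nat_lit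 0] [],Ins.ts (nat_lit 4) [nat_lit 0] [nat_lit 0,nat_lit 0,nat_lit 0],Ins.ts (nat_lit 1) [nat_lit 0] [],Ins.fr [nat_lit 1],Ins.ts (nat_lit 4) [nat_lit 0] [nat_lit 0,nat_lit 0,nat_lit 2],Ins.ts (nat_lit 1) [nat_lit 0] [],Ins.ts (nat_lit 0) [nat_lit 0,nat_lit 0] [nat_lit 1],Ins.fr [nat_lit 2],Ins.ts (nat_lit 2) [nat_lit 0] [],Ins.ts (nat_lit 0) [nat_lit 0,nat_lit 0] [],Ins.ts (nat_lit 3) [nat_lit 1,nat_lit 0] [],Ins.ts (nat_lit 1) [nat_lit 0] [],Ins.ts (nat_lit 0) [nat_lit 1,nat_lit 0,nat_lit 1] [nat_lit 0]] [] (Cert.rep (nat_lit 16) [] [nat_lit 64,nat_lit 32,nat_lit 16,nat_lit 8,nat_lit 2,nat_lit 1] [nat_lit 4] (Cert.rep (nat_lit 1) [nat_lit 8] [] [] (Cert.rep (nat_lit 50) [] [] [] Cert.nil Cert.nil) Cert.nil) Cert.nil))))) Cert.nil)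
noncomputable def f252_2 : Cert :=
  Cert.sp (nat_lit 70) (Cert.lf (Leaf.pt (nat_lit 9) (nat_lit 70) [nat_lit 28])) (Cert.st (nat_lit 0) (nat_lit 70) (nat_lit 0) (Cert.sp (nat_lit 134) (Cert.lf (Leaf.pt (nat_lit 12) (nat_lit 134) [nat_lit 10,nat_lit 84])) (Cert.st (nat_lit 0) (nat_lit 134) (nat_lit 0) (Cert.sp (nat_lit 135) (Cert.lf (Leaf.pt (nat_lit 12) (nat_lit 135) [nat_lit 10,nat_lit 84])) (Cert.st (nat_lit 0) (nat_lit 135) (nat_lit 0) (Cert.sp (nat_lit 142) (Cert.lf (Leaf.pt (nat_lit 13) (nat_lit 142) [nat_lit 10])) (Cert.st (nat_lit 0) (nat_lit 142) (nat_lit 0) (Cert.nl (nat_lit 1) (Cert.sy (nat_lit 0) (Cert.root (nat_lit 32) [] [nat_lit 8,nat_lit 4] [nat_lit 0,nat_lit 1,nat_lit 2,nat_lit 3,nat_lit 4] [Ins.fr [nat_lit 0],Ins.ts (nat_lit 0) [nat_lit 0,nat_lit 0] [],Ins.ts (nat_lit 1) [nat_lit 0] [],Ins.ts (nat_lit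 1) [nat_lit 0,nat_lit 1] [],Ins.fr [nat_lit 1],Ins.ts (nat_lit 1) [nat_lit 0,nat_lit 0] [],Ins.ts (nat_lit 1) [nat_lit 0,nat_lit 0,nat_lit 0,nat_lit 0] [],Ins.ts (nat_lit 0) [nat_lit 1,nat_lit 0,nat_lit 1] [nat_lit 0,nat_lit 0,nat_lit 0],Ins.df [nat_lit 0,nat_lit 0],Ins.df [nat_lit 0,nat_lit 0]] (Cert.rep (nat_lit 16) [nat_lit 2,nat_lit 8,nat_lit 32,nat_lit 64] [nat_lit 64,nat_lit 32,nat_lit 16,nat_lit 8,nat_lit 2,nat_lit 1] [nat_lit 128,nat_lit 4] (Cert.rep (nat_lit 1) [] [] [] Cert.nil (Cert.rep (nat_lit 8) [nat_lit 8,nat_lit 32] [] [] f252_0 (Cert.rep (nat_lit 10) [nat_lit 10,nat_lit 32] [] [] f252_1 (Cert.rep (nat_lit 17) [] [] [] Cert.nil (Cert.rep (nat_lit 24) [nat_lit 8,nat_lit 32] [] [] (Cert.rep (nat_lit 64) [] [] [] (Cert.er (Cert.ro (nat_lit 0) [nat_lit 1,nat_lit 8,nat_lit 16] [nat_lit 8,nat_lit 9,nat_lit 16]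 [nat_lit 0,nat_lit 1,nat_lit 24,nat_lit 25,nat_lit 16,nat_lit 17,nat_lit 8,nat_lit 9] (Cert.ro (nat_lit 1) [nat_lit 1,nat_lit 2,nat_lit 14,nat_lit 16] [nat_lit 1,nat_lit 14,nat_lit 12,nat_lit 16] [nat_lit 0,nat_lit 1,nat_lit 51,nat_lit 50,nat_lit 88,nat_lit 89,nat_lit 107,nat_lit 106,nat_lit 16,nat_lit 17,nat_lit 35,nat_lit 34,nat_lit 72,nat_lit 73,nat_lit 123,nat_lit 122] (Cert.lf (Leaf.st (nat_lit 2) (nat_lit 1) (nat_lit 1) (Leaf.cf (nat_lit 1))))))) (Cert.rep (nat_lit 80) [] [] [] (Cert.er (Cert.ro (nat_lit 0) [nat_lit 1,nat_lit 8,nat_lit 16] [nat_lit 8,nat_lit 9,nat_lit 16] [nat_lit 0,nat_lit 1,nat_lit 24,nat_lit 25,nat_lit 16,nat_lit 17,nat_lit 8,nat_lit 9] (Cert.ro (nat_lit 1) [nat_lit 1,nat_lit 2,nat_lit 14,nat_lit 16] [nat_lit 1,nat_lit 14,nat_lit 12,nat_lit 16] [nat_lit 0,nat_lit 1,nat_lit 51,nat_lit 50,nat_lit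 72,nat_lit 73,nat_lit 123,nat_lit 122,nat_lit 16,nat_lit 17,nat_lit 35,nat_lit 34,nat_lit 88,nat_lit 89,nat_lit 107,nat_lit 106] (Cert.lf (Leaf.st (nat_lit 2) (nat_lit 1) (nat_lit 1) (Leaf.cf (nat_lit 1))))))) Cert.nil)) (Cert.rep (nat_lit 26) [nat_lit 10,nat_lit 32] [] [] (Cert.rep (nat_lit 66) [] [] [] (Cert.er (Cert.ro (nat_lit 0) [nat_lit 1,nat_lit 8,nat_lit 16] [nat_lit 8,nat_lit 9,nat_lit 16] [nat_lit 0,nat_lit 1,nat_lit 26,nat_lit 27,nat_lit 16,nat_lit 17,nat_lit 10,nat_lit 11] (Cert.ro (nat_lit 1) [nat_lit 1,nat_lit 2,nat_lit 14,nat_lit 16] [nat_lit 1,nat_lit 14,nat_lit 12,nat_lit 16] [nat_lit 0,nat_lit 1,nat_lit 51,nat_lit 50,nat_lit 88,nat_lit 89,nat_lit 107,nat_lit 106,nat_lit 16,nat_lit 17,nat_lit 35,nat_lit 34,nat_lit 72,nat_lit 73,nat_lit 123,nat_lit 122] (Cert.lf (Leaf.st (nat_lit 2) (nat_lit 1) (nat_lit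 1) (Leaf.cf (nat_lit 1))))))) (Cert.rep (nat_lit 82) [] [] [] (Cert.er (Cert.ro (nat_lit 0) [nat_lit 1,nat_lit 8,nat_lit 16] [nat_lit 8,nat_lit 9,nat_lit 16] [nat_lit 0,nat_lit 1,nat_lit 26,nat_lit 27,nat_lit 16,nat_lit 17,nat_lit 10,nat_lit 11] (Cert.ro (nat_lit 1) [nat_lit 1,nat_lit 2,nat_lit 14,nat_lit 16] [nat_lit 1,nat_lit 14,nat_lit 12,nat_lit 16] [nat_lit 0,nat_lit 1,nat_lit 51,nat_lit 50,nat_lit 72,nat_lit 73,nat_lit 123,nat_lit 122,nat_lit 16,nat_lit 17,nat_lit 35,nat_lit 34,nat_lit 88,nat_lit 89,nat_lit 107,nat_lit 106] (Cert.lf (Leaf.st (nat_lit 2) (nat_lit 1) (nat_lit 1) (Leaf.cf (nat_lit 1))))))) Cert.nil)) (Cert.rep (nat_lit 32) [] [] [] Cert.nil (Cert.rep (nat_lit 48) [] [] [] Cert.nil (Cert.rep (nat_lit 74) [] [] [] Cert.nil (Cert.rep (nat_lit 90) [] [] [] Cert.nil Cert.nil)))))))))) (Cert.rep (nat_lit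 24) [nat_lit 8,nat_lit 134] [nat_lit 134,nat_lit 32,nat_lit 16,nat_lit 8,nat_lit 1] [nat_lit 4,nat_lit 68,nat_lit 2] (Cert.rep (nat_lit 1) [] [] [] Cert.nil (Cert.rep (nat_lit 8) [] [] [] Cert.nil (Cert.rep (nat_lit 9) [] [] [] Cert.nil (Cert.rep (nat_lit 16) [] [] [] Cert.nil (Cert.rep (nat_lit 17) [] [] [] Cert.nil (Cert.rep (nat_lit 25) [] [] [] Cert.nil (Cert.rep (nat_lit 40) [] [] [] Cert.nil (Cert.rep (nat_lit 41) [] [] [] Cert.nil (Cert.rep (nat_lit 48) [] [] [] Cert.nil (Cert.rep (nat_lit 49) [] [] [] Cert.nil (Cert.rep (nat_lit 134) [] [] [] Cert.nil (Cert.rep (nat_lit 135) [] [] [] Cert.nil (Cert.rep (nat_lit 156) [] [] [] Cert.nil (Cert.rep (nat_lit 157) [] [] [] Cert.nil Cert.nil)))))))))))))) (Cert.rep (nat_lit 28) [nat_lit 32,nat_lit 70] [nat_lit 70,nat_lit 32,nat_lit 18,nat_lit 14,nat_lit 1] [nat_lit 128,nat_lit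 4,nat_lit 2] (Cert.rep (nat_lit 1) [] [] [] Cert.nil (Cert.rep (nat_lit 29) [] [] [] Cert.nil (Cert.rep (nat_lit 32) [] [] [] Cert.nil (Cert.rep (nat_lit 60) [] [] [] Cert.nil (Cert.rep (nat_lit 70) [] [] [] Cert.nil (Cert.rep (nat_lit 90) [] [] [] Cert.nil (Cert.rep (nat_lit 104) [] [] [] Cert.nil (Cert.rep (nat_lit 116) [] [] [] Cert.nil Cert.nil)))))))) (Cert.rep (nat_lit 156) [nat_lit 24,nat_lit 68] [nat_lit 134,nat_lit 68,nat_lit 40,nat_lit 24,nat_lit 1] [nat_lit 8,nat_lit 4,nat_lit 2] (Cert.rep (nat_lit 1) [] [] [] Cert.nil (Cert.rep (nat_lit 24) [] [] [] Cert.nil (Cert.rep (nat_lit 25) [] [] [] Cert.nil (Cert.rep (nat_lit 48) [] [] [] Cert.nil (Cert.rep (nat_lit 49) [] [] [] Cert.nil (Cert.rep (nat_lit 68) [] [] [] Cert.nil (Cert.rep (nat_lit 69) [] [] [] Cert.nil (Cert.rep (nat_lit 134) [] [] [] Cert.nil (Cert.rep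 (nat_lit 135) [] [] [] Cert.nil (Cert.rep (nat_lit 157) [] [] [] Cert.nil (Cert.rep (nat_lit 172) [] [] [] Cert.nil (Cert.rep (nat_lit 173) [] [] [] Cert.nil (Cert.rep (nat_lit 216) [] [] [] Cert.nil (Cert.rep (nat_lit 217) [] [] [] Cert.nil Cert.nil)))))))))))))) Cert.nil))))))))))))))
noncomputable def f252 : Cert :=
  (Cert.st (nat_lit 0) (nat_lit 16) (nat_lit 0) (Cert.st (nat_lit 0) (nat_lit 24) (nat_lit 0) (Cert.st (nat_lit 0) (nat_lit 28) (nat_lit 0) (Cert.sp (nat_lit 1) (Cert.lf (Leaf.pt (nat_lit 9) (nat_lit 1) [nat_lit 16])) (Cert.sp (nat_lit 8) (Cert.lf (Leaf.pt (nat_lit 9) (nat_lit 8) [nat_lit 16])) (Cert.st (nat_lit 0) (nat_lit 8) (nat_lit 0) (Cert.sp (nat_lit 48) (Cert.lf (Leaf.pt (nat_lit 9) (nat_lit 48) [nat_lit 16])) (Cert.st (nat_lit 0) (nat_lit 48) (nat_lit 0) (Cert.sp (nat_lit 60) (Cert.lf (Leaf.pt (nat_lit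 9) (nat_lit 60) [nat_lit 28])) (Cert.st (nat_lit 0) (nat_lit 60) (nat_lit 0) (Cert.sp (nat_lit 68) (Cert.lf (Leaf.pt (nat_lit 9) (nat_lit 68) [nat_lit 30])) (Cert.st (nat_lit 0) (nat_lit 68) (nat_lit 0) f252_2))))))))))))
theorem fin252 : finOK DB PT 88 t88 252 t252 (nat_lit 0xc0c030003000c0cc0c030003000c0c003f003000c000cf0ff030f03ff030f03) f252 = true := by
  decide +kernel

end Cfsg.Agent.L3S.Dat
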