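import Mathlib
import Cfsg.Agent.L33.DAll
import Cfsg.Agent.L3S.EF

/-!
Certificates for the Sylow subgroups.
-/

set_option autoImplicit false
set_option maxRecDepth 100000

namespace Cfsg.Agent.L3S.Dat

open Cfsg.Agent.L33 Cfsg.Agent.L33.Dat Cfsg.Agent.L3S

noncomputable def f8_0 : Cert :=
  Cert.s2 (nat_lit 0) (nat_lit 10) (Cert.o1 (nat_lit 0) (nat_lit 10) (Cert.fu (nat_lit 4) (nat_lit 1) (nat_lit 0) (nat_lit 0) [] [nat_lit 10,nat_lit 1,nat_lit 18,nat_lit 64] [] [] [] [nat_lit 1] [[nat_lit 1]] [[nat_lit 10]] [Ins.fr [nat_lit 0],Ins.ts (nat_lit 3) [nat_lit 0] [],Ins.ts (nat_lit 4) [nat_lit 0] [nat_lit 0,nat_lit 0,nat_lit 0],Ins.ts (nat_lit 1) [nat_lit 0] [],Ins.fr [nat_lit 1],Ins.ts (nat_lit 3) [nat_lit 0] [],Ins.ts (nat_lit 0) [nat_lit 0,nat_lit 0] [],Ins.ts (nat_lit 1) [nat_lit 0] [],Ins.ts (nat_lit 1) [nat_lit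 0,nat_lit 1] [],Ins.fr [nat_lit 0,nat_lit 2],Ins.ts (nat_lit 0) [nat_lit 0,nat_lit 0] [nat_lit 1],Ins.fr [nat_lit 2,nat_lit 3,nat_lit 0],Ins.ts (nat_lit 0) [nat_lit 0,nat_lit 0] []] [] (Cert.rep (nat_lit 4) [] [nat_lit 8,nat_lit 4,nat_lit 2,nat_lit 1] [nat_lit 128,nat_lit 64,nat_lit 32,nat_lit 16] (Cert.rep (nat_lit 1) [nat_lit 2,nat_lit 8] [] [] (Cert.rep (nat_lit 2) [nat_lit 4] [] [] (Cert.rep (nat_lit 36) [] [] [] Cert.nil (Cert.rep (nat_lit 37) [] [] [] Cert.nil Cert.nil)) (Cert.rep (nat_lit 10) [] [] [] Cert.nil Cert.nil)) Cert.nil) (Cert.rep (nat_lit 14) [] [nat_lit 98,nat_lit 16,nat_lit 10,nat_lit 4,nat_lit 1] [nat_lit 128,nat_lit 32,nat_lit 2] (Cert.rep (nat_lit 1) [nat_lit 4,nat_lit 16,nat_lit 98] [] [] (Cert.rep (nat_lit 10) [] [] [] Cert.nil Cert.nil) Cert.nil) Cert.nil)))) (Cert.root (nat_lit 16) [] [nat_lit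 8,nat_lit 4] [nat_lit 0,nat_lit 1,nat_lit 2,nat_lit 3,nat_lit 4] [Ins.fr [nat_lit 0],Ins.ts (nat_lit 0) [nat_lit 0,nat_lit 0] [],Ins.ts (nat_lit 1) [nat_lit 0] [],Ins.ts (nat_lit 1) [nat_lit 0,nat_lit 1] [],Ins.fr [nat_lit 1],Ins.ts (nat_lit 1) [nat_lit 0,nat_lit 0] [],Ins.ts (nat_lit 1) [nat_lit 0,nat_lit 0,nat_lit 0,nat_lit 0] [],Ins.ts (nat_lit 0) [nat_lit 1,nat_lit 0,nat_lit 1] [nat_lit 0,nat_lit 0,nat_lit 0],Ins.df [nat_lit 0,nat_lit 0],Ins.df [nat_lit 0,nat_lit 0]] (Cert.rep (nat_lit 4) [nat_lit 2,nat_lit 8] [nat_lit 8,nat_lit 4,nat_lit 2,nat_lit 1] [nat_lit 128,nat_lit 64,nat_lit 32,nat_lit 16] (Cert.rep (nat_lit 1) [] [] [] Cert.nil (Cert.rep (nat_lit 2) [] [] [] Cert.nil (Cert.rep (nat_lit 5) [] [] [] Cert.nil (Cert.rep (nat_lit 6) [] [] [] Cert.nil (Cert.rep (nat_lit 10) [] [] [] Cert.nil (Cert.rep (nat_lit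 14) [] [] [] Cert.nil Cert.nil)))))) (Cert.rep (nat_lit 14) [nat_lit 4,nat_lit 16,nat_lit 98] [nat_lit 98,nat_lit 16,nat_lit 10,nat_lit 4,nat_lit 1] [nat_lit 128,nat_lit 32,nat_lit 2] (Cert.rep (nat_lit 1) [] [] [] Cert.nil (Cert.rep (nat_lit 4) [nat_lit 4] [] [] (Cert.rep (nat_lit 98) [] [] [] (Cert.er (Cert.ro (nat_lit 0) [nat_lit 1,nat_lit 8,nat_lit 16] [nat_lit 8,nat_lit 9,nat_lit 16] [nat_lit 0,nat_lit 1,nat_lit 4,nat_lit 5,nat_lit 14,nat_lit 15,nat_lit 10,nat_lit 11] (Cert.ro (nat_lit 1) [nat_lit 1,nat_lit 2,nat_lit 14,nat_lit 16] [nat_lit 1,nat_lit 14,nat_lit 12,nat_lit 16] [nat_lit 0,nat_lit 1,nat_lit 27,nat_lit 26,nat_lit 102,nat_lit 103,nat_lit 124,nat_lit 125,nat_lit 14,nat_lit 15,nat_lit 21,nat_lit 20,nat_lit 105,nat_lit 104,nat_lit 115,nat_lit 114] (Cert.lf (Leaf.st (nat_lit 2) (nat_lit 1) (nat_lit 1)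 (Leaf.cf (nat_lit 1))))))) (Cert.rep (nat_lit 99) [] [] [] (Cert.er (Cert.ro (nat_lit 0) [nat_lit 1,nat_lit 8,nat_lit 16] [nat_lit 8,nat_lit 9,nat_lit 16] [nat_lit 0,nat_lit 1,nat_lit 4,nat_lit 5,nat_lit 14,nat_lit 15,nat_lit 10,nat_lit 11] (Cert.ro (nat_lit 1) [nat_lit 1,nat_lit 2,nat_lit 14,nat_lit 16] [nat_lit 1,nat_lit 14,nat_lit 12,nat_lit 16] [nat_lit 0,nat_lit 1,nat_lit 27,nat_lit 26,nat_lit 103,nat_lit 102,nat_lit 125,nat_lit 124,nat_lit 14,nat_lit 15,nat_lit 21,nat_lit 20,nat_lit 104,nat_lit 105,nat_lit 114,nat_lit 115] (Cert.lf (Leaf.st (nat_lit 2) (nat_lit 1) (nat_lit 1) (Leaf.cf (nat_lit 1))))))) (Cert.rep (nat_lit 108) [] [] [] (Cert.er (Cert.ro (nat_lit 0) [nat_lit 1,nat_lit 8,nat_lit 16] [nat_lit 8,nat_lit 9,nat_lit 16] [nat_lit 0,nat_lit 1,nat_lit 4,nat_lit 5,nat_lit 14,nat_lit 15,nat_lit 10,nat_lit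 11] (Cert.ro (nat_lit 1) [nat_lit 1,nat_lit 2,nat_lit 14,nat_lit 16] [nat_lit 1,nat_lit 14,nat_lit 12,nat_lit 16] [nat_lit 0,nat_lit 1,nat_lit 27,nat_lit 26,nat_lit 104,nat_lit 105,nat_lit 114,nat_lit 115,nat_lit 14,nat_lit 15,nat_lit 21,nat_lit 20,nat_lit 103,nat_lit 102,nat_lit 125,nat_lit 124] (Cert.lf (Leaf.st (nat_lit 2) (nat_lit 1) (nat_lit 1) (Leaf.cf (nat_lit 1))))))) (Cert.rep (nat_lit 109) [] [] [] (Cert.er (Cert.ro (nat_lit 0) [nat_lit 1,nat_lit 8,nat_lit 16] [nat_lit 8,nat_lit 9,nat_lit 16] [nat_lit 0,nat_lit 1,nat_lit 4,nat_lit 5,nat_lit 14,nat_lit 15,nat_lit 10,nat_lit 11] (Cert.ro (nat_lit 1) [nat_lit 1,nat_lit 2,nat_lit 14,nat_lit 16] [nat_lit 1,nat_lit 14,nat_lit 12,nat_lit 16] [nat_lit 0,nat_lit 1,nat_lit 27,nat_lit 26,nat_lit 105,nat_lit 104,nat_lit 115,nat_lit 114,nat_lit 14,nat_lit 15,nat_lit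 21,nat_lit 20,nat_lit 102,nat_lit 103,nat_lit 124,nat_lit 125] (Cert.lf (Leaf.st (nat_lit 2) (nat_lit 1) (nat_lit 1) (Leaf.cf (nat_lit 1))))))) Cert.nil)))) (Cert.rep (nat_lit 10) [nat_lit 4] [] [] (Cert.rep (nat_lit 98) [] [] [] (Cert.er (Cert.ro (nat_lit 0) [nat_lit 1,nat_lit 8,nat_lit 16] [nat_lit 8,nat_lit 9,nat_lit 16] [nat_lit 0,nat_lit 1,nat_lit 10,nat_lit 11,nat_lit 14,nat_lit 15,nat_lit 4,nat_lit 5] (Cert.ro (nat_lit 1) [nat_lit 1,nat_lit 2,nat_lit 14,nat_lit 16] [nat_lit 1,nat_lit 14,nat_lit 12,nat_lit 16] [nat_lit 0,nat_lit 1,nat_lit 27,nat_lit 26,nat_lit 105,nat_lit 104,nat_lit 115,nat_lit 114,nat_lit 14,nat_lit 15,nat_lit 21,nat_lit 20,nat_lit 102,nat_lit 103,nat_lit 124,nat_lit 125] (Cert.kw (nat_lit 2) (nat_lit 0) (nat_lit 2) (nat_lit 1) )))) (Cert.rep (nat_lit 99) [] [] [] (Cert.er (Cert.ro (nat_lit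 0) [nat_lit 1,nat_lit 8,nat_lit 16] [nat_lit 8,nat_lit 9,nat_lit 16] [nat_lit 0,nat_lit 1,nat_lit 10,nat_lit 11,nat_lit 14,nat_lit 15,nat_lit 4,nat_lit 5] (Cert.ro (nat_lit 1) [nat_lit 1,nat_lit 2,nat_lit 14,nat_lit 16] [nat_lit 1,nat_lit 14,nat_lit 12,nat_lit 16] [nat_lit 0,nat_lit 1,nat_lit 27,nat_lit 26,nat_lit 104,nat_lit 105,nat_lit 114,nat_lit 115,nat_lit 14,nat_lit 15,nat_lit 21,nat_lit 20,nat_lit 103,nat_lit 102,nat_lit 125,nat_lit 124] (Cert.kw (nat_lit 2) (nat_lit 0) (nat_lit 2) (nat_lit 1) )))) (Cert.rep (nat_lit 108) [] [] [] (Cert.er (Cert.ro (nat_lit 0) [nat_lit 1,nat_lit 8,nat_lit 16] [nat_lit 8,nat_lit 9,nat_lit 16] [nat_lit 0,nat_lit 1,nat_lit 10,nat_lit 11,nat_lit 14,nat_lit 15,nat_lit 4,nat_lit 5] (Cert.ro (nat_lit 1) [nat_lit 1,nat_lit 2,nat_lit 14,nat_lit 16] [nat_lit 1,nat_lit 14,nat_lit 12,nat_lit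 16] [nat_lit 0,nat_lit 1,nat_lit 27,nat_lit 26,nat_lit 103,nat_lit 102,nat_lit 125,nat_lit 124,nat_lit 14,nat_lit 15,nat_lit 21,nat_lit 20,nat_lit 104,nat_lit 105,nat_lit 114,nat_lit 115] (Cert.kw (nat_lit 2) (nat_lit 0) (nat_lit 2) (nat_lit 1) )))) (Cert.rep (nat_lit 109) [] [] [] (Cert.er (Cert.ro (nat_lit 0) [nat_lit 1,nat_lit 8,nat_lit 16] [nat_lit 8,nat_lit 9,nat_lit 16] [nat_lit 0,nat_lit 1,nat_lit 10,nat_lit 11,nat_lit 14,nat_lit 15,nat_lit 4,nat_lit 5] (Cert.ro (nat_lit 1) [nat_lit 1,nat_lit 2,nat_lit 14,nat_lit 16] [nat_lit 1,nat_lit 14,nat_lit 12,nat_lit 16] [nat_lit 0,nat_lit 1,nat_lit 27,nat_lit 26,nat_lit 102,nat_lit 103,nat_lit 124,nat_lit 125,nat_lit 14,nat_lit 15,nat_lit 21,nat_lit 20,nat_lit 105,nat_lit 104,nat_lit 115,nat_lit 114] (Cert.kw (nat_lit 2) (nat_lit 0) (nat_lit 2) (nat_lit 1) )))) Cert.nil))))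 (Cert.rep (nat_lit 15) [] [] [] Cert.nil Cert.nil)))) Cert.nil)))
noncomputable def f8 : Cert :=
  (Cert.st (nat_lit 0) (nat_lit 4) (nat_lit 0) (Cert.st (nat_lit 0) (nat_lit 14) (nat_lit 0) (Cert.sp (nat_lit 1) (Cert.lf (Leaf.pt (nat_lit 10) (nat_lit 1) [nat_lit 8,nat_lit 4])) (Cert.sp (nat_lit 2) (Cert.lf (Leaf.pt (nat_lit 10) (nat_lit 2) [nat_lit 36,nat_lit 1])) (Cert.st (nat_lit 0) (nat_lit 2) (nat_lit 0) (Cert.sp (nat_lit 10) (Cert.lf (Leaf.pt (nat_lit 5) (nat_lit 10) [nat_lit 4])) (Cert.st (nat_lit 0) (nat_lit 10) (nat_lit 0) (Cert.sp (nat_lit 64) (Cert.lf (Leaf.pt (nat_lit 10) (nat_lit 64) [nat_lit 180,nat_lit 1])) (Cert.st (nat_lit 0) (nat_lit 64) (nat_lit 0) (Cert.nl (nat_lit 1) (Cert.sy (nat_lit 0) f8_0)))))))))))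
theorem fin8 : finOK DB PT 34 t34 8 t8 (nat_lit 0x30c000f0c0c0f0f00000ff0c3ccff) f8 = true := by
  decide +kernel
noncomputable def f17_0 : Cert :=
  Cert.rep (nat_lit 128) [] [] [] (Cert.er (Cert.ro (nat_lit 0) [nat_lit 1,nat_lit 8,nat_lit 16] [nat_lit 8,nat_lit 9,nat_lit 16] [] (Cert.ro (nat_lit 1) [nat_lit 1,nat_lit 2,nat_lit 14,nat_lit 16] [nat_lit 1,nat_lit 14,nat_lit 12,nat_lit 16] [nat_lit 0,nat_lit 1,nat_lit 8,nat_lit 9,nat_lit 130,nat_lit 131,nat_lit 139,nat_lit 138,nat_lit 4,nat_lit 5,nat_lit 12,nat_lit 13,nat_lit 134,nat_lit 135,nat_lit 143,nat_lit 142] (Cert.s2 (nat_lit 0) (nat_lit 28) (Cert.o1 (nat_lit 0) (nat_lit 28) (Cert.fu (nat_lit 28) (nat_lit 1) (nat_lit 0) (nat_lit 0) [nat_lit 0] [nat_lit 128,nat_lit 160] [] [] [] [nat_lit 1] [[nat_lit 1]] [[nat_lit 28]] [Ins.ts (nat_lit 1) [nat_lit 0] [],Ins.fr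 [nat_lit 0],Ins.ts (nat_lit 4) [nat_lit 0] [nat_lit 0,nat_lit 0,nat_lit 1],Ins.ts (nat_lit 1) [nat_lit 0,nat_lit 0] [],Ins.ts (nat_lit 1) [nat_lit 0,nat_lit 0,nat_lit 0,nat_lit 0] [],Ins.ts (nat_lit 1) [nat_lit 0,nat_lit 0,nat_lit 0,nat_lit 0,nat_lit 1] [],Ins.fr [nat_lit 1],Ins.ts (nat_lit 4) [nat_lit 0] [nat_lit 0,nat_lit 0,nat_lit 1],Ins.ts (nat_lit 0) [nat_lit 0,nat_lit 0,nat_lit 0,nat_lit 0] [nat_lit 2],Ins.ts (nat_lit 0) [nat_lit 0,nat_lit 1,nat_lit 0,nat_lit 1] [nat_lit 2]] [(nat_lit 0,nat_lit 0)] (Cert.rep (nat_lit 1) [nat_lit 2,nat_lit 4,nat_lit 8,nat_lit 32,nat_lit 64,nat_lit 128,nat_lit 256] [nat_lit 256,nat_lit 128,nat_lit 64,nat_lit 32,nat_lit 16,nat_lit 8,nat_lit 4,nat_lit 2,nat_lit 1] [] (Cert.rep (nat_lit 160) [] [] [] Cert.nil (Cert.rep (nat_lit 256) [] [] [] Cert.nil (Cert.rep (nat_lit 257) [] []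 [] Cert.nil (Cert.rep (nat_lit 290) [] [] [] Cert.nil (Cert.rep (nat_lit 298) [] [] [] Cert.nil (Cert.rep (nat_lit 310) [] [] [] Cert.nil Cert.nil)))))) Cert.nil))) (Cert.s2 (nat_lit 0) (nat_lit 266) (Cert.o1 (nat_lit 0) (nat_lit 266) (Cert.fu (nat_lit 266) (nat_lit 1) (nat_lit 0) (nat_lit 0) [nat_lit 0] [nat_lit 108] [] [] [] [nat_lit 1] [[nat_lit 1]] [[nat_lit 266]] [Ins.ts (nat_lit 1) [nat_lit 0] [],Ins.fr [nat_lit 0],Ins.ts (nat_lit 4) [nat_lit 0] [nat_lit 0,nat_lit 0,nat_lit 1],Ins.ts (nat_lit 1) [nat_lit 0,nat_lit 0] [],Ins.ts (nat_lit 0) [nat_lit 0,nat_lit 0,nat_lit 0,nat_lit 0] [],Ins.ts (nat_lit 4) [nat_lit 0,nat_lit 0,nat_lit 1] [nat_lit 0,nat_lit 0,nat_lit 2],Ins.ts (nat_lit 1) [nat_lit 0,nat_lit 0,nat_lit 1] []] [(nat_lit 0,nat_lit 0),(nat_lit 2,nat_lit 0)] (Cert.rep (nat_lit 1) [] [nat_lit 256,nat_lit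 128,nat_lit 64,nat_lit 32,nat_lit 16,nat_lit 8,nat_lit 4,nat_lit 2,nat_lit 1] [] Cert.nil Cert.nil))) (Cert.th (nat_lit 266) (nat_lit 266) (nat_lit 0) true [nat_lit 0,nat_lit 1] [nat_lit 108] [] [] [nat_lit 288,nat_lit 128,nat_lit 2,nat_lit 100,nat_lit 20,nat_lit 8,nat_lit 1] [] [Ins.ts (nat_lit 1) [nat_lit 0] [],Ins.fr [nat_lit 0],Ins.ts (nat_lit 1) [nat_lit 0,nat_lit 0] [],Ins.ts (nat_lit 0) [nat_lit 0,nat_lit 0,nat_lit 0,nat_lit 0] [],Ins.ts (nat_lit 1) [nat_lit 0,nat_lit 0,nat_lit 1] [],Ins.ts (nat_lit 4) [nat_lit 0,nat_lit 0] [nat_lit 0,nat_lit 0,nat_lit 1],Ins.ts (nat_lit 4) [nat_lit 0,nat_lit 0,nat_lit 1] [nat_lit 0,nat_lit 0,nat_lit 1]] [(nat_lit 3,nat_lit 0)] (Cert.rep (nat_lit 2) [] [nat_lit 32,nat_lit 24,nat_lit 4,nat_lit 2,nat_lit 1] [nat_lit 256,nat_lit 128,nat_lit 64,nat_lit 8] Cert.nil (Cert.rep (nat_lit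 28) [] [nat_lit 256,nat_lit 128,nat_lit 68,nat_lit 32,nat_lit 20,nat_lit 8,nat_lit 2,nat_lit 1] [nat_lit 4] Cert.nil (Cert.rep (nat_lit 288) [] [nat_lit 288,nat_lit 76,nat_lit 28,nat_lit 1] [nat_lit 4,nat_lit 128,nat_lit 2,nat_lit 34,nat_lit 8] Cert.nil Cert.nil))))))))) (Cert.rep (nat_lit 129) [] [] [] (Cert.er (Cert.ro (nat_lit 0) [nat_lit 1,nat_lit 8,nat_lit 16] [nat_lit 8,nat_lit 9,nat_lit 16] [] (Cert.ro (nat_lit 1) [nat_lit 1,nat_lit 2,nat_lit 14,nat_lit 16] [nat_lit 1,nat_lit 14,nat_lit 12,nat_lit 16] [nat_lit 0,nat_lit 1,nat_lit 8,nat_lit 9,nat_lit 131,nat_lit 130,nat_lit 138,nat_lit 139,nat_lit 4,nat_lit 5,nat_lit 12,nat_lit 13,nat_lit 135,nat_lit 134,nat_lit 142,nat_lit 143] (Cert.s2 (nat_lit 0) (nat_lit 28) (Cert.o1 (nat_lit 0) (nat_lit 28) (Cert.fu (nat_lit 28) (nat_lit 1) (nat_lit 0) (nat_lit 0) [nat_lit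 0] [nat_lit 128,nat_lit 160] [] [] [] [nat_lit 1] [[nat_lit 1]] [[nat_lit 28]] [Ins.ts (nat_lit 1) [nat_lit 0] [],Ins.fr [nat_lit 0],Ins.ts (nat_lit 4) [nat_lit 0] [nat_lit 0,nat_lit 0,nat_lit 1],Ins.ts (nat_lit 1) [nat_lit 0,nat_lit 0] [],Ins.ts (nat_lit 1) [nat_lit 0,nat_lit 0,nat_lit 0,nat_lit 0] [],Ins.ts (nat_lit 1) [nat_lit 0,nat_lit 0,nat_lit 0,nat_lit 0,nat_lit 1] [],Ins.fr [nat_lit 1],Ins.ts (nat_lit 4) [nat_lit 0] [nat_lit 0,nat_lit 0,nat_lit 1],Ins.ts (nat_lit 0) [nat_lit 0,nat_lit 0,nat_lit 0,nat_lit 0] [nat_lit 2],Ins.ts (nat_lit 0) [nat_lit 0,nat_lit 1,nat_lit 0,nat_lit 1] [nat_lit 2]] [(nat_lit 0,nat_lit 0)] (Cert.rep (nat_lit 1) [nat_lit 2,nat_lit 4,nat_lit 8,nat_lit 32,nat_lit 64,nat_lit 128,nat_lit 256] [nat_lit 256,nat_lit 128,nat_lit 64,nat_lit 32,nat_lit 16,nat_lit 8,nat_lit 4,nat_lit 2,nat_lit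 1] [] (Cert.rep (nat_lit 160) [] [] [] Cert.nil (Cert.rep (nat_lit 256) [] [] [] Cert.nil (Cert.rep (nat_lit 257) [] [] [] Cert.nil (Cert.rep (nat_lit 290) [] [] [] Cert.nil (Cert.rep (nat_lit 298) [] [] [] Cert.nil (Cert.rep (nat_lit 310) [] [] [] Cert.nil Cert.nil)))))) Cert.nil))) (Cert.s2 (nat_lit 0) (nat_lit 266) (Cert.o1 (nat_lit 0) (nat_lit 266) (Cert.fu (nat_lit 266) (nat_lit 1) (nat_lit 0) (nat_lit 0) [nat_lit 0] [nat_lit 108] [] [] [] [nat_lit 1] [[nat_lit 1]] [[nat_lit 266]] [Ins.ts (nat_lit 1) [nat_lit 0] [],Ins.fr [nat_lit 0],Ins.ts (nat_lit 4) [nat_lit 0] [nat_lit 0,nat_lit 0,nat_lit 1],Ins.ts (nat_lit 1) [nat_lit 0,nat_lit 0] [],Ins.ts (nat_lit 0) [nat_lit 0,nat_lit 0,nat_lit 0,nat_lit 0] [],Ins.ts (nat_lit 4) [nat_lit 0,nat_lit 0,nat_lit 1] [nat_lit 0,nat_lit 0,nat_lit 2],Ins.ts (nat_lit 1) [nat_lit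 0,nat_lit 0,nat_lit 1] []] [(nat_lit 0,nat_lit 0),(nat_lit 2,nat_lit 0)] (Cert.rep (nat_lit 1) [] [nat_lit 256,nat_lit 128,nat_lit 64,nat_lit 32,nat_lit 16,nat_lit 8,nat_lit 4,nat_lit 2,nat_lit 1] [] Cert.nil Cert.nil))) (Cert.th (nat_lit 266) (nat_lit 266) (nat_lit 0) true [nat_lit 0,nat_lit 1] [nat_lit 108] [] [] [nat_lit 288,nat_lit 128,nat_lit 2,nat_lit 100,nat_lit 20,nat_lit 8,nat_lit 1] [] [Ins.ts (nat_lit 1) [nat_lit 0] [],Ins.fr [nat_lit 0],Ins.ts (nat_lit 1) [nat_lit 0,nat_lit 0] [],Ins.ts (nat_lit 0) [nat_lit 0,nat_lit 0,nat_lit 0,nat_lit 0] [],Ins.ts (nat_lit 1) [nat_lit 0,nat_lit 0,nat_lit 1] [],Ins.ts (nat_lit 4) [nat_lit 0,nat_lit 0] [nat_lit 0,nat_lit 0,nat_lit 1],Ins.ts (nat_lit 4) [nat_lit 0,nat_lit 0,nat_lit 1] [nat_lit 0,nat_lit 0,nat_lit 1]] [(nat_lit 3,nat_lit 0)] (Cert.rep (nat_lit 2) [] [nat_lit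 32,nat_lit 24,nat_lit 4,nat_lit 2,nat_lit 1] [nat_lit 256,nat_lit 128,nat_lit 64,nat_lit 8] Cert.nil (Cert.rep (nat_lit 28) [] [nat_lit 256,nat_lit 128,nat_lit 68,nat_lit 32,nat_lit 20,nat_lit 8,nat_lit 2,nat_lit 1] [nat_lit 4] Cert.nil (Cert.rep (nat_lit 288) [] [nat_lit 288,nat_lit 76,nat_lit 28,nat_lit 1] [nat_lit 4,nat_lit 128,nat_lit 2,nat_lit 34,nat_lit 8] Cert.nil Cert.nil))))))))) Cert.nil)
noncomputable def f17_1 : Cert :=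
  Cert.rep (nat_lit 128) [] [] [] (Cert.er (Cert.ro (nat_lit 0) [nat_lit 1,nat_lit 8,nat_lit 16] [nat_lit 8,nat_lit 9,nat_lit 16] [] (Cert.ro (nat_lit 1) [nat_lit 1,nat_lit 2,nat_lit 14,nat_lit 16] [nat_lit 1,nat_lit 14,nat_lit 12,nat_lit 16] [nat_lit 0,nat_lit 1,nat_lit 8,nat_lit 9,nat_lit 130,nat_lit 131,nat_lit 139,nat_lit 138,nat_lit 4,nat_lit 5,nat_lit 12,nat_lit 13,nat_lit 134,nat_lit 135,nat_lit 143,nat_lit 142] (Cert.lw (nat_lit 0) (nat_lit 2) (nat_lit 1) (Cert.s2 (nat_lit 0) (nat_lit 28) (Cert.o1 (nat_lit 0) (nat_lit 28) (Cert.fu (nat_lit 266) (nat_lit 1) (nat_lit 0) (nat_lit 0) [nat_lit 1] [nat_lit 28,nat_lit 108] [] [] [] [nat_lit 1] [[nat_lit 1]] [[nat_lit 28]] [Ins.ts (nat_lit 3) [nat_lit 0] [],Ins.fr [nat_lit 0],Ins.ts (nat_lit 4) [nat_lit 0] [nat_lit 0,nat_lit 0,nat_lit 0],Ins.ts (nat_lit 1) [nat_lit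 0] [],Ins.fr [nat_lit 1],Ins.ts (nat_lit 0) [nat_lit 0,nat_lit 0] [nat_lit 1]] [(nat_lit 1,nat_lit 0)] (Cert.rep (nat_lit 266) [] [nat_lit 266,nat_lit 76,nat_lit 34,nat_lit 28,nat_lit 1] [nat_lit 4,nat_lit 128,nat_lit 2,nat_lit 8] (Cert.rep (nat_lit 1) [] [] [] Cert.nil Cert.nil) (Cert.rep (nat_lit 288) [] [nat_lit 288,nat_lit 76,nat_lit 28,nat_lit 1] [nat_lit 4,nat_lit 128,nat_lit 2,nat_lit 34,nat_lit 8] (Cert.rep (nat_lit 1) [] [] [] Cert.nil Cert.nil) Cert.nil)))) (Cert.s2 (nat_lit 0) (nat_lit 266) (Cert.o1 (nat_lit 0) (nat_lit 266) (Cert.fu (nat_lit 266) (nat_lit 1) (nat_lit 0) (nat_lit 0) [nat_lit 0,nat_lit 1] [] [] [] [] [nat_lit 1] [[nat_lit 1]] [[nat_lit 266]] [] [(nat_lit 1,nat_lit 0)] Cert.nil)) (Cert.s2 (nat_lit 0) (nat_lit 288) (Cert.o1 (nat_lit 0) (nat_lit 288) (Cert.fu (nat_lit 288) (nat_lit 1) (nat_lit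 0) (nat_lit 0) [nat_lit 0,nat_lit 1] [] [] [] [] [nat_lit 1] [[nat_lit 1]] [[nat_lit 288]] [] [(nat_lit 1,nat_lit 0)] Cert.nil)) (Cert.fu (nat_lit 4) (nat_lit 2) (nat_lit 4) (nat_lit 1) [nat_lit 1] [nat_lit 1,nat_lit 138,nat_lit 8,nat_lit 16] [nat_lit 4,nat_lit 5,nat_lit 2,nat_lit 1,nat_lit 0] [nat_lit 0,nat_lit 1,nat_lit 4,nat_lit 5,nat_lit 8,nat_lit 9,nat_lit 12,nat_lit 13,nat_lit 16,nat_lit 17,nat_lit 20,nat_lit 21,nat_lit 24,nat_lit 25,nat_lit 28,nat_lit 29,nat_lit 130,nat_lit 131,nat_lit 134,nat_lit 135,nat_lit 139,nat_lit 138,nat_lit 143,nat_lit 142,nat_lit 147,nat_lit 146,nat_lit 151,nat_lit 150,nat_lit 154,nat_lit 155,nat_lit 158,nat_lit 159] [nat_lit 128,nat_lit 16,nat_lit 8,nat_lit 4,nat_lit 2,nat_lit 1] [nat_lit 1] [[nat_lit 8,nat_lit 1]] [[nat_lit 1],[nat_lit 4,nat_lit 1],[nat_lit 138,nat_lit 1]] [Ins.fr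 [nat_lit 0],Ins.ts (nat_lit 4) [nat_lit 0] [nat_lit 0,nat_lit 0,nat_lit 0],Ins.ts (nat_lit 1) [nat_lit 0] [],Ins.fr [nat_lit 1],Ins.ts (nat_lit 3) [nat_lit 0] [],Ins.ts (nat_lit 4) [nat_lit 0] [nat_lit 0,nat_lit 0,nat_lit 2],Ins.ts (nat_lit 1) [nat_lit 0] [],Ins.ts (nat_lit 0) [nat_lit 0,nat_lit 0] [nat_lit 1],Ins.fr [nat_lit 2],Ins.ts (nat_lit 3) [nat_lit 0] [],Ins.ts (nat_lit 0) [nat_lit 0,nat_lit 0] [nat_lit 2],Ins.ts (nat_lit 4) [nat_lit 0] [nat_lit 0,nat_lit 0,nat_lit 3],Ins.ts (nat_lit 0) [nat_lit 1,nat_lit 0,nat_lit 1] [nat_lit 0],Ins.fr [nat_lit 2,nat_lit 3],Ins.ts (nat_lit 2) [nat_lit 0] [],Ins.ts (nat_lit 0) [nat_lit 0,nat_lit 0] [],Ins.ts (nat_lit 0) [nat_lit 1,nat_lit 0] [nat_lit 0,nat_lit 1],Ins.df [nat_lit 2,nat_lit 1]] [(nat_lit 0,nat_lit 0)] (Cert.rep (nat_lit 4) [] [nat_lit 128,nat_lit 8,nat_lit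 4,nat_lit 2,nat_lit 1] [nat_lit 16] (Cert.rep (nat_lit 1) [nat_lit 2] [] [] (Cert.rep (nat_lit 8) [nat_lit 8,nat_lit 128] [] [] (Cert.rep (nat_lit 130) [nat_lit 4] [] [] (Cert.rep (nat_lit 154) [] [] [] (Cert.en (Cert.fu (nat_lit 28) (nat_lit 1) (nat_lit 0) (nat_lit 0) [nat_lit 0,nat_lit 1] [nat_lit 1,nat_lit 138,nat_lit 243] [] [] [] [nat_lit 1] [[nat_lit 20,nat_lit 8,nat_lit 1]] [[nat_lit 151,nat_lit 138,nat_lit 1]] [Ins.ts (nat_lit 1) [nat_lit 0] [],Ins.fr [nat_lit 0],Ins.ts (nat_lit 4) [nat_lit 0] [nat_lit 0,nat_lit 0,nat_lit 0],Ins.ts (nat_lit 1) [nat_lit 0] [],Ins.ts (nat_lit 0) [nat_lit 0,nat_lit 0] [],Ins.ts (nat_lit 4) [nat_lit 0] [nat_lit 0,nat_lit 0,nat_lit 2],Ins.fr [nat_lit 1],Ins.ts (nat_lit 0) [nat_lit 0,nat_lit 0] [nat_lit 1],Ins.ts (nat_lit 4) [nat_lit 0] [nat_lit 0,nat_lit 0,nat_lit 0],Ins.fr [nat_lit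 2],Ins.ts (nat_lit 0) [nat_lit 0,nat_lit 0] [nat_lit 2],Ins.ts (nat_lit 0) [nat_lit 1,nat_lit 0,nat_lit 1] [nat_lit 0,nat_lit 3]] [(nat_lit 3,nat_lit 0),(nat_lit 2,nat_lit 0)] (Cert.rep (nat_lit 28) [] [nat_lit 256,nat_lit 128,nat_lit 68,nat_lit 32,nat_lit 20,nat_lit 8,nat_lit 2,nat_lit 1] [nat_lit 4] (Cert.rep (nat_lit 1) [nat_lit 2,nat_lit 32] [] [] (Cert.rep (nat_lit 8) [] [] [] Cert.nil Cert.nil) Cert.nil) Cert.nil))) Cert.nil) Cert.nil) Cert.nil) Cert.nil) Cert.nil))))))))) (Cert.rep (nat_lit 129) [] [] [] (Cert.er (Cert.ro (nat_lit 0) [nat_lit 1,nat_lit 8,nat_lit 16] [nat_lit 8,nat_lit 9,nat_lit 16] [] (Cert.ro (nat_lit 1) [nat_lit 1,nat_lit 2,nat_lit 14,nat_lit 16] [nat_lit 1,nat_lit 14,nat_lit 12,nat_lit 16] [nat_lit 0,nat_lit 1,nat_lit 8,nat_lit 9,nat_lit 131,nat_lit 130,nat_lit 138,nat_lit 139,nat_lit 4,nat_lit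 5,nat_lit 12,nat_lit 13,nat_lit 135,nat_lit 134,nat_lit 142,nat_lit 143] (Cert.lw (nat_lit 0) (nat_lit 2) (nat_lit 1) (Cert.s2 (nat_lit 0) (nat_lit 28) (Cert.o1 (nat_lit 0) (nat_lit 28) (Cert.fu (nat_lit 266) (nat_lit 1) (nat_lit 0) (nat_lit 0) [nat_lit 1] [nat_lit 28,nat_lit 108] [] [] [] [nat_lit 1] [[nat_lit 1]] [[nat_lit 28]] [Ins.ts (nat_lit 3) [nat_lit 0] [],Ins.fr [nat_lit 0],Ins.ts (nat_lit 4) [nat_lit 0] [nat_lit 0,nat_lit 0,nat_lit 0],Ins.ts (nat_lit 1) [nat_lit 0] [],Ins.fr [nat_lit 1],Ins.ts (nat_lit 0) [nat_lit 0,nat_lit 0] [nat_lit 1]] [(nat_lit 1,nat_lit 0)] (Cert.rep (nat_lit 266) [] [nat_lit 266,nat_lit 76,nat_lit 34,nat_lit 28,nat_lit 1] [nat_lit 4,nat_lit 128,nat_lit 2,nat_lit 8] (Cert.rep (nat_lit 1) [] [] [] Cert.nil Cert.nil) (Cert.rep (nat_lit 288) [] [nat_lit 288,nat_lit 76,nat_lit 28,nat_lit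 1] [nat_lit 4,nat_lit 128,nat_lit 2,nat_lit 34,nat_lit 8] (Cert.rep (nat_lit 1) [] [] [] Cert.nil Cert.nil) Cert.nil)))) (Cert.s2 (nat_lit 0) (nat_lit 266) (Cert.o1 (nat_lit 0) (nat_lit 266) (Cert.fu (nat_lit 266) (nat_lit 1) (nat_lit 0) (nat_lit 0) [nat_lit 0,nat_lit 1] [] [] [] [] [nat_lit 1] [[nat_lit 1]] [[nat_lit 266]] [] [(nat_lit 1,nat_lit 0)] Cert.nil)) (Cert.s2 (nat_lit 0) (nat_lit 288) (Cert.o1 (nat_lit 0) (nat_lit 288) (Cert.fu (nat_lit 288) (nat_lit 1) (nat_lit 0) (nat_lit 0) [nat_lit 0,nat_lit 1] [] [] [] [] [nat_lit 1] [[nat_lit 1]] [[nat_lit 288]] [] [(nat_lit 1,nat_lit 0)] Cert.nil)) (Cert.fu (nat_lit 4) (nat_lit 2) (nat_lit 4) (nat_lit 1) [nat_lit 1] [nat_lit 1,nat_lit 139,nat_lit 8,nat_lit 16] [nat_lit 4,nat_lit 5,nat_lit 2,nat_lit 1,nat_lit 0] [nat_lit 0,nat_lit 1,nat_lit 4,nat_lit 5,nat_lit 8,nat_lit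 9,nat_lit 12,nat_lit 13,nat_lit 16,nat_lit 17,nat_lit 20,nat_lit 21,nat_lit 24,nat_lit 25,nat_lit 28,nat_lit 29,nat_lit 130,nat_lit 131,nat_lit 134,nat_lit 135,nat_lit 139,nat_lit 138,nat_lit 143,nat_lit 142,nat_lit 147,nat_lit 146,nat_lit 151,nat_lit 150,nat_lit 154,nat_lit 155,nat_lit 158,nat_lit 159] [nat_lit 128,nat_lit 16,nat_lit 8,nat_lit 4,nat_lit 2,nat_lit 1] [nat_lit 1] [[nat_lit 8,nat_lit 1]] [[nat_lit 1],[nat_lit 4,nat_lit 1],[nat_lit 139,nat_lit 1]] [Ins.fr [nat_lit 0],Ins.ts (nat_lit 4) [nat_lit 0] [nat_lit 0,nat_lit 0,nat_lit 0],Ins.ts (nat_lit 1) [nat_lit 0] [],Ins.fr [nat_lit 1],Ins.ts (nat_lit 3) [nat_lit 0] [],Ins.ts (nat_lit 4) [nat_lit 0] [nat_lit 0,nat_lit 0,nat_lit 2],Ins.ts (nat_lit 1) [nat_lit 0] [],Ins.ts (nat_lit 0) [nat_lit 0,nat_lit 0] [nat_lit 1],Ins.fr [nat_lit 2],Ins.ts (nat_lit 3)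 [nat_lit 0] [],Ins.ts (nat_lit 0) [nat_lit 0,nat_lit 0] [nat_lit 2],Ins.ts (nat_lit 4) [nat_lit 0] [nat_lit 0,nat_lit 0,nat_lit 3],Ins.ts (nat_lit 0) [nat_lit 1,nat_lit 0,nat_lit 1] [nat_lit 0],Ins.fr [nat_lit 2,nat_lit 3],Ins.ts (nat_lit 2) [nat_lit 0] [],Ins.ts (nat_lit 0) [nat_lit 0,nat_lit 0] [],Ins.ts (nat_lit 0) [nat_lit 1,nat_lit 0] [nat_lit 0,nat_lit 1],Ins.df [nat_lit 1,nat_lit 2]] [(nat_lit 0,nat_lit 0)] (Cert.rep (nat_lit 4) [] [nat_lit 128,nat_lit 8,nat_lit 4,nat_lit 2,nat_lit 1] [nat_lit 16] (Cert.rep (nat_lit 1) [nat_lit 2] [] [] (Cert.rep (nat_lit 8) [nat_lit 8,nat_lit 128] [] [] (Cert.rep (nat_lit 130) [nat_lit 4] [] [] (Cert.rep (nat_lit 154) [] [] [] (Cert.en (Cert.fu (nat_lit 28) (nat_lit 1) (nat_lit 0) (nat_lit 0) [nat_lit 0,nat_lit 1] [nat_lit 1,nat_lit 139,nat_lit 243] [] [] [] [nat_lit 1] [[nat_lit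 20,nat_lit 8,nat_lit 1]] [[nat_lit 150,nat_lit 139,nat_lit 1]] [Ins.ts (nat_lit 1) [nat_lit 0] [],Ins.fr [nat_lit 0],Ins.ts (nat_lit 4) [nat_lit 0] [nat_lit 0,nat_lit 0,nat_lit 0],Ins.ts (nat_lit 1) [nat_lit 0] [],Ins.ts (nat_lit 0) [nat_lit 0,nat_lit 0] [],Ins.ts (nat_lit 4) [nat_lit 0] [nat_lit 0,nat_lit 0,nat_lit 2],Ins.fr [nat_lit 1],Ins.ts (nat_lit 0) [nat_lit 0,nat_lit 0] [nat_lit 1],Ins.ts (nat_lit 4) [nat_lit 0] [nat_lit 0,nat_lit 0,nat_lit 0],Ins.fr [nat_lit 2],Ins.ts (nat_lit 0) [nat_lit 0,nat_lit 0] [nat_lit 2],Ins.ts (nat_lit 0) [nat_lit 1,nat_lit 0,nat_lit 1] [nat_lit 0,nat_lit 3]] [(nat_lit 3,nat_lit 0),(nat_lit 2,nat_lit 0)] (Cert.rep (nat_lit 28) [] [nat_lit 256,nat_lit 128,nat_lit 68,nat_lit 32,nat_lit 20,nat_lit 8,nat_lit 2,nat_lit 1] [nat_lit 4] (Cert.rep (nat_lit 1) [nat_lit 2,nat_lit 32] [] []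 (Cert.rep (nat_lit 8) [] [] [] Cert.nil Cert.nil) Cert.nil) Cert.nil))) Cert.nil) Cert.nil) Cert.nil) Cert.nil) Cert.nil))))))))) Cert.nil)
noncomputable def f17_2 : Cert :=
  Cert.xk (nat_lit 52) (Cert.xn (nat_lit 4) (Cert.s2 (nat_lit 0) (nat_lit 2) (Cert.o1 (nat_lit 0) (nat_lit 2) (Cert.fu (nat_lit 4) (nat_lit 1) (nat_lit 0) (nat_lit 0) [] [nat_lit 2,nat_lit 1,nat_lit 24] [] [] [] [nat_lit 1] [[nat_lit 1]] [[nat_lit 2]] [Ins.fr [nat_lit 0],Ins.ts (nat_lit 4) [nat_lit 0] [nat_lit 0,nat_lit 0,nat_lit 0],Ins.ts (nat_lit 1) [nat_lit 0] [],Ins.fr [nat_lit 1],Ins.ts (nat_lit 3) [nat_lit 0] [],Ins.ts (nat_lit 0) [nat_lit 0,nat_lit 0] [],Ins.ts (nat_lit 1) [nat_lit 0] [],Ins.ts (nat_lit 1) [nat_lit 0,nat_lit 1] [],Ins.fr [nat_lit 0,nat_lit 2],Ins.ts (nat_lit 0) [nat_lit 0,nat_lit 0] [nat_lit 1],Ins.ts (nat_lit 4) [nat_lit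 0] [nat_lit 0,nat_lit 0,nat_lit 1]] [(nat_lit 1,nat_lit 0)] (Cert.rep (nat_lit 4) [] [nat_lit 128,nat_lit 8,nat_lit 4,nat_lit 2,nat_lit 1] [nat_lit 256,nat_lit 32,nat_lit 96,nat_lit 16] (Cert.rep (nat_lit 1) [nat_lit 2,nat_lit 8,nat_lit 128] [] [] (Cert.rep (nat_lit 2) [] [] [] Cert.nil Cert.nil) Cert.nil) Cert.nil))) (Cert.root (nat_lit 16) [] [nat_lit 8,nat_lit 4] [nat_lit 0,nat_lit 1,nat_lit 2,nat_lit 3,nat_lit 4] [Ins.fr [nat_lit 0],Ins.ts (nat_lit 0) [nat_lit 0,nat_lit 0] [],Ins.ts (nat_lit 4) [nat_lit 0] [nat_lit 0,nat_lit 0,nat_lit 0],Ins.ts (nat_lit 1) [nat_lit 0] [],Ins.fr [nat_lit 1],Ins.ts (nat_lit 4) [nat_lit 0] [nat_lit 0,nat_lit 0,nat_lit 0],Ins.ts (nat_lit 1) [nat_lit 0,nat_lit 0] [],Ins.ts (nat_lit 1) [nat_lit 0,nat_lit 0,nat_lit 0,nat_lit 0] [],Ins.ts (nat_lit 0) [nat_lit 1,nat_lit 0,nat_lit 1] [nat_lit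 0,nat_lit 0,nat_lit 0],Ins.df [nat_lit 0,nat_lit 0],Ins.df [nat_lit 0,nat_lit 0]] (Cert.rep (nat_lit 4) [nat_lit 2,nat_lit 8,nat_lit 128] [nat_lit 128,nat_lit 8,nat_lit 4,nat_lit 2,nat_lit 1] [nat_lit 256,nat_lit 32,nat_lit 96,nat_lit 16] (Cert.rep (nat_lit 1) [] [] [] Cert.nil (Cert.rep (nat_lit 2) [nat_lit 2] [] [] (Cert.rep (nat_lit 128) [] [] [] (Cert.er (Cert.ro (nat_lit 0) [nat_lit 1,nat_lit 8,nat_lit 16] [nat_lit 8,nat_lit 9,nat_lit 16] [] (Cert.ro (nat_lit 1) [nat_lit 1,nat_lit 2,nat_lit 14,nat_lit 16] [nat_lit 1,nat_lit 14,nat_lit 12,nat_lit 16] [nat_lit 0,nat_lit 1,nat_lit 8,nat_lit 9,nat_lit 130,nat_lit 131,nat_lit 139,nat_lit 138,nat_lit 4,nat_lit 5,nat_lit 12,nat_lit 13,nat_lit 134,nat_lit 135,nat_lit 143,nat_lit 142] (Cert.kw (nat_lit 2) (nat_lit 0) (nat_lit 2) (nat_lit 1) )))) (Cert.rep (nat_lit 129)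 [] [] [] (Cert.er (Cert.ro (nat_lit 0) [nat_lit 1,nat_lit 8,nat_lit 16] [nat_lit 8,nat_lit 9,nat_lit 16] [] (Cert.ro (nat_lit 1) [nat_lit 1,nat_lit 2,nat_lit 14,nat_lit 16] [nat_lit 1,nat_lit 14,nat_lit 12,nat_lit 16] [nat_lit 0,nat_lit 1,nat_lit 8,nat_lit 9,nat_lit 131,nat_lit 130,nat_lit 138,nat_lit 139,nat_lit 4,nat_lit 5,nat_lit 12,nat_lit 13,nat_lit 135,nat_lit 134,nat_lit 142,nat_lit 143] (Cert.kw (nat_lit 2) (nat_lit 0) (nat_lit 2) (nat_lit 1) )))) Cert.nil)) Cert.nil)) Cert.nil)))) (Cert.xk (nat_lit 84) (Cert.xn (nat_lit 4) (Cert.root (nat_lit 16) [] [nat_lit 8,nat_lit 4] [nat_lit 0,nat_lit 1,nat_lit 2,nat_lit 3,nat_lit 4] [Ins.fr [nat_lit 0],Ins.ts (nat_lit 0) [nat_lit 0,nat_lit 0] [],Ins.ts (nat_lit 4) [nat_lit 0] [nat_lit 0,nat_lit 0,nat_lit 0],Ins.ts (nat_lit 1) [nat_lit 0] [],Ins.fr [nat_lit 1],Ins.ts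 (nat_lit 4) [nat_lit 0] [nat_lit 0,nat_lit 0,nat_lit 0],Ins.ts (nat_lit 1) [nat_lit 0,nat_lit 0] [],Ins.ts (nat_lit 1) [nat_lit 0,nat_lit 0,nat_lit 0,nat_lit 0] [],Ins.ts (nat_lit 0) [nat_lit 1,nat_lit 0,nat_lit 1] [nat_lit 0,nat_lit 0,nat_lit 0],Ins.df [nat_lit 0,nat_lit 0],Ins.df [nat_lit 0,nat_lit 0]] (Cert.rep (nat_lit 4) [nat_lit 2,nat_lit 8,nat_lit 128] [nat_lit 128,nat_lit 8,nat_lit 4,nat_lit 2,nat_lit 1] [nat_lit 256,nat_lit 32,nat_lit 96,nat_lit 16] (Cert.rep (nat_lit 1) [] [] [] Cert.nil (Cert.rep (nat_lit 2) [nat_lit 2] [] [] f17_0 Cert.nil)) Cert.nil))) (Cert.xk (nat_lit 308) (Cert.xn (nat_lit 4) (Cert.s2 (nat_lit 0) (nat_lit 2) (Cert.o1 (nat_lit 0) (nat_lit 2) (Cert.fu (nat_lit 4) (nat_lit 1) (nat_lit 0) (nat_lit 0) [] [nat_lit 2,nat_lit 1,nat_lit 24] [] [] [] [nat_lit 1] [[nat_lit 1]] [[nat_lit 2]]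 [Ins.fr [nat_lit 0],Ins.ts (nat_lit 4) [nat_lit 0] [nat_lit 0,nat_lit 0,nat_lit 0],Ins.ts (nat_lit 1) [nat_lit 0] [],Ins.fr [nat_lit 1],Ins.ts (nat_lit 3) [nat_lit 0] [],Ins.ts (nat_lit 0) [nat_lit 0,nat_lit 0] [],Ins.ts (nat_lit 1) [nat_lit 0] [],Ins.ts (nat_lit 1) [nat_lit 0,nat_lit 1] [],Ins.fr [nat_lit 0,nat_lit 2],Ins.ts (nat_lit 0) [nat_lit 0,nat_lit 0] [nat_lit 1],Ins.ts (nat_lit 4) [nat_lit 0] [nat_lit 0,nat_lit 0,nat_lit 1]] [(nat_lit 1,nat_lit 0)] (Cert.rep (nat_lit 4) [] [nat_lit 128,nat_lit 8,nat_lit 4,nat_lit 2,nat_lit 1] [nat_lit 256,nat_lit 32,nat_lit 96,nat_lit 16] (Cert.rep (nat_lit 1) [nat_lit 2,nat_lit 8,nat_lit 128] [] [] (Cert.rep (nat_lit 2) [] [] [] Cert.nil Cert.nil) Cert.nil) Cert.nil))) (Cert.root (nat_lit 16) [] [nat_lit 8,nat_lit 4] [nat_lit 0,nat_lit 1,nat_lit 2,nat_lit 3,nat_lit 4] [Ins.fr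 [nat_lit 0],Ins.ts (nat_lit 0) [nat_lit 0,nat_lit 0] [],Ins.ts (nat_lit 4) [nat_lit 0] [nat_lit 0,nat_lit 0,nat_lit 0],Ins.ts (nat_lit 1) [nat_lit 0] [],Ins.fr [nat_lit 1],Ins.ts (nat_lit 4) [nat_lit 0] [nat_lit 0,nat_lit 0,nat_lit 0],Ins.ts (nat_lit 1) [nat_lit 0,nat_lit 0] [],Ins.ts (nat_lit 1) [nat_lit 0,nat_lit 0,nat_lit 0,nat_lit 0] [],Ins.ts (nat_lit 0) [nat_lit 1,nat_lit 0,nat_lit 1] [nat_lit 0,nat_lit 0,nat_lit 0],Ins.df [nat_lit 0,nat_lit 0],Ins.df [nat_lit 0,nat_lit 0]] (Cert.rep (nat_lit 4) [nat_lit 2,nat_lit 8,nat_lit 128] [nat_lit 128,nat_lit 8,nat_lit 4,nat_lit 2,nat_lit 1] [nat_lit 256,nat_lit 32,nat_lit 96,nat_lit 16] (Cert.rep (nat_lit 1) [] [] [] Cert.nil (Cert.rep (nat_lit 2) [nat_lit 2] [] [] (Cert.rep (nat_lit 128) [] [] [] (Cert.er (Cert.ro (nat_lit 0) [nat_lit 1,nat_lit 8,nat_lit 16] [nat_lit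 8,nat_lit 9,nat_lit 16] [] (Cert.ro (nat_lit 1) [nat_lit 1,nat_lit 2,nat_lit 14,nat_lit 16] [nat_lit 1,nat_lit 14,nat_lit 12,nat_lit 16] [nat_lit 0,nat_lit 1,nat_lit 8,nat_lit 9,nat_lit 130,nat_lit 131,nat_lit 139,nat_lit 138,nat_lit 4,nat_lit 5,nat_lit 12,nat_lit 13,nat_lit 134,nat_lit 135,nat_lit 143,nat_lit 142] (Cert.kw (nat_lit 2) (nat_lit 0) (nat_lit 2) (nat_lit 1) )))) (Cert.rep (nat_lit 129) [] [] [] (Cert.er (Cert.ro (nat_lit 0) [nat_lit 1,nat_lit 8,nat_lit 16] [nat_lit 8,nat_lit 9,nat_lit 16] [] (Cert.ro (nat_lit 1) [nat_lit 1,nat_lit 2,nat_lit 14,nat_lit 16] [nat_lit 1,nat_lit 14,nat_lit 12,nat_lit 16] [nat_lit 0,nat_lit 1,nat_lit 8,nat_lit 9,nat_lit 131,nat_lit 130,nat_lit 138,nat_lit 139,nat_lit 4,nat_lit 5,nat_lit 12,nat_lit 13,nat_lit 135,nat_lit 134,nat_lit 142,nat_lit 143] (Cert.kw (nat_lit 2) (nat_lit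 0) (nat_lit 2) (nat_lit 1) )))) Cert.nil)) Cert.nil)) Cert.nil)))) (Cert.xk (nat_lit 340) (Cert.xn (nat_lit 4) (Cert.root (nat_lit 16) [] [nat_lit 8,nat_lit 4] [nat_lit 0,nat_lit 1,nat_lit 2,nat_lit 3,nat_lit 4] [Ins.fr [nat_lit 0],Ins.ts (nat_lit 0) [nat_lit 0,nat_lit 0] [],Ins.ts (nat_lit 4) [nat_lit 0] [nat_lit 0,nat_lit 0,nat_lit 0],Ins.ts (nat_lit 1) [nat_lit 0] [],Ins.fr [nat_lit 1],Ins.ts (nat_lit 4) [nat_lit 0] [nat_lit 0,nat_lit 0,nat_lit 0],Ins.ts (nat_lit 1) [nat_lit 0,nat_lit 0] [],Ins.ts (nat_lit 1) [nat_lit 0,nat_lit 0,nat_lit 0,nat_lit 0] [],Ins.ts (nat_lit 0) [nat_lit 1,nat_lit 0,nat_lit 1] [nat_lit 0,nat_lit 0,nat_lit 0],Ins.df [nat_lit 0,nat_lit 0],Ins.df [nat_lit 0,nat_lit 0]] (Cert.rep (nat_lit 4) [nat_lit 2,nat_lit 8,nat_lit 128] [nat_lit 128,nat_lit 8,nat_lit 4,nat_lit 2,nat_lit 1] [nat_lit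 256,nat_lit 32,nat_lit 96,nat_lit 16] (Cert.rep (nat_lit 1) [] [] [] Cert.nil (Cert.rep (nat_lit 2) [nat_lit 2] [] [] f17_1 Cert.nil)) Cert.nil))) (Cert.xe (nat_lit 4) [] [(nat_lit 0,nat_lit 8),(nat_lit 0,nat_lit 64),(nat_lit 0,nat_lit 128),(nat_lit 0,nat_lit 256),(nat_lit 2,nat_lit 64),(nat_lit 4,nat_lit 256)]))))
noncomputable def f17 : Cert :=
  (Cert.st (nat_lit 0) (nat_lit 4) (nat_lit 0) (Cert.sp (nat_lit 1) (Cert.lf (Leaf.pt (nat_lit 10) (nat_lit 1) [nat_lit 8,nat_lit 4])) (Cert.sp (nat_lit 2) (Cert.lf (Leaf.pt (nat_lit 10) (nat_lit 2) [nat_lit 36,nat_lit 1])) (Cert.st (nat_lit 0) (nat_lit 2) (nat_lit 0) (Cert.sp (nat_lit 28) (Cert.lf (Leaf.pt (nat_lit 10) (nat_lit 28) [nat_lit 40,nat_lit 1])) (Cert.st (nat_lit 0) (nat_lit 28) (nat_lit 0) (Cert.sp (nat_lit 32) (Cert.lf (Leaf.pt (nat_lit 10) (nat_lit 32) [nat_lit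 78,nat_lit 1])) (Cert.st (nat_lit 0) (nat_lit 32) (nat_lit 0) (Cert.sp (nat_lit 33) (Cert.lf (Leaf.pt (nat_lit 10) (nat_lit 33) [nat_lit 78,nat_lit 1])) (Cert.st (nat_lit 0) (nat_lit 33) (nat_lit 0) (Cert.sp (nat_lit 266) (Cert.lf (Leaf.pt (nat_lit 10) (nat_lit 266) [nat_lit 108,nat_lit 1])) (Cert.st (nat_lit 0) (nat_lit 266) (nat_lit 0) (Cert.sp (nat_lit 288) (Cert.lf (Leaf.pt (nat_lit 14) (nat_lit 288) [nat_lit 1,nat_lit 28,nat_lit 76])) (Cert.st (nat_lit 0) (nat_lit 288) (nat_lit 0) (Cert.nl (nat_lit 1) (Cert.sy (nat_lit 0) (Cert.xk (nat_lit 0) (Cert.th (nat_lit 4) (nat_lit 4) (nat_lit 0) true [nat_lit 0] [] [] [] [nat_lit 256,nat_lit 32,nat_lit 228,nat_lit 20,nat_lit 148,nat_lit 9,nat_lit 1,nat_lit 22] [] [] [] Cert.nil) f17_2)))))))))))))))))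
theorem fin17 : finOK DB PT 34 t34 17 t17 (nat_lit 0x330000c0cc0c03030030330000003000cc0000c0cc0c03030030300c00c000030000300000000000000000c0c00000c0cc0c00c0330c0f000000ff0c3ccff) f17 = true := by
  decide +kernel
noncomputable def f19_0 : Cert :=
  Cert.rep (nat_lit 129) [] [] [] (Cert.er (Cert.ro (nat_lit 0) [nat_lit 1,nat_lit 8,nat_lit 16] [nat_lit 8,nat_lit 9,nat_lit 16] [] (Cert.ro (nat_lit 1) [nat_lit 1,nat_lit 2,nat_lit 14,nat_lit 16] [nat_lit 1,nat_lit 14,nat_lit 12,nat_lit 16] [nat_lit 0,nat_lit 1,nat_lit 8,nat_lit 9,nat_lit 131,nat_lit 130,nat_lit 138,nat_lit 139,nat_lit 4,nat_lit 5,nat_lit 12,nat_lit 13,nat_lit 135,nat_lit 134,nat_lit 142,nat_lit 143] (Cert.lw (nat_lit 0) (nat_lit 2) (nat_lit 1) (Cert.s2 (nat_lit 0) (nat_lit 28) (Cert.o1 (nat_lit 0) (nat_lit 28) (Cert.fu (nat_lit 28) (nat_lit 1) (nat_lit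 0) (nat_lit 0) [nat_lit 0] [nat_lit 297,nat_lit 162] [] [] [] [nat_lit 1] [[nat_lit 1]] [[nat_lit 28]] [Ins.ts (nat_lit 1) [nat_lit 0] [],Ins.fr [nat_lit 0],Ins.ts (nat_lit 0) [nat_lit 0,nat_lit 0] [nat_lit 1],Ins.fr [nat_lit 1],Ins.ts (nat_lit 1) [nat_lit 0,nat_lit 0,nat_lit 0,nat_lit 0] [],Ins.ts (nat_lit 0) [nat_lit 0,nat_lit 0,nat_lit 1,nat_lit 0,nat_lit 0] [nat_lit 1],Ins.ts (nat_lit 1) [nat_lit 0,nat_lit 0,nat_lit 0,nat_lit 0,nat_lit 2] [],Ins.ts (nat_lit 0) [nat_lit 1,nat_lit 0,nat_lit 1,nat_lit 0,nat_lit 1] [nat_lit 0,nat_lit 1,nat_lit 0]] [] (Cert.rep (nat_lit 1) [nat_lit 2,nat_lit 4,nat_lit 8,nat_lit 16,nat_lit 32,nat_lit 64,nat_lit 128,nat_lit 256] [nat_lit 256,nat_lit 128,nat_lit 64,nat_lit 32,nat_lit 16,nat_lit 8,nat_lit 4,nat_lit 2,nat_lit 1] [] (Cert.rep (nat_lit 8) [] [] [] Cert.nil (Cert.rep (nat_lit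 12) [] [] [] Cert.nil (Cert.rep (nat_lit 130) [] [] [] Cert.nil (Cert.rep (nat_lit 266) [] [] [] Cert.nil Cert.nil)))) Cert.nil))) (Cert.s2 (nat_lit 0) (nat_lit 32) (Cert.o1 (nat_lit 0) (nat_lit 32) (Cert.fu (nat_lit 28) (nat_lit 1) (nat_lit 0) (nat_lit 0) [nat_lit 1] [nat_lit 32] [] [] [] [nat_lit 1] [[nat_lit 1]] [[nat_lit 32]] [Ins.ts (nat_lit 3) [nat_lit 0] [],Ins.ts (nat_lit 1) [nat_lit 0] [],Ins.fr [nat_lit 0],Ins.ts (nat_lit 4) [nat_lit 0] [nat_lit 0,nat_lit 0,nat_lit 0],Ins.ts (nat_lit 1) [nat_lit 0] [],Ins.ts (nat_lit 4) [nat_lit 0,nat_lit 1] [nat_lit 0,nat_lit 0,nat_lit 2]] [(nat_lit 3,nat_lit 0),(nat_lit 2,nat_lit 0)] (Cert.rep (nat_lit 28) [] [nat_lit 256,nat_lit 128,nat_lit 68,nat_lit 32,nat_lit 20,nat_lit 8,nat_lit 2,nat_lit 1] [nat_lit 4] Cert.nil Cert.nil))) (Cert.o1 (nat_lit 0) (nat_lit 2) (Cert.fu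 (nat_lit 4) (nat_lit 1) (nat_lit 0) (nat_lit 0) [] [nat_lit 2,nat_lit 1,nat_lit 24] [] [] [] [nat_lit 1] [[nat_lit 1]] [[nat_lit 2]] [Ins.fr [nat_lit 0],Ins.ts (nat_lit 4) [nat_lit 0] [nat_lit 0,nat_lit 0,nat_lit 0],Ins.ts (nat_lit 1) [nat_lit 0] [],Ins.fr [nat_lit 1],Ins.ts (nat_lit 3) [nat_lit 0] [],Ins.ts (nat_lit 0) [nat_lit 0,nat_lit 0] [],Ins.ts (nat_lit 1) [nat_lit 0] [],Ins.ts (nat_lit 1) [nat_lit 0,nat_lit 1] [],Ins.fr [nat_lit 0,nat_lit 2],Ins.ts (nat_lit 0) [nat_lit 0,nat_lit 0] [nat_lit 1],Ins.ts (nat_lit 4) [nat_lit 2,nat_lit 3,nat_lit 0] [nat_lit 0,nat_lit 0,nat_lit 1]] [(nat_lit 2,nat_lit 0)] (Cert.rep (nat_lit 4) [] [nat_lit 128,nat_lit 8,nat_lit 4,nat_lit 2,nat_lit 1] [nat_lit 256,nat_lit 32,nat_lit 96,nat_lit 16] (Cert.rep (nat_lit 1) [nat_lit 2,nat_lit 8,nat_lit 128] [] [] (Cert.rep (nat_lit 2)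 [] [] [] Cert.nil Cert.nil) Cert.nil) Cert.nil))))))))) (Cert.rep (nat_lit 132) [] [] [] (Cert.er (Cert.ro (nat_lit 0) [nat_lit 1,nat_lit 8,nat_lit 16] [nat_lit 8,nat_lit 9,nat_lit 16] [] (Cert.ro (nat_lit 1) [nat_lit 1,nat_lit 2,nat_lit 14,nat_lit 16] [nat_lit 1,nat_lit 14,nat_lit 12,nat_lit 16] [nat_lit 0,nat_lit 1,nat_lit 8,nat_lit 9,nat_lit 134,nat_lit 135,nat_lit 143,nat_lit 142,nat_lit 4,nat_lit 5,nat_lit 12,nat_lit 13,nat_lit 130,nat_lit 131,nat_lit 139,nat_lit 138] (Cert.fu (nat_lit 4) (nat_lit 2) (nat_lit 4) (nat_lit 1) [nat_lit 1] [nat_lit 1,nat_lit 142,nat_lit 8,nat_lit 16] [] [] [nat_lit 128,nat_lit 16,nat_lit 8,nat_lit 4,nat_lit 2,nat_lit 1] [nat_lit 1] [[nat_lit 8,nat_lit 1]] [[nat_lit 1],[nat_lit 4,nat_lit 1],[nat_lit 142,nat_lit 1]] [Ins.fr [nat_lit 0],Ins.ts (nat_lit 4) [nat_lit 0] [nat_lit 0,nat_lit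 0,nat_lit 0],Ins.ts (nat_lit 1) [nat_lit 0] [],Ins.fr [nat_lit 1],Ins.ts (nat_lit 4) [nat_lit 0] [nat_lit 0,nat_lit 0,nat_lit 2],Ins.ts (nat_lit 1) [nat_lit 0] [],Ins.ts (nat_lit 0) [nat_lit 0,nat_lit 0] [nat_lit 1],Ins.fr [nat_lit 2],Ins.ts (nat_lit 0) [nat_lit 0,nat_lit 0] [nat_lit 2],Ins.ts (nat_lit 0) [nat_lit 1,nat_lit 0,nat_lit 1] [nat_lit 0],Ins.fr [nat_lit 2,nat_lit 3],Ins.ts (nat_lit 2) [nat_lit 0] [],Ins.ts (nat_lit 0) [nat_lit 0,nat_lit 0] [],Ins.ts (nat_lit 0) [nat_lit 2,nat_lit 0] [nat_lit 0,nat_lit 2],Ins.ts (nat_lit 2) [nat_lit 2,nat_lit 4,nat_lit 0] []] [] (Cert.rep (nat_lit 4) [] [nat_lit 128,nat_lit 8,nat_lit 4,nat_lit 2,nat_lit 1] [nat_lit 16] (Cert.rep (nat_lit 1) [nat_lit 2] [] [] (Cert.rep (nat_lit 8) [nat_lit 8,nat_lit 128] [] [] (Cert.rep (nat_lit 130) [] [] [] Cert.nil (Cert.rep (nat_lit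 134) [] [] [] Cert.nil Cert.nil)) Cert.nil) Cert.nil) Cert.nil))))) (Cert.rep (nat_lit 133) [] [] [] (Cert.er (Cert.ro (nat_lit 0) [nat_lit 1,nat_lit 8,nat_lit 16] [nat_lit 8,nat_lit 9,nat_lit 16] [] (Cert.ro (nat_lit 1) [nat_lit 1,nat_lit 2,nat_lit 14,nat_lit 16] [nat_lit 1,nat_lit 14,nat_lit 12,nat_lit 16] [nat_lit 0,nat_lit 1,nat_lit 8,nat_lit 9,nat_lit 135,nat_lit 134,nat_lit 142,nat_lit 143,nat_lit 4,nat_lit 5,nat_lit 12,nat_lit 13,nat_lit 131,nat_lit 130,nat_lit 138,nat_lit 139] (Cert.fu (nat_lit 4) (nat_lit 2) (nat_lit 4) (nat_lit 1) [nat_lit 1] [nat_lit 1,nat_lit 143,nat_lit 8,nat_lit 16] [] [] [nat_lit 128,nat_lit 16,nat_lit 8,nat_lit 4,nat_lit 2,nat_lit 1] [nat_lit 1] [[nat_lit 8,nat_lit 1]] [[nat_lit 1],[nat_lit 4,nat_lit 1],[nat_lit 143,nat_lit 1]] [Ins.fr [nat_lit 0],Ins.ts (nat_lit 4) [nat_lit 0] [nat_lit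 0,nat_lit 0,nat_lit 0],Ins.ts (nat_lit 1) [nat_lit 0] [],Ins.fr [nat_lit 1],Ins.ts (nat_lit 4) [nat_lit 0] [nat_lit 0,nat_lit 0,nat_lit 2],Ins.ts (nat_lit 1) [nat_lit 0] [],Ins.ts (nat_lit 0) [nat_lit 0,nat_lit 0] [nat_lit 1],Ins.fr [nat_lit 2],Ins.ts (nat_lit 0) [nat_lit 0,nat_lit 0] [nat_lit 2],Ins.ts (nat_lit 0) [nat_lit 1,nat_lit 0,nat_lit 1] [nat_lit 0],Ins.fr [nat_lit 2,nat_lit 3],Ins.ts (nat_lit 2) [nat_lit 0] [],Ins.ts (nat_lit 0) [nat_lit 0,nat_lit 0] [],Ins.ts (nat_lit 0) [nat_lit 2,nat_lit 0] [nat_lit 0,nat_lit 2],Ins.ts (nat_lit 2) [nat_lit 2,nat_lit 4,nat_lit 0] []] [] (Cert.rep (nat_lit 4) [] [nat_lit 128,nat_lit 8,nat_lit 4,nat_lit 2,nat_lit 1] [nat_lit 16] (Cert.rep (nat_lit 1) [nat_lit 2] [] [] (Cert.rep (nat_lit 8) [nat_lit 8,nat_lit 128] [] [] (Cert.rep (nat_lit 130) [] [] [] Cert.nil (Cert.rep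 (nat_lit 134) [] [] [] Cert.nil Cert.nil)) Cert.nil) Cert.nil) Cert.nil))))) Cert.nil))
noncomputable def f19_1 : Cert :=
  Cert.root (nat_lit 16) [] [nat_lit 8,nat_lit 4] [nat_lit 0,nat_lit 1,nat_lit 2,nat_lit 3,nat_lit 4] [Ins.fr [nat_lit 0],Ins.ts (nat_lit 0) [nat_lit 0,nat_lit 0] [],Ins.ts (nat_lit 1) [nat_lit 0] [],Ins.ts (nat_lit 1) [nat_lit 0,nat_lit 1] [],Ins.fr [nat_lit 1],Ins.ts (nat_lit 1) [nat_lit 0,nat_lit 0] [],Ins.ts (nat_lit 1) [nat_lit 0,nat_lit 0,nat_lit 0,nat_lit 0] [],Ins.ts (nat_lit 0) [nat_lit 1,nat_lit 0,nat_lit 1] [nat_lit 0,nat_lit 0,nat_lit 0],Ins.df [nat_lit 0,nat_lit 0],Ins.df [nat_lit 0,nat_lit 0]] (Cert.rep (nat_lit 4) [nat_lit 2,nat_lit 8,nat_lit 128] [nat_lit 128,nat_lit 8,nat_lit 4,nat_lit 2,nat_lit 1] [nat_lit 256,nat_lit 32,nat_lit 96,nat_lit 16] (Cert.rep (nat_lit 1) [] [] [] Cert.nil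 (Cert.rep (nat_lit 2) [nat_lit 2] [] [] (Cert.rep (nat_lit 128) [] [] [] (Cert.er (Cert.ro (nat_lit 0) [nat_lit 1,nat_lit 8,nat_lit 16] [nat_lit 8,nat_lit 9,nat_lit 16] [] (Cert.ro (nat_lit 1) [nat_lit 1,nat_lit 2,nat_lit 14,nat_lit 16] [nat_lit 1,nat_lit 14,nat_lit 12,nat_lit 16] [nat_lit 0,nat_lit 1,nat_lit 8,nat_lit 9,nat_lit 130,nat_lit 131,nat_lit 139,nat_lit 138,nat_lit 4,nat_lit 5,nat_lit 12,nat_lit 13,nat_lit 134,nat_lit 135,nat_lit 143,nat_lit 142] (Cert.lw (nat_lit 0) (nat_lit 2) (nat_lit 1) (Cert.s2 (nat_lit 0) (nat_lit 28) (Cert.o1 (nat_lit 0) (nat_lit 28) (Cert.fu (nat_lit 28) (nat_lit 1) (nat_lit 0) (nat_lit 0) [nat_lit 0] [nat_lit 297,nat_lit 162] [] [] [] [nat_lit 1] [[nat_lit 1]] [[nat_lit 28]] [Ins.ts (nat_lit 1) [nat_lit 0] [],Ins.fr [nat_lit 0],Ins.ts (nat_lit 0) [nat_lit 0,nat_lit 0] [nat_lit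 1],Ins.fr [nat_lit 1],Ins.ts (nat_lit 1) [nat_lit 0,nat_lit 0,nat_lit 0,nat_lit 0] [],Ins.ts (nat_lit 0) [nat_lit 0,nat_lit 0,nat_lit 1,nat_lit 0,nat_lit 0] [nat_lit 1],Ins.ts (nat_lit 1) [nat_lit 0,nat_lit 0,nat_lit 0,nat_lit 0,nat_lit 2] [],Ins.ts (nat_lit 0) [nat_lit 1,nat_lit 0,nat_lit 1,nat_lit 0,nat_lit 1] [nat_lit 0,nat_lit 1,nat_lit 0]] [] (Cert.rep (nat_lit 1) [nat_lit 2,nat_lit 4,nat_lit 8,nat_lit 16,nat_lit 32,nat_lit 64,nat_lit 128,nat_lit 256] [nat_lit 256,nat_lit 128,nat_lit 64,nat_lit 32,nat_lit 16,nat_lit 8,nat_lit 4,nat_lit 2,nat_lit 1] [] (Cert.rep (nat_lit 8) [] [] [] Cert.nil (Cert.rep (nat_lit 12) [] [] [] Cert.nil (Cert.rep (nat_lit 130) [] [] [] Cert.nil (Cert.rep (nat_lit 266) [] [] [] Cert.nil Cert.nil)))) Cert.nil))) (Cert.s2 (nat_lit 0) (nat_lit 32) (Cert.o1 (nat_lit 0) (nat_lit 32) (Cert.fu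 (nat_lit 28) (nat_lit 1) (nat_lit 0) (nat_lit 0) [nat_lit 1] [nat_lit 32] [] [] [] [nat_lit 1] [[nat_lit 1]] [[nat_lit 32]] [Ins.ts (nat_lit 3) [nat_lit 0] [],Ins.ts (nat_lit 1) [nat_lit 0] [],Ins.fr [nat_lit 0],Ins.ts (nat_lit 4) [nat_lit 0] [nat_lit 0,nat_lit 0,nat_lit 0],Ins.ts (nat_lit 1) [nat_lit 0] [],Ins.ts (nat_lit 4) [nat_lit 0,nat_lit 1] [nat_lit 0,nat_lit 0,nat_lit 2]] [(nat_lit 3,nat_lit 0),(nat_lit 2,nat_lit 0)] (Cert.rep (nat_lit 28) [] [nat_lit 256,nat_lit 128,nat_lit 68,nat_lit 32,nat_lit 20,nat_lit 8,nat_lit 2,nat_lit 1] [nat_lit 4] Cert.nil Cert.nil))) (Cert.o1 (nat_lit 0) (nat_lit 2) (Cert.fu (nat_lit 4) (nat_lit 1) (nat_lit 0) (nat_lit 0) [] [nat_lit 2,nat_lit 1,nat_lit 24] [] [] [] [nat_lit 1] [[nat_lit 1]] [[nat_lit 2]] [Ins.fr [nat_lit 0],Ins.ts (nat_lit 4) [nat_lit 0] [nat_lit 0,nat_lit 0,nat_lit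 0],Ins.ts (nat_lit 1) [nat_lit 0] [],Ins.fr [nat_lit 1],Ins.ts (nat_lit 3) [nat_lit 0] [],Ins.ts (nat_lit 0) [nat_lit 0,nat_lit 0] [],Ins.ts (nat_lit 1) [nat_lit 0] [],Ins.ts (nat_lit 1) [nat_lit 0,nat_lit 1] [],Ins.fr [nat_lit 0,nat_lit 2],Ins.ts (nat_lit 0) [nat_lit 0,nat_lit 0] [nat_lit 1],Ins.ts (nat_lit 4) [nat_lit 2,nat_lit 3,nat_lit 0] [nat_lit 0,nat_lit 0,nat_lit 1]] [(nat_lit 2,nat_lit 0)] (Cert.rep (nat_lit 4) [] [nat_lit 128,nat_lit 8,nat_lit 4,nat_lit 2,nat_lit 1] [nat_lit 256,nat_lit 32,nat_lit 96,nat_lit 16] (Cert.rep (nat_lit 1) [nat_lit 2,nat_lit 8,nat_lit 128] [] [] (Cert.rep (nat_lit 2) [] [] [] Cert.nil Cert.nil) Cert.nil) Cert.nil))))))))) f19_0) (Cert.rep (nat_lit 5) [] [] [] Cert.nil (Cert.rep (nat_lit 6) [nat_lit 2] [] [] (Cert.rep (nat_lit 128) [] [] [] (Cert.er (Cert.ro (nat_lit 0) [nat_lit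 1,nat_lit 8,nat_lit 16] [nat_lit 8,nat_lit 9,nat_lit 16] [nat_lit 0,nat_lit 1,nat_lit 6,nat_lit 7,nat_lit 4,nat_lit 5,nat_lit 2,nat_lit 3] (Cert.ro (nat_lit 1) [nat_lit 1,nat_lit 2,nat_lit 14,nat_lit 16] [nat_lit 1,nat_lit 14,nat_lit 12,nat_lit 16] [nat_lit 0,nat_lit 1,nat_lit 8,nat_lit 9,nat_lit 134,nat_lit 135,nat_lit 143,nat_lit 142,nat_lit 4,nat_lit 5,nat_lit 12,nat_lit 13,nat_lit 130,nat_lit 131,nat_lit 139,nat_lit 138] (Cert.lf (Leaf.st (nat_lit 2) (nat_lit 1) (nat_lit 1) (Leaf.cf (nat_lit 1))))))) (Cert.rep (nat_lit 129) [] [] [] (Cert.er (Cert.ro (nat_lit 0) [nat_lit 1,nat_lit 8,nat_lit 16] [nat_lit 8,nat_lit 9,nat_lit 16] [nat_lit 0,nat_lit 1,nat_lit 6,nat_lit 7,nat_lit 4,nat_lit 5,nat_lit 2,nat_lit 3] (Cert.ro (nat_lit 1) [nat_lit 1,nat_lit 2,nat_lit 14,nat_lit 16] [nat_lit 1,nat_lit 14,nat_lit 12,nat_lit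 16] [nat_lit 0,nat_lit 1,nat_lit 8,nat_lit 9,nat_lit 135,nat_lit 134,nat_lit 142,nat_lit 143,nat_lit 4,nat_lit 5,nat_lit 12,nat_lit 13,nat_lit 131,nat_lit 130,nat_lit 138,nat_lit 139] (Cert.lf (Leaf.st (nat_lit 2) (nat_lit 1) (nat_lit 1) (Leaf.cf (nat_lit 1))))))) (Cert.rep (nat_lit 132) [] [] [] (Cert.er (Cert.ro (nat_lit 0) [nat_lit 1,nat_lit 8,nat_lit 16] [nat_lit 8,nat_lit 9,nat_lit 16] [nat_lit 0,nat_lit 1,nat_lit 6,nat_lit 7,nat_lit 4,nat_lit 5,nat_lit 2,nat_lit 3] (Cert.ro (nat_lit 1) [nat_lit 1,nat_lit 2,nat_lit 14,nat_lit 16] [nat_lit 1,nat_lit 14,nat_lit 12,nat_lit 16] [nat_lit 0,nat_lit 1,nat_lit 8,nat_lit 9,nat_lit 130,nat_lit 131,nat_lit 139,nat_lit 138,nat_lit 4,nat_lit 5,nat_lit 12,nat_lit 13,nat_lit 134,nat_lit 135,nat_lit 143,nat_lit 142] (Cert.lf (Leaf.st (nat_lit 2) (nat_lit 1) (nat_lit 1) (Leaf.cf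 (nat_lit 1))))))) (Cert.rep (nat_lit 133) [] [] [] (Cert.er (Cert.ro (nat_lit 0) [nat_lit 1,nat_lit 8,nat_lit 16] [nat_lit 8,nat_lit 9,nat_lit 16] [nat_lit 0,nat_lit 1,nat_lit 6,nat_lit 7,nat_lit 4,nat_lit 5,nat_lit 2,nat_lit 3] (Cert.ro (nat_lit 1) [nat_lit 1,nat_lit 2,nat_lit 14,nat_lit 16] [nat_lit 1,nat_lit 14,nat_lit 12,nat_lit 16] [nat_lit 0,nat_lit 1,nat_lit 8,nat_lit 9,nat_lit 131,nat_lit 130,nat_lit 138,nat_lit 139,nat_lit 4,nat_lit 5,nat_lit 12,nat_lit 13,nat_lit 135,nat_lit 134,nat_lit 142,nat_lit 143] (Cert.lf (Leaf.st (nat_lit 2) (nat_lit 1) (nat_lit 1) (Leaf.cf (nat_lit 1))))))) Cert.nil)))) Cert.nil)))) Cert.nil)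
noncomputable def f19 : Cert :=
  (Cert.st (nat_lit 0) (nat_lit 4) (nat_lit 0) (Cert.sp (nat_lit 1) (Cert.lf (Leaf.pt (nat_lit 10) (nat_lit 1) [nat_lit 8,nat_lit 4])) (Cert.sp (nat_lit 2) (Cert.lf (Leaf.pt (nat_lit 10) (nat_lit 2) [nat_lit 36,nat_lit 1])) (Cert.st (nat_lit 0) (nat_lit 2) (nat_lit 0) (Cert.sp (nat_lit 28) (Cert.lf (Leaf.pt (nat_lit 10) (nat_lit 28) [nat_lit 40,nat_lit 1])) (Cert.st (nat_lit 0) (nat_lit 28) (nat_lit 0) (Cert.sp (nat_lit 32) (Cert.lf (Leaf.pt (nat_lit 10) (nat_lit 32) [nat_lit 78,nat_lit 1])) (Cert.st (nat_lit 0) (nat_lit 32) (nat_lit 0) (Cert.nl (nat_lit 1) (Cert.sy (nat_lit 0) f19_1))))))))))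
theorem fin19 : finOK DB PT 34 t34 19 t19 (nat_lit 0x30000300000000000000000c0c00000c0cc0c00c0330c0f000000ff0c3ccff) f19 = true := by
  decide +kernel
noncomputable def f24 : Cert :=
  (Cert.st (nat_lit 0) (nat_lit 4) (nat_lit 0) (Cert.sp (nat_lit 1) (Cert.lf (Leaf.pt (nat_lit 10) (nat_lit 1) [nat_lit 8,nat_lit 4])) (Cert.sp (nat_lit 2) (Cert.lf (Leaf.pt (nat_lit 10) (nat_lit 2) [nat_lit 36,nat_lit 1])) (Cert.st (nat_lit 0) (nat_lit 2) (nat_lit 0) (Cert.sp (nat_lit 10) (Cert.lf (Leaf.pt (nat_lit 10) (nat_lit 10) [nat_lit 66,nat_lit 1])) (Cert.st (nat_lit 0) (nat_lit 10) (nat_lit 0) (Cert.sp (nat_lit 28) (Cert.lf (Leaf.pt (nat_lit 10) (nat_lit 28) [nat_lit 40,nat_lit 1])) (Cert.st (nat_lit 0) (nat_lit 28) (nat_lit 0) (Cert.sp (nat_lit 32) (Cert.lf (Leaf.pt (nat_lit 14) (nat_lit 32) [nat_lit 1,nat_lit 2,nat_lit 28]))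 (Cert.st (nat_lit 0) (nat_lit 32) (nat_lit 0) (Cert.sp (nat_lit 102) (Cert.lf (Leaf.pt (nat_lit 10) (nat_lit 102) [nat_lit 42,nat_lit 1])) (Cert.st (nat_lit 0) (nat_lit 102) (nat_lit 0) (Cert.nl (nat_lit 1) (Cert.sy (nat_lit 0) (Cert.root (nat_lit 16) [] [nat_lit 8,nat_lit 4] [] [Ins.fr [nat_lit 0],Ins.ts (nat_lit 1) [nat_lit 0] [],Ins.ts (nat_lit 0) [nat_lit 0,nat_lit 0] [],Ins.ts (nat_lit 1) [nat_lit 0,nat_lit 1] [],Ins.fr [nat_lit 1],Ins.ts (nat_lit 1) [nat_lit 0,nat_lit 0] [],Ins.ts (nat_lit 1) [nat_lit 0,nat_lit 0,nat_lit 0,nat_lit 0] []] (Cert.rep (nat_lit 4) [nat_lit 2,nat_lit 8] [nat_lit 8,nat_lit 4,nat_lit 2,nat_lit 1] [nat_lit 64,nat_lit 32,nat_lit 16] (Cert.rep (nat_lit 1) [] [] [] Cert.nil (Cert.rep (nat_lit 2) [] [] [] Cert.nil (Cert.rep (nat_lit 5) [] [] [] Cert.nil (Cert.rep (nat_lit 6) [] [] [] Cert.nil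 (Cert.rep (nat_lit 10) [] [] [] Cert.nil (Cert.rep (nat_lit 14) [] [] [] Cert.nil Cert.nil)))))) Cert.nil))))))))))))))))
theorem fin24 : finOK DB PT 34 t34 24 t24 (nat_lit 0xc0cc0c000000000f000000ff0c3ccff) f24 = true := by
  decide +kernel
noncomputable def f35 : Cert :=
  (Cert.st (nat_lit 0) (nat_lit 8) (nat_lit 0) (Cert.sp (nat_lit 1) (Cert.lf (Leaf.pt (nat_lit 7) (nat_lit 1) [nat_lit 8,nat_lit 16])) (Cert.sp (nat_lit 2) (Cert.lf (Leaf.pt (nat_lit 0) (nat_lit 2) [nat_lit 96])) (Cert.st (nat_lit 0) (nat_lit 2) (nat_lit 0) (Cert.sp (nat_lit 4) (Cert.lf (Leaf.pt (nat_lit 7) (nat_lit 4) [nat_lit 8,nat_lit 16])) (Cert.st (nat_lit 0) (nat_lit 4) (nat_lit 0) (Cert.sp (nat_lit 12) (Cert.lf (Leaf.pt (nat_lit 7) (nat_lit 12) [nat_lit 8,nat_lit 16])) (Cert.st (nat_lit 0) (nat_lit 12) (nat_lit 0) (Cert.sp (nat_lit 14) (Cert.lf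 (Leaf.pt (nat_lit 11) (nat_lit 14) [nat_lit 2,nat_lit 64,nat_lit 1])) (Cert.st (nat_lit 0) (nat_lit 14) (nat_lit 0) (Cert.sp (nat_lit 18) (Cert.lf (Leaf.pt (nat_lit 0) (nat_lit 18) [nat_lit 140])) (Cert.st (nat_lit 0) (nat_lit 18) (nat_lit 0) (Cert.sp (nat_lit 30) (Cert.lf (Leaf.pt (nat_lit 8) (nat_lit 30) [nat_lit 4,nat_lit 18])) (Cert.st (nat_lit 0) (nat_lit 30) (nat_lit 0) (Cert.sp (nat_lit 32) (Cert.lf (Leaf.pt (nat_lit 11) (nat_lit 32) [nat_lit 18,nat_lit 128,nat_lit 1])) (Cert.st (nat_lit 0) (nat_lit 32) (nat_lit 0) (Cert.sp (nat_lit 44) (Cert.lf (Leaf.pt (nat_lit 11) (nat_lit 44) [nat_lit 12,nat_lit 84,nat_lit 1])) (Cert.st (nat_lit 0) (nat_lit 44) (nat_lit 0) (Cert.sp (nat_lit 68) (Cert.lf (Leaf.st (nat_lit 1) (nat_lit 16) (nat_lit 68) (Leaf.pt (nat_lit 7) (nat_lit 68) [nat_lit 104,nat_lit 150]))) (Cert.st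 (nat_lit 0) (nat_lit 68) (nat_lit 0) (Cert.sp (nat_lit 69) (Cert.lf (Leaf.pt (nat_lit 11) (nat_lit 69) [nat_lit 1,nat_lit 150,nat_lit 44])) (Cert.st (nat_lit 0) (nat_lit 69) (nat_lit 0) (Cert.sp (nat_lit 72) (Cert.lf (Leaf.st (nat_lit 1) (nat_lit 148) (nat_lit 72) (Leaf.st (nat_lit 1) (nat_lit 4) (nat_lit 72) (Leaf.st (nat_lit 1) (nat_lit 132) (nat_lit 72) (Leaf.pt (nat_lit 15) (nat_lit 72) [nat_lit 1,nat_lit 2,nat_lit 44]))))) (Cert.st (nat_lit 0) (nat_lit 72) (nat_lit 0) (Cert.sp (nat_lit 136) (Cert.lf (Leaf.st (nat_lit 1) (nat_lit 32) (nat_lit 136) (Leaf.pt (nat_lit 7) (nat_lit 136) [nat_lit 137,nat_lit 84]))) (Cert.st (nat_lit 0) (nat_lit 136) (nat_lit 0) (Cert.sp (nat_lit 204) (Cert.lf (Leaf.st (nat_lit 1) (nat_lit 16) (nat_lit 204) (Leaf.pt (nat_lit 7) (nat_lit 204) [nat_lit 205,nat_lit 90]))) (Cert.st (nat_lit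 0) (nat_lit 204) (nat_lit 0) (Cert.nl (nat_lit 1) (Cert.sy (nat_lit 0) (Cert.root (nat_lit 32) [] [nat_lit 8,nat_lit 4] [] [Ins.fr [nat_lit 0],Ins.ts (nat_lit 0) [nat_lit 0,nat_lit 0] [],Ins.ts (nat_lit 1) [nat_lit 0] [],Ins.ts (nat_lit 1) [nat_lit 0,nat_lit 1] [],Ins.fr [nat_lit 1],Ins.ts (nat_lit 1) [nat_lit 0,nat_lit 0] [],Ins.ts (nat_lit 1) [nat_lit 0,nat_lit 0,nat_lit 0,nat_lit 0] []] (Cert.rep (nat_lit 8) [nat_lit 2,nat_lit 16] [nat_lit 16,nat_lit 8,nat_lit 4,nat_lit 2,nat_lit 1] [nat_lit 128,nat_lit 64,nat_lit 32] (Cert.rep (nat_lit 1) [] [] [] Cert.nil (Cert.rep (nat_lit 2) [] [] [] Cert.nil (Cert.rep (nat_lit 4) [] [] [] Cert.nil (Cert.rep (nat_lit 5) [] [] [] Cert.nil (Cert.rep (nat_lit 6) [] [] [] Cert.nil (Cert.rep (nat_lit 9) [] [] [] Cert.nil (Cert.rep (nat_lit 10) [] [] [] Cert.nil (Cert.rep (nat_lit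 12) [] [] [] Cert.nil (Cert.rep (nat_lit 13) [] [] [] Cert.nil (Cert.rep (nat_lit 14) [] [] [] Cert.nil (Cert.rep (nat_lit 18) [] [] [] Cert.nil (Cert.rep (nat_lit 22) [] [] [] Cert.nil (Cert.rep (nat_lit 26) [] [] [] Cert.nil (Cert.rep (nat_lit 30) [] [] [] Cert.nil Cert.nil)))))))))))))) Cert.nil))))))))))))))))))))))))))))))))
theorem fin35 : finOK DB PT 88 t88 35 t35 (nat_lit 0x300033000300000c000300c00030000000ff000000ff0c33cf00fccccffff) f35 = true := by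
  decide +kernel
noncomputable def f44 : Cert :=
  (Cert.st (nat_lit 0) (nat_lit 8) (nat_lit 0) (Cert.sp (nat_lit 1) (Cert.lf (Leaf.pt (nat_lit 7) (nat_lit 1) [nat_lit 8,nat_lit 16])) (Cert.sp (nat_lit 2) (Cert.lf (Leaf.pt (nat_lit 0) (nat_lit 2) [nat_lit 96])) (Cert.st (nat_lit 0) (nat_lit 2) (nat_lit 0) (Cert.sp (nat_lit 4) (Cert.lf (Leaf.pt (nat_lit 7) (nat_lit 4) [nat_lit 8,nat_lit 16])) (Cert.st (nat_lit 0) (nat_lit 4) (nat_lit 0) (Cert.sp (nat_lit 12) (Cert.lf (Leaf.pt (nat_lit 7) (nat_lit 12) [nat_lit 8,nat_lit 16])) (Cert.sp (nat_lit 13) (Cert.lf (Leaf.pt (nat_lit 7) (nat_lit 13) [nat_lit 8,nat_lit 16])) (Cert.sp (nat_lit 14) (Cert.lf (Leaf.pt (nat_lit 11) (nat_lit 14) [nat_lit 2,nat_lit 64,nat_lit 1])) (Cert.st (nat_lit 0) (nat_lit 14) (nat_lit 0) (Cert.sp (nat_lit 18) (Cert.lf (Leaf.pt (nat_lit 0) (nat_lit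 18) [nat_lit 132])) (Cert.st (nat_lit 0) (nat_lit 18) (nat_lit 0) (Cert.sp (nat_lit 30) (Cert.lf (Leaf.pt (nat_lit 11) (nat_lit 30) [nat_lit 12,nat_lit 128,nat_lit 32])) (Cert.st (nat_lit 0) (nat_lit 30) (nat_lit 0) (Cert.sp (nat_lit 32) (Cert.lf (Leaf.pt (nat_lit 11) (nat_lit 32) [nat_lit 18,nat_lit 128,nat_lit 12])) (Cert.st (nat_lit 0) (nat_lit 32) (nat_lit 0) (Cert.sp (nat_lit 44) (Cert.lf (Leaf.pt (nat_lit 11) (nat_lit 44) [nat_lit 12,nat_lit 84,nat_lit 1])) (Cert.st (nat_lit 0) (nat_lit 44) (nat_lit 0) (Cert.sp (nat_lit 68) (Cert.lf (Leaf.st (nat_lit 1) (nat_lit 16) (nat_lit 68) (Leaf.pt (nat_lit 7) (nat_lit 68) [nat_lit 104,nat_lit 128]))) (Cert.st (nat_lit 0) (nat_lit 68) (nat_lit 0) (Cert.sp (nat_lit 69) (Cert.lf (Leaf.pt (nat_lit 11) (nat_lit 69) [nat_lit 1,nat_lit 128,nat_lit 12])) (Cert.st (nat_lit 0)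 (nat_lit 69) (nat_lit 0) (Cert.sp (nat_lit 72) (Cert.lf (Leaf.pt (nat_lit 11) (nat_lit 72) [nat_lit 12,nat_lit 128,nat_lit 32])) (Cert.st (nat_lit 0) (nat_lit 72) (nat_lit 0) (Cert.sp (nat_lit 73) (Cert.lf (Leaf.pt (nat_lit 11) (nat_lit 73) [nat_lit 1,nat_lit 128,nat_lit 12])) (Cert.st (nat_lit 0) (nat_lit 73) (nat_lit 0) (Cert.nl (nat_lit 1) (Cert.sy (nat_lit 0) (Cert.root (nat_lit 32) [] [nat_lit 8,nat_lit 4] [] [Ins.fr [nat_lit 0],Ins.ts (nat_lit 0) [nat_lit 0,nat_lit 0] [],Ins.ts (nat_lit 1) [nat_lit 0] [],Ins.ts (nat_lit 1) [nat_lit 0,nat_lit 1] [],Ins.fr [nat_lit 1],Ins.ts (nat_lit 1) [nat_lit 0,nat_lit 0] [],Ins.ts (nat_lit 1) [nat_lit 0,nat_lit 0,nat_lit 0,nat_lit 0] []] (Cert.rep (nat_lit 8) [nat_lit 2,nat_lit 16] [nat_lit 16,nat_lit 8,nat_lit 4,nat_lit 2,nat_lit 1] [nat_lit 128,nat_lit 64,nat_lit 32] (Cert.rep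 (nat_lit 1) [] [] [] Cert.nil (Cert.rep (nat_lit 2) [] [] [] Cert.nil (Cert.rep (nat_lit 4) [] [] [] Cert.nil (Cert.rep (nat_lit 5) [] [] [] Cert.nil (Cert.rep (nat_lit 6) [] [] [] Cert.nil (Cert.rep (nat_lit 9) [] [] [] Cert.nil (Cert.rep (nat_lit 10) [] [] [] Cert.nil (Cert.rep (nat_lit 12) [] [] [] Cert.nil (Cert.rep (nat_lit 13) [] [] [] Cert.nil (Cert.rep (nat_lit 14) [] [] [] Cert.nil (Cert.rep (nat_lit 18) [] [] [] Cert.nil (Cert.rep (nat_lit 22) [] [] [] Cert.nil (Cert.rep (nat_lit 26) [] [] [] Cert.nil (Cert.rep (nat_lit 30) [] [] [] Cert.nil Cert.nil)))))))))))))) Cert.nil))))))))))))))))))))))))))))))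
theorem fin44 : finOK DB PT 88 t88 44 t44 (nat_lit 0xff000000ff0c33cf00fccccffff) f44 = true := by
  decide +kernel
noncomputable def f71_0 : Cert :=
  Cert.rep (nat_lit 8) [nat_lit 2,nat_lit 16] [nat_lit 16,nat_lit 8,nat_lit 4,nat_lit 2,nat_lit 1] [nat_lit 256,nat_lit 128,nat_lit 64,nat_lit 32] (Cert.rep (nat_lit 1) [] [] [] Cert.nil (Cert.rep (nat_lit 2) [] [] [] Cert.nil (Cert.rep (nat_lit 4) [] [] [] Cert.nil (Cert.rep (nat_lit 5) [] [] [] Cert.nil (Cert.rep (nat_lit 6) [] [] [] Cert.nil (Cert.rep (nat_lit 9) [] [] [] Cert.nil (Cert.rep (nat_lit 10) [] [] [] Cert.nil (Cert.rep (nat_lit 12) [] [] [] Cert.nil (Cert.rep (nat_lit 13) [] [] [] Cert.nil (Cert.rep (nat_lit 14) [] [] [] Cert.nil (Cert.rep (nat_lit 18) [] [] [] Cert.nil (Cert.rep (nat_lit 22) [] [] [] Cert.nil (Cert.rep (nat_lit 26) [] [] [] Cert.nil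 (Cert.rep (nat_lit 30) [] [] [] Cert.nil Cert.nil)))))))))))))) (Cert.rep (nat_lit 26) [nat_lit 4,nat_lit 8,nat_lit 34,nat_lit 192] [nat_lit 192,nat_lit 34,nat_lit 18,nat_lit 8,nat_lit 4,nat_lit 1] [nat_lit 256,nat_lit 64,nat_lit 2] (Cert.rep (nat_lit 1) [] [] [] Cert.nil (Cert.rep (nat_lit 4) [nat_lit 4,nat_lit 8] [] [] (Cert.rep (nat_lit 204) [] [] [] (Cert.er (Cert.ro (nat_lit 0) [nat_lit 1,nat_lit 8,nat_lit 16] [nat_lit 8,nat_lit 9,nat_lit 16] [nat_lit 0,nat_lit 1,nat_lit 4,nat_lit 5,nat_lit 26,nat_lit 27,nat_lit 30,nat_lit 31] (Cert.ro (nat_lit 1) [nat_lit 1,nat_lit 2,nat_lit 14,nat_lit 16] [nat_lit 1,nat_lit 14,nat_lit 12,nat_lit 16] [nat_lit 0,nat_lit 1,nat_lit 42,nat_lit 43,nat_lit 200,nat_lit 201,nat_lit 227,nat_lit 226,nat_lit 26,nat_lit 27,nat_lit 49,nat_lit 48,nat_lit 210,nat_lit 211,nat_lit 248,nat_lit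 249] (Cert.lf (Leaf.st (nat_lit 2) (nat_lit 1) (nat_lit 5) (Leaf.cf (nat_lit 30))))))) (Cert.rep (nat_lit 214) [] [] [] (Cert.er (Cert.ro (nat_lit 0) [nat_lit 1,nat_lit 8,nat_lit 16] [nat_lit 8,nat_lit 9,nat_lit 16] [nat_lit 0,nat_lit 1,nat_lit 4,nat_lit 5,nat_lit 26,nat_lit 27,nat_lit 30,nat_lit 31] (Cert.ro (nat_lit 1) [nat_lit 1,nat_lit 2,nat_lit 14,nat_lit 16] [nat_lit 1,nat_lit 14,nat_lit 12,nat_lit 16] [nat_lit 0,nat_lit 1,nat_lit 42,nat_lit 43,nat_lit 210,nat_lit 211,nat_lit 248,nat_lit 249,nat_lit 26,nat_lit 27,nat_lit 49,nat_lit 48,nat_lit 200,nat_lit 201,nat_lit 227,nat_lit 226] (Cert.lf (Leaf.st (nat_lit 2) (nat_lit 1) (nat_lit 5) (Leaf.cf (nat_lit 30))))))) Cert.nil)) (Cert.rep (nat_lit 8) [nat_lit 4,nat_lit 8] [] [] (Cert.rep (nat_lit 192) [] [] [] (Cert.er (Cert.ro (nat_lit 0) [nat_lit 1,nat_lit 8,nat_lit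 16] [nat_lit 8,nat_lit 9,nat_lit 16] [nat_lit 0,nat_lit 1,nat_lit 8,nat_lit 9,nat_lit 26,nat_lit 27,nat_lit 18,nat_lit 19] (Cert.ro (nat_lit 1) [nat_lit 1,nat_lit 2,nat_lit 14,nat_lit 16] [nat_lit 1,nat_lit 14,nat_lit 12,nat_lit 16] [nat_lit 0,nat_lit 1,nat_lit 43,nat_lit 42,nat_lit 200,nat_lit 201,nat_lit 226,nat_lit 227,nat_lit 26,nat_lit 27,nat_lit 48,nat_lit 49,nat_lit 210,nat_lit 211,nat_lit 249,nat_lit 248] (Cert.lf (Leaf.st (nat_lit 2) (nat_lit 1) (nat_lit 1) (Leaf.cf (nat_lit 1))))))) (Cert.rep (nat_lit 218) [] [] [] (Cert.er (Cert.ro (nat_lit 0) [nat_lit 1,nat_lit 8,nat_lit 16] [nat_lit 8,nat_lit 9,nat_lit 16] [nat_lit 0,nat_lit 1,nat_lit 8,nat_lit 9,nat_lit 26,nat_lit 27,nat_lit 18,nat_lit 19] (Cert.ro (nat_lit 1) [nat_lit 1,nat_lit 2,nat_lit 14,nat_lit 16] [nat_lit 1,nat_lit 14,nat_lit 12,nat_lit 16] [nat_lit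 0,nat_lit 1,nat_lit 43,nat_lit 42,nat_lit 210,nat_lit 211,nat_lit 249,nat_lit 248,nat_lit 26,nat_lit 27,nat_lit 48,nat_lit 49,nat_lit 200,nat_lit 201,nat_lit 226,nat_lit 227] (Cert.lf (Leaf.st (nat_lit 2) (nat_lit 1) (nat_lit 1) (Leaf.cf (nat_lit 1))))))) Cert.nil)) (Cert.rep (nat_lit 12) [] [] [] Cert.nil (Cert.rep (nat_lit 18) [nat_lit 4,nat_lit 8] [] [] (Cert.rep (nat_lit 192) [] [] [] (Cert.er (Cert.ro (nat_lit 0) [nat_lit 1,nat_lit 8,nat_lit 16] [nat_lit 8,nat_lit 9,nat_lit 16] [nat_lit 0,nat_lit 1,nat_lit 18,nat_lit 19,nat_lit 26,nat_lit 27,nat_lit 8,nat_lit 9] (Cert.ro (nat_lit 1) [nat_lit 1,nat_lit 2,nat_lit 14,nat_lit 16] [nat_lit 1,nat_lit 14,nat_lit 12,nat_lit 16] [nat_lit 0,nat_lit 1,nat_lit 43,nat_lit 42,nat_lit 210,nat_lit 211,nat_lit 249,nat_lit 248,nat_lit 26,nat_lit 27,nat_lit 48,nat_lit 49,nat_lit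 200,nat_lit 201,nat_lit 226,nat_lit 227] (Cert.kw (nat_lit 2) (nat_lit 0) (nat_lit 2) (nat_lit 1) )))) (Cert.rep (nat_lit 218) [] [] [] (Cert.er (Cert.ro (nat_lit 0) [nat_lit 1,nat_lit 8,nat_lit 16] [nat_lit 8,nat_lit 9,nat_lit 16] [nat_lit 0,nat_lit 1,nat_lit 18,nat_lit 19,nat_lit 26,nat_lit 27,nat_lit 8,nat_lit 9] (Cert.ro (nat_lit 1) [nat_lit 1,nat_lit 2,nat_lit 14,nat_lit 16] [nat_lit 1,nat_lit 14,nat_lit 12,nat_lit 16] [nat_lit 0,nat_lit 1,nat_lit 43,nat_lit 42,nat_lit 200,nat_lit 201,nat_lit 226,nat_lit 227,nat_lit 26,nat_lit 27,nat_lit 48,nat_lit 49,nat_lit 210,nat_lit 211,nat_lit 249,nat_lit 248] (Cert.kw (nat_lit 2) (nat_lit 0) (nat_lit 2) (nat_lit 1) )))) Cert.nil)) (Cert.rep (nat_lit 22) [] [] [] Cert.nil (Cert.rep (nat_lit 27) [] [] [] Cert.nil (Cert.rep (nat_lit 30) [nat_lit 4,nat_lit 8] [] [] (Cert.rep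 (nat_lit 204) [] [] [] (Cert.er (Cert.ro (nat_lit 0) [nat_lit 1,nat_lit 8,nat_lit 16] [nat_lit 8,nat_lit 9,nat_lit 16] [nat_lit 0,nat_lit 1,nat_lit 30,nat_lit 31,nat_lit 26,nat_lit 27,nat_lit 4,nat_lit 5] (Cert.ro (nat_lit 1) [nat_lit 1,nat_lit 2,nat_lit 14,nat_lit 16] [nat_lit 1,nat_lit 14,nat_lit 12,nat_lit 16] [nat_lit 0,nat_lit 1,nat_lit 42,nat_lit 43,nat_lit 210,nat_lit 211,nat_lit 248,nat_lit 249,nat_lit 26,nat_lit 27,nat_lit 49,nat_lit 48,nat_lit 200,nat_lit 201,nat_lit 227,nat_lit 226] (Cert.lf (Leaf.st (nat_lit 2) (nat_lit 1) (nat_lit 5) (Leaf.cf (nat_lit 4))))))) (Cert.rep (nat_lit 214) [] [] [] (Cert.er (Cert.ro (nat_lit 0) [nat_lit 1,nat_lit 8,nat_lit 16] [nat_lit 8,nat_lit 9,nat_lit 16] [nat_lit 0,nat_lit 1,nat_lit 30,nat_lit 31,nat_lit 26,nat_lit 27,nat_lit 4,nat_lit 5] (Cert.ro (nat_lit 1) [nat_lit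 1,nat_lit 2,nat_lit 14,nat_lit 16] [nat_lit 1,nat_lit 14,nat_lit 12,nat_lit 16] [nat_lit 0,nat_lit 1,nat_lit 42,nat_lit 43,nat_lit 200,nat_lit 201,nat_lit 227,nat_lit 226,nat_lit 26,nat_lit 27,nat_lit 49,nat_lit 48,nat_lit 210,nat_lit 211,nat_lit 248,nat_lit 249] (Cert.lf (Leaf.st (nat_lit 2) (nat_lit 1) (nat_lit 5) (Leaf.cf (nat_lit 4))))))) Cert.nil)) (Cert.rep (nat_lit 196) [] [] [] Cert.nil (Cert.rep (nat_lit 222) [] [] [] Cert.nil Cert.nil)))))))))) Cert.nil)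
noncomputable def f71 : Cert :=
  (Cert.st (nat_lit 0) (nat_lit 8) (nat_lit 0) (Cert.st (nat_lit 0) (nat_lit 26) (nat_lit 0) (Cert.sp (nat_lit 1) (Cert.lf (Leaf.pt (nat_lit 7) (nat_lit 1) [nat_lit 8,nat_lit 16])) (Cert.sp (nat_lit 2) (Cert.lf (Leaf.pt (nat_lit 0) (nat_lit 2) [nat_lit 96])) (Cert.st (nat_lit 0) (nat_lit 2) (nat_lit 0) (Cert.sp (nat_lit 4) (Cert.lf (Leaf.pt (nat_lit 7) (nat_lit 4) [nat_lit 8,nat_lit 16])) (Cert.st (nat_lit 0) (nat_lit 4) (nat_lit 0) (Cert.sp (nat_lit 12) (Cert.lf (Leaf.pt (nat_lit 7) (nat_lit 12) [nat_lit 8,nat_lit 16])) (Cert.st (nat_lit 0) (nat_lit 12) (nat_lit 0) (Cert.sp (nat_lit 18) (Cert.lf (Leaf.pt (nat_lit 6) (nat_lit 18) [nat_lit 8])) (Cert.st (nat_lit 0) (nat_lit 18) (nat_lit 0) (Cert.sp (nat_lit 22) (Cert.lf (Leaf.pt (nat_lit 7) (nat_lit 22) [nat_lit 26,nat_lit 38])) (Cert.st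 (nat_lit 0) (nat_lit 22) (nat_lit 0) (Cert.sp (nat_lit 30) (Cert.lf (Leaf.pt (nat_lit 8) (nat_lit 30) [nat_lit 4,nat_lit 18])) (Cert.st (nat_lit 0) (nat_lit 30) (nat_lit 0) (Cert.sp (nat_lit 128) (Cert.lf (Leaf.pt (nat_lit 25) (nat_lit 128) [nat_lit 16,nat_lit 260])) (Cert.st (nat_lit 0) (nat_lit 128) (nat_lit 0) (Cert.sp (nat_lit 196) (Cert.lf (Leaf.pt (nat_lit 7) (nat_lit 196) [nat_lit 26,nat_lit 38])) (Cert.st (nat_lit 0) (nat_lit 196) (nat_lit 0) (Cert.nl (nat_lit 1) (Cert.sy (nat_lit 0) (Cert.s2 (nat_lit 0) (nat_lit 18) (Cert.o1 (nat_lit 0) (nat_lit 18) (Cert.fu (nat_lit 8) (nat_lit 1) (nat_lit 0) (nat_lit 0) [] [nat_lit 18,nat_lit 1,nat_lit 4,nat_lit 32,nat_lit 128] [] [] [] [nat_lit 1] [[nat_lit 1]] [[nat_lit 18]] [Ins.fr [nat_lit 0],Ins.ts (nat_lit 4) [nat_lit 0] [nat_lit 0,nat_lit 0,nat_lit 0],Ins.ts (nat_lit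 1) [nat_lit 0] [],Ins.fr [nat_lit 1],Ins.ts (nat_lit 2) [nat_lit 0,nat_lit 2] [],Ins.ts (nat_lit 0) [nat_lit 0,nat_lit 0] [],Ins.ts (nat_lit 1) [nat_lit 0] [],Ins.ts (nat_lit 3) [nat_lit 0] [],Ins.ts (nat_lit 1) [nat_lit 0,nat_lit 1] [],Ins.fr [nat_lit 2],Ins.ts (nat_lit 3) [nat_lit 0] [],Ins.ts (nat_lit 0) [nat_lit 0,nat_lit 0] [],Ins.ts (nat_lit 3) [nat_lit 0,nat_lit 3] [],Ins.ts (nat_lit 0) [nat_lit 1,nat_lit 0] [nat_lit 0,nat_lit 1],Ins.fr [nat_lit 1,nat_lit 3],Ins.ts (nat_lit 0) [nat_lit 0,nat_lit 0] [],Ins.ts (nat_lit 2) [nat_lit 0] [],Ins.ts (nat_lit 0) [nat_lit 1,nat_lit 2,nat_lit 0] [nat_lit 0,nat_lit 1],Ins.fr [nat_lit 0],Ins.ts (nat_lit 0) [nat_lit 0,nat_lit 0] []] [] (Cert.rep (nat_lit 8) [] [nat_lit 16,nat_lit 8,nat_lit 4,nat_lit 2,nat_lit 1] [nat_lit 256,nat_lit 128,nat_lit 64,nat_lit 32] (Cert.rep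 (nat_lit 1) [nat_lit 2,nat_lit 16] [] [] (Cert.rep (nat_lit 2) [] [] [] (Cert.rep (nat_lit 4) [nat_lit 4] [] [] (Cert.rep (nat_lit 76) [] [] [] Cert.nil (Cert.rep (nat_lit 77) [] [] [] Cert.nil Cert.nil)) (Cert.rep (nat_lit 5) [nat_lit 4] [] [] (Cert.rep (nat_lit 76) [] [] [] Cert.nil (Cert.rep (nat_lit 77) [] [] [] Cert.nil Cert.nil)) (Cert.rep (nat_lit 6) [nat_lit 4] [] [] (Cert.rep (nat_lit 76) [] [] [] Cert.nil (Cert.rep (nat_lit 77) [] [] [] Cert.nil Cert.nil)) (Cert.rep (nat_lit 7) [nat_lit 4] [] [] (Cert.rep (nat_lit 76) [] [] [] Cert.nil (Cert.rep (nat_lit 77) [] [] [] Cert.nil Cert.nil)) (Cert.rep (nat_lit 12) [] [] [] Cert.nil (Cert.rep (nat_lit 13) [] [] [] Cert.nil (Cert.rep (nat_lit 14) [] [] [] Cert.nil (Cert.rep (nat_lit 15) [] [] [] Cert.nil Cert.nil)))))))) (Cert.rep (nat_lit 18) [] [] [] (Cert.rep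 (nat_lit 4) [] [] [] Cert.nil (Cert.rep (nat_lit 5) [] [] [] Cert.nil (Cert.rep (nat_lit 12) [] [] [] Cert.nil (Cert.rep (nat_lit 13) [] [] [] Cert.nil (Cert.rep (nat_lit 22) [] [] [] Cert.nil (Cert.rep (nat_lit 23) [] [] [] Cert.nil (Cert.rep (nat_lit 30) [] [] [] Cert.nil (Cert.rep (nat_lit 31) [] [] [] Cert.nil Cert.nil)))))))) Cert.nil)) Cert.nil) (Cert.rep (nat_lit 26) [] [nat_lit 192,nat_lit 34,nat_lit 18,nat_lit 8,nat_lit 4,nat_lit 1] [nat_lit 256,nat_lit 64,nat_lit 2] (Cert.rep (nat_lit 1) [nat_lit 4,nat_lit 34,nat_lit 192] [] [] (Cert.rep (nat_lit 18) [] [] [] (Cert.rep (nat_lit 4) [] [] [] Cert.nil (Cert.rep (nat_lit 5) [] [] [] Cert.nil (Cert.rep (nat_lit 12) [] [] [] Cert.nil (Cert.rep (nat_lit 13) [] [] [] Cert.nil (Cert.rep (nat_lit 22) [] [] [] Cert.nil (Cert.rep (nat_lit 23) [] [] [] Cert.nil (Cert.rep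 (nat_lit 30) [] [] [] Cert.nil (Cert.rep (nat_lit 31) [] [] [] Cert.nil Cert.nil)))))))) Cert.nil) Cert.nil) Cert.nil)))) (Cert.root (nat_lit 32) [] [nat_lit 8,nat_lit 4] [nat_lit 0,nat_lit 1,nat_lit 2,nat_lit 3,nat_lit 4] [Ins.fr [nat_lit 0],Ins.ts (nat_lit 0) [nat_lit 0,nat_lit 0] [],Ins.ts (nat_lit 1) [nat_lit 0] [],Ins.ts (nat_lit 1) [nat_lit 0,nat_lit 1] [],Ins.fr [nat_lit 1],Ins.ts (nat_lit 1) [nat_lit 0,nat_lit 0] [],Ins.ts (nat_lit 1) [nat_lit 0,nat_lit 0,nat_lit 0,nat_lit 0] [],Ins.ts (nat_lit 0) [nat_lit 1,nat_lit 0,nat_lit 1] [nat_lit 0,nat_lit 0,nat_lit 0],Ins.df [nat_lit 0,nat_lit 0],Ins.df [nat_lit 0,nat_lit 0]] f71_0)))))))))))))))))))))))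
theorem fin71 : finOK DB PT 88 t88 71 t71 (nat_lit 0xc30f000c00300f00c300f00300c000f00000ff00000f00fc33cf00fccccffff) f71 = true := by
  decide +kernel
noncomputable def f73_0 : Cert :=
  Cert.rep (nat_lit 8) [nat_lit 2,nat_lit 16] [nat_lit 16,nat_lit 8,nat_lit 4,nat_lit 2,nat_lit 1] [nat_lit 256,nat_lit 128,nat_lit 64,nat_lit 32] (Cert.rep (nat_lit 1) [] [] [] Cert.nil (Cert.rep (nat_lit 2) [] [] [] Cert.nil (Cert.rep (nat_lit 4) [] [] [] Cert.nil (Cert.rep (nat_lit 5) [] [] [] Cert.nil (Cert.rep (nat_lit 6) [] [] [] Cert.nil (Cert.rep (nat_lit 9) [] [] [] Cert.nil (Cert.rep (nat_lit 10) [] [] [] Cert.nil (Cert.rep (nat_lit 12) [] [] [] Cert.nil (Cert.rep (nat_lit 13) [] [] [] Cert.nil (Cert.rep (nat_lit 14) [] [] [] Cert.nil (Cert.rep (nat_lit 18) [] [] [] Cert.nil (Cert.rep (nat_lit 22) [] [] [] Cert.nil (Cert.rep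 (nat_lit 26) [] [] [] Cert.nil (Cert.rep (nat_lit 30) [] [] [] Cert.nil Cert.nil)))))))))))))) (Cert.rep (nat_lit 26) [nat_lit 4,nat_lit 8,nat_lit 34,nat_lit 192] [nat_lit 192,nat_lit 34,nat_lit 18,nat_lit 8,nat_lit 4,nat_lit 1] [nat_lit 256,nat_lit 64,nat_lit 2] (Cert.rep (nat_lit 1) [] [] [] Cert.nil (Cert.rep (nat_lit 4) [nat_lit 4,nat_lit 8] [] [] (Cert.rep (nat_lit 204) [] [] [] (Cert.er (Cert.ro (nat_lit 0) [nat_lit 1,nat_lit 8,nat_lit 16] [nat_lit 8,nat_lit 9,nat_lit 16] [nat_lit 0,nat_lit 1,nat_lit 4,nat_lit 5,nat_lit 26,nat_lit 27,nat_lit 30,nat_lit 31] (Cert.ro (nat_lit 1) [nat_lit 1,nat_lit 2,nat_lit 14,nat_lit 16] [nat_lit 1,nat_lit 14,nat_lit 12,nat_lit 16] [nat_lit 0,nat_lit 1,nat_lit 42,nat_lit 43,nat_lit 200,nat_lit 201,nat_lit 227,nat_lit 226,nat_lit 26,nat_lit 27,nat_lit 49,nat_lit 48,nat_lit 210,nat_lit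 211,nat_lit 248,nat_lit 249] (Cert.lf (Leaf.st (nat_lit 2) (nat_lit 1) (nat_lit 5) (Leaf.cf (nat_lit 30))))))) (Cert.rep (nat_lit 214) [] [] [] (Cert.er (Cert.ro (nat_lit 0) [nat_lit 1,nat_lit 8,nat_lit 16] [nat_lit 8,nat_lit 9,nat_lit 16] [nat_lit 0,nat_lit 1,nat_lit 4,nat_lit 5,nat_lit 26,nat_lit 27,nat_lit 30,nat_lit 31] (Cert.ro (nat_lit 1) [nat_lit 1,nat_lit 2,nat_lit 14,nat_lit 16] [nat_lit 1,nat_lit 14,nat_lit 12,nat_lit 16] [nat_lit 0,nat_lit 1,nat_lit 42,nat_lit 43,nat_lit 210,nat_lit 211,nat_lit 248,nat_lit 249,nat_lit 26,nat_lit 27,nat_lit 49,nat_lit 48,nat_lit 200,nat_lit 201,nat_lit 227,nat_lit 226] (Cert.lf (Leaf.st (nat_lit 2) (nat_lit 1) (nat_lit 5) (Leaf.cf (nat_lit 30))))))) Cert.nil)) (Cert.rep (nat_lit 8) [nat_lit 4,nat_lit 8] [] [] (Cert.rep (nat_lit 192) [] [] [] (Cert.er (Cert.ro (nat_lit 0)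 [nat_lit 1,nat_lit 8,nat_lit 16] [nat_lit 8,nat_lit 9,nat_lit 16] [nat_lit 0,nat_lit 1,nat_lit 8,nat_lit 9,nat_lit 26,nat_lit 27,nat_lit 18,nat_lit 19] (Cert.ro (nat_lit 1) [nat_lit 1,nat_lit 2,nat_lit 14,nat_lit 16] [nat_lit 1,nat_lit 14,nat_lit 12,nat_lit 16] [nat_lit 0,nat_lit 1,nat_lit 43,nat_lit 42,nat_lit 200,nat_lit 201,nat_lit 226,nat_lit 227,nat_lit 26,nat_lit 27,nat_lit 48,nat_lit 49,nat_lit 210,nat_lit 211,nat_lit 249,nat_lit 248] (Cert.lf (Leaf.st (nat_lit 2) (nat_lit 1) (nat_lit 1) (Leaf.cf (nat_lit 1))))))) (Cert.rep (nat_lit 218) [] [] [] (Cert.er (Cert.ro (nat_lit 0) [nat_lit 1,nat_lit 8,nat_lit 16] [nat_lit 8,nat_lit 9,nat_lit 16] [nat_lit 0,nat_lit 1,nat_lit 8,nat_lit 9,nat_lit 26,nat_lit 27,nat_lit 18,nat_lit 19] (Cert.ro (nat_lit 1) [nat_lit 1,nat_lit 2,nat_lit 14,nat_lit 16] [nat_lit 1,nat_lit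 14,nat_lit 12,nat_lit 16] [nat_lit 0,nat_lit 1,nat_lit 43,nat_lit 42,nat_lit 210,nat_lit 211,nat_lit 249,nat_lit 248,nat_lit 26,nat_lit 27,nat_lit 48,nat_lit 49,nat_lit 200,nat_lit 201,nat_lit 226,nat_lit 227] (Cert.lf (Leaf.st (nat_lit 2) (nat_lit 1) (nat_lit 1) (Leaf.cf (nat_lit 1))))))) Cert.nil)) (Cert.rep (nat_lit 12) [] [] [] Cert.nil (Cert.rep (nat_lit 18) [nat_lit 4,nat_lit 8] [] [] (Cert.rep (nat_lit 192) [] [] [] (Cert.er (Cert.ro (nat_lit 0) [nat_lit 1,nat_lit 8,nat_lit 16] [nat_lit 8,nat_lit 9,nat_lit 16] [nat_lit 0,nat_lit 1,nat_lit 18,nat_lit 19,nat_lit 26,nat_lit 27,nat_lit 8,nat_lit 9] (Cert.ro (nat_lit 1) [nat_lit 1,nat_lit 2,nat_lit 14,nat_lit 16] [nat_lit 1,nat_lit 14,nat_lit 12,nat_lit 16] [nat_lit 0,nat_lit 1,nat_lit 43,nat_lit 42,nat_lit 210,nat_lit 211,nat_lit 249,nat_lit 248,nat_lit 26,nat_lit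 27,nat_lit 48,nat_lit 49,nat_lit 200,nat_lit 201,nat_lit 226,nat_lit 227] (Cert.kw (nat_lit 2) (nat_lit 0) (nat_lit 2) (nat_lit 1) )))) (Cert.rep (nat_lit 218) [] [] [] (Cert.er (Cert.ro (nat_lit 0) [nat_lit 1,nat_lit 8,nat_lit 16] [nat_lit 8,nat_lit 9,nat_lit 16] [nat_lit 0,nat_lit 1,nat_lit 18,nat_lit 19,nat_lit 26,nat_lit 27,nat_lit 8,nat_lit 9] (Cert.ro (nat_lit 1) [nat_lit 1,nat_lit 2,nat_lit 14,nat_lit 16] [nat_lit 1,nat_lit 14,nat_lit 12,nat_lit 16] [nat_lit 0,nat_lit 1,nat_lit 43,nat_lit 42,nat_lit 200,nat_lit 201,nat_lit 226,nat_lit 227,nat_lit 26,nat_lit 27,nat_lit 48,nat_lit 49,nat_lit 210,nat_lit 211,nat_lit 249,nat_lit 248] (Cert.kw (nat_lit 2) (nat_lit 0) (nat_lit 2) (nat_lit 1) )))) Cert.nil)) (Cert.rep (nat_lit 22) [] [] [] Cert.nil (Cert.rep (nat_lit 27) [] [] [] Cert.nil (Cert.rep (nat_lit 30) [nat_lit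 4,nat_lit 8] [] [] (Cert.rep (nat_lit 204) [] [] [] (Cert.er (Cert.ro (nat_lit 0) [nat_lit 1,nat_lit 8,nat_lit 16] [nat_lit 8,nat_lit 9,nat_lit 16] [nat_lit 0,nat_lit 1,nat_lit 30,nat_lit 31,nat_lit 26,nat_lit 27,nat_lit 4,nat_lit 5] (Cert.ro (nat_lit 1) [nat_lit 1,nat_lit 2,nat_lit 14,nat_lit 16] [nat_lit 1,nat_lit 14,nat_lit 12,nat_lit 16] [nat_lit 0,nat_lit 1,nat_lit 42,nat_lit 43,nat_lit 210,nat_lit 211,nat_lit 248,nat_lit 249,nat_lit 26,nat_lit 27,nat_lit 49,nat_lit 48,nat_lit 200,nat_lit 201,nat_lit 227,nat_lit 226] (Cert.lf (Leaf.st (nat_lit 2) (nat_lit 1) (nat_lit 5) (Leaf.cf (nat_lit 4))))))) (Cert.rep (nat_lit 214) [] [] [] (Cert.er (Cert.ro (nat_lit 0) [nat_lit 1,nat_lit 8,nat_lit 16] [nat_lit 8,nat_lit 9,nat_lit 16] [nat_lit 0,nat_lit 1,nat_lit 30,nat_lit 31,nat_lit 26,nat_lit 27,nat_lit 4,nat_lit 5]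 (Cert.ro (nat_lit 1) [nat_lit 1,nat_lit 2,nat_lit 14,nat_lit 16] [nat_lit 1,nat_lit 14,nat_lit 12,nat_lit 16] [nat_lit 0,nat_lit 1,nat_lit 42,nat_lit 43,nat_lit 200,nat_lit 201,nat_lit 227,nat_lit 226,nat_lit 26,nat_lit 27,nat_lit 49,nat_lit 48,nat_lit 210,nat_lit 211,nat_lit 248,nat_lit 249] (Cert.lf (Leaf.st (nat_lit 2) (nat_lit 1) (nat_lit 5) (Leaf.cf (nat_lit 4))))))) Cert.nil)) (Cert.rep (nat_lit 196) [] [] [] Cert.nil (Cert.rep (nat_lit 222) [] [] [] Cert.nil Cert.nil)))))))))) Cert.nil)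
noncomputable def f73 : Cert :=
  (Cert.st (nat_lit 0) (nat_lit 8) (nat_lit 0) (Cert.st (nat_lit 0) (nat_lit 26) (nat_lit 0) (Cert.sp (nat_lit 1) (Cert.lf (Leaf.pt (nat_lit 7) (nat_lit 1) [nat_lit 8,nat_lit 16])) (Cert.sp (nat_lit 2) (Cert.lf (Leaf.pt (nat_lit 0) (nat_lit 2) [nat_lit 96])) (Cert.st (nat_lit 0) (nat_lit 2) (nat_lit 0) (Cert.sp (nat_lit 4) (Cert.lf (Leaf.pt (nat_lit 7) (nat_lit 4) [nat_lit 8,nat_lit 16])) (Cert.st (nat_lit 0) (nat_lit 4) (nat_lit 0) (Cert.sp (nat_lit 12) (Cert.lf (Leaf.pt (nat_lit 7) (nat_lit 12) [nat_lit 8,nat_lit 16])) (Cert.st (nat_lit 0) (nat_lit 12) (nat_lit 0) (Cert.sp (nat_lit 18) (Cert.lf (Leaf.pt (nat_lit 6) (nat_lit 18) [nat_lit 8])) (Cert.st (nat_lit 0) (nat_lit 18) (nat_lit 0) (Cert.sp (nat_lit 22) (Cert.lf (Leaf.pt (nat_lit 7) (nat_lit 22) [nat_lit 26,nat_lit 38])) (Cert.st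 (nat_lit 0) (nat_lit 22) (nat_lit 0) (Cert.sp (nat_lit 30) (Cert.lf (Leaf.pt (nat_lit 8) (nat_lit 30) [nat_lit 4,nat_lit 18])) (Cert.st (nat_lit 0) (nat_lit 30) (nat_lit 0) (Cert.sp (nat_lit 128) (Cert.lf (Leaf.pt (nat_lit 0) (nat_lit 128) [nat_lit 340])) (Cert.st (nat_lit 0) (nat_lit 128) (nat_lit 0) (Cert.sp (nat_lit 196) (Cert.lf (Leaf.pt (nat_lit 7) (nat_lit 196) [nat_lit 26,nat_lit 38])) (Cert.st (nat_lit 0) (nat_lit 196) (nat_lit 0) (Cert.nl (nat_lit 1) (Cert.sy (nat_lit 0) (Cert.s2 (nat_lit 0) (nat_lit 18) (Cert.o1 (nat_lit 0) (nat_lit 18) (Cert.fu (nat_lit 8) (nat_lit 1) (nat_lit 0) (nat_lit 0) [] [nat_lit 18,nat_lit 1,nat_lit 4,nat_lit 32,nat_lit 128] [] [] [] [nat_lit 1] [[nat_lit 1]] [[nat_lit 18]] [Ins.fr [nat_lit 0],Ins.ts (nat_lit 4) [nat_lit 0] [nat_lit 0,nat_lit 0,nat_lit 0],Ins.ts (nat_lit 1) [nat_lit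 0] [],Ins.fr [nat_lit 1],Ins.ts (nat_lit 2) [nat_lit 0,nat_lit 2] [],Ins.ts (nat_lit 0) [nat_lit 0,nat_lit 0] [],Ins.ts (nat_lit 1) [nat_lit 0] [],Ins.ts (nat_lit 3) [nat_lit 0] [],Ins.ts (nat_lit 1) [nat_lit 0,nat_lit 1] [],Ins.fr [nat_lit 2],Ins.ts (nat_lit 3) [nat_lit 0] [],Ins.ts (nat_lit 0) [nat_lit 0,nat_lit 0] [],Ins.ts (nat_lit 3) [nat_lit 0,nat_lit 3] [],Ins.ts (nat_lit 0) [nat_lit 1,nat_lit 0] [nat_lit 0,nat_lit 1],Ins.fr [nat_lit 1,nat_lit 3],Ins.ts (nat_lit 0) [nat_lit 0,nat_lit 0] [],Ins.ts (nat_lit 2) [nat_lit 0] [],Ins.ts (nat_lit 0) [nat_lit 1,nat_lit 2,nat_lit 0] [nat_lit 0,nat_lit 1],Ins.fr [nat_lit 0],Ins.ts (nat_lit 0) [nat_lit 0,nat_lit 0] []] [] (Cert.rep (nat_lit 8) [] [nat_lit 16,nat_lit 8,nat_lit 4,nat_lit 2,nat_lit 1] [nat_lit 256,nat_lit 128,nat_lit 64,nat_lit 32] (Cert.rep (nat_lit 1)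 [nat_lit 2,nat_lit 16] [] [] (Cert.rep (nat_lit 2) [] [] [] (Cert.rep (nat_lit 4) [nat_lit 4] [] [] (Cert.rep (nat_lit 64) [] [] [] Cert.nil (Cert.rep (nat_lit 65) [] [] [] Cert.nil Cert.nil)) (Cert.rep (nat_lit 5) [nat_lit 4] [] [] (Cert.rep (nat_lit 64) [] [] [] Cert.nil (Cert.rep (nat_lit 65) [] [] [] Cert.nil Cert.nil)) (Cert.rep (nat_lit 6) [nat_lit 4] [] [] (Cert.rep (nat_lit 64) [] [] [] Cert.nil (Cert.rep (nat_lit 65) [] [] [] Cert.nil Cert.nil)) (Cert.rep (nat_lit 7) [nat_lit 4] [] [] (Cert.rep (nat_lit 64) [] [] [] Cert.nil (Cert.rep (nat_lit 65) [] [] [] Cert.nil Cert.nil)) (Cert.rep (nat_lit 12) [] [] [] Cert.nil (Cert.rep (nat_lit 13) [] [] [] Cert.nil (Cert.rep (nat_lit 14) [] [] [] Cert.nil (Cert.rep (nat_lit 15) [] [] [] Cert.nil Cert.nil)))))))) (Cert.rep (nat_lit 18) [] [] [] (Cert.rep (nat_lit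 4) [] [] [] Cert.nil (Cert.rep (nat_lit 5) [] [] [] Cert.nil (Cert.rep (nat_lit 12) [] [] [] Cert.nil (Cert.rep (nat_lit 13) [] [] [] Cert.nil (Cert.rep (nat_lit 22) [] [] [] Cert.nil (Cert.rep (nat_lit 23) [] [] [] Cert.nil (Cert.rep (nat_lit 30) [] [] [] Cert.nil (Cert.rep (nat_lit 31) [] [] [] Cert.nil Cert.nil)))))))) Cert.nil)) Cert.nil) (Cert.rep (nat_lit 26) [] [nat_lit 192,nat_lit 34,nat_lit 18,nat_lit 8,nat_lit 4,nat_lit 1] [nat_lit 256,nat_lit 64,nat_lit 2] (Cert.rep (nat_lit 1) [nat_lit 4,nat_lit 34,nat_lit 192] [] [] (Cert.rep (nat_lit 18) [] [] [] (Cert.rep (nat_lit 4) [] [] [] Cert.nil (Cert.rep (nat_lit 5) [] [] [] Cert.nil (Cert.rep (nat_lit 12) [] [] [] Cert.nil (Cert.rep (nat_lit 13) [] [] [] Cert.nil (Cert.rep (nat_lit 22) [] [] [] Cert.nil (Cert.rep (nat_lit 23) [] [] [] Cert.nil (Cert.rep (nat_lit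 30) [] [] [] Cert.nil (Cert.rep (nat_lit 31) [] [] [] Cert.nil Cert.nil)))))))) Cert.nil) Cert.nil) Cert.nil)))) (Cert.root (nat_lit 32) [] [nat_lit 8,nat_lit 4] [nat_lit 0,nat_lit 1,nat_lit 2,nat_lit 3,nat_lit 4] [Ins.fr [nat_lit 0],Ins.ts (nat_lit 0) [nat_lit 0,nat_lit 0] [],Ins.ts (nat_lit 1) [nat_lit 0] [],Ins.ts (nat_lit 1) [nat_lit 0,nat_lit 1] [],Ins.fr [nat_lit 1],Ins.ts (nat_lit 1) [nat_lit 0,nat_lit 0] [],Ins.ts (nat_lit 1) [nat_lit 0,nat_lit 0,nat_lit 0,nat_lit 0] [],Ins.ts (nat_lit 0) [nat_lit 1,nat_lit 0,nat_lit 1] [nat_lit 0,nat_lit 0,nat_lit 0],Ins.df [nat_lit 0,nat_lit 0],Ins.df [nat_lit 0,nat_lit 0]] f73_0)))))))))))))))))))))))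
theorem fin73 : finOK DB PT 88 t88 73 t73 (nat_lit 0xc30f000c00300f00c300f00300c000f00000ff00000f00fc33cf00fccccffff) f73 = true := by
  decide +kernel
noncomputable def f74_0 : Cert :=
  Cert.rep (nat_lit 8) [nat_lit 2,nat_lit 16] [nat_lit 16,nat_lit 8,nat_lit 4,nat_lit 2,nat_lit 1] [nat_lit 256,nat_lit 128,nat_lit 64,nat_lit 32] (Cert.rep (nat_lit 1) [] [] [] Cert.nil (Cert.rep (nat_lit 2) [] [] [] Cert.nil (Cert.rep (nat_lit 4) [] [] [] Cert.nil (Cert.rep (nat_lit 5) [] [] [] Cert.nil (Cert.rep (nat_lit 6) [] [] [] Cert.nil (Cert.rep (nat_lit 9) [] [] [] Cert.nil (Cert.rep (nat_lit 10) [] [] [] Cert.nil (Cert.rep (nat_lit 12) [] [] [] Cert.nil (Cert.rep (nat_lit 13) [] [] [] Cert.nil (Cert.rep (nat_lit 14) [] [] [] Cert.nil (Cert.rep (nat_lit 18) [] [] [] Cert.nil (Cert.rep (nat_lit 22) [] [] [] Cert.nil (Cert.rep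 (nat_lit 26) [] [] [] Cert.nil (Cert.rep (nat_lit 30) [] [] [] Cert.nil Cert.nil)))))))))))))) (Cert.rep (nat_lit 26) [nat_lit 4,nat_lit 8,nat_lit 34,nat_lit 192] [nat_lit 192,nat_lit 34,nat_lit 18,nat_lit 8,nat_lit 4,nat_lit 1] [nat_lit 256,nat_lit 64,nat_lit 2] (Cert.rep (nat_lit 1) [] [] [] Cert.nil (Cert.rep (nat_lit 4) [nat_lit 4,nat_lit 8] [] [] (Cert.rep (nat_lit 204) [] [] [] (Cert.er (Cert.ro (nat_lit 0) [nat_lit 1,nat_lit 8,nat_lit 16] [nat_lit 8,nat_lit 9,nat_lit 16] [nat_lit 0,nat_lit 1,nat_lit 4,nat_lit 5,nat_lit 26,nat_lit 27,nat_lit 30,nat_lit 31] (Cert.ro (nat_lit 1) [nat_lit 1,nat_lit 2,nat_lit 14,nat_lit 16] [nat_lit 1,nat_lit 14,nat_lit 12,nat_lit 16] [nat_lit 0,nat_lit 1,nat_lit 42,nat_lit 43,nat_lit 200,nat_lit 201,nat_lit 227,nat_lit 226,nat_lit 26,nat_lit 27,nat_lit 49,nat_lit 48,nat_lit 210,nat_lit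 211,nat_lit 248,nat_lit 249] (Cert.lf (Leaf.st (nat_lit 2) (nat_lit 1) (nat_lit 5) (Leaf.cf (nat_lit 30))))))) (Cert.rep (nat_lit 214) [] [] [] (Cert.er (Cert.ro (nat_lit 0) [nat_lit 1,nat_lit 8,nat_lit 16] [nat_lit 8,nat_lit 9,nat_lit 16] [nat_lit 0,nat_lit 1,nat_lit 4,nat_lit 5,nat_lit 26,nat_lit 27,nat_lit 30,nat_lit 31] (Cert.ro (nat_lit 1) [nat_lit 1,nat_lit 2,nat_lit 14,nat_lit 16] [nat_lit 1,nat_lit 14,nat_lit 12,nat_lit 16] [nat_lit 0,nat_lit 1,nat_lit 42,nat_lit 43,nat_lit 210,nat_lit 211,nat_lit 248,nat_lit 249,nat_lit 26,nat_lit 27,nat_lit 49,nat_lit 48,nat_lit 200,nat_lit 201,nat_lit 227,nat_lit 226] (Cert.lf (Leaf.st (nat_lit 2) (nat_lit 1) (nat_lit 5) (Leaf.cf (nat_lit 30))))))) Cert.nil)) (Cert.rep (nat_lit 8) [nat_lit 4,nat_lit 8] [] [] (Cert.rep (nat_lit 192) [] [] [] (Cert.er (Cert.ro (nat_lit 0)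 [nat_lit 1,nat_lit 8,nat_lit 16] [nat_lit 8,nat_lit 9,nat_lit 16] [nat_lit 0,nat_lit 1,nat_lit 8,nat_lit 9,nat_lit 26,nat_lit 27,nat_lit 18,nat_lit 19] (Cert.ro (nat_lit 1) [nat_lit 1,nat_lit 2,nat_lit 14,nat_lit 16] [nat_lit 1,nat_lit 14,nat_lit 12,nat_lit 16] [nat_lit 0,nat_lit 1,nat_lit 43,nat_lit 42,nat_lit 200,nat_lit 201,nat_lit 226,nat_lit 227,nat_lit 26,nat_lit 27,nat_lit 48,nat_lit 49,nat_lit 210,nat_lit 211,nat_lit 249,nat_lit 248] (Cert.lf (Leaf.st (nat_lit 2) (nat_lit 1) (nat_lit 1) (Leaf.cf (nat_lit 1))))))) (Cert.rep (nat_lit 218) [] [] [] (Cert.er (Cert.ro (nat_lit 0) [nat_lit 1,nat_lit 8,nat_lit 16] [nat_lit 8,nat_lit 9,nat_lit 16] [nat_lit 0,nat_lit 1,nat_lit 8,nat_lit 9,nat_lit 26,nat_lit 27,nat_lit 18,nat_lit 19] (Cert.ro (nat_lit 1) [nat_lit 1,nat_lit 2,nat_lit 14,nat_lit 16] [nat_lit 1,nat_lit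 14,nat_lit 12,nat_lit 16] [nat_lit 0,nat_lit 1,nat_lit 43,nat_lit 42,nat_lit 210,nat_lit 211,nat_lit 249,nat_lit 248,nat_lit 26,nat_lit 27,nat_lit 48,nat_lit 49,nat_lit 200,nat_lit 201,nat_lit 226,nat_lit 227] (Cert.lf (Leaf.st (nat_lit 2) (nat_lit 1) (nat_lit 1) (Leaf.cf (nat_lit 1))))))) Cert.nil)) (Cert.rep (nat_lit 12) [] [] [] Cert.nil (Cert.rep (nat_lit 18) [nat_lit 4,nat_lit 8] [] [] (Cert.rep (nat_lit 192) [] [] [] (Cert.er (Cert.ro (nat_lit 0) [nat_lit 1,nat_lit 8,nat_lit 16] [nat_lit 8,nat_lit 9,nat_lit 16] [nat_lit 0,nat_lit 1,nat_lit 18,nat_lit 19,nat_lit 26,nat_lit 27,nat_lit 8,nat_lit 9] (Cert.ro (nat_lit 1) [nat_lit 1,nat_lit 2,nat_lit 14,nat_lit 16] [nat_lit 1,nat_lit 14,nat_lit 12,nat_lit 16] [nat_lit 0,nat_lit 1,nat_lit 43,nat_lit 42,nat_lit 210,nat_lit 211,nat_lit 249,nat_lit 248,nat_lit 26,nat_lit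 27,nat_lit 48,nat_lit 49,nat_lit 200,nat_lit 201,nat_lit 226,nat_lit 227] (Cert.kw (nat_lit 2) (nat_lit 0) (nat_lit 2) (nat_lit 1) )))) (Cert.rep (nat_lit 218) [] [] [] (Cert.er (Cert.ro (nat_lit 0) [nat_lit 1,nat_lit 8,nat_lit 16] [nat_lit 8,nat_lit 9,nat_lit 16] [nat_lit 0,nat_lit 1,nat_lit 18,nat_lit 19,nat_lit 26,nat_lit 27,nat_lit 8,nat_lit 9] (Cert.ro (nat_lit 1) [nat_lit 1,nat_lit 2,nat_lit 14,nat_lit 16] [nat_lit 1,nat_lit 14,nat_lit 12,nat_lit 16] [nat_lit 0,nat_lit 1,nat_lit 43,nat_lit 42,nat_lit 200,nat_lit 201,nat_lit 226,nat_lit 227,nat_lit 26,nat_lit 27,nat_lit 48,nat_lit 49,nat_lit 210,nat_lit 211,nat_lit 249,nat_lit 248] (Cert.kw (nat_lit 2) (nat_lit 0) (nat_lit 2) (nat_lit 1) )))) Cert.nil)) (Cert.rep (nat_lit 22) [] [] [] Cert.nil (Cert.rep (nat_lit 27) [] [] [] Cert.nil (Cert.rep (nat_lit 30) [nat_lit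 4,nat_lit 8] [] [] (Cert.rep (nat_lit 204) [] [] [] (Cert.er (Cert.ro (nat_lit 0) [nat_lit 1,nat_lit 8,nat_lit 16] [nat_lit 8,nat_lit 9,nat_lit 16] [nat_lit 0,nat_lit 1,nat_lit 30,nat_lit 31,nat_lit 26,nat_lit 27,nat_lit 4,nat_lit 5] (Cert.ro (nat_lit 1) [nat_lit 1,nat_lit 2,nat_lit 14,nat_lit 16] [nat_lit 1,nat_lit 14,nat_lit 12,nat_lit 16] [nat_lit 0,nat_lit 1,nat_lit 42,nat_lit 43,nat_lit 210,nat_lit 211,nat_lit 248,nat_lit 249,nat_lit 26,nat_lit 27,nat_lit 49,nat_lit 48,nat_lit 200,nat_lit 201,nat_lit 227,nat_lit 226] (Cert.lf (Leaf.st (nat_lit 2) (nat_lit 1) (nat_lit 5) (Leaf.cf (nat_lit 4))))))) (Cert.rep (nat_lit 214) [] [] [] (Cert.er (Cert.ro (nat_lit 0) [nat_lit 1,nat_lit 8,nat_lit 16] [nat_lit 8,nat_lit 9,nat_lit 16] [nat_lit 0,nat_lit 1,nat_lit 30,nat_lit 31,nat_lit 26,nat_lit 27,nat_lit 4,nat_lit 5]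 (Cert.ro (nat_lit 1) [nat_lit 1,nat_lit 2,nat_lit 14,nat_lit 16] [nat_lit 1,nat_lit 14,nat_lit 12,nat_lit 16] [nat_lit 0,nat_lit 1,nat_lit 42,nat_lit 43,nat_lit 200,nat_lit 201,nat_lit 227,nat_lit 226,nat_lit 26,nat_lit 27,nat_lit 49,nat_lit 48,nat_lit 210,nat_lit 211,nat_lit 248,nat_lit 249] (Cert.lf (Leaf.st (nat_lit 2) (nat_lit 1) (nat_lit 5) (Leaf.cf (nat_lit 4))))))) Cert.nil)) (Cert.rep (nat_lit 196) [] [] [] Cert.nil (Cert.rep (nat_lit 222) [] [] [] Cert.nil Cert.nil)))))))))) Cert.nil)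
noncomputable def f74 : Cert :=
  (Cert.st (nat_lit 0) (nat_lit 8) (nat_lit 0) (Cert.st (nat_lit 0) (nat_lit 26) (nat_lit 0) (Cert.sp (nat_lit 1) (Cert.lf (Leaf.pt (nat_lit 7) (nat_lit 1) [nat_lit 8,nat_lit 16])) (Cert.sp (nat_lit 2) (Cert.lf (Leaf.pt (nat_lit 0) (nat_lit 2) [nat_lit 96])) (Cert.st (nat_lit 0) (nat_lit 2) (nat_lit 0) (Cert.sp (nat_lit 4) (Cert.lf (Leaf.pt (nat_lit 7) (nat_lit 4) [nat_lit 8,nat_lit 16])) (Cert.st (nat_lit 0) (nat_lit 4) (nat_lit 0) (Cert.sp (nat_lit 12) (Cert.lf (Leaf.pt (nat_lit 7) (nat_lit 12) [nat_lit 8,nat_lit 16])) (Cert.st (nat_lit 0) (nat_lit 12) (nat_lit 0) (Cert.sp (nat_lit 18) (Cert.lf (Leaf.pt (nat_lit 6) (nat_lit 18) [nat_lit 8])) (Cert.st (nat_lit 0) (nat_lit 18) (nat_lit 0) (Cert.sp (nat_lit 22) (Cert.lf (Leaf.pt (nat_lit 7) (nat_lit 22) [nat_lit 26,nat_lit 38])) (Cert.st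 (nat_lit 0) (nat_lit 22) (nat_lit 0) (Cert.sp (nat_lit 30) (Cert.lf (Leaf.pt (nat_lit 8) (nat_lit 30) [nat_lit 4,nat_lit 18])) (Cert.st (nat_lit 0) (nat_lit 30) (nat_lit 0) (Cert.sp (nat_lit 128) (Cert.lf (Leaf.pt (nat_lit 0) (nat_lit 128) [nat_lit 350])) (Cert.st (nat_lit 0) (nat_lit 128) (nat_lit 0) (Cert.sp (nat_lit 196) (Cert.lf (Leaf.pt (nat_lit 7) (nat_lit 196) [nat_lit 26,nat_lit 38])) (Cert.st (nat_lit 0) (nat_lit 196) (nat_lit 0) (Cert.sp (nat_lit 264) (Cert.lf (Leaf.st (nat_lit 1) (nat_lit 128) (nat_lit 264) (Leaf.pt (nat_lit 7) (nat_lit 264) [nat_lit 266,nat_lit 36]))) (Cert.st (nat_lit 0) (nat_lit 264) (nat_lit 0) (Cert.nl (nat_lit 1) (Cert.sy (nat_lit 0) (Cert.s2 (nat_lit 0) (nat_lit 18) (Cert.o1 (nat_lit 0) (nat_lit 18) (Cert.fu (nat_lit 18) (nat_lit 1) (nat_lit 0) (nat_lit 0) [nat_lit 0] [nat_lit 132,nat_lit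 136] [] [] [] [nat_lit 1] [[nat_lit 1]] [[nat_lit 18]] [Ins.ts (nat_lit 1) [nat_lit 0] [],Ins.fr [nat_lit 0],Ins.ts (nat_lit 1) [nat_lit 0,nat_lit 0,nat_lit 0,nat_lit 0] [],Ins.ts (nat_lit 1) [nat_lit 0,nat_lit 0,nat_lit 0,nat_lit 0,nat_lit 1] [],Ins.fr [nat_lit 1],Ins.ts (nat_lit 0) [nat_lit 0,nat_lit 1,nat_lit 1,nat_lit 0] [],Ins.ts (nat_lit 0) [nat_lit 1,nat_lit 1,nat_lit 1] [nat_lit 0,nat_lit 1,nat_lit 0]] [] (Cert.rep (nat_lit 1) [nat_lit 4,nat_lit 8,nat_lit 16,nat_lit 32,nat_lit 64,nat_lit 128,nat_lit 256] [nat_lit 256,nat_lit 128,nat_lit 64,nat_lit 32,nat_lit 16,nat_lit 8,nat_lit 4,nat_lit 2,nat_lit 1] [] (Cert.rep (nat_lit 256) [] [] [] Cert.nil (Cert.rep (nat_lit 268) [] [] [] Cert.nil Cert.nil)) Cert.nil))) (Cert.root (nat_lit 32) [] [nat_lit 8,nat_lit 4] [nat_lit 0,nat_lit 1,nat_lit 2,nat_lit 3,nat_lit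 4] [Ins.fr [nat_lit 0],Ins.ts (nat_lit 0) [nat_lit 0,nat_lit 0] [],Ins.ts (nat_lit 1) [nat_lit 0] [],Ins.ts (nat_lit 1) [nat_lit 0,nat_lit 1] [],Ins.fr [nat_lit 1],Ins.ts (nat_lit 1) [nat_lit 0,nat_lit 0] [],Ins.ts (nat_lit 1) [nat_lit 0,nat_lit 0,nat_lit 0,nat_lit 0] [],Ins.ts (nat_lit 0) [nat_lit 1,nat_lit 0,nat_lit 1] [nat_lit 0,nat_lit 0,nat_lit 0],Ins.df [nat_lit 0,nat_lit 0],Ins.df [nat_lit 0,nat_lit 0]] f74_0)))))))))))))))))))))))))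
theorem fin74 : finOK DB PT 88 t88 74 t74 (nat_lit 0xf0000000000000f0000000f00000000000000000000000f000c30f000c00300f00c300f00300c000f00000ff00000f00fc33cf00fccccffff) f74 = true := by
  decide +kernel
noncomputable def f88_0 : Cert :=
  Cert.rep (nat_lit 24) [nat_lit 8,nat_lit 16] [] [] (Cert.rep (nat_lit 20) [] [] [] (Cert.er (Cert.ro (nat_lit 0) [nat_lit 1,nat_lit 8,nat_lit 16] [nat_lit 8,nat_lit 9,nat_lit 16] [nat_lit 0,nat_lit 1,nat_lit 24,nat_lit 25,nat_lit 32,nat_lit 33,nat_lit 56,nat_lit 57] (Cert.ro (nat_lit 1) [nat_lit 1,nat_lit 2,nat_lit 14,nat_lit 16] [nat_lit 1,nat_lit 14,nat_lit 12,nat_lit 16] [nat_lit 0,nat_lit 1,nat_lit 3,nat_lit 2,nat_lit 15,nat_lit 14,nat_lit 13,nat_lit 12,nat_lit 32,nat_lit 33,nat_lit 35,nat_lit 34,nat_lit 47,nat_lit 46,nat_lit 45,nat_lit 44] (Cert.st (nat_lit 2) (nat_lit 1) (nat_lit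 1) (Cert.st (nat_lit 0) (nat_lit 1) (nat_lit 0) (Cert.st (nat_lit 2) (nat_lit 1) (nat_lit 5) (Cert.st (nat_lit 0) (nat_lit 33) (nat_lit 0) (Cert.st (nat_lit 2) (nat_lit 2) (nat_lit 1) (Cert.st (nat_lit 0) (nat_lit 8) (nat_lit 0) (Cert.st (nat_lit 2) (nat_lit 2) (nat_lit 9) (Cert.st (nat_lit 0) (nat_lit 40) (nat_lit 0) (Cert.nl (nat_lit 32) (Cert.sy (nat_lit 0) (Cert.zs (nat_lit 0) )))))))))))))) (Cert.rep (nat_lit 52) [] [] [] (Cert.er (Cert.ro (nat_lit 0) [nat_lit 1,nat_lit 8,nat_lit 16] [nat_lit 8,nat_lit 9,nat_lit 16] [nat_lit 0,nat_lit 1,nat_lit 24,nat_lit 25,nat_lit 32,nat_lit 33,nat_lit 56,nat_lit 57] (Cert.ro (nat_lit 1) [nat_lit 1,nat_lit 2,nat_lit 14,nat_lit 16] [nat_lit 1,nat_lit 14,nat_lit 12,nat_lit 16] [nat_lit 0,nat_lit 1,nat_lit 3,nat_lit 2,nat_lit 47,nat_lit 46,nat_lit 45,nat_lit 44,nat_lit 32,nat_lit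 33,nat_lit 35,nat_lit 34,nat_lit 15,nat_lit 14,nat_lit 13,nat_lit 12] (Cert.st (nat_lit 2) (nat_lit 1) (nat_lit 1) (Cert.st (nat_lit 0) (nat_lit 1) (nat_lit 0) (Cert.st (nat_lit 2) (nat_lit 1) (nat_lit 5) (Cert.st (nat_lit 0) (nat_lit 33) (nat_lit 0) (Cert.st (nat_lit 2) (nat_lit 2) (nat_lit 1) (Cert.st (nat_lit 0) (nat_lit 8) (nat_lit 0) (Cert.st (nat_lit 2) (nat_lit 2) (nat_lit 9) (Cert.st (nat_lit 0) (nat_lit 40) (nat_lit 0) (Cert.nl (nat_lit 32) (Cert.sy (nat_lit 0) (Cert.zs (nat_lit 0) )))))))))))))) Cert.nil)) (Cert.rep (nat_lit 28) [] [] [] Cert.nil (Cert.rep (nat_lit 33) [] [] [] Cert.nil (Cert.rep (nat_lit 40) [nat_lit 8,nat_lit 16] [] [] (Cert.rep (nat_lit 4) [] [] [] (Cert.er (Cert.ro (nat_lit 0) [nat_lit 1,nat_lit 8,nat_lit 16] [nat_lit 8,nat_lit 9,nat_lit 16] [nat_lit 0,nat_lit 1,nat_lit 40,nat_lit 41,nat_lit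 32,nat_lit 33,nat_lit 8,nat_lit 9] (Cert.ro (nat_lit 1) [nat_lit 1,nat_lit 2,nat_lit 14,nat_lit 16] [nat_lit 1,nat_lit 14,nat_lit 12,nat_lit 16] [nat_lit 0,nat_lit 1,nat_lit 2,nat_lit 3,nat_lit 46,nat_lit 47,nat_lit 45,nat_lit 44,nat_lit 32,nat_lit 33,nat_lit 34,nat_lit 35,nat_lit 14,nat_lit 15,nat_lit 13,nat_lit 12] (Cert.lw (nat_lit 0) (nat_lit 2) (nat_lit 5) (Cert.o1 (nat_lit 0) (nat_lit 33) (Cert.fu (nat_lit 33) (nat_lit 1) (nat_lit 0) (nat_lit 0) [nat_lit 0] [nat_lit 4] [] [] [] [nat_lit 1] [[nat_lit 1]] [[nat_lit 33]] [Ins.ts (nat_lit 1) [nat_lit 0] [],Ins.fr [nat_lit 0],Ins.ts (nat_lit 1) [nat_lit 0,nat_lit 0] [],Ins.ts (nat_lit 1) [nat_lit 0,nat_lit 0,nat_lit 1] [],Ins.ts (nat_lit 1) [nat_lit 0,nat_lit 0,nat_lit 0,nat_lit 0,nat_lit 1] []] [] (Cert.rep (nat_lit 1) [] [nat_lit 32,nat_lit 16,nat_lit 8,nat_lit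 4,nat_lit 2,nat_lit 1] [] Cert.nil Cert.nil))))))) (Cert.rep (nat_lit 36) [] [] [] (Cert.er (Cert.ro (nat_lit 0) [nat_lit 1,nat_lit 8,nat_lit 16] [nat_lit 8,nat_lit 9,nat_lit 16] [nat_lit 0,nat_lit 1,nat_lit 40,nat_lit 41,nat_lit 32,nat_lit 33,nat_lit 8,nat_lit 9] (Cert.ro (nat_lit 1) [nat_lit 1,nat_lit 2,nat_lit 14,nat_lit 16] [nat_lit 1,nat_lit 14,nat_lit 12,nat_lit 16] [nat_lit 0,nat_lit 1,nat_lit 2,nat_lit 3,nat_lit 14,nat_lit 15,nat_lit 13,nat_lit 12,nat_lit 32,nat_lit 33,nat_lit 34,nat_lit 35,nat_lit 46,nat_lit 47,nat_lit 45,nat_lit 44] (Cert.lw (nat_lit 0) (nat_lit 2) (nat_lit 5) (Cert.o1 (nat_lit 0) (nat_lit 33) (Cert.fu (nat_lit 33) (nat_lit 1) (nat_lit 0) (nat_lit 0) [nat_lit 0] [nat_lit 4] [] [] [] [nat_lit 1] [[nat_lit 1]] [[nat_lit 33]] [Ins.ts (nat_lit 1) [nat_lit 0] [],Ins.fr [nat_lit 0],Ins.ts (nat_lit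 1) [nat_lit 0,nat_lit 0] [],Ins.ts (nat_lit 1) [nat_lit 0,nat_lit 0,nat_lit 1] [],Ins.ts (nat_lit 1) [nat_lit 0,nat_lit 0,nat_lit 0,nat_lit 0,nat_lit 1] []] [] (Cert.rep (nat_lit 1) [] [nat_lit 32,nat_lit 16,nat_lit 8,nat_lit 4,nat_lit 2,nat_lit 1] [] Cert.nil Cert.nil))))))) Cert.nil)) (Cert.rep (nat_lit 48) [] [] [] Cert.nil (Cert.rep (nat_lit 56) [nat_lit 8,nat_lit 16] [] [] (Cert.rep (nat_lit 20) [] [] [] (Cert.er (Cert.ro (nat_lit 0) [nat_lit 1,nat_lit 8,nat_lit 16] [nat_lit 8,nat_lit 9,nat_lit 16] [nat_lit 0,nat_lit 1,nat_lit 56,nat_lit 57,nat_lit 32,nat_lit 33,nat_lit 24,nat_lit 25] (Cert.ro (nat_lit 1) [nat_lit 1,nat_lit 2,nat_lit 14,nat_lit 16] [nat_lit 1,nat_lit 14,nat_lit 12,nat_lit 16] [nat_lit 0,nat_lit 1,nat_lit 3,nat_lit 2,nat_lit 47,nat_lit 46,nat_lit 45,nat_lit 44,nat_lit 32,nat_lit 33,nat_lit 35,nat_lit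 34,nat_lit 15,nat_lit 14,nat_lit 13,nat_lit 12] (Cert.st (nat_lit 2) (nat_lit 1) (nat_lit 1) (Cert.st (nat_lit 0) (nat_lit 1) (nat_lit 0) (Cert.st (nat_lit 2) (nat_lit 1) (nat_lit 5) (Cert.st (nat_lit 0) (nat_lit 33) (nat_lit 0) (Cert.st (nat_lit 2) (nat_lit 2) (nat_lit 1) (Cert.st (nat_lit 0) (nat_lit 8) (nat_lit 0) (Cert.st (nat_lit 2) (nat_lit 2) (nat_lit 9) (Cert.st (nat_lit 0) (nat_lit 40) (nat_lit 0) (Cert.nl (nat_lit 32) (Cert.sy (nat_lit 0) (Cert.zs (nat_lit 0) )))))))))))))) (Cert.rep (nat_lit 52) [] [] [] (Cert.er (Cert.ro (nat_lit 0) [nat_lit 1,nat_lit 8,nat_lit 16] [nat_lit 8,nat_lit 9,nat_lit 16] [nat_lit 0,nat_lit 1,nat_lit 56,nat_lit 57,nat_lit 32,nat_lit 33,nat_lit 24,nat_lit 25] (Cert.ro (nat_lit 1) [nat_lit 1,nat_lit 2,nat_lit 14,nat_lit 16] [nat_lit 1,nat_lit 14,nat_lit 12,nat_lit 16] [nat_lit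 0,nat_lit 1,nat_lit 3,nat_lit 2,nat_lit 15,nat_lit 14,nat_lit 13,nat_lit 12,nat_lit 32,nat_lit 33,nat_lit 35,nat_lit 34,nat_lit 47,nat_lit 46,nat_lit 45,nat_lit 44] (Cert.st (nat_lit 2) (nat_lit 1) (nat_lit 1) (Cert.st (nat_lit 0) (nat_lit 1) (nat_lit 0) (Cert.st (nat_lit 2) (nat_lit 1) (nat_lit 5) (Cert.st (nat_lit 0) (nat_lit 33) (nat_lit 0) (Cert.st (nat_lit 2) (nat_lit 2) (nat_lit 1) (Cert.st (nat_lit 0) (nat_lit 8) (nat_lit 0) (Cert.st (nat_lit 2) (nat_lit 2) (nat_lit 9) (Cert.st (nat_lit 0) (nat_lit 40) (nat_lit 0) (Cert.nl (nat_lit 32) (Cert.sy (nat_lit 0) (Cert.zs (nat_lit 0) )))))))))))))) Cert.nil)) (Cert.rep (nat_lit 60) [] [] [] Cert.nil Cert.nil))))))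
noncomputable def f88_1 : Cert :=
  Cert.rep (nat_lit 8) [nat_lit 8,nat_lit 16] [] [] (Cert.rep (nat_lit 4) [] [] [] (Cert.er (Cert.st (nat_lit 0) (nat_lit 33) (nat_lit 0) (Cert.ro (nat_lit 0) [nat_lit 1,nat_lit 8,nat_lit 16] [nat_lit 8,nat_lit 9,nat_lit 16] [nat_lit 0,nat_lit 1,nat_lit 8,nat_lit 9,nat_lit 33,nat_lit 32,nat_lit 41,nat_lit 40] (Cert.ro (nat_lit 1) [nat_lit 1,nat_lit 2,nat_lit 14,nat_lit 16] [nat_lit 1,nat_lit 14,nat_lit 12,nat_lit 16] [nat_lit 0,nat_lit 1,nat_lit 2,nat_lit 3,nat_lit 14,nat_lit 15,nat_lit 13,nat_lit 12,nat_lit 33,nat_lit 32,nat_lit 35,nat_lit 34,nat_lit 47,nat_lit 46,nat_lit 44,nat_lit 45] (Cert.th (nat_lit 16) (nat_lit 16) (nat_lit 0) true [nat_lit 0] [nat_lit 2] [] [] [nat_lit 32,nat_lit 8,nat_lit 4,nat_lit 2,nat_lit 1] [] [Ins.ts (nat_lit 3) [nat_lit 0] [],Ins.ts (nat_lit 1) [nat_lit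 0] [],Ins.fr [nat_lit 0],Ins.ts (nat_lit 1) [nat_lit 0,nat_lit 0] [],Ins.ts (nat_lit 1) [nat_lit 0,nat_lit 0,nat_lit 1] [],Ins.ts (nat_lit 0) [nat_lit 0,nat_lit 0,nat_lit 0,nat_lit 0] []] [] (Cert.rep (nat_lit 1) [] [nat_lit 32,nat_lit 16,nat_lit 8,nat_lit 4,nat_lit 2,nat_lit 1] [] Cert.nil (Cert.rep (nat_lit 8) [] [nat_lit 32,nat_lit 16,nat_lit 8,nat_lit 1] [nat_lit 4,nat_lit 2] Cert.nil (Cert.rep (nat_lit 40) [] [nat_lit 32,nat_lit 16,nat_lit 8,nat_lit 1] [nat_lit 4,nat_lit 2] Cert.nil Cert.nil)))))))) (Cert.rep (nat_lit 36) [] [] [] (Cert.er (Cert.st (nat_lit 0) (nat_lit 33) (nat_lit 0) (Cert.ro (nat_lit 0) [nat_lit 1,nat_lit 8,nat_lit 16] [nat_lit 8,nat_lit 9,nat_lit 16] [nat_lit 0,nat_lit 1,nat_lit 8,nat_lit 9,nat_lit 33,nat_lit 32,nat_lit 41,nat_lit 40] (Cert.ro (nat_lit 1) [nat_lit 1,nat_lit 2,nat_lit 14,nat_lit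 16] [nat_lit 1,nat_lit 14,nat_lit 12,nat_lit 16] [nat_lit 0,nat_lit 1,nat_lit 2,nat_lit 3,nat_lit 46,nat_lit 47,nat_lit 45,nat_lit 44,nat_lit 33,nat_lit 32,nat_lit 35,nat_lit 34,nat_lit 15,nat_lit 14,nat_lit 12,nat_lit 13] (Cert.th (nat_lit 16) (nat_lit 16) (nat_lit 0) true [nat_lit 0] [nat_lit 2] [] [] [nat_lit 32,nat_lit 8,nat_lit 4,nat_lit 2,nat_lit 1] [] [Ins.ts (nat_lit 3) [nat_lit 0] [],Ins.ts (nat_lit 1) [nat_lit 0] [],Ins.fr [nat_lit 0],Ins.ts (nat_lit 1) [nat_lit 0,nat_lit 0] [],Ins.ts (nat_lit 1) [nat_lit 0,nat_lit 0,nat_lit 1] [],Ins.ts (nat_lit 0) [nat_lit 0,nat_lit 0,nat_lit 0,nat_lit 0] []] [] (Cert.rep (nat_lit 1) [] [nat_lit 32,nat_lit 16,nat_lit 8,nat_lit 4,nat_lit 2,nat_lit 1] [] Cert.nil (Cert.rep (nat_lit 8) [] [nat_lit 32,nat_lit 16,nat_lit 8,nat_lit 1] [nat_lit 4,nat_lit 2] Cert.nil (Cert.rep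 (nat_lit 40) [] [nat_lit 32,nat_lit 16,nat_lit 8,nat_lit 1] [nat_lit 4,nat_lit 2] Cert.nil Cert.nil)))))))) Cert.nil)) (Cert.rep (nat_lit 16) [] [] [] Cert.nil (Cert.rep (nat_lit 24) [nat_lit 8,nat_lit 16] [] [] (Cert.rep (nat_lit 20) [] [] [] (Cert.er (Cert.st (nat_lit 0) (nat_lit 33) (nat_lit 0) (Cert.ro (nat_lit 0) [nat_lit 1,nat_lit 8,nat_lit 16] [nat_lit 8,nat_lit 9,nat_lit 16] [nat_lit 0,nat_lit 1,nat_lit 24,nat_lit 25,nat_lit 33,nat_lit 32,nat_lit 57,nat_lit 56] (Cert.ro (nat_lit 1) [nat_lit 1,nat_lit 2,nat_lit 14,nat_lit 16] [nat_lit 1,nat_lit 14,nat_lit 12,nat_lit 16] [nat_lit 0,nat_lit 1,nat_lit 3,nat_lit 2,nat_lit 15,nat_lit 14,nat_lit 13,nat_lit 12,nat_lit 33,nat_lit 32,nat_lit 34,nat_lit 35,nat_lit 46,nat_lit 47,nat_lit 44,nat_lit 45] (Cert.lf (Leaf.st (nat_lit 2) (nat_lit 1) (nat_lit 5) (Leaf.cf (nat_lit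 57)))))))) (Cert.rep (nat_lit 52) [] [] [] (Cert.er (Cert.st (nat_lit 0) (nat_lit 33) (nat_lit 0) (Cert.ro (nat_lit 0) [nat_lit 1,nat_lit 8,nat_lit 16] [nat_lit 8,nat_lit 9,nat_lit 16] [nat_lit 0,nat_lit 1,nat_lit 24,nat_lit 25,nat_lit 33,nat_lit 32,nat_lit 57,nat_lit 56] (Cert.ro (nat_lit 1) [nat_lit 1,nat_lit 2,nat_lit 14,nat_lit 16] [nat_lit 1,nat_lit 14,nat_lit 12,nat_lit 16] [nat_lit 0,nat_lit 1,nat_lit 3,nat_lit 2,nat_lit 47,nat_lit 46,nat_lit 45,nat_lit 44,nat_lit 33,nat_lit 32,nat_lit 34,nat_lit 35,nat_lit 14,nat_lit 15,nat_lit 12,nat_lit 13] (Cert.lf (Leaf.st (nat_lit 2) (nat_lit 1) (nat_lit 5) (Leaf.cf (nat_lit 57)))))))) Cert.nil)) (Cert.rep (nat_lit 28) [] [] [] Cert.nil (Cert.rep (nat_lit 32) [] [] [] Cert.nil (Cert.rep (nat_lit 40) [nat_lit 8,nat_lit 16] [] [] (Cert.rep (nat_lit 4) [] [] [] (Cert.er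 (Cert.st (nat_lit 0) (nat_lit 33) (nat_lit 0) (Cert.ro (nat_lit 0) [nat_lit 1,nat_lit 8,nat_lit 16] [nat_lit 8,nat_lit 9,nat_lit 16] [nat_lit 0,nat_lit 1,nat_lit 40,nat_lit 41,nat_lit 33,nat_lit 32,nat_lit 9,nat_lit 8] (Cert.ro (nat_lit 1) [nat_lit 1,nat_lit 2,nat_lit 14,nat_lit 16] [nat_lit 1,nat_lit 14,nat_lit 12,nat_lit 16] [nat_lit 0,nat_lit 1,nat_lit 2,nat_lit 3,nat_lit 46,nat_lit 47,nat_lit 45,nat_lit 44,nat_lit 33,nat_lit 32,nat_lit 35,nat_lit 34,nat_lit 15,nat_lit 14,nat_lit 12,nat_lit 13] (Cert.st (nat_lit 2) (nat_lit 1) (nat_lit 5) (Cert.st (nat_lit 0) (nat_lit 9) (nat_lit 0) (Cert.st (nat_lit 2) (nat_lit 2) (nat_lit 1) (Cert.st (nat_lit 0) (nat_lit 1) (nat_lit 0) (Cert.nl (nat_lit 33) (Cert.sy (nat_lit 0) (Cert.o1 (nat_lit 0) (nat_lit 1) (Cert.fu (nat_lit 1) (nat_lit 4) (nat_lit 33) (nat_lit 0) [nat_lit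 0] [nat_lit 4] [] [] [nat_lit 32,nat_lit 16,nat_lit 8,nat_lit 4,nat_lit 2,nat_lit 1] [nat_lit 1] [] [[nat_lit 1]] [Ins.fr [nat_lit 0],Ins.ts (nat_lit 1) [nat_lit 0,nat_lit 0] [],Ins.ts (nat_lit 0) [nat_lit 0,nat_lit 0,nat_lit 0,nat_lit 0] [nat_lit 1]] [] (Cert.rep (nat_lit 33) [] [nat_lit 32,nat_lit 16,nat_lit 8,nat_lit 4,nat_lit 2,nat_lit 1] [] Cert.nil Cert.nil))))))))))))) (Cert.rep (nat_lit 36) [] [] [] (Cert.er (Cert.st (nat_lit 0) (nat_lit 33) (nat_lit 0) (Cert.ro (nat_lit 0) [nat_lit 1,nat_lit 8,nat_lit 16] [nat_lit 8,nat_lit 9,nat_lit 16] [nat_lit 0,nat_lit 1,nat_lit 40,nat_lit 41,nat_lit 33,nat_lit 32,nat_lit 9,nat_lit 8] (Cert.ro (nat_lit 1) [nat_lit 1,nat_lit 2,nat_lit 14,nat_lit 16] [nat_lit 1,nat_lit 14,nat_lit 12,nat_lit 16] [nat_lit 0,nat_lit 1,nat_lit 2,nat_lit 3,nat_lit 14,nat_lit 15,nat_lit 13,nat_lit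 12,nat_lit 33,nat_lit 32,nat_lit 35,nat_lit 34,nat_lit 47,nat_lit 46,nat_lit 44,nat_lit 45] (Cert.st (nat_lit 2) (nat_lit 1) (nat_lit 5) (Cert.st (nat_lit 0) (nat_lit 9) (nat_lit 0) (Cert.st (nat_lit 2) (nat_lit 2) (nat_lit 1) (Cert.st (nat_lit 0) (nat_lit 1) (nat_lit 0) (Cert.nl (nat_lit 33) (Cert.sy (nat_lit 0) (Cert.o1 (nat_lit 0) (nat_lit 1) (Cert.fu (nat_lit 1) (nat_lit 4) (nat_lit 33) (nat_lit 0) [nat_lit 0] [nat_lit 4] [] [] [nat_lit 32,nat_lit 16,nat_lit 8,nat_lit 4,nat_lit 2,nat_lit 1] [nat_lit 1] [] [[nat_lit 1]] [Ins.fr [nat_lit 0],Ins.ts (nat_lit 1) [nat_lit 0,nat_lit 0] [],Ins.ts (nat_lit 0) [nat_lit 0,nat_lit 0,nat_lit 0,nat_lit 0] [nat_lit 1]] [] (Cert.rep (nat_lit 33) [] [nat_lit 32,nat_lit 16,nat_lit 8,nat_lit 4,nat_lit 2,nat_lit 1] [] Cert.nil Cert.nil))))))))))))) Cert.nil)) (Cert.rep (nat_lit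 48) [] [] [] Cert.nil (Cert.rep (nat_lit 56) [nat_lit 8,nat_lit 16] [] [] (Cert.rep (nat_lit 20) [] [] [] (Cert.er (Cert.st (nat_lit 0) (nat_lit 33) (nat_lit 0) (Cert.ro (nat_lit 0) [nat_lit 1,nat_lit 8,nat_lit 16] [nat_lit 8,nat_lit 9,nat_lit 16] [nat_lit 0,nat_lit 1,nat_lit 56,nat_lit 57,nat_lit 33,nat_lit 32,nat_lit 25,nat_lit 24] (Cert.ro (nat_lit 1) [nat_lit 1,nat_lit 2,nat_lit 14,nat_lit 16] [nat_lit 1,nat_lit 14,nat_lit 12,nat_lit 16] [nat_lit 0,nat_lit 1,nat_lit 3,nat_lit 2,nat_lit 47,nat_lit 46,nat_lit 45,nat_lit 44,nat_lit 33,nat_lit 32,nat_lit 34,nat_lit 35,nat_lit 14,nat_lit 15,nat_lit 12,nat_lit 13] (Cert.lf (Leaf.st (nat_lit 2) (nat_lit 1) (nat_lit 5) (Leaf.cf (nat_lit 25)))))))) (Cert.rep (nat_lit 52) [] [] [] (Cert.er (Cert.st (nat_lit 0) (nat_lit 33) (nat_lit 0) (Cert.ro (nat_lit 0) [nat_lit 1,nat_lit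 8,nat_lit 16] [nat_lit 8,nat_lit 9,nat_lit 16] [nat_lit 0,nat_lit 1,nat_lit 56,nat_lit 57,nat_lit 33,nat_lit 32,nat_lit 25,nat_lit 24] (Cert.ro (nat_lit 1) [nat_lit 1,nat_lit 2,nat_lit 14,nat_lit 16] [nat_lit 1,nat_lit 14,nat_lit 12,nat_lit 16] [nat_lit 0,nat_lit 1,nat_lit 3,nat_lit 2,nat_lit 15,nat_lit 14,nat_lit 13,nat_lit 12,nat_lit 33,nat_lit 32,nat_lit 34,nat_lit 35,nat_lit 46,nat_lit 47,nat_lit 44,nat_lit 45] (Cert.lf (Leaf.st (nat_lit 2) (nat_lit 1) (nat_lit 5) (Leaf.cf (nat_lit 25)))))))) Cert.nil)) (Cert.rep (nat_lit 60) [] [] [] Cert.nil Cert.nil))))))))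
noncomputable def f88_2 : Cert :=
  Cert.st (nat_lit 2) (nat_lit 1) (nat_lit 27) (Cert.st (nat_lit 0) (nat_lit 61) (nat_lit 0) (Cert.st (nat_lit 2) (nat_lit 1) (nat_lit 26) (Cert.st (nat_lit 0) (nat_lit 49) (nat_lit 0) (Cert.st (nat_lit 2) (nat_lit 0) (nat_lit 13) (Cert.st (nat_lit 0) (nat_lit 56) (nat_lit 0) (Cert.root (nat_lit 32) [] [nat_lit 8,nat_lit 4] [nat_lit 0,nat_lit 1,nat_lit 2,nat_lit 3,nat_lit 4] [Ins.fr [nat_lit 0],Ins.ts (nat_lit 0) [nat_lit 0,nat_lit 0] [],Ins.ts (nat_lit 1) [nat_lit 0] [],Ins.ts (nat_lit 1) [nat_lit 0,nat_lit 1] [],Ins.fr [nat_lit 1],Ins.ts (nat_lit 1) [nat_lit 0,nat_lit 0] [],Ins.ts (nat_lit 0) [nat_lit 1,nat_lit 0,nat_lit 1] [nat_lit 0,nat_lit 0,nat_lit 0],Ins.ts (nat_lit 1) [nat_lit 0,nat_lit 0,nat_lit 0,nat_lit 0] [],Ins.ts (nat_lit 1) [nat_lit 0,nat_lit 0,nat_lit 0,nat_lit 0,nat_lit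 2] [],Ins.df [nat_lit 0,nat_lit 0],Ins.df [nat_lit 0,nat_lit 0]] (Cert.rep (nat_lit 1) [nat_lit 2,nat_lit 4,nat_lit 8,nat_lit 16] [nat_lit 32,nat_lit 16,nat_lit 8,nat_lit 4,nat_lit 2,nat_lit 1] [] (Cert.rep (nat_lit 8) [] [] [] Cert.nil (Cert.rep (nat_lit 16) [] [] [] Cert.nil (Cert.rep (nat_lit 24) [] [] [] Cert.nil (Cert.rep (nat_lit 28) [] [] [] Cert.nil (Cert.rep (nat_lit 32) [] [] [] Cert.nil (Cert.rep (nat_lit 33) [] [] [] Cert.nil (Cert.rep (nat_lit 40) [] [] [] Cert.nil (Cert.rep (nat_lit 48) [] [] [] Cert.nil (Cert.rep (nat_lit 56) [] [] [] Cert.nil (Cert.rep (nat_lit 60) [] [] [] Cert.nil Cert.nil)))))))))) (Cert.rep (nat_lit 8) [] [nat_lit 32,nat_lit 16,nat_lit 8,nat_lit 1] [nat_lit 4,nat_lit 2] (Cert.rep (nat_lit 1) [] [] [] Cert.nil (Cert.rep (nat_lit 9) [] [] [] Cert.nil (Cert.rep (nat_lit 16) [] []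 [] Cert.nil (Cert.rep (nat_lit 17) [] [] [] Cert.nil (Cert.rep (nat_lit 24) [] [] [] Cert.nil (Cert.rep (nat_lit 25) [] [] [] Cert.nil (Cert.rep (nat_lit 32) [] [] [] Cert.nil (Cert.rep (nat_lit 33) [] [] [] Cert.nil (Cert.rep (nat_lit 40) [] [] [] Cert.nil (Cert.rep (nat_lit 41) [] [] [] Cert.nil (Cert.rep (nat_lit 48) [] [] [] Cert.nil (Cert.rep (nat_lit 49) [] [] [] Cert.nil (Cert.rep (nat_lit 56) [] [] [] Cert.nil (Cert.rep (nat_lit 57) [] [] [] Cert.nil Cert.nil)))))))))))))) (Cert.rep (nat_lit 32) [nat_lit 2,nat_lit 4,nat_lit 8,nat_lit 16] [nat_lit 32,nat_lit 16,nat_lit 8,nat_lit 4,nat_lit 2,nat_lit 1] [] (Cert.rep (nat_lit 1) [] [] [] Cert.nil (Cert.rep (nat_lit 8) [nat_lit 8,nat_lit 16] [] [] (Cert.rep (nat_lit 4) [] [] [] (Cert.er (Cert.ro (nat_lit 0) [nat_lit 1,nat_lit 8,nat_lit 16] [nat_lit 8,nat_lit 9,nat_lit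 16] [nat_lit 0,nat_lit 1,nat_lit 8,nat_lit 9,nat_lit 32,nat_lit 33,nat_lit 40,nat_lit 41] (Cert.ro (nat_lit 1) [nat_lit 1,nat_lit 2,nat_lit 14,nat_lit 16] [nat_lit 1,nat_lit 14,nat_lit 12,nat_lit 16] [nat_lit 0,nat_lit 1,nat_lit 2,nat_lit 3,nat_lit 14,nat_lit 15,nat_lit 13,nat_lit 12,nat_lit 32,nat_lit 33,nat_lit 34,nat_lit 35,nat_lit 46,nat_lit 47,nat_lit 45,nat_lit 44] (Cert.th (nat_lit 16) (nat_lit 16) (nat_lit 0) true [nat_lit 0] [nat_lit 2] [] [] [nat_lit 32,nat_lit 8,nat_lit 4,nat_lit 2,nat_lit 1] [] [Ins.ts (nat_lit 1) [nat_lit 0] [],Ins.ts (nat_lit 3) [nat_lit 0] [],Ins.fr [nat_lit 0],Ins.ts (nat_lit 1) [nat_lit 0,nat_lit 0] [],Ins.ts (nat_lit 0) [nat_lit 0,nat_lit 0,nat_lit 0,nat_lit 0] [],Ins.ts (nat_lit 1) [nat_lit 0,nat_lit 0,nat_lit 1] [],Ins.ts (nat_lit 3) [nat_lit 0,nat_lit 0,nat_lit 1] []] [] (Cert.rep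 (nat_lit 1) [] [nat_lit 32,nat_lit 16,nat_lit 8,nat_lit 4,nat_lit 2,nat_lit 1] [] Cert.nil (Cert.rep (nat_lit 8) [] [nat_lit 32,nat_lit 16,nat_lit 8,nat_lit 1] [nat_lit 4,nat_lit 2] Cert.nil (Cert.rep (nat_lit 33) [] [nat_lit 32,nat_lit 16,nat_lit 8,nat_lit 4,nat_lit 2,nat_lit 1] [] Cert.nil (Cert.rep (nat_lit 40) [] [nat_lit 32,nat_lit 16,nat_lit 8,nat_lit 1] [nat_lit 4,nat_lit 2] Cert.nil Cert.nil)))))))) (Cert.rep (nat_lit 36) [] [] [] (Cert.er (Cert.ro (nat_lit 0) [nat_lit 1,nat_lit 8,nat_lit 16] [nat_lit 8,nat_lit 9,nat_lit 16] [nat_lit 0,nat_lit 1,nat_lit 8,nat_lit 9,nat_lit 32,nat_lit 33,nat_lit 40,nat_lit 41] (Cert.ro (nat_lit 1) [nat_lit 1,nat_lit 2,nat_lit 14,nat_lit 16] [nat_lit 1,nat_lit 14,nat_lit 12,nat_lit 16] [nat_lit 0,nat_lit 1,nat_lit 2,nat_lit 3,nat_lit 46,nat_lit 47,nat_lit 45,nat_lit 44,nat_lit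 32,nat_lit 33,nat_lit 34,nat_lit 35,nat_lit 14,nat_lit 15,nat_lit 13,nat_lit 12] (Cert.th (nat_lit 16) (nat_lit 16) (nat_lit 0) true [nat_lit 0] [nat_lit 2] [] [] [nat_lit 32,nat_lit 8,nat_lit 4,nat_lit 2,nat_lit 1] [] [Ins.ts (nat_lit 1) [nat_lit 0] [],Ins.ts (nat_lit 3) [nat_lit 0] [],Ins.fr [nat_lit 0],Ins.ts (nat_lit 1) [nat_lit 0,nat_lit 0] [],Ins.ts (nat_lit 0) [nat_lit 0,nat_lit 0,nat_lit 0,nat_lit 0] [],Ins.ts (nat_lit 1) [nat_lit 0,nat_lit 0,nat_lit 1] [],Ins.ts (nat_lit 3) [nat_lit 0,nat_lit 0,nat_lit 1] []] [] (Cert.rep (nat_lit 1) [] [nat_lit 32,nat_lit 16,nat_lit 8,nat_lit 4,nat_lit 2,nat_lit 1] [] Cert.nil (Cert.rep (nat_lit 8) [] [nat_lit 32,nat_lit 16,nat_lit 8,nat_lit 1] [nat_lit 4,nat_lit 2] Cert.nil (Cert.rep (nat_lit 33) [] [nat_lit 32,nat_lit 16,nat_lit 8,nat_lit 4,nat_lit 2,nat_lit 1] [] Cert.nil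 (Cert.rep (nat_lit 40) [] [nat_lit 32,nat_lit 16,nat_lit 8,nat_lit 1] [nat_lit 4,nat_lit 2] Cert.nil Cert.nil)))))))) Cert.nil)) (Cert.rep (nat_lit 16) [] [] [] Cert.nil f88_0))) (Cert.rep (nat_lit 33) [nat_lit 2,nat_lit 4,nat_lit 8,nat_lit 16] [nat_lit 32,nat_lit 16,nat_lit 8,nat_lit 4,nat_lit 2,nat_lit 1] [] (Cert.rep (nat_lit 1) [] [] [] Cert.nil f88_1) (Cert.rep (nat_lit 40) [] [nat_lit 32,nat_lit 16,nat_lit 8,nat_lit 1] [nat_lit 4,nat_lit 2] (Cert.rep (nat_lit 1) [] [] [] Cert.nil (Cert.rep (nat_lit 8) [] [] [] Cert.nil (Cert.rep (nat_lit 9) [] [] [] Cert.nil (Cert.rep (nat_lit 16) [] [] [] Cert.nil (Cert.rep (nat_lit 17) [] [] [] Cert.nil (Cert.rep (nat_lit 24) [] [] [] Cert.nil (Cert.rep (nat_lit 25) [] [] [] Cert.nil (Cert.rep (nat_lit 32) [] [] [] Cert.nil (Cert.rep (nat_lit 33) [] [] [] Cert.nil (Cert.rep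 (nat_lit 41) [] [] [] Cert.nil (Cert.rep (nat_lit 48) [] [] [] Cert.nil (Cert.rep (nat_lit 49) [] [] [] Cert.nil (Cert.rep (nat_lit 56) [] [] [] Cert.nil (Cert.rep (nat_lit 57) [] [] [] Cert.nil Cert.nil)))))))))))))) Cert.nil)))))))))))
noncomputable def f88_3 : Cert :=
  Cert.xk (nat_lit 48) (Cert.xn (nat_lit 32) (Cert.lw (nat_lit 0) (nat_lit 1) (nat_lit 1) (Cert.st (nat_lit 2) (nat_lit 1) (nat_lit 11) (Cert.st (nat_lit 0) (nat_lit 29) (nat_lit 0) (Cert.st (nat_lit 2) (nat_lit 1) (nat_lit 10) (Cert.st (nat_lit 0) (nat_lit 17) (nat_lit 0) (Cert.st (nat_lit 2) (nat_lit 0) (nat_lit 5) (Cert.st (nat_lit 0) (nat_lit 24) (nat_lit 0) (Cert.sy (nat_lit 0) (Cert.root (nat_lit 32) [] [nat_lit 8,nat_lit 4] [nat_lit 0,nat_lit 1,nat_lit 2,nat_lit 3,nat_lit 4] [Ins.fr [nat_lit 0],Ins.ts (nat_lit 4) [nat_lit 0] [nat_lit 0,nat_lit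 0,nat_lit 0],Ins.ts (nat_lit 0) [nat_lit 0,nat_lit 0] [],Ins.ts (nat_lit 1) [nat_lit 0] [],Ins.fr [nat_lit 1],Ins.ts (nat_lit 1) [nat_lit 0,nat_lit 0] [],Ins.ts (nat_lit 4) [nat_lit 0] [nat_lit 0,nat_lit 0,nat_lit 0],Ins.ts (nat_lit 0) [nat_lit 1,nat_lit 0,nat_lit 1] [nat_lit 0,nat_lit 0,nat_lit 0],Ins.ts (nat_lit 1) [nat_lit 0,nat_lit 0,nat_lit 0,nat_lit 0] [],Ins.df [nat_lit 0,nat_lit 0],Ins.df [nat_lit 0,nat_lit 0]] (Cert.rep (nat_lit 32) [nat_lit 2,nat_lit 4,nat_lit 8,nat_lit 16] [nat_lit 32,nat_lit 16,nat_lit 8,nat_lit 4,nat_lit 2,nat_lit 1] [] (Cert.rep (nat_lit 1) [] [] [] Cert.nil (Cert.rep (nat_lit 8) [nat_lit 8,nat_lit 16] [] [] (Cert.rep (nat_lit 4) [] [] [] (Cert.er (Cert.ro (nat_lit 0) [nat_lit 1,nat_lit 8,nat_lit 16] [nat_lit 8,nat_lit 9,nat_lit 16] [nat_lit 0,nat_lit 1,nat_lit 8,nat_lit 9,nat_lit 32,nat_lit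 33,nat_lit 40,nat_lit 41] (Cert.ro (nat_lit 1) [nat_lit 1,nat_lit 2,nat_lit 14,nat_lit 16] [nat_lit 1,nat_lit 14,nat_lit 12,nat_lit 16] [nat_lit 0,nat_lit 1,nat_lit 2,nat_lit 3,nat_lit 14,nat_lit 15,nat_lit 13,nat_lit 12,nat_lit 32,nat_lit 33,nat_lit 34,nat_lit 35,nat_lit 46,nat_lit 47,nat_lit 45,nat_lit 44] (Cert.th (nat_lit 48) (nat_lit 48) (nat_lit 0) true [nat_lit 0] [nat_lit 2] [] [] [nat_lit 8,nat_lit 4,nat_lit 2,nat_lit 1] [] [Ins.ts (nat_lit 1) [nat_lit 0] [],Ins.fr [nat_lit 0],Ins.ts (nat_lit 1) [nat_lit 0,nat_lit 0] [],Ins.ts (nat_lit 4) [nat_lit 0] [nat_lit 0,nat_lit 0,nat_lit 1],Ins.ts (nat_lit 1) [nat_lit 0,nat_lit 0,nat_lit 1] [],Ins.ts (nat_lit 0) [nat_lit 0,nat_lit 0,nat_lit 0,nat_lit 0] []] [(nat_lit 0,nat_lit 0)] (Cert.rep (nat_lit 1) [] [nat_lit 32,nat_lit 16,nat_lit 8,nat_lit 4,nat_lit 2,nat_lit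 1] [] Cert.nil (Cert.rep (nat_lit 8) [] [nat_lit 32,nat_lit 16,nat_lit 8,nat_lit 1] [nat_lit 4,nat_lit 2] Cert.nil Cert.nil)))))) Cert.nil) (Cert.rep (nat_lit 48) [] [] [] Cert.nil (Cert.rep (nat_lit 56) [nat_lit 8,nat_lit 16] [] [] (Cert.rep (nat_lit 52) [] [] [] (Cert.er (Cert.ro (nat_lit 0) [nat_lit 1,nat_lit 8,nat_lit 16] [nat_lit 8,nat_lit 9,nat_lit 16] [nat_lit 0,nat_lit 1,nat_lit 56,nat_lit 57,nat_lit 32,nat_lit 33,nat_lit 24,nat_lit 25] (Cert.ro (nat_lit 1) [nat_lit 1,nat_lit 2,nat_lit 14,nat_lit 16] [nat_lit 1,nat_lit 14,nat_lit 12,nat_lit 16] [nat_lit 0,nat_lit 1,nat_lit 3,nat_lit 2,nat_lit 15,nat_lit 14,nat_lit 13,nat_lit 12,nat_lit 32,nat_lit 33,nat_lit 35,nat_lit 34,nat_lit 47,nat_lit 46,nat_lit 45,nat_lit 44] (Cert.st (nat_lit 2) (nat_lit 1) (nat_lit 5) (Cert.st (nat_lit 0) (nat_lit 33) (nat_lit 0)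 (Cert.st (nat_lit 2) (nat_lit 2) (nat_lit 9) (Cert.st (nat_lit 0) (nat_lit 40) (nat_lit 0) (Cert.nl (nat_lit 32) (Cert.sy (nat_lit 0) (Cert.zs (nat_lit 0) )))))))))) Cert.nil) (Cert.rep (nat_lit 60) [] [] [] Cert.nil Cert.nil))))) (Cert.rep (nat_lit 33) [nat_lit 2,nat_lit 4,nat_lit 8,nat_lit 16] [nat_lit 32,nat_lit 16,nat_lit 8,nat_lit 4,nat_lit 2,nat_lit 1] [] (Cert.rep (nat_lit 1) [] [] [] Cert.nil (Cert.rep (nat_lit 8) [nat_lit 8,nat_lit 16] [] [] (Cert.rep (nat_lit 4) [] [] [] (Cert.er (Cert.st (nat_lit 0) (nat_lit 33) (nat_lit 0) (Cert.ro (nat_lit 0) [nat_lit 1,nat_lit 8,nat_lit 16] [nat_lit 8,nat_lit 9,nat_lit 16] [nat_lit 0,nat_lit 1,nat_lit 8,nat_lit 9,nat_lit 33,nat_lit 32,nat_lit 41,nat_lit 40] (Cert.ro (nat_lit 1) [nat_lit 1,nat_lit 2,nat_lit 14,nat_lit 16] [nat_lit 1,nat_lit 14,nat_lit 12,nat_lit 16]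 [nat_lit 0,nat_lit 1,nat_lit 2,nat_lit 3,nat_lit 14,nat_lit 15,nat_lit 13,nat_lit 12,nat_lit 33,nat_lit 32,nat_lit 35,nat_lit 34,nat_lit 47,nat_lit 46,nat_lit 44,nat_lit 45] (Cert.th (nat_lit 48) (nat_lit 48) (nat_lit 0) true [nat_lit 0] [nat_lit 2] [] [] [nat_lit 8,nat_lit 4,nat_lit 2,nat_lit 1] [] [Ins.ts (nat_lit 1) [nat_lit 0] [],Ins.fr [nat_lit 0],Ins.ts (nat_lit 1) [nat_lit 0,nat_lit 0] [],Ins.ts (nat_lit 4) [nat_lit 0] [nat_lit 0,nat_lit 0,nat_lit 1],Ins.ts (nat_lit 1) [nat_lit 0,nat_lit 0,nat_lit 1] [],Ins.ts (nat_lit 0) [nat_lit 0,nat_lit 0,nat_lit 0,nat_lit 0] []] [(nat_lit 0,nat_lit 0)] (Cert.rep (nat_lit 1) [] [nat_lit 32,nat_lit 16,nat_lit 8,nat_lit 4,nat_lit 2,nat_lit 1] [] Cert.nil (Cert.rep (nat_lit 8) [] [nat_lit 32,nat_lit 16,nat_lit 8,nat_lit 1] [nat_lit 4,nat_lit 2] Cert.nil Cert.nil))))))) Cert.nil)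 (Cert.rep (nat_lit 48) [] [] [] Cert.nil (Cert.rep (nat_lit 56) [nat_lit 8,nat_lit 16] [] [] (Cert.rep (nat_lit 52) [] [] [] (Cert.er (Cert.st (nat_lit 0) (nat_lit 33) (nat_lit 0) (Cert.ro (nat_lit 0) [nat_lit 1,nat_lit 8,nat_lit 16] [nat_lit 8,nat_lit 9,nat_lit 16] [nat_lit 0,nat_lit 1,nat_lit 56,nat_lit 57,nat_lit 33,nat_lit 32,nat_lit 25,nat_lit 24] (Cert.ro (nat_lit 1) [nat_lit 1,nat_lit 2,nat_lit 14,nat_lit 16] [nat_lit 1,nat_lit 14,nat_lit 12,nat_lit 16] [nat_lit 0,nat_lit 1,nat_lit 3,nat_lit 2,nat_lit 15,nat_lit 14,nat_lit 13,nat_lit 12,nat_lit 33,nat_lit 32,nat_lit 34,nat_lit 35,nat_lit 46,nat_lit 47,nat_lit 44,nat_lit 45] (Cert.lf (Leaf.st (nat_lit 2) (nat_lit 1) (nat_lit 5) (Leaf.cf (nat_lit 25)))))))) Cert.nil) (Cert.rep (nat_lit 60) [] [] [] Cert.nil Cert.nil))))) (Cert.rep (nat_lit 40) [] [nat_lit 32,nat_lit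 16,nat_lit 8,nat_lit 1] [nat_lit 4,nat_lit 2] (Cert.rep (nat_lit 1) [] [] [] Cert.nil (Cert.rep (nat_lit 8) [] [] [] Cert.nil (Cert.rep (nat_lit 9) [] [] [] Cert.nil (Cert.rep (nat_lit 48) [] [] [] Cert.nil (Cert.rep (nat_lit 49) [] [] [] Cert.nil (Cert.rep (nat_lit 56) [] [] [] Cert.nil (Cert.rep (nat_lit 57) [] [] [] Cert.nil Cert.nil))))))) Cert.nil))))))))))))) (Cert.xk (nat_lit 52) (Cert.xn (nat_lit 32) (Cert.kw (nat_lit 0) (nat_lit 0) (nat_lit 2) (nat_lit 2) )) (Cert.xk (nat_lit 56) (Cert.xn (nat_lit 32) (Cert.kw (nat_lit 0) (nat_lit 0) (nat_lit 1) (nat_lit 1) )) (Cert.xk (nat_lit 60) (Cert.xn (nat_lit 32) (Cert.kw (nat_lit 0) (nat_lit 0) (nat_lit 1) (nat_lit 1) )) (Cert.xe (nat_lit 32) [] [(nat_lit 0,nat_lit 2),(nat_lit 0,nat_lit 4)]))))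
noncomputable def f88_4 : Cert :=
  Cert.xk (nat_lit 32) (Cert.xn (nat_lit 32) (Cert.lw (nat_lit 0) (nat_lit 1) (nat_lit 1) (Cert.st (nat_lit 2) (nat_lit 1) (nat_lit 27) (Cert.st (nat_lit 0) (nat_lit 61) (nat_lit 0) (Cert.st (nat_lit 2) (nat_lit 1) (nat_lit 26) (Cert.st (nat_lit 0) (nat_lit 49) (nat_lit 0) (Cert.st (nat_lit 2) (nat_lit 0) (nat_lit 13) (Cert.st (nat_lit 0) (nat_lit 56) (nat_lit 0) (Cert.sy (nat_lit 0) (Cert.root (nat_lit 32) [] [nat_lit 8,nat_lit 4] [nat_lit 0,nat_lit 1,nat_lit 2,nat_lit 3,nat_lit 4] [Ins.fr [nat_lit 0],Ins.ts (nat_lit 4) [nat_lit 0] [nat_lit 0,nat_lit 0,nat_lit 0],Ins.ts (nat_lit 0) [nat_lit 0,nat_lit 0] [],Ins.ts (nat_lit 1) [nat_lit 0] [],Ins.fr [nat_lit 1],Ins.ts (nat_lit 1) [nat_lit 0,nat_lit 0] [],Ins.ts (nat_lit 4) [nat_lit 0] [nat_lit 0,nat_lit 0,nat_lit 0],Ins.ts (nat_lit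 0) [nat_lit 1,nat_lit 0,nat_lit 1] [nat_lit 0,nat_lit 0,nat_lit 0],Ins.ts (nat_lit 1) [nat_lit 0,nat_lit 0,nat_lit 0,nat_lit 0] [],Ins.df [nat_lit 0,nat_lit 0],Ins.df [nat_lit 0,nat_lit 0]] (Cert.rep (nat_lit 32) [nat_lit 2,nat_lit 4,nat_lit 8,nat_lit 16] [nat_lit 32,nat_lit 16,nat_lit 8,nat_lit 4,nat_lit 2,nat_lit 1] [] (Cert.rep (nat_lit 1) [] [] [] Cert.nil (Cert.rep (nat_lit 8) [nat_lit 8,nat_lit 16] [] [] (Cert.rep (nat_lit 4) [] [] [] (Cert.er (Cert.ro (nat_lit 0) [nat_lit 1,nat_lit 8,nat_lit 16] [nat_lit 8,nat_lit 9,nat_lit 16] [nat_lit 0,nat_lit 1,nat_lit 8,nat_lit 9,nat_lit 32,nat_lit 33,nat_lit 40,nat_lit 41] (Cert.ro (nat_lit 1) [nat_lit 1,nat_lit 2,nat_lit 14,nat_lit 16] [nat_lit 1,nat_lit 14,nat_lit 12,nat_lit 16] [nat_lit 0,nat_lit 1,nat_lit 2,nat_lit 3,nat_lit 14,nat_lit 15,nat_lit 13,nat_lit 12,nat_lit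 32,nat_lit 33,nat_lit 34,nat_lit 35,nat_lit 46,nat_lit 47,nat_lit 45,nat_lit 44] (Cert.th (nat_lit 16) (nat_lit 16) (nat_lit 0) true [nat_lit 0] [nat_lit 2] [] [] [nat_lit 8,nat_lit 4,nat_lit 2,nat_lit 1] [] [Ins.ts (nat_lit 1) [nat_lit 0] [],Ins.fr [nat_lit 0],Ins.ts (nat_lit 1) [nat_lit 0,nat_lit 0] [],Ins.ts (nat_lit 4) [nat_lit 0] [nat_lit 0,nat_lit 0,nat_lit 1],Ins.ts (nat_lit 1) [nat_lit 0,nat_lit 0,nat_lit 1] [],Ins.ts (nat_lit 0) [nat_lit 0,nat_lit 0,nat_lit 0,nat_lit 0] []] [(nat_lit 0,nat_lit 0)] (Cert.rep (nat_lit 1) [] [nat_lit 32,nat_lit 16,nat_lit 8,nat_lit 4,nat_lit 2,nat_lit 1] [] Cert.nil (Cert.rep (nat_lit 8) [] [nat_lit 32,nat_lit 16,nat_lit 8,nat_lit 1] [nat_lit 4,nat_lit 2] Cert.nil Cert.nil)))))) Cert.nil) (Cert.rep (nat_lit 16) [] [] [] Cert.nil (Cert.rep (nat_lit 24) [nat_lit 8,nat_lit 16]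 [] [] (Cert.rep (nat_lit 20) [] [] [] (Cert.er (Cert.ro (nat_lit 0) [nat_lit 1,nat_lit 8,nat_lit 16] [nat_lit 8,nat_lit 9,nat_lit 16] [nat_lit 0,nat_lit 1,nat_lit 24,nat_lit 25,nat_lit 32,nat_lit 33,nat_lit 56,nat_lit 57] (Cert.ro (nat_lit 1) [nat_lit 1,nat_lit 2,nat_lit 14,nat_lit 16] [nat_lit 1,nat_lit 14,nat_lit 12,nat_lit 16] [nat_lit 0,nat_lit 1,nat_lit 3,nat_lit 2,nat_lit 15,nat_lit 14,nat_lit 13,nat_lit 12,nat_lit 32,nat_lit 33,nat_lit 35,nat_lit 34,nat_lit 47,nat_lit 46,nat_lit 45,nat_lit 44] (Cert.st (nat_lit 2) (nat_lit 1) (nat_lit 5) (Cert.st (nat_lit 0) (nat_lit 33) (nat_lit 0) (Cert.st (nat_lit 2) (nat_lit 2) (nat_lit 9) (Cert.st (nat_lit 0) (nat_lit 40) (nat_lit 0) (Cert.nl (nat_lit 32) (Cert.sy (nat_lit 0) (Cert.zs (nat_lit 0) )))))))))) Cert.nil) (Cert.rep (nat_lit 28) [] [] [] Cert.nil Cert.nil)))))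 (Cert.rep (nat_lit 33) [nat_lit 2,nat_lit 4,nat_lit 8,nat_lit 16] [nat_lit 32,nat_lit 16,nat_lit 8,nat_lit 4,nat_lit 2,nat_lit 1] [] (Cert.rep (nat_lit 1) [] [] [] Cert.nil (Cert.rep (nat_lit 8) [nat_lit 8,nat_lit 16] [] [] (Cert.rep (nat_lit 4) [] [] [] (Cert.er (Cert.st (nat_lit 0) (nat_lit 33) (nat_lit 0) (Cert.ro (nat_lit 0) [nat_lit 1,nat_lit 8,nat_lit 16] [nat_lit 8,nat_lit 9,nat_lit 16] [nat_lit 0,nat_lit 1,nat_lit 8,nat_lit 9,nat_lit 33,nat_lit 32,nat_lit 41,nat_lit 40] (Cert.ro (nat_lit 1) [nat_lit 1,nat_lit 2,nat_lit 14,nat_lit 16] [nat_lit 1,nat_lit 14,nat_lit 12,nat_lit 16] [nat_lit 0,nat_lit 1,nat_lit 2,nat_lit 3,nat_lit 14,nat_lit 15,nat_lit 13,nat_lit 12,nat_lit 33,nat_lit 32,nat_lit 35,nat_lit 34,nat_lit 47,nat_lit 46,nat_lit 44,nat_lit 45] (Cert.th (nat_lit 16) (nat_lit 16) (nat_lit 0) true [nat_lit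 0] [nat_lit 2] [] [] [nat_lit 8,nat_lit 4,nat_lit 2,nat_lit 1] [] [Ins.ts (nat_lit 1) [nat_lit 0] [],Ins.fr [nat_lit 0],Ins.ts (nat_lit 1) [nat_lit 0,nat_lit 0] [],Ins.ts (nat_lit 4) [nat_lit 0] [nat_lit 0,nat_lit 0,nat_lit 1],Ins.ts (nat_lit 1) [nat_lit 0,nat_lit 0,nat_lit 1] [],Ins.ts (nat_lit 0) [nat_lit 0,nat_lit 0,nat_lit 0,nat_lit 0] []] [(nat_lit 0,nat_lit 0)] (Cert.rep (nat_lit 1) [] [nat_lit 32,nat_lit 16,nat_lit 8,nat_lit 4,nat_lit 2,nat_lit 1] [] Cert.nil (Cert.rep (nat_lit 8) [] [nat_lit 32,nat_lit 16,nat_lit 8,nat_lit 1] [nat_lit 4,nat_lit 2] Cert.nil Cert.nil))))))) Cert.nil) (Cert.rep (nat_lit 16) [] [] [] Cert.nil (Cert.rep (nat_lit 24) [nat_lit 8,nat_lit 16] [] [] (Cert.rep (nat_lit 20) [] [] [] (Cert.er (Cert.st (nat_lit 0) (nat_lit 33) (nat_lit 0) (Cert.ro (nat_lit 0) [nat_lit 1,nat_lit 8,nat_lit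 16] [nat_lit 8,nat_lit 9,nat_lit 16] [nat_lit 0,nat_lit 1,nat_lit 24,nat_lit 25,nat_lit 33,nat_lit 32,nat_lit 57,nat_lit 56] (Cert.ro (nat_lit 1) [nat_lit 1,nat_lit 2,nat_lit 14,nat_lit 16] [nat_lit 1,nat_lit 14,nat_lit 12,nat_lit 16] [nat_lit 0,nat_lit 1,nat_lit 3,nat_lit 2,nat_lit 15,nat_lit 14,nat_lit 13,nat_lit 12,nat_lit 33,nat_lit 32,nat_lit 34,nat_lit 35,nat_lit 46,nat_lit 47,nat_lit 44,nat_lit 45] (Cert.lf (Leaf.st (nat_lit 2) (nat_lit 1) (nat_lit 5) (Leaf.cf (nat_lit 57)))))))) Cert.nil) (Cert.rep (nat_lit 28) [] [] [] Cert.nil Cert.nil))))) (Cert.rep (nat_lit 40) [] [nat_lit 32,nat_lit 16,nat_lit 8,nat_lit 1] [nat_lit 4,nat_lit 2] (Cert.rep (nat_lit 1) [] [] [] Cert.nil (Cert.rep (nat_lit 8) [] [] [] Cert.nil (Cert.rep (nat_lit 9) [] [] [] Cert.nil (Cert.rep (nat_lit 16) [] [] [] Cert.nil (Cert.rep (nat_lit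 17) [] [] [] Cert.nil (Cert.rep (nat_lit 24) [] [] [] Cert.nil (Cert.rep (nat_lit 25) [] [] [] Cert.nil Cert.nil))))))) Cert.nil))))))))))))) (Cert.xk (nat_lit 36) (Cert.xn (nat_lit 32) (Cert.kw (nat_lit 0) (nat_lit 0) (nat_lit 2) (nat_lit 2) )) (Cert.xk (nat_lit 40) (Cert.xn (nat_lit 32) (Cert.kw (nat_lit 0) (nat_lit 0) (nat_lit 1) (nat_lit 1) )) (Cert.xk (nat_lit 44) (Cert.xn (nat_lit 32) (Cert.kw (nat_lit 0) (nat_lit 0) (nat_lit 1) (nat_lit 1) )) f88_3)))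
noncomputable def f88 : Cert :=
  (Cert.nl (nat_lit 1) (Cert.xk (nat_lit 0) (Cert.lw (nat_lit 0) (nat_lit 1) (nat_lit 1) (Cert.st (nat_lit 2) (nat_lit 1) (nat_lit 11) (Cert.st (nat_lit 0) (nat_lit 29) (nat_lit 0) (Cert.st (nat_lit 2) (nat_lit 1) (nat_lit 10) (Cert.st (nat_lit 0) (nat_lit 17) (nat_lit 0) (Cert.st (nat_lit 2) (nat_lit 0) (nat_lit 5) (Cert.st (nat_lit 0) (nat_lit 24) (nat_lit 0) f88_2))))))) f88_4))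
theorem fin88 : finOK DB PT 88 t88 88 t88 (nat_lit 0xff030f03ff030f03) f88 = true := by
  decide +kernel
noncomputable def f93_0 : Cert :=
  Cert.s2 (nat_lit 0) (nat_lit 92) (Cert.o1 (nat_lit 0) (nat_lit 92) (Cert.fu (nat_lit 10) (nat_lit 1) (nat_lit 0) (nat_lit 0) [] [nat_lit 92,nat_lit 1,nat_lit 16,nat_lit 32] [] [] [] [nat_lit 1] [[nat_lit 1]] [[nat_lit 92]] [Ins.fr [nat_lit 0],Ins.ts (nat_lit 3) [nat_lit 0] [],Ins.ts (nat_lit 4) [nat_lit 0] [nat_lit 0,nat_lit 0,nat_lit 0],Ins.ts (nat_lit 1) [nat_lit 0] [],Ins.fr [nat_lit 1],Ins.ts (nat_lit 3) [nat_lit 0] [],Ins.ts (nat_lit 0) [nat_lit 0,nat_lit 0] [],Ins.ts (nat_lit 1) [nat_lit 0] [],Ins.ts (nat_lit 4) [nat_lit 0] [nat_lit 0,nat_lit 0,nat_lit 1],Ins.ts (nat_lit 1) [nat_lit 0,nat_lit 1] [],Ins.fr [nat_lit 2],Ins.ts (nat_lit 2) [nat_lit 0] [],Ins.ts (nat_lit 0)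 [nat_lit 0,nat_lit 0] [],Ins.ts (nat_lit 0) [nat_lit 1,nat_lit 0] [nat_lit 0,nat_lit 1],Ins.ts (nat_lit 1) [nat_lit 0] [],Ins.ts (nat_lit 4) [nat_lit 0,nat_lit 2,nat_lit 3] [nat_lit 0,nat_lit 0,nat_lit 2],Ins.ts (nat_lit 4) [nat_lit 0,nat_lit 1,nat_lit 2,nat_lit 3] [nat_lit 0,nat_lit 0,nat_lit 2],Ins.ts (nat_lit 1) [nat_lit 0,nat_lit 2,nat_lit 3] [],Ins.ts (nat_lit 1) [nat_lit 0,nat_lit 1,nat_lit 2,nat_lit 3] [],Ins.fr [nat_lit 1,nat_lit 3],Ins.ts (nat_lit 0) [nat_lit 0,nat_lit 0] [],Ins.ts (nat_lit 0) [nat_lit 1,nat_lit 2,nat_lit 0] [nat_lit 0,nat_lit 1]] [(nat_lit 2,nat_lit 0),(nat_lit 3,nat_lit 0)] (Cert.rep (nat_lit 10) [] [nat_lit 68,nat_lit 36,nat_lit 16,nat_lit 8,nat_lit 2,nat_lit 1] [nat_lit 1024,nat_lit 512,nat_lit 256,nat_lit 128,nat_lit 4] (Cert.rep (nat_lit 1) [nat_lit 2,nat_lit 16,nat_lit 36,nat_lit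 68] [] [] (Cert.rep (nat_lit 26) [] [] [] Cert.nil (Cert.rep (nat_lit 60) [] [] [] Cert.nil (Cert.rep (nat_lit 92) [] [] [] (Cert.rep (nat_lit 16) [] [] [] Cert.nil (Cert.rep (nat_lit 17) [] [] [] Cert.nil (Cert.rep (nat_lit 76) [] [] [] Cert.nil (Cert.rep (nat_lit 77) [] [] [] Cert.nil Cert.nil)))) Cert.nil))) Cert.nil) Cert.nil))) (Cert.root (nat_lit 32) [] [nat_lit 8,nat_lit 4] [nat_lit 0,nat_lit 1,nat_lit 2,nat_lit 3,nat_lit 4] [Ins.fr [nat_lit 0],Ins.ts (nat_lit 0) [nat_lit 0,nat_lit 0] [],Ins.ts (nat_lit 1) [nat_lit 0] [],Ins.ts (nat_lit 1) [nat_lit 0,nat_lit 1] [],Ins.fr [nat_lit 1],Ins.ts (nat_lit 1) [nat_lit 0,nat_lit 0] [],Ins.ts (nat_lit 0) [nat_lit 1,nat_lit 0,nat_lit 1] [nat_lit 0,nat_lit 0,nat_lit 0],Ins.ts (nat_lit 1) [nat_lit 0,nat_lit 0,nat_lit 0,nat_lit 0] [],Ins.df [nat_lit 0,nat_lit 0],Ins.df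 [nat_lit 0,nat_lit 0]] (Cert.rep (nat_lit 10) [nat_lit 2,nat_lit 16,nat_lit 36,nat_lit 68] [nat_lit 68,nat_lit 36,nat_lit 16,nat_lit 8,nat_lit 2,nat_lit 1] [nat_lit 1024,nat_lit 512,nat_lit 256,nat_lit 128,nat_lit 4] (Cert.rep (nat_lit 1) [] [] [] Cert.nil (Cert.rep (nat_lit 11) [] [] [] Cert.nil (Cert.rep (nat_lit 16) [] [] [] Cert.nil (Cert.rep (nat_lit 26) [] [] [] Cert.nil (Cert.rep (nat_lit 52) [] [] [] Cert.nil (Cert.rep (nat_lit 60) [] [] [] Cert.nil (Cert.rep (nat_lit 68) [nat_lit 16,nat_lit 68] [] [] (Cert.rep (nat_lit 96) [] [] [] (Cert.er (Cert.ro (nat_lit 0) [nat_lit 1,nat_lit 8,nat_lit 16] [nat_lit 8,nat_lit 9,nat_lit 16] [nat_lit 0,nat_lit 1,nat_lit 68,nat_lit 69,nat_lit 10,nat_lit 11,nat_lit 78,nat_lit 79] (Cert.ro (nat_lit 1) [nat_lit 1,nat_lit 2,nat_lit 14,nat_lit 16] [nat_lit 1,nat_lit 14,nat_lit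 12,nat_lit 16] [nat_lit 0,nat_lit 1,nat_lit 2,nat_lit 3,nat_lit 39,nat_lit 38,nat_lit 36,nat_lit 37,nat_lit 10,nat_lit 11,nat_lit 9,nat_lit 8,nat_lit 44,nat_lit 45,nat_lit 46,nat_lit 47] (Cert.kw (nat_lit 2) (nat_lit 0) (nat_lit 2) (nat_lit 1) )))) (Cert.rep (nat_lit 104) [] [] [] (Cert.er (Cert.ro (nat_lit 0) [nat_lit 1,nat_lit 8,nat_lit 16] [nat_lit 8,nat_lit 9,nat_lit 16] [nat_lit 0,nat_lit 1,nat_lit 68,nat_lit 69,nat_lit 10,nat_lit 11,nat_lit 78,nat_lit 79] (Cert.ro (nat_lit 1) [nat_lit 1,nat_lit 2,nat_lit 14,nat_lit 16] [nat_lit 1,nat_lit 14,nat_lit 12,nat_lit 16] [nat_lit 0,nat_lit 1,nat_lit 3,nat_lit 2,nat_lit 46,nat_lit 47,nat_lit 44,nat_lit 45,nat_lit 10,nat_lit 11,nat_lit 8,nat_lit 9,nat_lit 36,nat_lit 37,nat_lit 39,nat_lit 38] (Cert.kw (nat_lit 2) (nat_lit 0) (nat_lit 2) (nat_lit 1) )))) Cert.nil)) (Cert.rep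 (nat_lit 76) [nat_lit 16,nat_lit 70] [] [] (Cert.rep (nat_lit 96) [] [] [] (Cert.er (Cert.ro (nat_lit 0) [nat_lit 1,nat_lit 8,nat_lit 16] [nat_lit 8,nat_lit 9,nat_lit 16] [nat_lit 0,nat_lit 1,nat_lit 76,nat_lit 77,nat_lit 10,nat_lit 11,nat_lit 71,nat_lit 70] (Cert.ro (nat_lit 1) [nat_lit 1,nat_lit 2,nat_lit 14,nat_lit 16] [nat_lit 1,nat_lit 14,nat_lit 12,nat_lit 16] [nat_lit 0,nat_lit 1,nat_lit 2,nat_lit 3,nat_lit 47,nat_lit 46,nat_lit 44,nat_lit 45,nat_lit 10,nat_lit 11,nat_lit 9,nat_lit 8,nat_lit 37,nat_lit 36,nat_lit 39,nat_lit 38] (Cert.lf (Leaf.st (nat_lit 2) (nat_lit 1) (nat_lit 1) (Leaf.cf (nat_lit 1))))))) (Cert.rep (nat_lit 104) [] [] [] (Cert.er (Cert.ro (nat_lit 0) [nat_lit 1,nat_lit 8,nat_lit 16] [nat_lit 8,nat_lit 9,nat_lit 16] [nat_lit 0,nat_lit 1,nat_lit 76,nat_lit 77,nat_lit 10,nat_lit 11,nat_lit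 71,nat_lit 70] (Cert.ro (nat_lit 1) [nat_lit 1,nat_lit 2,nat_lit 14,nat_lit 16] [nat_lit 1,nat_lit 14,nat_lit 12,nat_lit 16] [nat_lit 0,nat_lit 1,nat_lit 3,nat_lit 2,nat_lit 39,nat_lit 38,nat_lit 37,nat_lit 36,nat_lit 10,nat_lit 11,nat_lit 8,nat_lit 9,nat_lit 44,nat_lit 45,nat_lit 47,nat_lit 46] (Cert.lf (Leaf.st (nat_lit 2) (nat_lit 1) (nat_lit 1) (Leaf.cf (nat_lit 1))))))) Cert.nil)) (Cert.rep (nat_lit 84) [nat_lit 16,nat_lit 68] [] [] (Cert.rep (nat_lit 112) [] [] [] (Cert.er (Cert.ro (nat_lit 0) [nat_lit 1,nat_lit 8,nat_lit 16] [nat_lit 8,nat_lit 9,nat_lit 16] [nat_lit 0,nat_lit 1,nat_lit 84,nat_lit 85,nat_lit 10,nat_lit 11,nat_lit 94,nat_lit 95] (Cert.ro (nat_lit 1) [nat_lit 1,nat_lit 2,nat_lit 14,nat_lit 16] [nat_lit 1,nat_lit 14,nat_lit 12,nat_lit 16] [nat_lit 0,nat_lit 1,nat_lit 3,nat_lit 2,nat_lit 39,nat_lit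 38,nat_lit 37,nat_lit 36,nat_lit 10,nat_lit 11,nat_lit 8,nat_lit 9,nat_lit 44,nat_lit 45,nat_lit 47,nat_lit 46] (Cert.lf (Leaf.st (nat_lit 2) (nat_lit 1) (nat_lit 1) (Leaf.cf (nat_lit 1))))))) (Cert.rep (nat_lit 120) [] [] [] (Cert.er (Cert.ro (nat_lit 0) [nat_lit 1,nat_lit 8,nat_lit 16] [nat_lit 8,nat_lit 9,nat_lit 16] [nat_lit 0,nat_lit 1,nat_lit 84,nat_lit 85,nat_lit 10,nat_lit 11,nat_lit 94,nat_lit 95] (Cert.ro (nat_lit 1) [nat_lit 1,nat_lit 2,nat_lit 14,nat_lit 16] [nat_lit 1,nat_lit 14,nat_lit 12,nat_lit 16] [nat_lit 0,nat_lit 1,nat_lit 2,nat_lit 3,nat_lit 46,nat_lit 47,nat_lit 45,nat_lit 44,nat_lit 10,nat_lit 11,nat_lit 9,nat_lit 8,nat_lit 36,nat_lit 37,nat_lit 38,nat_lit 39] (Cert.lf (Leaf.st (nat_lit 2) (nat_lit 1) (nat_lit 1) (Leaf.cf (nat_lit 1))))))) Cert.nil)) (Cert.rep (nat_lit 92) [nat_lit 16,nat_lit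 70] [] [] (Cert.rep (nat_lit 112) [] [] [] (Cert.er (Cert.ro (nat_lit 0) [nat_lit 1,nat_lit 8,nat_lit 16] [nat_lit 8,nat_lit 9,nat_lit 16] [nat_lit 0,nat_lit 1,nat_lit 92,nat_lit 93,nat_lit 10,nat_lit 11,nat_lit 87,nat_lit 86] (Cert.ro (nat_lit 1) [nat_lit 1,nat_lit 2,nat_lit 14,nat_lit 16] [nat_lit 1,nat_lit 14,nat_lit 12,nat_lit 16] [nat_lit 0,nat_lit 1,nat_lit 3,nat_lit 2,nat_lit 47,nat_lit 46,nat_lit 45,nat_lit 44,nat_lit 10,nat_lit 11,nat_lit 8,nat_lit 9,nat_lit 37,nat_lit 36,nat_lit 38,nat_lit 39] (Cert.kw (nat_lit 2) (nat_lit 0) (nat_lit 2) (nat_lit 1) )))) (Cert.rep (nat_lit 120) [] [] [] (Cert.er (Cert.ro (nat_lit 0) [nat_lit 1,nat_lit 8,nat_lit 16] [nat_lit 8,nat_lit 9,nat_lit 16] [nat_lit 0,nat_lit 1,nat_lit 92,nat_lit 93,nat_lit 10,nat_lit 11,nat_lit 87,nat_lit 86] (Cert.ro (nat_lit 1) [nat_lit 1,nat_lit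 2,nat_lit 14,nat_lit 16] [nat_lit 1,nat_lit 14,nat_lit 12,nat_lit 16] [nat_lit 0,nat_lit 1,nat_lit 2,nat_lit 3,nat_lit 39,nat_lit 38,nat_lit 36,nat_lit 37,nat_lit 10,nat_lit 11,nat_lit 9,nat_lit 8,nat_lit 44,nat_lit 45,nat_lit 46,nat_lit 47] (Cert.kw (nat_lit 2) (nat_lit 0) (nat_lit 2) (nat_lit 1) )))) Cert.nil)) Cert.nil)))))))))) Cert.nil))
noncomputable def f93 : Cert :=
  (Cert.st (nat_lit 0) (nat_lit 10) (nat_lit 0) (Cert.sp (nat_lit 1) (Cert.lf (Leaf.pt (nat_lit 9) (nat_lit 1) [nat_lit 10])) (Cert.sp (nat_lit 26) (Cert.lf (Leaf.pt (nat_lit 9) (nat_lit 26) [nat_lit 10])) (Cert.st (nat_lit 0) (nat_lit 26) (nat_lit 0) (Cert.sp (nat_lit 28) (Cert.lf (Leaf.pt (nat_lit 9) (nat_lit 28) [nat_lit 12])) (Cert.st (nat_lit 0) (nat_lit 28) (nat_lit 0) (Cert.sp (nat_lit 32) (Cert.lf (Leaf.pt (nat_lit 12) (nat_lit 32) [nat_lit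 26,nat_lit 196])) (Cert.st (nat_lit 0) (nat_lit 32) (nat_lit 0) (Cert.sp (nat_lit 68) (Cert.lf (Leaf.pt (nat_lit 9) (nat_lit 68) [nat_lit 10])) (Cert.st (nat_lit 0) (nat_lit 68) (nat_lit 0) (Cert.sp (nat_lit 92) (Cert.lf (Leaf.pt (nat_lit 9) (nat_lit 92) [nat_lit 10])) (Cert.st (nat_lit 0) (nat_lit 92) (nat_lit 0) (Cert.sp (nat_lit 132) (Cert.lf (Leaf.pt (nat_lit 12) (nat_lit 132) [nat_lit 26,nat_lit 1290])) (Cert.st (nat_lit 0) (nat_lit 132) (nat_lit 0) (Cert.sp (nat_lit 256) (Cert.lf (Leaf.pt (nat_lit 13) (nat_lit 256) [nat_lit 68])) (Cert.st (nat_lit 0) (nat_lit 256) (nat_lit 0) (Cert.sp (nat_lit 257) (Cert.lf (Leaf.pt (nat_lit 13) (nat_lit 257) [nat_lit 1])) (Cert.st (nat_lit 0) (nat_lit 257) (nat_lit 0) (Cert.sp (nat_lit 584) (Cert.lf (Leaf.pt (nat_lit 19) (nat_lit 584) [nat_lit 24,nat_lit 192])) (Cert.st (nat_lit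 0) (nat_lit 584) (nat_lit 0) (Cert.sp (nat_lit 648) (Cert.lf (Leaf.pt (nat_lit 12) (nat_lit 648) [nat_lit 28,nat_lit 258])) (Cert.st (nat_lit 0) (nat_lit 648) (nat_lit 0) (Cert.sp (nat_lit 649) (Cert.lf (Leaf.pt (nat_lit 12) (nat_lit 649) [nat_lit 28,nat_lit 258])) (Cert.st (nat_lit 0) (nat_lit 649) (nat_lit 0) (Cert.sp (nat_lit 1040) (Cert.lf (Leaf.pt (nat_lit 19) (nat_lit 1040) [nat_lit 192,nat_lit 258])) (Cert.st (nat_lit 0) (nat_lit 1040) (nat_lit 0) (Cert.sp (nat_lit 1164) (Cert.lf (Leaf.pt (nat_lit 13) (nat_lit 1164) [nat_lit 132])) (Cert.st (nat_lit 0) (nat_lit 1164) (nat_lit 0) (Cert.nl (nat_lit 1) (Cert.sy (nat_lit 0) (Cert.s2 (nat_lit 0) (nat_lit 68) (Cert.o1 (nat_lit 0) (nat_lit 68) (Cert.fu (nat_lit 10) (nat_lit 1) (nat_lit 0) (nat_lit 0) [] [nat_lit 68,nat_lit 1,nat_lit 16,nat_lit 32,nat_lit 256] []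 [] [] [nat_lit 1] [[nat_lit 1]] [[nat_lit 68]] [Ins.fr [nat_lit 0],Ins.ts (nat_lit 3) [nat_lit 0] [],Ins.ts (nat_lit 4) [nat_lit 0] [nat_lit 0,nat_lit 0,nat_lit 0],Ins.ts (nat_lit 1) [nat_lit 0] [],Ins.fr [nat_lit 1],Ins.ts (nat_lit 3) [nat_lit 0] [],Ins.ts (nat_lit 0) [nat_lit 0,nat_lit 0] [],Ins.ts (nat_lit 1) [nat_lit 0] [],Ins.ts (nat_lit 1) [nat_lit 0,nat_lit 1] [],Ins.fr [nat_lit 2],Ins.ts (nat_lit 2) [nat_lit 0] [],Ins.ts (nat_lit 0) [nat_lit 0,nat_lit 0] [],Ins.ts (nat_lit 0) [nat_lit 1,nat_lit 0] [nat_lit 0,nat_lit 1],Ins.ts (nat_lit 1) [nat_lit 0] [],Ins.ts (nat_lit 1) [nat_lit 0,nat_lit 3] [],Ins.ts (nat_lit 1) [nat_lit 0,nat_lit 2,nat_lit 3] [],Ins.ts (nat_lit 1) [nat_lit 0,nat_lit 1,nat_lit 3] [],Ins.ts (nat_lit 1) [nat_lit 0,nat_lit 1,nat_lit 2,nat_lit 3] [],Ins.fr [nat_lit 1,nat_lit 3],Ins.ts (nat_lit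 0) [nat_lit 0,nat_lit 0] [],Ins.ts (nat_lit 0) [nat_lit 1,nat_lit 2,nat_lit 0] [nat_lit 0,nat_lit 1],Ins.fr [nat_lit 1],Ins.ts (nat_lit 0) [nat_lit 0,nat_lit 0] [],Ins.ts (nat_lit 0) [nat_lit 3,nat_lit 0] [nat_lit 0,nat_lit 3]] [] (Cert.rep (nat_lit 10) [] [nat_lit 68,nat_lit 36,nat_lit 16,nat_lit 8,nat_lit 2,nat_lit 1] [nat_lit 1024,nat_lit 512,nat_lit 256,nat_lit 128,nat_lit 4] (Cert.rep (nat_lit 1) [nat_lit 2,nat_lit 16,nat_lit 36,nat_lit 68] [] [] (Cert.rep (nat_lit 26) [nat_lit 2,nat_lit 68] [] [] (Cert.rep (nat_lit 76) [nat_lit 10] [] [] (Cert.rep (nat_lit 256) [] [] [] Cert.nil (Cert.rep (nat_lit 257) [] [] [] Cert.nil (Cert.rep (nat_lit 326) [] [] [] Cert.nil (Cert.rep (nat_lit 327) [] [] [] Cert.nil Cert.nil)))) (Cert.rep (nat_lit 78) [nat_lit 10] [] [] (Cert.rep (nat_lit 256) [] [] [] Cert.nil (Cert.rep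 (nat_lit 257) [] [] [] Cert.nil (Cert.rep (nat_lit 324) [] [] [] Cert.nil (Cert.rep (nat_lit 325) [] [] [] Cert.nil Cert.nil)))) (Cert.rep (nat_lit 84) [nat_lit 10] [] [] (Cert.rep (nat_lit 256) [] [] [] Cert.nil (Cert.rep (nat_lit 257) [] [] [] Cert.nil (Cert.rep (nat_lit 324) [] [] [] Cert.nil (Cert.rep (nat_lit 325) [] [] [] Cert.nil Cert.nil)))) (Cert.rep (nat_lit 86) [nat_lit 10] [] [] (Cert.rep (nat_lit 256) [] [] [] Cert.nil (Cert.rep (nat_lit 257) [] [] [] Cert.nil (Cert.rep (nat_lit 326) [] [] [] Cert.nil (Cert.rep (nat_lit 327) [] [] [] Cert.nil Cert.nil)))) Cert.nil)))) (Cert.rep (nat_lit 60) [] [] [] Cert.nil (Cert.rep (nat_lit 68) [] [] [] (Cert.rep (nat_lit 16) [] [] [] Cert.nil (Cert.rep (nat_lit 17) [] [] [] Cert.nil (Cert.rep (nat_lit 84) [] [] [] Cert.nil (Cert.rep (nat_lit 85) [] [] [] Cert.nil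 Cert.nil)))) (Cert.rep (nat_lit 92) [] [] [] (Cert.rep (nat_lit 16) [] [] [] Cert.nil (Cert.rep (nat_lit 17) [] [] [] Cert.nil (Cert.rep (nat_lit 76) [] [] [] Cert.nil (Cert.rep (nat_lit 77) [] [] [] Cert.nil Cert.nil)))) Cert.nil)))) Cert.nil) Cert.nil))) f93_0)))))))))))))))))))))))))))))))
theorem fin93 : finOK DB PT 88 t88 93 t93 (nat_lit 0xc0000000c000000300000003000000000c0000000c000000c0000000c00000003000000030000000030000000300000c0000000c00000000300000003000000000000000000000000c3000000c30000c0030000c0030000000000000000000000000000000000003003000030030000003300000033000000000000000000f0000000f0000000f00c0cf0f00303f0f00000f0f00000f00c0000030c0000030000000000000000f00000f0f00000f0f00000f0f0f0f0f0fcfc0303fc03fc03) f93 = true := by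
  decide +kernel
noncomputable def f104_0 : Cert :=
  Cert.s2 (nat_lit 0) (nat_lit 68) (Cert.o1 (nat_lit 0) (nat_lit 68) (Cert.fu (nat_lit 10) (nat_lit 1) (nat_lit 0) (nat_lit 0) [] [nat_lit 68,nat_lit 1,nat_lit 16,nat_lit 32,nat_lit 256] [] [] [] [nat_lit 1] [[nat_lit 1]] [[nat_lit 68]] [Ins.fr [nat_lit 0],Ins.ts (nat_lit 3) [nat_lit 0] [],Ins.ts (nat_lit 4) [nat_lit 0] [nat_lit 0,nat_lit 0,nat_lit 0],Ins.ts (nat_lit 1) [nat_lit 0] [],Ins.fr [nat_lit 1],Ins.ts (nat_lit 3) [nat_lit 0] [],Ins.ts (nat_lit 0) [nat_lit 0,nat_lit 0] [],Ins.ts (nat_lit 1) [nat_lit 0] [],Ins.ts (nat_lit 1) [nat_lit 0,nat_lit 1] [],Ins.fr [nat_lit 2],Ins.ts (nat_lit 2) [nat_lit 0] [],Ins.ts (nat_lit 0) [nat_lit 0,nat_lit 0] [],Ins.ts (nat_lit 0) [nat_lit 1,nat_lit 0] [nat_lit 0,nat_lit 1],Ins.ts (nat_lit 1) [nat_lit 0] [],Ins.ts (nat_lit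 1) [nat_lit 0,nat_lit 3] [],Ins.ts (nat_lit 1) [nat_lit 0,nat_lit 2,nat_lit 3] [],Ins.ts (nat_lit 1) [nat_lit 0,nat_lit 1,nat_lit 3] [],Ins.ts (nat_lit 1) [nat_lit 0,nat_lit 1,nat_lit 2,nat_lit 3] [],Ins.fr [nat_lit 1,nat_lit 3],Ins.ts (nat_lit 0) [nat_lit 0,nat_lit 0] [],Ins.ts (nat_lit 0) [nat_lit 1,nat_lit 2,nat_lit 0] [nat_lit 0,nat_lit 1],Ins.fr [nat_lit 1],Ins.ts (nat_lit 0) [nat_lit 0,nat_lit 0] []] [] (Cert.rep (nat_lit 10) [] [nat_lit 68,nat_lit 36,nat_lit 16,nat_lit 8,nat_lit 2,nat_lit 1] [nat_lit 1024,nat_lit 512,nat_lit 256,nat_lit 128,nat_lit 4] (Cert.rep (nat_lit 1) [nat_lit 2,nat_lit 16,nat_lit 36,nat_lit 68] [] [] (Cert.rep (nat_lit 26) [nat_lit 2,nat_lit 68] [] [] (Cert.rep (nat_lit 76) [nat_lit 10] [] [] (Cert.rep (nat_lit 256) [] [] [] Cert.nil (Cert.rep (nat_lit 257) [] [] [] Cert.nil (Cert.rep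 (nat_lit 326) [] [] [] Cert.nil (Cert.rep (nat_lit 327) [] [] [] Cert.nil Cert.nil)))) (Cert.rep (nat_lit 78) [nat_lit 10] [] [] (Cert.rep (nat_lit 256) [] [] [] Cert.nil (Cert.rep (nat_lit 257) [] [] [] Cert.nil (Cert.rep (nat_lit 324) [] [] [] Cert.nil (Cert.rep (nat_lit 325) [] [] [] Cert.nil Cert.nil)))) (Cert.rep (nat_lit 84) [nat_lit 10] [] [] (Cert.rep (nat_lit 256) [] [] [] Cert.nil (Cert.rep (nat_lit 257) [] [] [] Cert.nil (Cert.rep (nat_lit 324) [] [] [] Cert.nil (Cert.rep (nat_lit 325) [] [] [] Cert.nil Cert.nil)))) (Cert.rep (nat_lit 86) [nat_lit 10] [] [] (Cert.rep (nat_lit 256) [] [] [] Cert.nil (Cert.rep (nat_lit 257) [] [] [] Cert.nil (Cert.rep (nat_lit 326) [] [] [] Cert.nil (Cert.rep (nat_lit 327) [] [] [] Cert.nil Cert.nil)))) Cert.nil)))) (Cert.rep (nat_lit 60) [] [] [] Cert.nil (Cert.rep (nat_lit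 68) [] [] [] (Cert.rep (nat_lit 16) [] [] [] Cert.nil (Cert.rep (nat_lit 17) [] [] [] Cert.nil (Cert.rep (nat_lit 84) [] [] [] Cert.nil (Cert.rep (nat_lit 85) [] [] [] Cert.nil Cert.nil)))) (Cert.rep (nat_lit 92) [] [] [] (Cert.rep (nat_lit 16) [] [] [] Cert.nil (Cert.rep (nat_lit 17) [] [] [] Cert.nil (Cert.rep (nat_lit 76) [] [] [] Cert.nil (Cert.rep (nat_lit 77) [] [] [] Cert.nil Cert.nil)))) Cert.nil)))) Cert.nil) Cert.nil))) (Cert.root (nat_lit 32) [] [nat_lit 8,nat_lit 4] [nat_lit 0,nat_lit 1,nat_lit 2,nat_lit 3,nat_lit 4] [Ins.fr [nat_lit 0],Ins.ts (nat_lit 0) [nat_lit 0,nat_lit 0] [],Ins.ts (nat_lit 1) [nat_lit 0] [],Ins.ts (nat_lit 1) [nat_lit 0,nat_lit 1] [],Ins.fr [nat_lit 1],Ins.ts (nat_lit 1) [nat_lit 0,nat_lit 0] [],Ins.ts (nat_lit 0) [nat_lit 1,nat_lit 0,nat_lit 1] [nat_lit 0,nat_lit 0,nat_lit 0],Ins.ts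 (nat_lit 1) [nat_lit 0,nat_lit 0,nat_lit 0,nat_lit 0] [],Ins.df [nat_lit 0,nat_lit 0],Ins.df [nat_lit 0,nat_lit 0]] (Cert.rep (nat_lit 10) [nat_lit 2,nat_lit 16,nat_lit 36,nat_lit 68] [nat_lit 68,nat_lit 36,nat_lit 16,nat_lit 8,nat_lit 2,nat_lit 1] [nat_lit 1024,nat_lit 512,nat_lit 256,nat_lit 128,nat_lit 4] (Cert.rep (nat_lit 1) [] [] [] Cert.nil (Cert.rep (nat_lit 11) [] [] [] Cert.nil (Cert.rep (nat_lit 16) [] [] [] Cert.nil (Cert.rep (nat_lit 26) [] [] [] Cert.nil (Cert.rep (nat_lit 52) [] [] [] Cert.nil (Cert.rep (nat_lit 60) [] [] [] Cert.nil (Cert.rep (nat_lit 68) [nat_lit 16,nat_lit 68] [] [] (Cert.rep (nat_lit 96) [] [] [] (Cert.er (Cert.ro (nat_lit 0) [nat_lit 1,nat_lit 8,nat_lit 16] [nat_lit 8,nat_lit 9,nat_lit 16] [nat_lit 0,nat_lit 1,nat_lit 68,nat_lit 69,nat_lit 10,nat_lit 11,nat_lit 78,nat_lit 79]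 (Cert.ro (nat_lit 1) [nat_lit 1,nat_lit 2,nat_lit 14,nat_lit 16] [nat_lit 1,nat_lit 14,nat_lit 12,nat_lit 16] [nat_lit 0,nat_lit 1,nat_lit 2,nat_lit 3,nat_lit 39,nat_lit 38,nat_lit 36,nat_lit 37,nat_lit 10,nat_lit 11,nat_lit 9,nat_lit 8,nat_lit 44,nat_lit 45,nat_lit 46,nat_lit 47] (Cert.kw (nat_lit 2) (nat_lit 0) (nat_lit 2) (nat_lit 1) )))) (Cert.rep (nat_lit 104) [] [] [] (Cert.er (Cert.ro (nat_lit 0) [nat_lit 1,nat_lit 8,nat_lit 16] [nat_lit 8,nat_lit 9,nat_lit 16] [nat_lit 0,nat_lit 1,nat_lit 68,nat_lit 69,nat_lit 10,nat_lit 11,nat_lit 78,nat_lit 79] (Cert.ro (nat_lit 1) [nat_lit 1,nat_lit 2,nat_lit 14,nat_lit 16] [nat_lit 1,nat_lit 14,nat_lit 12,nat_lit 16] [nat_lit 0,nat_lit 1,nat_lit 3,nat_lit 2,nat_lit 46,nat_lit 47,nat_lit 44,nat_lit 45,nat_lit 10,nat_lit 11,nat_lit 8,nat_lit 9,nat_lit 36,nat_lit 37,nat_lit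 39,nat_lit 38] (Cert.kw (nat_lit 2) (nat_lit 0) (nat_lit 2) (nat_lit 1) )))) Cert.nil)) (Cert.rep (nat_lit 76) [nat_lit 16,nat_lit 70] [] [] (Cert.rep (nat_lit 96) [] [] [] (Cert.er (Cert.ro (nat_lit 0) [nat_lit 1,nat_lit 8,nat_lit 16] [nat_lit 8,nat_lit 9,nat_lit 16] [nat_lit 0,nat_lit 1,nat_lit 76,nat_lit 77,nat_lit 10,nat_lit 11,nat_lit 71,nat_lit 70] (Cert.ro (nat_lit 1) [nat_lit 1,nat_lit 2,nat_lit 14,nat_lit 16] [nat_lit 1,nat_lit 14,nat_lit 12,nat_lit 16] [nat_lit 0,nat_lit 1,nat_lit 2,nat_lit 3,nat_lit 47,nat_lit 46,nat_lit 44,nat_lit 45,nat_lit 10,nat_lit 11,nat_lit 9,nat_lit 8,nat_lit 37,nat_lit 36,nat_lit 39,nat_lit 38] (Cert.lf (Leaf.st (nat_lit 2) (nat_lit 1) (nat_lit 1) (Leaf.cf (nat_lit 1))))))) (Cert.rep (nat_lit 104) [] [] [] (Cert.er (Cert.ro (nat_lit 0) [nat_lit 1,nat_lit 8,nat_lit 16] [nat_lit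 8,nat_lit 9,nat_lit 16] [nat_lit 0,nat_lit 1,nat_lit 76,nat_lit 77,nat_lit 10,nat_lit 11,nat_lit 71,nat_lit 70] (Cert.ro (nat_lit 1) [nat_lit 1,nat_lit 2,nat_lit 14,nat_lit 16] [nat_lit 1,nat_lit 14,nat_lit 12,nat_lit 16] [nat_lit 0,nat_lit 1,nat_lit 3,nat_lit 2,nat_lit 39,nat_lit 38,nat_lit 37,nat_lit 36,nat_lit 10,nat_lit 11,nat_lit 8,nat_lit 9,nat_lit 44,nat_lit 45,nat_lit 47,nat_lit 46] (Cert.lf (Leaf.st (nat_lit 2) (nat_lit 1) (nat_lit 1) (Leaf.cf (nat_lit 1))))))) Cert.nil)) (Cert.rep (nat_lit 84) [nat_lit 16,nat_lit 68] [] [] (Cert.rep (nat_lit 112) [] [] [] (Cert.er (Cert.ro (nat_lit 0) [nat_lit 1,nat_lit 8,nat_lit 16] [nat_lit 8,nat_lit 9,nat_lit 16] [nat_lit 0,nat_lit 1,nat_lit 84,nat_lit 85,nat_lit 10,nat_lit 11,nat_lit 94,nat_lit 95] (Cert.ro (nat_lit 1) [nat_lit 1,nat_lit 2,nat_lit 14,nat_lit 16] [nat_lit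 1,nat_lit 14,nat_lit 12,nat_lit 16] [nat_lit 0,nat_lit 1,nat_lit 3,nat_lit 2,nat_lit 39,nat_lit 38,nat_lit 37,nat_lit 36,nat_lit 10,nat_lit 11,nat_lit 8,nat_lit 9,nat_lit 44,nat_lit 45,nat_lit 47,nat_lit 46] (Cert.lf (Leaf.st (nat_lit 2) (nat_lit 1) (nat_lit 1) (Leaf.cf (nat_lit 1))))))) (Cert.rep (nat_lit 120) [] [] [] (Cert.er (Cert.ro (nat_lit 0) [nat_lit 1,nat_lit 8,nat_lit 16] [nat_lit 8,nat_lit 9,nat_lit 16] [nat_lit 0,nat_lit 1,nat_lit 84,nat_lit 85,nat_lit 10,nat_lit 11,nat_lit 94,nat_lit 95] (Cert.ro (nat_lit 1) [nat_lit 1,nat_lit 2,nat_lit 14,nat_lit 16] [nat_lit 1,nat_lit 14,nat_lit 12,nat_lit 16] [nat_lit 0,nat_lit 1,nat_lit 2,nat_lit 3,nat_lit 46,nat_lit 47,nat_lit 45,nat_lit 44,nat_lit 10,nat_lit 11,nat_lit 9,nat_lit 8,nat_lit 36,nat_lit 37,nat_lit 38,nat_lit 39] (Cert.lf (Leaf.st (nat_lit 2) (nat_lit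 1) (nat_lit 1) (Leaf.cf (nat_lit 1))))))) Cert.nil)) (Cert.rep (nat_lit 92) [nat_lit 16,nat_lit 70] [] [] (Cert.rep (nat_lit 112) [] [] [] (Cert.er (Cert.ro (nat_lit 0) [nat_lit 1,nat_lit 8,nat_lit 16] [nat_lit 8,nat_lit 9,nat_lit 16] [nat_lit 0,nat_lit 1,nat_lit 92,nat_lit 93,nat_lit 10,nat_lit 11,nat_lit 87,nat_lit 86] (Cert.ro (nat_lit 1) [nat_lit 1,nat_lit 2,nat_lit 14,nat_lit 16] [nat_lit 1,nat_lit 14,nat_lit 12,nat_lit 16] [nat_lit 0,nat_lit 1,nat_lit 3,nat_lit 2,nat_lit 47,nat_lit 46,nat_lit 45,nat_lit 44,nat_lit 10,nat_lit 11,nat_lit 8,nat_lit 9,nat_lit 37,nat_lit 36,nat_lit 38,nat_lit 39] (Cert.kw (nat_lit 2) (nat_lit 0) (nat_lit 2) (nat_lit 1) )))) (Cert.rep (nat_lit 120) [] [] [] (Cert.er (Cert.ro (nat_lit 0) [nat_lit 1,nat_lit 8,nat_lit 16] [nat_lit 8,nat_lit 9,nat_lit 16] [nat_lit 0,nat_lit 1,nat_lit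 92,nat_lit 93,nat_lit 10,nat_lit 11,nat_lit 87,nat_lit 86] (Cert.ro (nat_lit 1) [nat_lit 1,nat_lit 2,nat_lit 14,nat_lit 16] [nat_lit 1,nat_lit 14,nat_lit 12,nat_lit 16] [nat_lit 0,nat_lit 1,nat_lit 2,nat_lit 3,nat_lit 39,nat_lit 38,nat_lit 36,nat_lit 37,nat_lit 10,nat_lit 11,nat_lit 9,nat_lit 8,nat_lit 44,nat_lit 45,nat_lit 46,nat_lit 47] (Cert.kw (nat_lit 2) (nat_lit 0) (nat_lit 2) (nat_lit 1) )))) Cert.nil)) Cert.nil)))))))))) Cert.nil))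
noncomputable def f104 : Cert :=
  (Cert.st (nat_lit 0) (nat_lit 10) (nat_lit 0) (Cert.sp (nat_lit 1) (Cert.lf (Leaf.pt (nat_lit 9) (nat_lit 1) [nat_lit 10])) (Cert.sp (nat_lit 26) (Cert.lf (Leaf.pt (nat_lit 9) (nat_lit 26) [nat_lit 10])) (Cert.st (nat_lit 0) (nat_lit 26) (nat_lit 0) (Cert.sp (nat_lit 28) (Cert.lf (Leaf.pt (nat_lit 9) (nat_lit 28) [nat_lit 12])) (Cert.st (nat_lit 0) (nat_lit 28) (nat_lit 0) (Cert.sp (nat_lit 32) (Cert.lf (Leaf.pt (nat_lit 12) (nat_lit 32) [nat_lit 26,nat_lit 196])) (Cert.st (nat_lit 0) (nat_lit 32) (nat_lit 0) (Cert.sp (nat_lit 68) (Cert.lf (Leaf.pt (nat_lit 9) (nat_lit 68) [nat_lit 10])) (Cert.st (nat_lit 0) (nat_lit 68) (nat_lit 0) (Cert.sp (nat_lit 132) (Cert.lf (Leaf.pt (nat_lit 12) (nat_lit 132) [nat_lit 26,nat_lit 1090])) (Cert.st (nat_lit 0) (nat_lit 132) (nat_lit 0) (Cert.sp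 (nat_lit 256) (Cert.lf (Leaf.pt (nat_lit 13) (nat_lit 256) [nat_lit 68])) (Cert.st (nat_lit 0) (nat_lit 256) (nat_lit 0) (Cert.sp (nat_lit 257) (Cert.lf (Leaf.pt (nat_lit 13) (nat_lit 257) [nat_lit 1])) (Cert.st (nat_lit 0) (nat_lit 257) (nat_lit 0) (Cert.sp (nat_lit 584) (Cert.lf (Leaf.pt (nat_lit 19) (nat_lit 584) [nat_lit 24,nat_lit 192])) (Cert.st (nat_lit 0) (nat_lit 584) (nat_lit 0) (Cert.sp (nat_lit 648) (Cert.lf (Leaf.pt (nat_lit 12) (nat_lit 648) [nat_lit 28,nat_lit 258])) (Cert.st (nat_lit 0) (nat_lit 648) (nat_lit 0) (Cert.sp (nat_lit 649) (Cert.lf (Leaf.pt (nat_lit 12) (nat_lit 649) [nat_lit 28,nat_lit 258])) (Cert.st (nat_lit 0) (nat_lit 649) (nat_lit 0) (Cert.nl (nat_lit 1) (Cert.sy (nat_lit 0) f104_0))))))))))))))))))))))))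
theorem fin104 : finOK DB PT 88 t88 104 t104 (nat_lit 0xc3000000c30000c0030000c0030000000000000000000000000000000000003003000030030000003300000033000000000000000000f0000000f0000000f00c0cf0f00303f0f00000f0f00000f00c0000030c0000030000000000000000f00000f0f00000f0f00000f0f0f0f0f0fcfc0303fc03fc03) f104 = true := by
  decide +kernel
noncomputable def f129_0 : Cert :=
  Cert.s2 (nat_lit 0) (nat_lit 92) (Cert.o1 (nat_lit 0) (nat_lit 92) (Cert.fu (nat_lit 10) (nat_lit 1) (nat_lit 0) (nat_lit 0) [] [nat_lit 92,nat_lit 1,nat_lit 16,nat_lit 32] [] [] [] [nat_lit 1] [[nat_lit 1]] [[nat_lit 92]] [Ins.fr [nat_lit 0],Ins.ts (nat_lit 3) [nat_lit 0] [],Ins.ts (nat_lit 4) [nat_lit 0] [nat_lit 0,nat_lit 0,nat_lit 0],Ins.ts (nat_lit 1) [nat_lit 0] [],Ins.fr [nat_lit 1],Ins.ts (nat_lit 3) [nat_lit 0] [],Ins.ts (nat_lit 0) [nat_lit 0,nat_lit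 0] [],Ins.ts (nat_lit 1) [nat_lit 0] [],Ins.ts (nat_lit 4) [nat_lit 0] [nat_lit 0,nat_lit 0,nat_lit 1],Ins.ts (nat_lit 1) [nat_lit 0,nat_lit 1] [],Ins.fr [nat_lit 2],Ins.ts (nat_lit 2) [nat_lit 0] [],Ins.ts (nat_lit 0) [nat_lit 0,nat_lit 0] [],Ins.ts (nat_lit 0) [nat_lit 1,nat_lit 0] [nat_lit 0,nat_lit 1],Ins.ts (nat_lit 1) [nat_lit 0] [],Ins.ts (nat_lit 4) [nat_lit 0,nat_lit 2,nat_lit 3] [nat_lit 0,nat_lit 0,nat_lit 2],Ins.ts (nat_lit 4) [nat_lit 0,nat_lit 1,nat_lit 2,nat_lit 3] [nat_lit 0,nat_lit 0,nat_lit 2],Ins.ts (nat_lit 1) [nat_lit 0,nat_lit 2,nat_lit 3] [],Ins.ts (nat_lit 1) [nat_lit 0,nat_lit 1,nat_lit 2,nat_lit 3] [],Ins.fr [nat_lit 1,nat_lit 3],Ins.ts (nat_lit 0) [nat_lit 0,nat_lit 0] [],Ins.ts (nat_lit 0) [nat_lit 1,nat_lit 2,nat_lit 0] [nat_lit 0,nat_lit 1]] [(nat_lit 2,nat_lit 0),(nat_lit 3,nat_lit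 0)] (Cert.rep (nat_lit 10) [] [nat_lit 68,nat_lit 36,nat_lit 16,nat_lit 8,nat_lit 2,nat_lit 1] [nat_lit 1024,nat_lit 512,nat_lit 256,nat_lit 128,nat_lit 4] (Cert.rep (nat_lit 1) [nat_lit 2,nat_lit 16,nat_lit 36,nat_lit 68] [] [] (Cert.rep (nat_lit 26) [] [] [] Cert.nil (Cert.rep (nat_lit 60) [] [] [] Cert.nil (Cert.rep (nat_lit 92) [] [] [] (Cert.rep (nat_lit 16) [] [] [] Cert.nil (Cert.rep (nat_lit 17) [] [] [] Cert.nil (Cert.rep (nat_lit 76) [] [] [] Cert.nil (Cert.rep (nat_lit 77) [] [] [] Cert.nil Cert.nil)))) Cert.nil))) Cert.nil) Cert.nil))) (Cert.root (nat_lit 32) [] [nat_lit 8,nat_lit 4] [nat_lit 0,nat_lit 1,nat_lit 2,nat_lit 3,nat_lit 4] [Ins.fr [nat_lit 0],Ins.ts (nat_lit 0) [nat_lit 0,nat_lit 0] [],Ins.ts (nat_lit 1) [nat_lit 0] [],Ins.ts (nat_lit 1) [nat_lit 0,nat_lit 1] [],Ins.fr [nat_lit 1],Ins.ts (nat_lit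 1) [nat_lit 0,nat_lit 0] [],Ins.ts (nat_lit 0) [nat_lit 1,nat_lit 0,nat_lit 1] [nat_lit 0,nat_lit 0,nat_lit 0],Ins.ts (nat_lit 1) [nat_lit 0,nat_lit 0,nat_lit 0,nat_lit 0] [],Ins.df [nat_lit 0,nat_lit 0],Ins.df [nat_lit 0,nat_lit 0]] (Cert.rep (nat_lit 10) [nat_lit 2,nat_lit 16,nat_lit 36,nat_lit 68] [nat_lit 68,nat_lit 36,nat_lit 16,nat_lit 8,nat_lit 2,nat_lit 1] [nat_lit 1024,nat_lit 512,nat_lit 256,nat_lit 128,nat_lit 4] (Cert.rep (nat_lit 1) [] [] [] Cert.nil (Cert.rep (nat_lit 11) [] [] [] Cert.nil (Cert.rep (nat_lit 16) [] [] [] Cert.nil (Cert.rep (nat_lit 26) [] [] [] Cert.nil (Cert.rep (nat_lit 52) [] [] [] Cert.nil (Cert.rep (nat_lit 60) [] [] [] Cert.nil (Cert.rep (nat_lit 68) [nat_lit 16,nat_lit 68] [] [] (Cert.rep (nat_lit 96) [] [] [] (Cert.er (Cert.ro (nat_lit 0) [nat_lit 1,nat_lit 8,nat_lit 16] [nat_lit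 8,nat_lit 9,nat_lit 16] [nat_lit 0,nat_lit 1,nat_lit 68,nat_lit 69,nat_lit 10,nat_lit 11,nat_lit 78,nat_lit 79] (Cert.ro (nat_lit 1) [nat_lit 1,nat_lit 2,nat_lit 14,nat_lit 16] [nat_lit 1,nat_lit 14,nat_lit 12,nat_lit 16] [nat_lit 0,nat_lit 1,nat_lit 2,nat_lit 3,nat_lit 39,nat_lit 38,nat_lit 36,nat_lit 37,nat_lit 10,nat_lit 11,nat_lit 9,nat_lit 8,nat_lit 44,nat_lit 45,nat_lit 46,nat_lit 47] (Cert.kw (nat_lit 2) (nat_lit 0) (nat_lit 2) (nat_lit 1) )))) (Cert.rep (nat_lit 104) [] [] [] (Cert.er (Cert.ro (nat_lit 0) [nat_lit 1,nat_lit 8,nat_lit 16] [nat_lit 8,nat_lit 9,nat_lit 16] [nat_lit 0,nat_lit 1,nat_lit 68,nat_lit 69,nat_lit 10,nat_lit 11,nat_lit 78,nat_lit 79] (Cert.ro (nat_lit 1) [nat_lit 1,nat_lit 2,nat_lit 14,nat_lit 16] [nat_lit 1,nat_lit 14,nat_lit 12,nat_lit 16] [nat_lit 0,nat_lit 1,nat_lit 3,nat_lit 2,nat_lit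 46,nat_lit 47,nat_lit 44,nat_lit 45,nat_lit 10,nat_lit 11,nat_lit 8,nat_lit 9,nat_lit 36,nat_lit 37,nat_lit 39,nat_lit 38] (Cert.kw (nat_lit 2) (nat_lit 0) (nat_lit 2) (nat_lit 1) )))) Cert.nil)) (Cert.rep (nat_lit 76) [nat_lit 16,nat_lit 70] [] [] (Cert.rep (nat_lit 96) [] [] [] (Cert.er (Cert.ro (nat_lit 0) [nat_lit 1,nat_lit 8,nat_lit 16] [nat_lit 8,nat_lit 9,nat_lit 16] [nat_lit 0,nat_lit 1,nat_lit 76,nat_lit 77,nat_lit 10,nat_lit 11,nat_lit 71,nat_lit 70] (Cert.ro (nat_lit 1) [nat_lit 1,nat_lit 2,nat_lit 14,nat_lit 16] [nat_lit 1,nat_lit 14,nat_lit 12,nat_lit 16] [nat_lit 0,nat_lit 1,nat_lit 2,nat_lit 3,nat_lit 47,nat_lit 46,nat_lit 44,nat_lit 45,nat_lit 10,nat_lit 11,nat_lit 9,nat_lit 8,nat_lit 37,nat_lit 36,nat_lit 39,nat_lit 38] (Cert.lf (Leaf.st (nat_lit 2) (nat_lit 1) (nat_lit 1) (Leaf.cf (nat_lit 1)))))))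 (Cert.rep (nat_lit 104) [] [] [] (Cert.er (Cert.ro (nat_lit 0) [nat_lit 1,nat_lit 8,nat_lit 16] [nat_lit 8,nat_lit 9,nat_lit 16] [nat_lit 0,nat_lit 1,nat_lit 76,nat_lit 77,nat_lit 10,nat_lit 11,nat_lit 71,nat_lit 70] (Cert.ro (nat_lit 1) [nat_lit 1,nat_lit 2,nat_lit 14,nat_lit 16] [nat_lit 1,nat_lit 14,nat_lit 12,nat_lit 16] [nat_lit 0,nat_lit 1,nat_lit 3,nat_lit 2,nat_lit 39,nat_lit 38,nat_lit 37,nat_lit 36,nat_lit 10,nat_lit 11,nat_lit 8,nat_lit 9,nat_lit 44,nat_lit 45,nat_lit 47,nat_lit 46] (Cert.lf (Leaf.st (nat_lit 2) (nat_lit 1) (nat_lit 1) (Leaf.cf (nat_lit 1))))))) Cert.nil)) (Cert.rep (nat_lit 84) [nat_lit 16,nat_lit 68] [] [] (Cert.rep (nat_lit 112) [] [] [] (Cert.er (Cert.ro (nat_lit 0) [nat_lit 1,nat_lit 8,nat_lit 16] [nat_lit 8,nat_lit 9,nat_lit 16] [nat_lit 0,nat_lit 1,nat_lit 84,nat_lit 85,nat_lit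 10,nat_lit 11,nat_lit 94,nat_lit 95] (Cert.ro (nat_lit 1) [nat_lit 1,nat_lit 2,nat_lit 14,nat_lit 16] [nat_lit 1,nat_lit 14,nat_lit 12,nat_lit 16] [nat_lit 0,nat_lit 1,nat_lit 3,nat_lit 2,nat_lit 39,nat_lit 38,nat_lit 37,nat_lit 36,nat_lit 10,nat_lit 11,nat_lit 8,nat_lit 9,nat_lit 44,nat_lit 45,nat_lit 47,nat_lit 46] (Cert.lf (Leaf.st (nat_lit 2) (nat_lit 1) (nat_lit 1) (Leaf.cf (nat_lit 1))))))) (Cert.rep (nat_lit 120) [] [] [] (Cert.er (Cert.ro (nat_lit 0) [nat_lit 1,nat_lit 8,nat_lit 16] [nat_lit 8,nat_lit 9,nat_lit 16] [nat_lit 0,nat_lit 1,nat_lit 84,nat_lit 85,nat_lit 10,nat_lit 11,nat_lit 94,nat_lit 95] (Cert.ro (nat_lit 1) [nat_lit 1,nat_lit 2,nat_lit 14,nat_lit 16] [nat_lit 1,nat_lit 14,nat_lit 12,nat_lit 16] [nat_lit 0,nat_lit 1,nat_lit 2,nat_lit 3,nat_lit 46,nat_lit 47,nat_lit 45,nat_lit 44,nat_lit 10,nat_lit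 11,nat_lit 9,nat_lit 8,nat_lit 36,nat_lit 37,nat_lit 38,nat_lit 39] (Cert.lf (Leaf.st (nat_lit 2) (nat_lit 1) (nat_lit 1) (Leaf.cf (nat_lit 1))))))) Cert.nil)) (Cert.rep (nat_lit 92) [nat_lit 16,nat_lit 70] [] [] (Cert.rep (nat_lit 112) [] [] [] (Cert.er (Cert.ro (nat_lit 0) [nat_lit 1,nat_lit 8,nat_lit 16] [nat_lit 8,nat_lit 9,nat_lit 16] [nat_lit 0,nat_lit 1,nat_lit 92,nat_lit 93,nat_lit 10,nat_lit 11,nat_lit 87,nat_lit 86] (Cert.ro (nat_lit 1) [nat_lit 1,nat_lit 2,nat_lit 14,nat_lit 16] [nat_lit 1,nat_lit 14,nat_lit 12,nat_lit 16] [nat_lit 0,nat_lit 1,nat_lit 3,nat_lit 2,nat_lit 47,nat_lit 46,nat_lit 45,nat_lit 44,nat_lit 10,nat_lit 11,nat_lit 8,nat_lit 9,nat_lit 37,nat_lit 36,nat_lit 38,nat_lit 39] (Cert.kw (nat_lit 2) (nat_lit 0) (nat_lit 2) (nat_lit 1) )))) (Cert.rep (nat_lit 120) [] [] [] (Cert.er (Cert.ro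 (nat_lit 0) [nat_lit 1,nat_lit 8,nat_lit 16] [nat_lit 8,nat_lit 9,nat_lit 16] [nat_lit 0,nat_lit 1,nat_lit 92,nat_lit 93,nat_lit 10,nat_lit 11,nat_lit 87,nat_lit 86] (Cert.ro (nat_lit 1) [nat_lit 1,nat_lit 2,nat_lit 14,nat_lit 16] [nat_lit 1,nat_lit 14,nat_lit 12,nat_lit 16] [nat_lit 0,nat_lit 1,nat_lit 2,nat_lit 3,nat_lit 39,nat_lit 38,nat_lit 36,nat_lit 37,nat_lit 10,nat_lit 11,nat_lit 9,nat_lit 8,nat_lit 44,nat_lit 45,nat_lit 46,nat_lit 47] (Cert.kw (nat_lit 2) (nat_lit 0) (nat_lit 2) (nat_lit 1) )))) Cert.nil)) Cert.nil)))))))))) Cert.nil))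
noncomputable def f129 : Cert :=
  (Cert.st (nat_lit 0) (nat_lit 10) (nat_lit 0) (Cert.sp (nat_lit 1) (Cert.lf (Leaf.pt (nat_lit 9) (nat_lit 1) [nat_lit 10])) (Cert.sp (nat_lit 26) (Cert.lf (Leaf.pt (nat_lit 9) (nat_lit 26) [nat_lit 10])) (Cert.st (nat_lit 0) (nat_lit 26) (nat_lit 0) (Cert.sp (nat_lit 28) (Cert.lf (Leaf.pt (nat_lit 9) (nat_lit 28) [nat_lit 12])) (Cert.st (nat_lit 0) (nat_lit 28) (nat_lit 0) (Cert.sp (nat_lit 32) (Cert.lf (Leaf.pt (nat_lit 12) (nat_lit 32) [nat_lit 26,nat_lit 196])) (Cert.st (nat_lit 0) (nat_lit 32) (nat_lit 0) (Cert.sp (nat_lit 68) (Cert.lf (Leaf.pt (nat_lit 9) (nat_lit 68) [nat_lit 10])) (Cert.st (nat_lit 0) (nat_lit 68) (nat_lit 0) (Cert.sp (nat_lit 92) (Cert.lf (Leaf.pt (nat_lit 9) (nat_lit 92) [nat_lit 10])) (Cert.st (nat_lit 0) (nat_lit 92) (nat_lit 0) (Cert.sp (nat_lit 258)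 (Cert.lf (Leaf.pt (nat_lit 12) (nat_lit 258) [nat_lit 26,nat_lit 586])) (Cert.st (nat_lit 0) (nat_lit 258) (nat_lit 0) (Cert.sp (nat_lit 584) (Cert.lf (Leaf.pt (nat_lit 19) (nat_lit 584) [nat_lit 24,nat_lit 192])) (Cert.st (nat_lit 0) (nat_lit 584) (nat_lit 0) (Cert.sp (nat_lit 652) (Cert.lf (Leaf.pt (nat_lit 12) (nat_lit 652) [nat_lit 28,nat_lit 256])) (Cert.st (nat_lit 0) (nat_lit 652) (nat_lit 0) (Cert.sp (nat_lit 653) (Cert.lf (Leaf.pt (nat_lit 12) (nat_lit 653) [nat_lit 28,nat_lit 256])) (Cert.st (nat_lit 0) (nat_lit 653) (nat_lit 0) (Cert.sp (nat_lit 1040) (Cert.lf (Leaf.pt (nat_lit 12) (nat_lit 1040) [nat_lit 70,nat_lit 132])) (Cert.st (nat_lit 0) (nat_lit 1040) (nat_lit 0) (Cert.sp (nat_lit 1174) (Cert.lf (Leaf.pt (nat_lit 12) (nat_lit 1174) [nat_lit 94,nat_lit 132])) (Cert.st (nat_lit 0) (nat_lit 1174) (nat_lit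 0) (Cert.sp (nat_lit 1664) (Cert.lf (Leaf.pt (nat_lit 12) (nat_lit 1664) [nat_lit 652,nat_lit 282])) (Cert.st (nat_lit 0) (nat_lit 1664) (nat_lit 0) (Cert.nl (nat_lit 1) (Cert.sy (nat_lit 0) (Cert.s2 (nat_lit 0) (nat_lit 68) (Cert.o1 (nat_lit 0) (nat_lit 68) (Cert.fu (nat_lit 10) (nat_lit 1) (nat_lit 0) (nat_lit 0) [] [nat_lit 68,nat_lit 1,nat_lit 16,nat_lit 32] [] [] [] [nat_lit 1] [[nat_lit 1]] [[nat_lit 68]] [Ins.fr [nat_lit 0],Ins.ts (nat_lit 3) [nat_lit 0] [],Ins.ts (nat_lit 4) [nat_lit 0] [nat_lit 0,nat_lit 0,nat_lit 0],Ins.ts (nat_lit 1) [nat_lit 0] [],Ins.fr [nat_lit 1],Ins.ts (nat_lit 3) [nat_lit 0] [],Ins.ts (nat_lit 0) [nat_lit 0,nat_lit 0] [],Ins.ts (nat_lit 1) [nat_lit 0] [],Ins.ts (nat_lit 1) [nat_lit 0,nat_lit 1] [],Ins.fr [nat_lit 2],Ins.ts (nat_lit 2) [nat_lit 0] [],Ins.ts (nat_lit 0) [nat_lit 0,nat_lit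 0] [],Ins.ts (nat_lit 0) [nat_lit 1,nat_lit 0] [nat_lit 0,nat_lit 1],Ins.ts (nat_lit 1) [nat_lit 0] [],Ins.ts (nat_lit 1) [nat_lit 0,nat_lit 3] [],Ins.ts (nat_lit 1) [nat_lit 0,nat_lit 2,nat_lit 3] [],Ins.ts (nat_lit 1) [nat_lit 0,nat_lit 1,nat_lit 3] [],Ins.ts (nat_lit 1) [nat_lit 0,nat_lit 1,nat_lit 2,nat_lit 3] [],Ins.fr [nat_lit 1,nat_lit 3],Ins.ts (nat_lit 0) [nat_lit 0,nat_lit 0] [],Ins.ts (nat_lit 0) [nat_lit 1,nat_lit 2,nat_lit 0] [nat_lit 0,nat_lit 1]] [] (Cert.rep (nat_lit 10) [] [nat_lit 68,nat_lit 36,nat_lit 16,nat_lit 8,nat_lit 2,nat_lit 1] [nat_lit 1024,nat_lit 512,nat_lit 256,nat_lit 128,nat_lit 4] (Cert.rep (nat_lit 1) [nat_lit 2,nat_lit 16,nat_lit 36,nat_lit 68] [] [] (Cert.rep (nat_lit 26) [nat_lit 2,nat_lit 68] [] [] (Cert.rep (nat_lit 76) [] [] [] Cert.nil (Cert.rep (nat_lit 78) [] [] [] Cert.nil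 (Cert.rep (nat_lit 84) [] [] [] Cert.nil (Cert.rep (nat_lit 86) [] [] [] Cert.nil Cert.nil)))) (Cert.rep (nat_lit 60) [] [] [] Cert.nil (Cert.rep (nat_lit 68) [] [] [] (Cert.rep (nat_lit 16) [] [] [] Cert.nil (Cert.rep (nat_lit 17) [] [] [] Cert.nil (Cert.rep (nat_lit 84) [] [] [] Cert.nil (Cert.rep (nat_lit 85) [] [] [] Cert.nil Cert.nil)))) (Cert.rep (nat_lit 92) [] [] [] (Cert.rep (nat_lit 16) [] [] [] Cert.nil (Cert.rep (nat_lit 17) [] [] [] Cert.nil (Cert.rep (nat_lit 76) [] [] [] Cert.nil (Cert.rep (nat_lit 77) [] [] [] Cert.nil Cert.nil)))) Cert.nil)))) Cert.nil) Cert.nil))) f129_0)))))))))))))))))))))))))))))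
theorem fin129 : finOK DB PT 88 t88 129 t129 (nat_lit 0xf0000000f0f0000000f0000000f0000000f0000000000000f0000000f00000000000000000000000000000000000c0000000c000000300000003000000030000000300000000003000000030000000c0000000c0000c0000000c0000000c0000000c00000000300000003000000000000000000000000c3000000c3000003c0000003c00000000000000000000000000000000000000330000003300000003300000033000000000000000000f0000000f0000000f00c0cf0f00303f000000000000000000300000c0300000c00000000000000000000000000000000f00000f0f0f0f0f0fcfc0303fc03fc03) f129 = true := by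
  decide +kernel
noncomputable def f131_0 : Cert :=
  Cert.s2 (nat_lit 0) (nat_lit 92) (Cert.o1 (nat_lit 0) (nat_lit 92) (Cert.fu (nat_lit 10) (nat_lit 1) (nat_lit 0) (nat_lit 0) [] [nat_lit 92,nat_lit 1,nat_lit 16,nat_lit 32] [] [] [] [nat_lit 1] [[nat_lit 1]] [[nat_lit 92]] [Ins.fr [nat_lit 0],Ins.ts (nat_lit 3) [nat_lit 0] [],Ins.ts (nat_lit 4) [nat_lit 0] [nat_lit 0,nat_lit 0,nat_lit 0],Ins.ts (nat_lit 1) [nat_lit 0] [],Ins.fr [nat_lit 1],Ins.ts (nat_lit 3) [nat_lit 0] [],Ins.ts (nat_lit 0) [nat_lit 0,nat_lit 0] [],Ins.ts (nat_lit 1) [nat_lit 0] [],Ins.ts (nat_lit 4) [nat_lit 0] [nat_lit 0,nat_lit 0,nat_lit 1],Ins.ts (nat_lit 1) [nat_lit 0,nat_lit 1] [],Ins.fr [nat_lit 2],Ins.ts (nat_lit 2) [nat_lit 0] [],Ins.ts (nat_lit 0) [nat_lit 0,nat_lit 0] [],Ins.ts (nat_lit 0) [nat_lit 1,nat_lit 0] [nat_lit 0,nat_lit 1],Ins.ts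 (nat_lit 1) [nat_lit 0] [],Ins.ts (nat_lit 4) [nat_lit 0,nat_lit 2,nat_lit 3] [nat_lit 0,nat_lit 0,nat_lit 2],Ins.ts (nat_lit 4) [nat_lit 0,nat_lit 1,nat_lit 2,nat_lit 3] [nat_lit 0,nat_lit 0,nat_lit 2],Ins.ts (nat_lit 1) [nat_lit 0,nat_lit 2,nat_lit 3] [],Ins.ts (nat_lit 1) [nat_lit 0,nat_lit 1,nat_lit 2,nat_lit 3] [],Ins.fr [nat_lit 1,nat_lit 3],Ins.ts (nat_lit 0) [nat_lit 0,nat_lit 0] []] [(nat_lit 2,nat_lit 0),(nat_lit 3,nat_lit 0)] (Cert.rep (nat_lit 10) [] [nat_lit 68,nat_lit 36,nat_lit 16,nat_lit 8,nat_lit 2,nat_lit 1] [nat_lit 1024,nat_lit 512,nat_lit 256,nat_lit 128,nat_lit 4] (Cert.rep (nat_lit 1) [nat_lit 2,nat_lit 16,nat_lit 36,nat_lit 68] [] [] (Cert.rep (nat_lit 26) [] [] [] Cert.nil (Cert.rep (nat_lit 60) [] [] [] Cert.nil (Cert.rep (nat_lit 92) [] [] [] (Cert.rep (nat_lit 16) [] [] [] Cert.nil (Cert.rep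 (nat_lit 17) [] [] [] Cert.nil (Cert.rep (nat_lit 76) [] [] [] Cert.nil (Cert.rep (nat_lit 77) [] [] [] Cert.nil Cert.nil)))) Cert.nil))) Cert.nil) Cert.nil))) (Cert.root (nat_lit 32) [] [nat_lit 8,nat_lit 4] [nat_lit 0,nat_lit 1,nat_lit 2,nat_lit 3,nat_lit 4] [Ins.fr [nat_lit 0],Ins.ts (nat_lit 0) [nat_lit 0,nat_lit 0] [],Ins.ts (nat_lit 1) [nat_lit 0] [],Ins.ts (nat_lit 1) [nat_lit 0,nat_lit 1] [],Ins.fr [nat_lit 1],Ins.ts (nat_lit 1) [nat_lit 0,nat_lit 0] [],Ins.ts (nat_lit 0) [nat_lit 1,nat_lit 0,nat_lit 1] [nat_lit 0,nat_lit 0,nat_lit 0],Ins.ts (nat_lit 1) [nat_lit 0,nat_lit 0,nat_lit 0,nat_lit 0] [],Ins.df [nat_lit 0,nat_lit 0],Ins.df [nat_lit 0,nat_lit 0]] (Cert.rep (nat_lit 10) [nat_lit 2,nat_lit 16,nat_lit 36,nat_lit 68] [nat_lit 68,nat_lit 36,nat_lit 16,nat_lit 8,nat_lit 2,nat_lit 1] [nat_lit 1024,nat_lit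 512,nat_lit 256,nat_lit 128,nat_lit 4] (Cert.rep (nat_lit 1) [] [] [] Cert.nil (Cert.rep (nat_lit 11) [] [] [] Cert.nil (Cert.rep (nat_lit 16) [] [] [] Cert.nil (Cert.rep (nat_lit 26) [] [] [] Cert.nil (Cert.rep (nat_lit 52) [] [] [] Cert.nil (Cert.rep (nat_lit 60) [] [] [] Cert.nil (Cert.rep (nat_lit 68) [nat_lit 16,nat_lit 68] [] [] (Cert.rep (nat_lit 96) [] [] [] (Cert.er (Cert.ro (nat_lit 0) [nat_lit 1,nat_lit 8,nat_lit 16] [nat_lit 8,nat_lit 9,nat_lit 16] [nat_lit 0,nat_lit 1,nat_lit 68,nat_lit 69,nat_lit 10,nat_lit 11,nat_lit 78,nat_lit 79] (Cert.ro (nat_lit 1) [nat_lit 1,nat_lit 2,nat_lit 14,nat_lit 16] [nat_lit 1,nat_lit 14,nat_lit 12,nat_lit 16] [nat_lit 0,nat_lit 1,nat_lit 2,nat_lit 3,nat_lit 39,nat_lit 38,nat_lit 36,nat_lit 37,nat_lit 10,nat_lit 11,nat_lit 9,nat_lit 8,nat_lit 44,nat_lit 45,nat_lit 46,nat_lit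 47] (Cert.kw (nat_lit 2) (nat_lit 0) (nat_lit 2) (nat_lit 1) )))) (Cert.rep (nat_lit 104) [] [] [] (Cert.er (Cert.ro (nat_lit 0) [nat_lit 1,nat_lit 8,nat_lit 16] [nat_lit 8,nat_lit 9,nat_lit 16] [nat_lit 0,nat_lit 1,nat_lit 68,nat_lit 69,nat_lit 10,nat_lit 11,nat_lit 78,nat_lit 79] (Cert.ro (nat_lit 1) [nat_lit 1,nat_lit 2,nat_lit 14,nat_lit 16] [nat_lit 1,nat_lit 14,nat_lit 12,nat_lit 16] [nat_lit 0,nat_lit 1,nat_lit 3,nat_lit 2,nat_lit 46,nat_lit 47,nat_lit 44,nat_lit 45,nat_lit 10,nat_lit 11,nat_lit 8,nat_lit 9,nat_lit 36,nat_lit 37,nat_lit 39,nat_lit 38] (Cert.kw (nat_lit 2) (nat_lit 0) (nat_lit 2) (nat_lit 1) )))) Cert.nil)) (Cert.rep (nat_lit 76) [nat_lit 16,nat_lit 70] [] [] (Cert.rep (nat_lit 96) [] [] [] (Cert.er (Cert.ro (nat_lit 0) [nat_lit 1,nat_lit 8,nat_lit 16] [nat_lit 8,nat_lit 9,nat_lit 16] [nat_lit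 0,nat_lit 1,nat_lit 76,nat_lit 77,nat_lit 10,nat_lit 11,nat_lit 71,nat_lit 70] (Cert.ro (nat_lit 1) [nat_lit 1,nat_lit 2,nat_lit 14,nat_lit 16] [nat_lit 1,nat_lit 14,nat_lit 12,nat_lit 16] [nat_lit 0,nat_lit 1,nat_lit 2,nat_lit 3,nat_lit 47,nat_lit 46,nat_lit 44,nat_lit 45,nat_lit 10,nat_lit 11,nat_lit 9,nat_lit 8,nat_lit 37,nat_lit 36,nat_lit 39,nat_lit 38] (Cert.lf (Leaf.st (nat_lit 2) (nat_lit 1) (nat_lit 1) (Leaf.cf (nat_lit 1))))))) (Cert.rep (nat_lit 104) [] [] [] (Cert.er (Cert.ro (nat_lit 0) [nat_lit 1,nat_lit 8,nat_lit 16] [nat_lit 8,nat_lit 9,nat_lit 16] [nat_lit 0,nat_lit 1,nat_lit 76,nat_lit 77,nat_lit 10,nat_lit 11,nat_lit 71,nat_lit 70] (Cert.ro (nat_lit 1) [nat_lit 1,nat_lit 2,nat_lit 14,nat_lit 16] [nat_lit 1,nat_lit 14,nat_lit 12,nat_lit 16] [nat_lit 0,nat_lit 1,nat_lit 3,nat_lit 2,nat_lit 39,nat_lit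 38,nat_lit 37,nat_lit 36,nat_lit 10,nat_lit 11,nat_lit 8,nat_lit 9,nat_lit 44,nat_lit 45,nat_lit 47,nat_lit 46] (Cert.lf (Leaf.st (nat_lit 2) (nat_lit 1) (nat_lit 1) (Leaf.cf (nat_lit 1))))))) Cert.nil)) (Cert.rep (nat_lit 84) [nat_lit 16,nat_lit 68] [] [] (Cert.rep (nat_lit 112) [] [] [] (Cert.er (Cert.ro (nat_lit 0) [nat_lit 1,nat_lit 8,nat_lit 16] [nat_lit 8,nat_lit 9,nat_lit 16] [nat_lit 0,nat_lit 1,nat_lit 84,nat_lit 85,nat_lit 10,nat_lit 11,nat_lit 94,nat_lit 95] (Cert.ro (nat_lit 1) [nat_lit 1,nat_lit 2,nat_lit 14,nat_lit 16] [nat_lit 1,nat_lit 14,nat_lit 12,nat_lit 16] [nat_lit 0,nat_lit 1,nat_lit 3,nat_lit 2,nat_lit 39,nat_lit 38,nat_lit 37,nat_lit 36,nat_lit 10,nat_lit 11,nat_lit 8,nat_lit 9,nat_lit 44,nat_lit 45,nat_lit 47,nat_lit 46] (Cert.lf (Leaf.st (nat_lit 2) (nat_lit 1) (nat_lit 1) (Leaf.cf (nat_lit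 1))))))) (Cert.rep (nat_lit 120) [] [] [] (Cert.er (Cert.ro (nat_lit 0) [nat_lit 1,nat_lit 8,nat_lit 16] [nat_lit 8,nat_lit 9,nat_lit 16] [nat_lit 0,nat_lit 1,nat_lit 84,nat_lit 85,nat_lit 10,nat_lit 11,nat_lit 94,nat_lit 95] (Cert.ro (nat_lit 1) [nat_lit 1,nat_lit 2,nat_lit 14,nat_lit 16] [nat_lit 1,nat_lit 14,nat_lit 12,nat_lit 16] [nat_lit 0,nat_lit 1,nat_lit 2,nat_lit 3,nat_lit 46,nat_lit 47,nat_lit 45,nat_lit 44,nat_lit 10,nat_lit 11,nat_lit 9,nat_lit 8,nat_lit 36,nat_lit 37,nat_lit 38,nat_lit 39] (Cert.lf (Leaf.st (nat_lit 2) (nat_lit 1) (nat_lit 1) (Leaf.cf (nat_lit 1))))))) Cert.nil)) (Cert.rep (nat_lit 92) [nat_lit 16,nat_lit 70] [] [] (Cert.rep (nat_lit 112) [] [] [] (Cert.er (Cert.ro (nat_lit 0) [nat_lit 1,nat_lit 8,nat_lit 16] [nat_lit 8,nat_lit 9,nat_lit 16] [nat_lit 0,nat_lit 1,nat_lit 92,nat_lit 93,nat_lit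 10,nat_lit 11,nat_lit 87,nat_lit 86] (Cert.ro (nat_lit 1) [nat_lit 1,nat_lit 2,nat_lit 14,nat_lit 16] [nat_lit 1,nat_lit 14,nat_lit 12,nat_lit 16] [nat_lit 0,nat_lit 1,nat_lit 3,nat_lit 2,nat_lit 47,nat_lit 46,nat_lit 45,nat_lit 44,nat_lit 10,nat_lit 11,nat_lit 8,nat_lit 9,nat_lit 37,nat_lit 36,nat_lit 38,nat_lit 39] (Cert.kw (nat_lit 2) (nat_lit 0) (nat_lit 2) (nat_lit 1) )))) (Cert.rep (nat_lit 120) [] [] [] (Cert.er (Cert.ro (nat_lit 0) [nat_lit 1,nat_lit 8,nat_lit 16] [nat_lit 8,nat_lit 9,nat_lit 16] [nat_lit 0,nat_lit 1,nat_lit 92,nat_lit 93,nat_lit 10,nat_lit 11,nat_lit 87,nat_lit 86] (Cert.ro (nat_lit 1) [nat_lit 1,nat_lit 2,nat_lit 14,nat_lit 16] [nat_lit 1,nat_lit 14,nat_lit 12,nat_lit 16] [nat_lit 0,nat_lit 1,nat_lit 2,nat_lit 3,nat_lit 39,nat_lit 38,nat_lit 36,nat_lit 37,nat_lit 10,nat_lit 11,nat_lit 9,nat_lit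 8,nat_lit 44,nat_lit 45,nat_lit 46,nat_lit 47] (Cert.kw (nat_lit 2) (nat_lit 0) (nat_lit 2) (nat_lit 1) )))) Cert.nil)) Cert.nil)))))))))) Cert.nil))
noncomputable def f131 : Cert :=
  (Cert.st (nat_lit 0) (nat_lit 10) (nat_lit 0) (Cert.sp (nat_lit 1) (Cert.lf (Leaf.pt (nat_lit 9) (nat_lit 1) [nat_lit 10])) (Cert.sp (nat_lit 26) (Cert.lf (Leaf.pt (nat_lit 9) (nat_lit 26) [nat_lit 10])) (Cert.st (nat_lit 0) (nat_lit 26) (nat_lit 0) (Cert.sp (nat_lit 28) (Cert.lf (Leaf.pt (nat_lit 9) (nat_lit 28) [nat_lit 12])) (Cert.st (nat_lit 0) (nat_lit 28) (nat_lit 0) (Cert.sp (nat_lit 32) (Cert.lf (Leaf.pt (nat_lit 12) (nat_lit 32) [nat_lit 26,nat_lit 196])) (Cert.st (nat_lit 0) (nat_lit 32) (nat_lit 0) (Cert.sp (nat_lit 68) (Cert.lf (Leaf.pt (nat_lit 9) (nat_lit 68) [nat_lit 10])) (Cert.st (nat_lit 0) (nat_lit 68) (nat_lit 0)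 (Cert.sp (nat_lit 92) (Cert.lf (Leaf.pt (nat_lit 9) (nat_lit 92) [nat_lit 10])) (Cert.st (nat_lit 0) (nat_lit 92) (nat_lit 0) (Cert.sp (nat_lit 258) (Cert.lf (Leaf.pt (nat_lit 12) (nat_lit 258) [nat_lit 26,nat_lit 586])) (Cert.st (nat_lit 0) (nat_lit 258) (nat_lit 0) (Cert.sp (nat_lit 584) (Cert.lf (Leaf.pt (nat_lit 12) (nat_lit 584) [nat_lit 258,nat_lit 1090])) (Cert.st (nat_lit 0) (nat_lit 584) (nat_lit 0) (Cert.sp (nat_lit 652) (Cert.lf (Leaf.pt (nat_lit 12) (nat_lit 652) [nat_lit 28,nat_lit 256])) (Cert.st (nat_lit 0) (nat_lit 652) (nat_lit 0) (Cert.sp (nat_lit 653) (Cert.lf (Leaf.pt (nat_lit 12) (nat_lit 653) [nat_lit 28,nat_lit 256])) (Cert.st (nat_lit 0) (nat_lit 653) (nat_lit 0) (Cert.nl (nat_lit 1) (Cert.sy (nat_lit 0) (Cert.s2 (nat_lit 0) (nat_lit 68) (Cert.o1 (nat_lit 0) (nat_lit 68) (Cert.fu (nat_lit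 10) (nat_lit 1) (nat_lit 0) (nat_lit 0) [] [nat_lit 68,nat_lit 1,nat_lit 16,nat_lit 32] [] [] [] [nat_lit 1] [[nat_lit 1]] [[nat_lit 68]] [Ins.fr [nat_lit 0],Ins.ts (nat_lit 3) [nat_lit 0] [],Ins.ts (nat_lit 4) [nat_lit 0] [nat_lit 0,nat_lit 0,nat_lit 0],Ins.ts (nat_lit 1) [nat_lit 0] [],Ins.fr [nat_lit 1],Ins.ts (nat_lit 3) [nat_lit 0] [],Ins.ts (nat_lit 0) [nat_lit 0,nat_lit 0] [],Ins.ts (nat_lit 1) [nat_lit 0] [],Ins.ts (nat_lit 1) [nat_lit 0,nat_lit 1] [],Ins.fr [nat_lit 2],Ins.ts (nat_lit 2) [nat_lit 0] [],Ins.ts (nat_lit 0) [nat_lit 0,nat_lit 0] [],Ins.ts (nat_lit 0) [nat_lit 1,nat_lit 0] [nat_lit 0,nat_lit 1],Ins.ts (nat_lit 1) [nat_lit 0] [],Ins.ts (nat_lit 1) [nat_lit 0,nat_lit 3] [],Ins.ts (nat_lit 1) [nat_lit 0,nat_lit 2,nat_lit 3] [],Ins.ts (nat_lit 1) [nat_lit 0,nat_lit 1,nat_lit 3] [],Ins.ts (nat_lit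 1) [nat_lit 0,nat_lit 1,nat_lit 2,nat_lit 3] [],Ins.fr [nat_lit 1,nat_lit 3],Ins.ts (nat_lit 0) [nat_lit 0,nat_lit 0] [],Ins.ts (nat_lit 0) [nat_lit 1,nat_lit 2,nat_lit 0] [nat_lit 0,nat_lit 1]] [] (Cert.rep (nat_lit 10) [] [nat_lit 68,nat_lit 36,nat_lit 16,nat_lit 8,nat_lit 2,nat_lit 1] [nat_lit 1024,nat_lit 512,nat_lit 256,nat_lit 128,nat_lit 4] (Cert.rep (nat_lit 1) [nat_lit 2,nat_lit 16,nat_lit 36,nat_lit 68] [] [] (Cert.rep (nat_lit 26) [nat_lit 2,nat_lit 68] [] [] (Cert.rep (nat_lit 76) [] [] [] Cert.nil (Cert.rep (nat_lit 78) [] [] [] Cert.nil (Cert.rep (nat_lit 84) [] [] [] Cert.nil (Cert.rep (nat_lit 86) [] [] [] Cert.nil Cert.nil)))) (Cert.rep (nat_lit 60) [] [] [] Cert.nil (Cert.rep (nat_lit 68) [] [] [] (Cert.rep (nat_lit 16) [] [] [] Cert.nil (Cert.rep (nat_lit 17) [] [] [] Cert.nil (Cert.rep (nat_lit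 84) [] [] [] Cert.nil (Cert.rep (nat_lit 85) [] [] [] Cert.nil Cert.nil)))) (Cert.rep (nat_lit 92) [] [] [] (Cert.rep (nat_lit 16) [] [] [] Cert.nil (Cert.rep (nat_lit 17) [] [] [] Cert.nil (Cert.rep (nat_lit 76) [] [] [] Cert.nil (Cert.rep (nat_lit 77) [] [] [] Cert.nil Cert.nil)))) Cert.nil)))) Cert.nil) Cert.nil))) f131_0)))))))))))))))))))))))
theorem fin131 : finOK DB PT 88 t88 131 t131 (nat_lit 0xc3000000c3000003c0000003c00000000000000000000000000000000000000330000003300000003300000033000000000000000000f0000000f0000000f00c0cf0f00303f000000000000000000300000c0300000c00000000000000000000000000000000f00000f0f0f0f0f0fcfc0303fc03fc03) f131 = true := by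
  decide +kernel
noncomputable def f138_0 : Cert :=
  Cert.s2 (nat_lit 0) (nat_lit 68) (Cert.o1 (nat_lit 0) (nat_lit 68) (Cert.fu (nat_lit 10) (nat_lit 1) (nat_lit 0) (nat_lit 0) [] [nat_lit 68,nat_lit 1,nat_lit 16,nat_lit 32] [] [] [] [nat_lit 1] [[nat_lit 1]] [[nat_lit 68]] [Ins.fr [nat_lit 0],Ins.ts (nat_lit 3) [nat_lit 0] [],Ins.ts (nat_lit 4) [nat_lit 0] [nat_lit 0,nat_lit 0,nat_lit 0],Ins.ts (nat_lit 1) [nat_lit 0] [],Ins.fr [nat_lit 1],Ins.ts (nat_lit 3) [nat_lit 0] [],Ins.ts (nat_lit 0) [nat_lit 0,nat_lit 0] [],Ins.ts (nat_lit 1) [nat_lit 0] [],Ins.ts (nat_lit 1) [nat_lit 0,nat_lit 1] [],Ins.fr [nat_lit 2],Ins.ts (nat_lit 2) [nat_lit 0] [],Ins.ts (nat_lit 0) [nat_lit 0,nat_lit 0] [],Ins.ts (nat_lit 0) [nat_lit 1,nat_lit 0] [nat_lit 0,nat_lit 1],Ins.ts (nat_lit 1) [nat_lit 0] [],Ins.ts (nat_lit 1) [nat_lit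 0,nat_lit 3] [],Ins.ts (nat_lit 1) [nat_lit 0,nat_lit 2,nat_lit 3] [],Ins.ts (nat_lit 1) [nat_lit 0,nat_lit 1,nat_lit 3] [],Ins.ts (nat_lit 1) [nat_lit 0,nat_lit 1,nat_lit 2,nat_lit 3] [],Ins.fr [nat_lit 1,nat_lit 3],Ins.ts (nat_lit 0) [nat_lit 0,nat_lit 0] [],Ins.ts (nat_lit 0) [nat_lit 1,nat_lit 2,nat_lit 0] [nat_lit 0,nat_lit 1]] [] (Cert.rep (nat_lit 10) [] [nat_lit 68,nat_lit 36,nat_lit 16,nat_lit 8,nat_lit 2,nat_lit 1] [nat_lit 1024,nat_lit 512,nat_lit 256,nat_lit 128,nat_lit 4] (Cert.rep (nat_lit 1) [nat_lit 2,nat_lit 16,nat_lit 36,nat_lit 68] [] [] (Cert.rep (nat_lit 26) [nat_lit 2,nat_lit 68] [] [] (Cert.rep (nat_lit 76) [] [] [] Cert.nil (Cert.rep (nat_lit 78) [] [] [] Cert.nil (Cert.rep (nat_lit 84) [] [] [] Cert.nil (Cert.rep (nat_lit 86) [] [] [] Cert.nil Cert.nil)))) (Cert.rep (nat_lit 60) [] [] []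 Cert.nil (Cert.rep (nat_lit 68) [] [] [] (Cert.rep (nat_lit 16) [] [] [] Cert.nil (Cert.rep (nat_lit 17) [] [] [] Cert.nil (Cert.rep (nat_lit 84) [] [] [] Cert.nil (Cert.rep (nat_lit 85) [] [] [] Cert.nil Cert.nil)))) (Cert.rep (nat_lit 92) [] [] [] (Cert.rep (nat_lit 16) [] [] [] Cert.nil (Cert.rep (nat_lit 17) [] [] [] Cert.nil (Cert.rep (nat_lit 76) [] [] [] Cert.nil (Cert.rep (nat_lit 77) [] [] [] Cert.nil Cert.nil)))) Cert.nil)))) Cert.nil) Cert.nil))) (Cert.root (nat_lit 32) [] [nat_lit 8,nat_lit 4] [nat_lit 0,nat_lit 1,nat_lit 2,nat_lit 3,nat_lit 4] [Ins.fr [nat_lit 0],Ins.ts (nat_lit 0) [nat_lit 0,nat_lit 0] [],Ins.ts (nat_lit 1) [nat_lit 0] [],Ins.ts (nat_lit 1) [nat_lit 0,nat_lit 1] [],Ins.fr [nat_lit 1],Ins.ts (nat_lit 1) [nat_lit 0,nat_lit 0] [],Ins.ts (nat_lit 0) [nat_lit 1,nat_lit 0,nat_lit 1] [nat_lit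 0,nat_lit 0,nat_lit 0],Ins.ts (nat_lit 1) [nat_lit 0,nat_lit 0,nat_lit 0,nat_lit 0] [],Ins.df [nat_lit 0,nat_lit 0],Ins.df [nat_lit 0,nat_lit 0]] (Cert.rep (nat_lit 10) [nat_lit 2,nat_lit 16,nat_lit 36,nat_lit 68] [nat_lit 68,nat_lit 36,nat_lit 16,nat_lit 8,nat_lit 2,nat_lit 1] [nat_lit 1024,nat_lit 512,nat_lit 256,nat_lit 128,nat_lit 4] (Cert.rep (nat_lit 1) [] [] [] Cert.nil (Cert.rep (nat_lit 11) [] [] [] Cert.nil (Cert.rep (nat_lit 16) [] [] [] Cert.nil (Cert.rep (nat_lit 26) [] [] [] Cert.nil (Cert.rep (nat_lit 52) [] [] [] Cert.nil (Cert.rep (nat_lit 60) [] [] [] Cert.nil (Cert.rep (nat_lit 68) [nat_lit 16,nat_lit 68] [] [] (Cert.rep (nat_lit 96) [] [] [] (Cert.er (Cert.ro (nat_lit 0) [nat_lit 1,nat_lit 8,nat_lit 16] [nat_lit 8,nat_lit 9,nat_lit 16] [nat_lit 0,nat_lit 1,nat_lit 68,nat_lit 69,nat_lit 10,nat_lit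 11,nat_lit 78,nat_lit 79] (Cert.ro (nat_lit 1) [nat_lit 1,nat_lit 2,nat_lit 14,nat_lit 16] [nat_lit 1,nat_lit 14,nat_lit 12,nat_lit 16] [nat_lit 0,nat_lit 1,nat_lit 2,nat_lit 3,nat_lit 39,nat_lit 38,nat_lit 36,nat_lit 37,nat_lit 10,nat_lit 11,nat_lit 9,nat_lit 8,nat_lit 44,nat_lit 45,nat_lit 46,nat_lit 47] (Cert.kw (nat_lit 2) (nat_lit 0) (nat_lit 2) (nat_lit 1) )))) (Cert.rep (nat_lit 104) [] [] [] (Cert.er (Cert.ro (nat_lit 0) [nat_lit 1,nat_lit 8,nat_lit 16] [nat_lit 8,nat_lit 9,nat_lit 16] [nat_lit 0,nat_lit 1,nat_lit 68,nat_lit 69,nat_lit 10,nat_lit 11,nat_lit 78,nat_lit 79] (Cert.ro (nat_lit 1) [nat_lit 1,nat_lit 2,nat_lit 14,nat_lit 16] [nat_lit 1,nat_lit 14,nat_lit 12,nat_lit 16] [nat_lit 0,nat_lit 1,nat_lit 3,nat_lit 2,nat_lit 46,nat_lit 47,nat_lit 44,nat_lit 45,nat_lit 10,nat_lit 11,nat_lit 8,nat_lit 9,nat_lit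 36,nat_lit 37,nat_lit 39,nat_lit 38] (Cert.kw (nat_lit 2) (nat_lit 0) (nat_lit 2) (nat_lit 1) )))) Cert.nil)) (Cert.rep (nat_lit 76) [nat_lit 16,nat_lit 70] [] [] (Cert.rep (nat_lit 96) [] [] [] (Cert.er (Cert.ro (nat_lit 0) [nat_lit 1,nat_lit 8,nat_lit 16] [nat_lit 8,nat_lit 9,nat_lit 16] [nat_lit 0,nat_lit 1,nat_lit 76,nat_lit 77,nat_lit 10,nat_lit 11,nat_lit 71,nat_lit 70] (Cert.ro (nat_lit 1) [nat_lit 1,nat_lit 2,nat_lit 14,nat_lit 16] [nat_lit 1,nat_lit 14,nat_lit 12,nat_lit 16] [nat_lit 0,nat_lit 1,nat_lit 2,nat_lit 3,nat_lit 47,nat_lit 46,nat_lit 44,nat_lit 45,nat_lit 10,nat_lit 11,nat_lit 9,nat_lit 8,nat_lit 37,nat_lit 36,nat_lit 39,nat_lit 38] (Cert.lf (Leaf.st (nat_lit 2) (nat_lit 1) (nat_lit 1) (Leaf.cf (nat_lit 1))))))) (Cert.rep (nat_lit 104) [] [] [] (Cert.er (Cert.ro (nat_lit 0) [nat_lit 1,nat_lit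 8,nat_lit 16] [nat_lit 8,nat_lit 9,nat_lit 16] [nat_lit 0,nat_lit 1,nat_lit 76,nat_lit 77,nat_lit 10,nat_lit 11,nat_lit 71,nat_lit 70] (Cert.ro (nat_lit 1) [nat_lit 1,nat_lit 2,nat_lit 14,nat_lit 16] [nat_lit 1,nat_lit 14,nat_lit 12,nat_lit 16] [nat_lit 0,nat_lit 1,nat_lit 3,nat_lit 2,nat_lit 39,nat_lit 38,nat_lit 37,nat_lit 36,nat_lit 10,nat_lit 11,nat_lit 8,nat_lit 9,nat_lit 44,nat_lit 45,nat_lit 47,nat_lit 46] (Cert.lf (Leaf.st (nat_lit 2) (nat_lit 1) (nat_lit 1) (Leaf.cf (nat_lit 1))))))) Cert.nil)) (Cert.rep (nat_lit 84) [nat_lit 16,nat_lit 68] [] [] (Cert.rep (nat_lit 112) [] [] [] (Cert.er (Cert.ro (nat_lit 0) [nat_lit 1,nat_lit 8,nat_lit 16] [nat_lit 8,nat_lit 9,nat_lit 16] [nat_lit 0,nat_lit 1,nat_lit 84,nat_lit 85,nat_lit 10,nat_lit 11,nat_lit 94,nat_lit 95] (Cert.ro (nat_lit 1) [nat_lit 1,nat_lit 2,nat_lit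 14,nat_lit 16] [nat_lit 1,nat_lit 14,nat_lit 12,nat_lit 16] [nat_lit 0,nat_lit 1,nat_lit 3,nat_lit 2,nat_lit 39,nat_lit 38,nat_lit 37,nat_lit 36,nat_lit 10,nat_lit 11,nat_lit 8,nat_lit 9,nat_lit 44,nat_lit 45,nat_lit 47,nat_lit 46] (Cert.lf (Leaf.st (nat_lit 2) (nat_lit 1) (nat_lit 1) (Leaf.cf (nat_lit 1))))))) (Cert.rep (nat_lit 120) [] [] [] (Cert.er (Cert.ro (nat_lit 0) [nat_lit 1,nat_lit 8,nat_lit 16] [nat_lit 8,nat_lit 9,nat_lit 16] [nat_lit 0,nat_lit 1,nat_lit 84,nat_lit 85,nat_lit 10,nat_lit 11,nat_lit 94,nat_lit 95] (Cert.ro (nat_lit 1) [nat_lit 1,nat_lit 2,nat_lit 14,nat_lit 16] [nat_lit 1,nat_lit 14,nat_lit 12,nat_lit 16] [nat_lit 0,nat_lit 1,nat_lit 2,nat_lit 3,nat_lit 46,nat_lit 47,nat_lit 45,nat_lit 44,nat_lit 10,nat_lit 11,nat_lit 9,nat_lit 8,nat_lit 36,nat_lit 37,nat_lit 38,nat_lit 39] (Cert.lf (Leaf.st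 (nat_lit 2) (nat_lit 1) (nat_lit 1) (Leaf.cf (nat_lit 1))))))) Cert.nil)) (Cert.rep (nat_lit 92) [nat_lit 16,nat_lit 70] [] [] (Cert.rep (nat_lit 112) [] [] [] (Cert.er (Cert.ro (nat_lit 0) [nat_lit 1,nat_lit 8,nat_lit 16] [nat_lit 8,nat_lit 9,nat_lit 16] [nat_lit 0,nat_lit 1,nat_lit 92,nat_lit 93,nat_lit 10,nat_lit 11,nat_lit 87,nat_lit 86] (Cert.ro (nat_lit 1) [nat_lit 1,nat_lit 2,nat_lit 14,nat_lit 16] [nat_lit 1,nat_lit 14,nat_lit 12,nat_lit 16] [nat_lit 0,nat_lit 1,nat_lit 3,nat_lit 2,nat_lit 47,nat_lit 46,nat_lit 45,nat_lit 44,nat_lit 10,nat_lit 11,nat_lit 8,nat_lit 9,nat_lit 37,nat_lit 36,nat_lit 38,nat_lit 39] (Cert.kw (nat_lit 2) (nat_lit 0) (nat_lit 2) (nat_lit 1) )))) (Cert.rep (nat_lit 120) [] [] [] (Cert.er (Cert.ro (nat_lit 0) [nat_lit 1,nat_lit 8,nat_lit 16] [nat_lit 8,nat_lit 9,nat_lit 16] [nat_lit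 0,nat_lit 1,nat_lit 92,nat_lit 93,nat_lit 10,nat_lit 11,nat_lit 87,nat_lit 86] (Cert.ro (nat_lit 1) [nat_lit 1,nat_lit 2,nat_lit 14,nat_lit 16] [nat_lit 1,nat_lit 14,nat_lit 12,nat_lit 16] [nat_lit 0,nat_lit 1,nat_lit 2,nat_lit 3,nat_lit 39,nat_lit 38,nat_lit 36,nat_lit 37,nat_lit 10,nat_lit 11,nat_lit 9,nat_lit 8,nat_lit 44,nat_lit 45,nat_lit 46,nat_lit 47] (Cert.kw (nat_lit 2) (nat_lit 0) (nat_lit 2) (nat_lit 1) )))) Cert.nil)) Cert.nil)))))))))) Cert.nil))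
noncomputable def f138 : Cert :=
  (Cert.st (nat_lit 0) (nat_lit 10) (nat_lit 0) (Cert.sp (nat_lit 1) (Cert.lf (Leaf.pt (nat_lit 9) (nat_lit 1) [nat_lit 10])) (Cert.sp (nat_lit 26) (Cert.lf (Leaf.pt (nat_lit 9) (nat_lit 26) [nat_lit 10])) (Cert.st (nat_lit 0) (nat_lit 26) (nat_lit 0) (Cert.sp (nat_lit 28) (Cert.lf (Leaf.pt (nat_lit 9) (nat_lit 28) [nat_lit 12])) (Cert.st (nat_lit 0) (nat_lit 28) (nat_lit 0) (Cert.sp (nat_lit 32) (Cert.lf (Leaf.pt (nat_lit 12) (nat_lit 32) [nat_lit 26,nat_lit 196])) (Cert.st (nat_lit 0) (nat_lit 32) (nat_lit 0) (Cert.sp (nat_lit 68) (Cert.lf (Leaf.pt (nat_lit 9) (nat_lit 68) [nat_lit 10])) (Cert.st (nat_lit 0) (nat_lit 68) (nat_lit 0) (Cert.sp (nat_lit 258) (Cert.lf (Leaf.pt (nat_lit 12) (nat_lit 258) [nat_lit 26,nat_lit 586])) (Cert.st (nat_lit 0) (nat_lit 258) (nat_lit 0) (Cert.sp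 (nat_lit 584) (Cert.lf (Leaf.pt (nat_lit 19) (nat_lit 584) [nat_lit 24,nat_lit 192])) (Cert.st (nat_lit 0) (nat_lit 584) (nat_lit 0) (Cert.sp (nat_lit 652) (Cert.lf (Leaf.pt (nat_lit 12) (nat_lit 652) [nat_lit 28,nat_lit 256])) (Cert.st (nat_lit 0) (nat_lit 652) (nat_lit 0) (Cert.sp (nat_lit 653) (Cert.lf (Leaf.pt (nat_lit 12) (nat_lit 653) [nat_lit 28,nat_lit 256])) (Cert.st (nat_lit 0) (nat_lit 653) (nat_lit 0) (Cert.nl (nat_lit 1) (Cert.sy (nat_lit 0) f138_0))))))))))))))))))))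
theorem fin138 : finOK DB PT 88 t88 138 t138 (nat_lit 0xc3000000c3000003c0000003c00000000000000000000000000000000000000330000003300000003300000033000000000000000000f0000000f0000000f00c0cf0f00303f000000000000000000300000c0300000c00000000000000000000000000000000f00000f0f0f0f0f0fcfc0303fc03fc03) f138 = true := by
  decide +kernel
noncomputable def f151_0 : Cert :=
  Cert.rep (nat_lit 10) [nat_lit 2,nat_lit 16,nat_lit 36,nat_lit 68] [nat_lit 68,nat_lit 36,nat_lit 16,nat_lit 8,nat_lit 2,nat_lit 1] [nat_lit 512,nat_lit 256,nat_lit 128,nat_lit 4] (Cert.rep (nat_lit 1) [] [] [] Cert.nil (Cert.rep (nat_lit 11) [] [] [] Cert.nil (Cert.rep (nat_lit 16) [] [] [] Cert.nil (Cert.rep (nat_lit 26) [] [] [] Cert.nil (Cert.rep (nat_lit 52) [] [] [] Cert.nil (Cert.rep (nat_lit 60) [] [] [] Cert.nil (Cert.rep (nat_lit 68) [nat_lit 16,nat_lit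 68] [] [] (Cert.rep (nat_lit 96) [] [] [] (Cert.er (Cert.ro (nat_lit 0) [nat_lit 1,nat_lit 8,nat_lit 16] [nat_lit 8,nat_lit 9,nat_lit 16] [nat_lit 0,nat_lit 1,nat_lit 68,nat_lit 69,nat_lit 10,nat_lit 11,nat_lit 78,nat_lit 79] (Cert.ro (nat_lit 1) [nat_lit 1,nat_lit 2,nat_lit 14,nat_lit 16] [nat_lit 1,nat_lit 14,nat_lit 12,nat_lit 16] [nat_lit 0,nat_lit 1,nat_lit 2,nat_lit 3,nat_lit 39,nat_lit 38,nat_lit 36,nat_lit 37,nat_lit 10,nat_lit 11,nat_lit 9,nat_lit 8,nat_lit 44,nat_lit 45,nat_lit 46,nat_lit 47] (Cert.kw (nat_lit 2) (nat_lit 0) (nat_lit 2) (nat_lit 1) )))) (Cert.rep (nat_lit 104) [] [] [] (Cert.er (Cert.ro (nat_lit 0) [nat_lit 1,nat_lit 8,nat_lit 16] [nat_lit 8,nat_lit 9,nat_lit 16] [nat_lit 0,nat_lit 1,nat_lit 68,nat_lit 69,nat_lit 10,nat_lit 11,nat_lit 78,nat_lit 79] (Cert.ro (nat_lit 1) [nat_lit 1,nat_lit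 2,nat_lit 14,nat_lit 16] [nat_lit 1,nat_lit 14,nat_lit 12,nat_lit 16] [nat_lit 0,nat_lit 1,nat_lit 3,nat_lit 2,nat_lit 46,nat_lit 47,nat_lit 44,nat_lit 45,nat_lit 10,nat_lit 11,nat_lit 8,nat_lit 9,nat_lit 36,nat_lit 37,nat_lit 39,nat_lit 38] (Cert.kw (nat_lit 2) (nat_lit 0) (nat_lit 2) (nat_lit 1) )))) Cert.nil)) (Cert.rep (nat_lit 76) [nat_lit 16,nat_lit 70] [] [] (Cert.rep (nat_lit 96) [] [] [] (Cert.er (Cert.ro (nat_lit 0) [nat_lit 1,nat_lit 8,nat_lit 16] [nat_lit 8,nat_lit 9,nat_lit 16] [nat_lit 0,nat_lit 1,nat_lit 76,nat_lit 77,nat_lit 10,nat_lit 11,nat_lit 71,nat_lit 70] (Cert.ro (nat_lit 1) [nat_lit 1,nat_lit 2,nat_lit 14,nat_lit 16] [nat_lit 1,nat_lit 14,nat_lit 12,nat_lit 16] [nat_lit 0,nat_lit 1,nat_lit 2,nat_lit 3,nat_lit 47,nat_lit 46,nat_lit 44,nat_lit 45,nat_lit 10,nat_lit 11,nat_lit 9,nat_lit 8,nat_lit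 37,nat_lit 36,nat_lit 39,nat_lit 38] (Cert.lf (Leaf.st (nat_lit 2) (nat_lit 1) (nat_lit 1) (Leaf.cf (nat_lit 1))))))) (Cert.rep (nat_lit 104) [] [] [] (Cert.er (Cert.ro (nat_lit 0) [nat_lit 1,nat_lit 8,nat_lit 16] [nat_lit 8,nat_lit 9,nat_lit 16] [nat_lit 0,nat_lit 1,nat_lit 76,nat_lit 77,nat_lit 10,nat_lit 11,nat_lit 71,nat_lit 70] (Cert.ro (nat_lit 1) [nat_lit 1,nat_lit 2,nat_lit 14,nat_lit 16] [nat_lit 1,nat_lit 14,nat_lit 12,nat_lit 16] [nat_lit 0,nat_lit 1,nat_lit 3,nat_lit 2,nat_lit 39,nat_lit 38,nat_lit 37,nat_lit 36,nat_lit 10,nat_lit 11,nat_lit 8,nat_lit 9,nat_lit 44,nat_lit 45,nat_lit 47,nat_lit 46] (Cert.lf (Leaf.st (nat_lit 2) (nat_lit 1) (nat_lit 1) (Leaf.cf (nat_lit 1))))))) Cert.nil)) (Cert.rep (nat_lit 84) [nat_lit 16,nat_lit 68] [] [] (Cert.rep (nat_lit 112) [] [] [] (Cert.er (Cert.ro (nat_lit 0)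 [nat_lit 1,nat_lit 8,nat_lit 16] [nat_lit 8,nat_lit 9,nat_lit 16] [nat_lit 0,nat_lit 1,nat_lit 84,nat_lit 85,nat_lit 10,nat_lit 11,nat_lit 94,nat_lit 95] (Cert.ro (nat_lit 1) [nat_lit 1,nat_lit 2,nat_lit 14,nat_lit 16] [nat_lit 1,nat_lit 14,nat_lit 12,nat_lit 16] [nat_lit 0,nat_lit 1,nat_lit 3,nat_lit 2,nat_lit 39,nat_lit 38,nat_lit 37,nat_lit 36,nat_lit 10,nat_lit 11,nat_lit 8,nat_lit 9,nat_lit 44,nat_lit 45,nat_lit 47,nat_lit 46] (Cert.lf (Leaf.st (nat_lit 2) (nat_lit 1) (nat_lit 1) (Leaf.cf (nat_lit 1))))))) (Cert.rep (nat_lit 120) [] [] [] (Cert.er (Cert.ro (nat_lit 0) [nat_lit 1,nat_lit 8,nat_lit 16] [nat_lit 8,nat_lit 9,nat_lit 16] [nat_lit 0,nat_lit 1,nat_lit 84,nat_lit 85,nat_lit 10,nat_lit 11,nat_lit 94,nat_lit 95] (Cert.ro (nat_lit 1) [nat_lit 1,nat_lit 2,nat_lit 14,nat_lit 16] [nat_lit 1,nat_lit 14,nat_lit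 12,nat_lit 16] [nat_lit 0,nat_lit 1,nat_lit 2,nat_lit 3,nat_lit 46,nat_lit 47,nat_lit 45,nat_lit 44,nat_lit 10,nat_lit 11,nat_lit 9,nat_lit 8,nat_lit 36,nat_lit 37,nat_lit 38,nat_lit 39] (Cert.lf (Leaf.st (nat_lit 2) (nat_lit 1) (nat_lit 1) (Leaf.cf (nat_lit 1))))))) Cert.nil)) (Cert.rep (nat_lit 92) [nat_lit 16,nat_lit 70] [] [] (Cert.rep (nat_lit 112) [] [] [] (Cert.er (Cert.ro (nat_lit 0) [nat_lit 1,nat_lit 8,nat_lit 16] [nat_lit 8,nat_lit 9,nat_lit 16] [nat_lit 0,nat_lit 1,nat_lit 92,nat_lit 93,nat_lit 10,nat_lit 11,nat_lit 87,nat_lit 86] (Cert.ro (nat_lit 1) [nat_lit 1,nat_lit 2,nat_lit 14,nat_lit 16] [nat_lit 1,nat_lit 14,nat_lit 12,nat_lit 16] [nat_lit 0,nat_lit 1,nat_lit 3,nat_lit 2,nat_lit 47,nat_lit 46,nat_lit 45,nat_lit 44,nat_lit 10,nat_lit 11,nat_lit 8,nat_lit 9,nat_lit 37,nat_lit 36,nat_lit 38,nat_lit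 39] (Cert.kw (nat_lit 2) (nat_lit 0) (nat_lit 2) (nat_lit 1) )))) (Cert.rep (nat_lit 120) [] [] [] (Cert.er (Cert.ro (nat_lit 0) [nat_lit 1,nat_lit 8,nat_lit 16] [nat_lit 8,nat_lit 9,nat_lit 16] [nat_lit 0,nat_lit 1,nat_lit 92,nat_lit 93,nat_lit 10,nat_lit 11,nat_lit 87,nat_lit 86] (Cert.ro (nat_lit 1) [nat_lit 1,nat_lit 2,nat_lit 14,nat_lit 16] [nat_lit 1,nat_lit 14,nat_lit 12,nat_lit 16] [nat_lit 0,nat_lit 1,nat_lit 2,nat_lit 3,nat_lit 39,nat_lit 38,nat_lit 36,nat_lit 37,nat_lit 10,nat_lit 11,nat_lit 9,nat_lit 8,nat_lit 44,nat_lit 45,nat_lit 46,nat_lit 47] (Cert.kw (nat_lit 2) (nat_lit 0) (nat_lit 2) (nat_lit 1) )))) Cert.nil)) Cert.nil)))))))))) (Cert.rep (nat_lit 76) [nat_lit 10,nat_lit 16,nat_lit 34,nat_lit 384] [nat_lit 384,nat_lit 70,nat_lit 34,nat_lit 16,nat_lit 10,nat_lit 1] [nat_lit 512,nat_lit 128,nat_lit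 4,nat_lit 2] (Cert.rep (nat_lit 1) [] [] [] Cert.nil (Cert.rep (nat_lit 10) [nat_lit 10,nat_lit 16] [] [] (Cert.rep (nat_lit 384) [] [] [] (Cert.er (Cert.ro (nat_lit 0) [nat_lit 1,nat_lit 8,nat_lit 16] [nat_lit 8,nat_lit 9,nat_lit 16] [nat_lit 0,nat_lit 1,nat_lit 10,nat_lit 11,nat_lit 76,nat_lit 77,nat_lit 71,nat_lit 70] (Cert.ro (nat_lit 1) [nat_lit 1,nat_lit 2,nat_lit 14,nat_lit 16] [nat_lit 1,nat_lit 14,nat_lit 12,nat_lit 16] [nat_lit 0,nat_lit 1,nat_lit 35,nat_lit 34,nat_lit 394,nat_lit 395,nat_lit 425,nat_lit 424,nat_lit 76,nat_lit 77,nat_lit 110,nat_lit 111,nat_lit 455,nat_lit 454,nat_lit 485,nat_lit 484] (Cert.lf (Leaf.st (nat_lit 2) (nat_lit 1) (nat_lit 1) (Leaf.cf (nat_lit 1))))))) (Cert.rep (nat_lit 460) [] [] [] (Cert.er (Cert.ro (nat_lit 0) [nat_lit 1,nat_lit 8,nat_lit 16] [nat_lit 8,nat_lit 9,nat_lit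 16] [nat_lit 0,nat_lit 1,nat_lit 10,nat_lit 11,nat_lit 76,nat_lit 77,nat_lit 71,nat_lit 70] (Cert.ro (nat_lit 1) [nat_lit 1,nat_lit 2,nat_lit 14,nat_lit 16] [nat_lit 1,nat_lit 14,nat_lit 12,nat_lit 16] [nat_lit 0,nat_lit 1,nat_lit 35,nat_lit 34,nat_lit 455,nat_lit 454,nat_lit 485,nat_lit 484,nat_lit 76,nat_lit 77,nat_lit 110,nat_lit 111,nat_lit 394,nat_lit 395,nat_lit 425,nat_lit 424] (Cert.lf (Leaf.st (nat_lit 2) (nat_lit 1) (nat_lit 1) (Leaf.cf (nat_lit 1))))))) Cert.nil)) (Cert.rep (nat_lit 16) [nat_lit 10,nat_lit 16] [] [] (Cert.rep (nat_lit 410) [] [] [] (Cert.er (Cert.ro (nat_lit 0) [nat_lit 1,nat_lit 8,nat_lit 16] [nat_lit 8,nat_lit 9,nat_lit 16] [nat_lit 0,nat_lit 1,nat_lit 16,nat_lit 17,nat_lit 76,nat_lit 77,nat_lit 92,nat_lit 93] (Cert.ro (nat_lit 1) [nat_lit 1,nat_lit 2,nat_lit 14,nat_lit 16] [nat_lit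 1,nat_lit 14,nat_lit 12,nat_lit 16] [nat_lit 0,nat_lit 1,nat_lit 34,nat_lit 35,nat_lit 394,nat_lit 395,nat_lit 424,nat_lit 425,nat_lit 76,nat_lit 77,nat_lit 111,nat_lit 110,nat_lit 455,nat_lit 454,nat_lit 484,nat_lit 485] (Cert.lf (Leaf.st (nat_lit 2) (nat_lit 1) (nat_lit 1) (Leaf.cf (nat_lit 1))))))) (Cert.rep (nat_lit 470) [] [] [] (Cert.er (Cert.ro (nat_lit 0) [nat_lit 1,nat_lit 8,nat_lit 16] [nat_lit 8,nat_lit 9,nat_lit 16] [nat_lit 0,nat_lit 1,nat_lit 16,nat_lit 17,nat_lit 76,nat_lit 77,nat_lit 92,nat_lit 93] (Cert.ro (nat_lit 1) [nat_lit 1,nat_lit 2,nat_lit 14,nat_lit 16] [nat_lit 1,nat_lit 14,nat_lit 12,nat_lit 16] [nat_lit 0,nat_lit 1,nat_lit 34,nat_lit 35,nat_lit 454,nat_lit 455,nat_lit 485,nat_lit 484,nat_lit 76,nat_lit 77,nat_lit 111,nat_lit 110,nat_lit 395,nat_lit 394,nat_lit 425,nat_lit 424] (Cert.lf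 (Leaf.st (nat_lit 2) (nat_lit 1) (nat_lit 1) (Leaf.cf (nat_lit 1))))))) Cert.nil)) (Cert.rep (nat_lit 26) [] [] [] Cert.nil (Cert.rep (nat_lit 70) [nat_lit 10,nat_lit 16] [] [] (Cert.rep (nat_lit 384) [] [] [] (Cert.er (Cert.ro (nat_lit 0) [nat_lit 1,nat_lit 8,nat_lit 16] [nat_lit 8,nat_lit 9,nat_lit 16] [nat_lit 0,nat_lit 1,nat_lit 70,nat_lit 71,nat_lit 76,nat_lit 77,nat_lit 11,nat_lit 10] (Cert.ro (nat_lit 1) [nat_lit 1,nat_lit 2,nat_lit 14,nat_lit 16] [nat_lit 1,nat_lit 14,nat_lit 12,nat_lit 16] [nat_lit 0,nat_lit 1,nat_lit 35,nat_lit 34,nat_lit 454,nat_lit 455,nat_lit 484,nat_lit 485,nat_lit 76,nat_lit 77,nat_lit 110,nat_lit 111,nat_lit 395,nat_lit 394,nat_lit 424,nat_lit 425] (Cert.kw (nat_lit 2) (nat_lit 0) (nat_lit 2) (nat_lit 1) )))) (Cert.rep (nat_lit 460) [] [] [] (Cert.er (Cert.ro (nat_lit 0) [nat_lit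 1,nat_lit 8,nat_lit 16] [nat_lit 8,nat_lit 9,nat_lit 16] [nat_lit 0,nat_lit 1,nat_lit 70,nat_lit 71,nat_lit 76,nat_lit 77,nat_lit 11,nat_lit 10] (Cert.ro (nat_lit 1) [nat_lit 1,nat_lit 2,nat_lit 14,nat_lit 16] [nat_lit 1,nat_lit 14,nat_lit 12,nat_lit 16] [nat_lit 0,nat_lit 1,nat_lit 35,nat_lit 34,nat_lit 395,nat_lit 394,nat_lit 424,nat_lit 425,nat_lit 76,nat_lit 77,nat_lit 110,nat_lit 111,nat_lit 454,nat_lit 455,nat_lit 484,nat_lit 485] (Cert.kw (nat_lit 2) (nat_lit 0) (nat_lit 2) (nat_lit 1) )))) Cert.nil)) (Cert.rep (nat_lit 77) [] [] [] Cert.nil (Cert.rep (nat_lit 86) [] [] [] Cert.nil (Cert.rep (nat_lit 92) [nat_lit 10,nat_lit 16] [] [] (Cert.rep (nat_lit 410) [] [] [] (Cert.er (Cert.ro (nat_lit 0) [nat_lit 1,nat_lit 8,nat_lit 16] [nat_lit 8,nat_lit 9,nat_lit 16] [nat_lit 0,nat_lit 1,nat_lit 92,nat_lit 93,nat_lit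 76,nat_lit 77,nat_lit 16,nat_lit 17] (Cert.ro (nat_lit 1) [nat_lit 1,nat_lit 2,nat_lit 14,nat_lit 16] [nat_lit 1,nat_lit 14,nat_lit 12,nat_lit 16] [nat_lit 0,nat_lit 1,nat_lit 34,nat_lit 35,nat_lit 455,nat_lit 454,nat_lit 484,nat_lit 485,nat_lit 76,nat_lit 77,nat_lit 111,nat_lit 110,nat_lit 394,nat_lit 395,nat_lit 424,nat_lit 425] (Cert.kw (nat_lit 2) (nat_lit 0) (nat_lit 2) (nat_lit 1) )))) (Cert.rep (nat_lit 470) [] [] [] (Cert.er (Cert.ro (nat_lit 0) [nat_lit 1,nat_lit 8,nat_lit 16] [nat_lit 8,nat_lit 9,nat_lit 16] [nat_lit 0,nat_lit 1,nat_lit 92,nat_lit 93,nat_lit 76,nat_lit 77,nat_lit 16,nat_lit 17] (Cert.ro (nat_lit 1) [nat_lit 1,nat_lit 2,nat_lit 14,nat_lit 16] [nat_lit 1,nat_lit 14,nat_lit 12,nat_lit 16] [nat_lit 0,nat_lit 1,nat_lit 34,nat_lit 35,nat_lit 395,nat_lit 394,nat_lit 425,nat_lit 424,nat_lit 76,nat_lit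 77,nat_lit 111,nat_lit 110,nat_lit 454,nat_lit 455,nat_lit 485,nat_lit 484] (Cert.kw (nat_lit 2) (nat_lit 0) (nat_lit 2) (nat_lit 1) )))) Cert.nil)) (Cert.rep (nat_lit 400) [] [] [] Cert.nil (Cert.rep (nat_lit 476) [] [] [] Cert.nil Cert.nil)))))))))) Cert.nil)
noncomputable def f151_1 : Cert :=
  Cert.sp (nat_lit 592) (Cert.lf (Leaf.pt (nat_lit 19) (nat_lit 592) [nat_lit 24,nat_lit 192])) (Cert.st (nat_lit 0) (nat_lit 592) (nat_lit 0) (Cert.sp (nat_lit 648) (Cert.lf (Leaf.pt (nat_lit 19) (nat_lit 648) [nat_lit 4,nat_lit 192])) (Cert.st (nat_lit 0) (nat_lit 648) (nat_lit 0) (Cert.nl (nat_lit 1) (Cert.sy (nat_lit 0) (Cert.s2 (nat_lit 0) (nat_lit 68) (Cert.o1 (nat_lit 0) (nat_lit 68) (Cert.fu (nat_lit 10) (nat_lit 1) (nat_lit 0) (nat_lit 0) [] [nat_lit 68,nat_lit 1,nat_lit 16,nat_lit 32] [] [] [] [nat_lit 1] [[nat_lit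 1]] [[nat_lit 68]] [Ins.fr [nat_lit 0],Ins.ts (nat_lit 3) [nat_lit 0] [],Ins.ts (nat_lit 4) [nat_lit 0] [nat_lit 0,nat_lit 0,nat_lit 0],Ins.ts (nat_lit 1) [nat_lit 0] [],Ins.fr [nat_lit 1],Ins.ts (nat_lit 3) [nat_lit 0] [],Ins.ts (nat_lit 0) [nat_lit 0,nat_lit 0] [],Ins.ts (nat_lit 1) [nat_lit 0] [],Ins.ts (nat_lit 1) [nat_lit 0,nat_lit 1] [],Ins.fr [nat_lit 2],Ins.ts (nat_lit 2) [nat_lit 0] [],Ins.ts (nat_lit 0) [nat_lit 0,nat_lit 0] [],Ins.ts (nat_lit 0) [nat_lit 1,nat_lit 0] [nat_lit 0,nat_lit 1],Ins.ts (nat_lit 1) [nat_lit 0] [],Ins.ts (nat_lit 1) [nat_lit 0,nat_lit 3] [],Ins.ts (nat_lit 1) [nat_lit 0,nat_lit 2,nat_lit 3] [],Ins.ts (nat_lit 1) [nat_lit 0,nat_lit 1,nat_lit 3] [],Ins.ts (nat_lit 1) [nat_lit 0,nat_lit 1,nat_lit 2,nat_lit 3] [],Ins.fr [nat_lit 1,nat_lit 3],Ins.ts (nat_lit 0) [nat_lit 0,nat_lit 0]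 [],Ins.ts (nat_lit 0) [nat_lit 1,nat_lit 2,nat_lit 0] [nat_lit 0,nat_lit 1]] [] (Cert.rep (nat_lit 10) [] [nat_lit 68,nat_lit 36,nat_lit 16,nat_lit 8,nat_lit 2,nat_lit 1] [nat_lit 512,nat_lit 256,nat_lit 128,nat_lit 4] (Cert.rep (nat_lit 1) [nat_lit 2,nat_lit 16,nat_lit 36,nat_lit 68] [] [] (Cert.rep (nat_lit 26) [nat_lit 2,nat_lit 68] [] [] (Cert.rep (nat_lit 76) [] [] [] Cert.nil (Cert.rep (nat_lit 78) [] [] [] Cert.nil (Cert.rep (nat_lit 84) [] [] [] Cert.nil (Cert.rep (nat_lit 86) [] [] [] Cert.nil Cert.nil)))) (Cert.rep (nat_lit 60) [] [] [] Cert.nil (Cert.rep (nat_lit 68) [] [] [] (Cert.rep (nat_lit 16) [] [] [] Cert.nil (Cert.rep (nat_lit 17) [] [] [] Cert.nil (Cert.rep (nat_lit 84) [] [] [] Cert.nil (Cert.rep (nat_lit 85) [] [] [] Cert.nil Cert.nil)))) (Cert.rep (nat_lit 92) [] [] [] (Cert.rep (nat_lit 16)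 [] [] [] Cert.nil (Cert.rep (nat_lit 17) [] [] [] Cert.nil (Cert.rep (nat_lit 76) [] [] [] Cert.nil (Cert.rep (nat_lit 77) [] [] [] Cert.nil Cert.nil)))) Cert.nil)))) Cert.nil) (Cert.rep (nat_lit 76) [] [nat_lit 384,nat_lit 70,nat_lit 34,nat_lit 16,nat_lit 10,nat_lit 1] [nat_lit 512,nat_lit 128,nat_lit 4,nat_lit 2] (Cert.rep (nat_lit 1) [nat_lit 10,nat_lit 16,nat_lit 34,nat_lit 384] [] [] (Cert.rep (nat_lit 26) [nat_lit 10,nat_lit 34] [] [] (Cert.rep (nat_lit 10) [] [] [] Cert.nil (Cert.rep (nat_lit 16) [] [] [] Cert.nil (Cert.rep (nat_lit 40) [] [] [] Cert.nil (Cert.rep (nat_lit 50) [] [] [] Cert.nil Cert.nil)))) (Cert.rep (nat_lit 70) [] [] [] (Cert.rep (nat_lit 16) [] [] [] Cert.nil (Cert.rep (nat_lit 17) [] [] [] Cert.nil (Cert.rep (nat_lit 86) [] [] [] Cert.nil (Cert.rep (nat_lit 87) [] [] [] Cert.nil Cert.nil))))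 (Cert.rep (nat_lit 92) [] [] [] (Cert.rep (nat_lit 10) [] [] [] Cert.nil (Cert.rep (nat_lit 11) [] [] [] Cert.nil (Cert.rep (nat_lit 86) [] [] [] Cert.nil (Cert.rep (nat_lit 87) [] [] [] Cert.nil Cert.nil)))) (Cert.rep (nat_lit 476) [] [] [] Cert.nil Cert.nil)))) Cert.nil) Cert.nil)))) (Cert.s2 (nat_lit 0) (nat_lit 92) (Cert.o1 (nat_lit 0) (nat_lit 92) (Cert.fu (nat_lit 10) (nat_lit 1) (nat_lit 0) (nat_lit 0) [] [nat_lit 92,nat_lit 1,nat_lit 16,nat_lit 32] [] [] [] [nat_lit 1] [[nat_lit 1]] [[nat_lit 92]] [Ins.fr [nat_lit 0],Ins.ts (nat_lit 3) [nat_lit 0] [],Ins.ts (nat_lit 4) [nat_lit 0] [nat_lit 0,nat_lit 0,nat_lit 0],Ins.ts (nat_lit 1) [nat_lit 0] [],Ins.fr [nat_lit 1],Ins.ts (nat_lit 3) [nat_lit 0] [],Ins.ts (nat_lit 0) [nat_lit 0,nat_lit 0] [],Ins.ts (nat_lit 1) [nat_lit 0] [],Ins.ts (nat_lit 4) [nat_lit 0]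 [nat_lit 0,nat_lit 0,nat_lit 1],Ins.ts (nat_lit 1) [nat_lit 0,nat_lit 1] [],Ins.fr [nat_lit 2],Ins.ts (nat_lit 2) [nat_lit 0] [],Ins.ts (nat_lit 0) [nat_lit 0,nat_lit 0] [],Ins.ts (nat_lit 0) [nat_lit 1,nat_lit 0] [nat_lit 0,nat_lit 1],Ins.ts (nat_lit 1) [nat_lit 0] [],Ins.ts (nat_lit 4) [nat_lit 0,nat_lit 2,nat_lit 3] [nat_lit 0,nat_lit 0,nat_lit 2],Ins.ts (nat_lit 4) [nat_lit 0,nat_lit 1,nat_lit 2,nat_lit 3] [nat_lit 0,nat_lit 0,nat_lit 2],Ins.ts (nat_lit 1) [nat_lit 0,nat_lit 2,nat_lit 3] [],Ins.ts (nat_lit 1) [nat_lit 0,nat_lit 1,nat_lit 2,nat_lit 3] [],Ins.fr [nat_lit 1,nat_lit 3]] [(nat_lit 2,nat_lit 0),(nat_lit 3,nat_lit 0)] (Cert.rep (nat_lit 10) [] [nat_lit 68,nat_lit 36,nat_lit 16,nat_lit 8,nat_lit 2,nat_lit 1] [nat_lit 512,nat_lit 256,nat_lit 128,nat_lit 4] (Cert.rep (nat_lit 1) [nat_lit 2,nat_lit 16,nat_lit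 36,nat_lit 68] [] [] (Cert.rep (nat_lit 26) [] [] [] Cert.nil (Cert.rep (nat_lit 60) [] [] [] Cert.nil (Cert.rep (nat_lit 92) [] [] [] (Cert.rep (nat_lit 16) [] [] [] Cert.nil (Cert.rep (nat_lit 17) [] [] [] Cert.nil (Cert.rep (nat_lit 76) [] [] [] Cert.nil (Cert.rep (nat_lit 77) [] [] [] Cert.nil Cert.nil)))) Cert.nil))) Cert.nil) (Cert.rep (nat_lit 76) [] [nat_lit 384,nat_lit 70,nat_lit 34,nat_lit 16,nat_lit 10,nat_lit 1] [nat_lit 512,nat_lit 128,nat_lit 4,nat_lit 2] (Cert.rep (nat_lit 1) [nat_lit 10,nat_lit 16,nat_lit 34,nat_lit 384] [] [] (Cert.rep (nat_lit 26) [] [] [] Cert.nil (Cert.rep (nat_lit 92) [] [] [] (Cert.rep (nat_lit 10) [] [] [] Cert.nil (Cert.rep (nat_lit 11) [] [] [] Cert.nil (Cert.rep (nat_lit 86) [] [] [] Cert.nil (Cert.rep (nat_lit 87) [] [] [] Cert.nil Cert.nil)))) (Cert.rep (nat_lit 476) []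 [] [] Cert.nil Cert.nil))) Cert.nil) Cert.nil)))) (Cert.root (nat_lit 32) [] [nat_lit 8,nat_lit 4] [nat_lit 0,nat_lit 1,nat_lit 2,nat_lit 3,nat_lit 4] [Ins.fr [nat_lit 0],Ins.ts (nat_lit 0) [nat_lit 0,nat_lit 0] [],Ins.ts (nat_lit 1) [nat_lit 0] [],Ins.ts (nat_lit 1) [nat_lit 0,nat_lit 1] [],Ins.fr [nat_lit 1],Ins.ts (nat_lit 1) [nat_lit 0,nat_lit 0] [],Ins.ts (nat_lit 0) [nat_lit 1,nat_lit 0,nat_lit 1] [nat_lit 0,nat_lit 0,nat_lit 0],Ins.ts (nat_lit 1) [nat_lit 0,nat_lit 0,nat_lit 0,nat_lit 0] [],Ins.df [nat_lit 0,nat_lit 0],Ins.df [nat_lit 0,nat_lit 0]] f151_0))))))))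
noncomputable def f151 : Cert :=
  (Cert.st (nat_lit 0) (nat_lit 10) (nat_lit 0) (Cert.st (nat_lit 0) (nat_lit 76) (nat_lit 0) (Cert.sp (nat_lit 1) (Cert.lf (Leaf.pt (nat_lit 9) (nat_lit 1) [nat_lit 10])) (Cert.sp (nat_lit 26) (Cert.lf (Leaf.pt (nat_lit 9) (nat_lit 26) [nat_lit 10])) (Cert.st (nat_lit 0) (nat_lit 26) (nat_lit 0) (Cert.sp (nat_lit 28) (Cert.lf (Leaf.pt (nat_lit 9) (nat_lit 28) [nat_lit 12])) (Cert.st (nat_lit 0) (nat_lit 28) (nat_lit 0) (Cert.sp (nat_lit 32) (Cert.lf (Leaf.pt (nat_lit 12) (nat_lit 32) [nat_lit 26,nat_lit 196])) (Cert.st (nat_lit 0) (nat_lit 32) (nat_lit 0) (Cert.sp (nat_lit 68) (Cert.lf (Leaf.pt (nat_lit 9) (nat_lit 68) [nat_lit 10])) (Cert.st (nat_lit 0) (nat_lit 68) (nat_lit 0) (Cert.sp (nat_lit 92) (Cert.lf (Leaf.pt (nat_lit 9) (nat_lit 92) [nat_lit 10])) (Cert.st (nat_lit 0) (nat_lit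 92) (nat_lit 0) (Cert.sp (nat_lit 258) (Cert.lf (Leaf.pt (nat_lit 19) (nat_lit 258) [nat_lit 2,nat_lit 192])) (Cert.st (nat_lit 0) (nat_lit 258) (nat_lit 0) (Cert.sp (nat_lit 476) (Cert.lf (Leaf.pt (nat_lit 9) (nat_lit 476) [nat_lit 76])) (Cert.st (nat_lit 0) (nat_lit 476) (nat_lit 0) f151_1)))))))))))))))))
theorem fin151 : finOK DB PT 88 t88 151 t151 (nat_lit 0xc3000000c3000003c0000003c00000000000000000000000000000000000003003000030030000330000003300000000000000000000f0000000f0000000f00c0cf0f00303f000000000000000000300000c0300000c00000000000000000000000000000000f00000f0f0f0f0f0fcfc0303fc03fc03) f151 = true := by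
  decide +kernel
noncomputable def f204_0 : Cert :=
  Cert.rep (nat_lit 10) [nat_lit 2,nat_lit 16,nat_lit 36,nat_lit 68] [nat_lit 68,nat_lit 36,nat_lit 16,nat_lit 8,nat_lit 2,nat_lit 1] [nat_lit 512,nat_lit 256,nat_lit 128,nat_lit 4] (Cert.rep (nat_lit 1) [] [] [] Cert.nil (Cert.rep (nat_lit 11) [] [] [] Cert.nil (Cert.rep (nat_lit 16) [] [] [] Cert.nil (Cert.rep (nat_lit 26) [] [] [] Cert.nil (Cert.rep (nat_lit 52) [] [] [] Cert.nil (Cert.rep (nat_lit 60) [] [] [] Cert.nil (Cert.rep (nat_lit 68) [nat_lit 16,nat_lit 68] [] [] (Cert.rep (nat_lit 96) [] [] [] (Cert.er (Cert.ro (nat_lit 0) [nat_lit 1,nat_lit 8,nat_lit 16] [nat_lit 8,nat_lit 9,nat_lit 16] [nat_lit 0,nat_lit 1,nat_lit 68,nat_lit 69,nat_lit 10,nat_lit 11,nat_lit 78,nat_lit 79] (Cert.ro (nat_lit 1) [nat_lit 1,nat_lit 2,nat_lit 14,nat_lit 16] [nat_lit 1,nat_lit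 14,nat_lit 12,nat_lit 16] [nat_lit 0,nat_lit 1,nat_lit 2,nat_lit 3,nat_lit 39,nat_lit 38,nat_lit 36,nat_lit 37,nat_lit 10,nat_lit 11,nat_lit 9,nat_lit 8,nat_lit 44,nat_lit 45,nat_lit 46,nat_lit 47] (Cert.kw (nat_lit 2) (nat_lit 0) (nat_lit 2) (nat_lit 1) )))) (Cert.rep (nat_lit 104) [] [] [] (Cert.er (Cert.ro (nat_lit 0) [nat_lit 1,nat_lit 8,nat_lit 16] [nat_lit 8,nat_lit 9,nat_lit 16] [nat_lit 0,nat_lit 1,nat_lit 68,nat_lit 69,nat_lit 10,nat_lit 11,nat_lit 78,nat_lit 79] (Cert.ro (nat_lit 1) [nat_lit 1,nat_lit 2,nat_lit 14,nat_lit 16] [nat_lit 1,nat_lit 14,nat_lit 12,nat_lit 16] [nat_lit 0,nat_lit 1,nat_lit 3,nat_lit 2,nat_lit 46,nat_lit 47,nat_lit 44,nat_lit 45,nat_lit 10,nat_lit 11,nat_lit 8,nat_lit 9,nat_lit 36,nat_lit 37,nat_lit 39,nat_lit 38] (Cert.kw (nat_lit 2) (nat_lit 0) (nat_lit 2) (nat_lit 1) )))) Cert.nil))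 (Cert.rep (nat_lit 76) [nat_lit 16,nat_lit 70] [] [] (Cert.rep (nat_lit 96) [] [] [] (Cert.er (Cert.ro (nat_lit 0) [nat_lit 1,nat_lit 8,nat_lit 16] [nat_lit 8,nat_lit 9,nat_lit 16] [nat_lit 0,nat_lit 1,nat_lit 76,nat_lit 77,nat_lit 10,nat_lit 11,nat_lit 71,nat_lit 70] (Cert.ro (nat_lit 1) [nat_lit 1,nat_lit 2,nat_lit 14,nat_lit 16] [nat_lit 1,nat_lit 14,nat_lit 12,nat_lit 16] [nat_lit 0,nat_lit 1,nat_lit 2,nat_lit 3,nat_lit 47,nat_lit 46,nat_lit 44,nat_lit 45,nat_lit 10,nat_lit 11,nat_lit 9,nat_lit 8,nat_lit 37,nat_lit 36,nat_lit 39,nat_lit 38] (Cert.lf (Leaf.st (nat_lit 2) (nat_lit 1) (nat_lit 1) (Leaf.cf (nat_lit 1))))))) (Cert.rep (nat_lit 104) [] [] [] (Cert.er (Cert.ro (nat_lit 0) [nat_lit 1,nat_lit 8,nat_lit 16] [nat_lit 8,nat_lit 9,nat_lit 16] [nat_lit 0,nat_lit 1,nat_lit 76,nat_lit 77,nat_lit 10,nat_lit 11,nat_lit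 71,nat_lit 70] (Cert.ro (nat_lit 1) [nat_lit 1,nat_lit 2,nat_lit 14,nat_lit 16] [nat_lit 1,nat_lit 14,nat_lit 12,nat_lit 16] [nat_lit 0,nat_lit 1,nat_lit 3,nat_lit 2,nat_lit 39,nat_lit 38,nat_lit 37,nat_lit 36,nat_lit 10,nat_lit 11,nat_lit 8,nat_lit 9,nat_lit 44,nat_lit 45,nat_lit 47,nat_lit 46] (Cert.lf (Leaf.st (nat_lit 2) (nat_lit 1) (nat_lit 1) (Leaf.cf (nat_lit 1))))))) Cert.nil)) (Cert.rep (nat_lit 84) [nat_lit 16,nat_lit 68] [] [] (Cert.rep (nat_lit 112) [] [] [] (Cert.er (Cert.ro (nat_lit 0) [nat_lit 1,nat_lit 8,nat_lit 16] [nat_lit 8,nat_lit 9,nat_lit 16] [nat_lit 0,nat_lit 1,nat_lit 84,nat_lit 85,nat_lit 10,nat_lit 11,nat_lit 94,nat_lit 95] (Cert.ro (nat_lit 1) [nat_lit 1,nat_lit 2,nat_lit 14,nat_lit 16] [nat_lit 1,nat_lit 14,nat_lit 12,nat_lit 16] [nat_lit 0,nat_lit 1,nat_lit 3,nat_lit 2,nat_lit 39,nat_lit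 38,nat_lit 37,nat_lit 36,nat_lit 10,nat_lit 11,nat_lit 8,nat_lit 9,nat_lit 44,nat_lit 45,nat_lit 47,nat_lit 46] (Cert.lf (Leaf.st (nat_lit 2) (nat_lit 1) (nat_lit 1) (Leaf.cf (nat_lit 1))))))) (Cert.rep (nat_lit 120) [] [] [] (Cert.er (Cert.ro (nat_lit 0) [nat_lit 1,nat_lit 8,nat_lit 16] [nat_lit 8,nat_lit 9,nat_lit 16] [nat_lit 0,nat_lit 1,nat_lit 84,nat_lit 85,nat_lit 10,nat_lit 11,nat_lit 94,nat_lit 95] (Cert.ro (nat_lit 1) [nat_lit 1,nat_lit 2,nat_lit 14,nat_lit 16] [nat_lit 1,nat_lit 14,nat_lit 12,nat_lit 16] [nat_lit 0,nat_lit 1,nat_lit 2,nat_lit 3,nat_lit 46,nat_lit 47,nat_lit 45,nat_lit 44,nat_lit 10,nat_lit 11,nat_lit 9,nat_lit 8,nat_lit 36,nat_lit 37,nat_lit 38,nat_lit 39] (Cert.lf (Leaf.st (nat_lit 2) (nat_lit 1) (nat_lit 1) (Leaf.cf (nat_lit 1))))))) Cert.nil)) (Cert.rep (nat_lit 92) [nat_lit 16,nat_lit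 70] [] [] (Cert.rep (nat_lit 112) [] [] [] (Cert.er (Cert.ro (nat_lit 0) [nat_lit 1,nat_lit 8,nat_lit 16] [nat_lit 8,nat_lit 9,nat_lit 16] [nat_lit 0,nat_lit 1,nat_lit 92,nat_lit 93,nat_lit 10,nat_lit 11,nat_lit 87,nat_lit 86] (Cert.ro (nat_lit 1) [nat_lit 1,nat_lit 2,nat_lit 14,nat_lit 16] [nat_lit 1,nat_lit 14,nat_lit 12,nat_lit 16] [nat_lit 0,nat_lit 1,nat_lit 3,nat_lit 2,nat_lit 47,nat_lit 46,nat_lit 45,nat_lit 44,nat_lit 10,nat_lit 11,nat_lit 8,nat_lit 9,nat_lit 37,nat_lit 36,nat_lit 38,nat_lit 39] (Cert.kw (nat_lit 2) (nat_lit 0) (nat_lit 2) (nat_lit 1) )))) (Cert.rep (nat_lit 120) [] [] [] (Cert.er (Cert.ro (nat_lit 0) [nat_lit 1,nat_lit 8,nat_lit 16] [nat_lit 8,nat_lit 9,nat_lit 16] [nat_lit 0,nat_lit 1,nat_lit 92,nat_lit 93,nat_lit 10,nat_lit 11,nat_lit 87,nat_lit 86] (Cert.ro (nat_lit 1) [nat_lit 1,nat_lit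 2,nat_lit 14,nat_lit 16] [nat_lit 1,nat_lit 14,nat_lit 12,nat_lit 16] [nat_lit 0,nat_lit 1,nat_lit 2,nat_lit 3,nat_lit 39,nat_lit 38,nat_lit 36,nat_lit 37,nat_lit 10,nat_lit 11,nat_lit 9,nat_lit 8,nat_lit 44,nat_lit 45,nat_lit 46,nat_lit 47] (Cert.kw (nat_lit 2) (nat_lit 0) (nat_lit 2) (nat_lit 1) )))) Cert.nil)) Cert.nil)))))))))) (Cert.rep (nat_lit 76) [nat_lit 10,nat_lit 34] [nat_lit 70,nat_lit 34,nat_lit 16,nat_lit 10,nat_lit 1] [nat_lit 512,nat_lit 256,nat_lit 128,nat_lit 4,nat_lit 2] (Cert.rep (nat_lit 1) [] [] [] Cert.nil (Cert.rep (nat_lit 10) [] [] [] Cert.nil (Cert.rep (nat_lit 16) [] [] [] Cert.nil (Cert.rep (nat_lit 26) [] [] [] Cert.nil (Cert.rep (nat_lit 27) [] [] [] Cert.nil (Cert.rep (nat_lit 40) [] [] [] Cert.nil (Cert.rep (nat_lit 50) [] [] [] Cert.nil (Cert.rep (nat_lit 70) [] [] [] Cert.nil (Cert.rep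 (nat_lit 77) [] [] [] Cert.nil (Cert.rep (nat_lit 86) [] [] [] Cert.nil (Cert.rep (nat_lit 87) [] [] [] Cert.nil (Cert.rep (nat_lit 92) [] [] [] Cert.nil (Cert.rep (nat_lit 100) [] [] [] Cert.nil (Cert.rep (nat_lit 126) [] [] [] Cert.nil Cert.nil)))))))))))))) Cert.nil)
noncomputable def f204_1 : Cert :=
  Cert.s2 (nat_lit 0) (nat_lit 68) (Cert.o1 (nat_lit 0) (nat_lit 68) (Cert.fu (nat_lit 10) (nat_lit 1) (nat_lit 0) (nat_lit 0) [] [nat_lit 68,nat_lit 1,nat_lit 16,nat_lit 32,nat_lit 128] [] [] [] [nat_lit 1] [[nat_lit 1]] [[nat_lit 68]] [Ins.fr [nat_lit 0],Ins.ts (nat_lit 3) [nat_lit 0] [],Ins.ts (nat_lit 4) [nat_lit 0] [nat_lit 0,nat_lit 0,nat_lit 0],Ins.ts (nat_lit 1) [nat_lit 0] [],Ins.fr [nat_lit 1],Ins.ts (nat_lit 3) [nat_lit 0] [],Ins.ts (nat_lit 0) [nat_lit 0,nat_lit 0] [],Ins.ts (nat_lit 1) [nat_lit 0] [],Ins.ts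 (nat_lit 1) [nat_lit 0,nat_lit 1] [],Ins.fr [nat_lit 2],Ins.ts (nat_lit 2) [nat_lit 0] [],Ins.ts (nat_lit 0) [nat_lit 0,nat_lit 0] [],Ins.ts (nat_lit 1) [nat_lit 0] [],Ins.ts (nat_lit 0) [nat_lit 1,nat_lit 0] [nat_lit 0,nat_lit 1],Ins.ts (nat_lit 1) [nat_lit 0,nat_lit 3] [],Ins.ts (nat_lit 1) [nat_lit 0,nat_lit 2,nat_lit 3] [],Ins.ts (nat_lit 1) [nat_lit 0,nat_lit 1,nat_lit 3] [],Ins.ts (nat_lit 1) [nat_lit 0,nat_lit 1,nat_lit 2,nat_lit 3] [],Ins.fr [nat_lit 1,nat_lit 3],Ins.ts (nat_lit 0) [nat_lit 0,nat_lit 0] [],Ins.ts (nat_lit 2) [nat_lit 0] [],Ins.fr [nat_lit 1,nat_lit 0,nat_lit 4],Ins.ts (nat_lit 0) [nat_lit 2,nat_lit 1] [nat_lit 0,nat_lit 0],Ins.ts (nat_lit 0) [nat_lit 1,nat_lit 0] [nat_lit 0,nat_lit 2]] [] (Cert.rep (nat_lit 10) [] [nat_lit 68,nat_lit 36,nat_lit 16,nat_lit 8,nat_lit 2,nat_lit 1] [nat_lit 512,nat_lit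 256,nat_lit 128,nat_lit 4] (Cert.rep (nat_lit 1) [nat_lit 2,nat_lit 16,nat_lit 36,nat_lit 68] [] [] (Cert.rep (nat_lit 26) [nat_lit 2,nat_lit 68] [] [] (Cert.rep (nat_lit 76) [] [] [] Cert.nil (Cert.rep (nat_lit 78) [] [] [] Cert.nil (Cert.rep (nat_lit 84) [] [] [] Cert.nil (Cert.rep (nat_lit 86) [] [] [] Cert.nil Cert.nil)))) (Cert.rep (nat_lit 52) [] [] [] Cert.nil (Cert.rep (nat_lit 68) [] [] [] (Cert.rep (nat_lit 16) [] [] [] Cert.nil (Cert.rep (nat_lit 17) [] [] [] Cert.nil (Cert.rep (nat_lit 84) [] [] [] Cert.nil (Cert.rep (nat_lit 85) [] [] [] Cert.nil Cert.nil)))) (Cert.rep (nat_lit 92) [] [] [] (Cert.rep (nat_lit 16) [] [] [] Cert.nil (Cert.rep (nat_lit 17) [] [] [] Cert.nil (Cert.rep (nat_lit 76) [] [] [] Cert.nil (Cert.rep (nat_lit 77) [] [] [] Cert.nil Cert.nil)))) Cert.nil)))) Cert.nil) (Cert.rep (nat_lit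 76) [] [nat_lit 70,nat_lit 34,nat_lit 16,nat_lit 10,nat_lit 1] [nat_lit 512,nat_lit 256,nat_lit 128,nat_lit 4,nat_lit 2] (Cert.rep (nat_lit 1) [nat_lit 10,nat_lit 34] [] [] (Cert.rep (nat_lit 26) [nat_lit 10,nat_lit 34] [] [] (Cert.rep (nat_lit 10) [] [] [] Cert.nil (Cert.rep (nat_lit 16) [] [] [] Cert.nil (Cert.rep (nat_lit 100) [] [] [] Cert.nil (Cert.rep (nat_lit 126) [] [] [] Cert.nil Cert.nil)))) (Cert.rep (nat_lit 27) [nat_lit 10,nat_lit 34] [] [] (Cert.rep (nat_lit 10) [] [] [] Cert.nil (Cert.rep (nat_lit 16) [] [] [] Cert.nil (Cert.rep (nat_lit 100) [] [] [] Cert.nil (Cert.rep (nat_lit 126) [] [] [] Cert.nil Cert.nil)))) (Cert.rep (nat_lit 40) [] [] [] (Cert.rep (nat_lit 86) [nat_lit 76] [] [] (Cert.rep (nat_lit 390) [] [] [] Cert.nil (Cert.rep (nat_lit 391) [] [] [] Cert.nil (Cert.rep (nat_lit 413) [] []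 [] Cert.nil (Cert.rep (nat_lit 412) [] [] [] Cert.nil Cert.nil)))) (Cert.rep (nat_lit 87) [nat_lit 76] [] [] (Cert.rep (nat_lit 390) [] [] [] Cert.nil (Cert.rep (nat_lit 391) [] [] [] Cert.nil (Cert.rep (nat_lit 413) [] [] [] Cert.nil (Cert.rep (nat_lit 412) [] [] [] Cert.nil Cert.nil)))) (Cert.rep (nat_lit 126) [nat_lit 76] [] [] (Cert.rep (nat_lit 390) [] [] [] Cert.nil (Cert.rep (nat_lit 391) [] [] [] Cert.nil (Cert.rep (nat_lit 413) [] [] [] Cert.nil (Cert.rep (nat_lit 412) [] [] [] Cert.nil Cert.nil)))) (Cert.rep (nat_lit 127) [nat_lit 76] [] [] (Cert.rep (nat_lit 390) [] [] [] Cert.nil (Cert.rep (nat_lit 391) [] [] [] Cert.nil (Cert.rep (nat_lit 413) [] [] [] Cert.nil (Cert.rep (nat_lit 412) [] [] [] Cert.nil Cert.nil)))) Cert.nil)))) (Cert.rep (nat_lit 50) [] [] [] (Cert.rep (nat_lit 86) [] [] [] Cert.nil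 (Cert.rep (nat_lit 87) [] [] [] Cert.nil (Cert.rep (nat_lit 100) [] [] [] Cert.nil (Cert.rep (nat_lit 101) [] [] [] Cert.nil Cert.nil)))) (Cert.rep (nat_lit 70) [] [] [] (Cert.rep (nat_lit 16) [] [] [] Cert.nil (Cert.rep (nat_lit 17) [] [] [] Cert.nil (Cert.rep (nat_lit 86) [] [] [] Cert.nil (Cert.rep (nat_lit 87) [] [] [] Cert.nil Cert.nil)))) (Cert.rep (nat_lit 92) [] [] [] (Cert.rep (nat_lit 10) [] [] [] Cert.nil (Cert.rep (nat_lit 11) [] [] [] Cert.nil (Cert.rep (nat_lit 86) [] [] [] Cert.nil (Cert.rep (nat_lit 87) [] [] [] Cert.nil Cert.nil)))) Cert.nil)))))) Cert.nil) Cert.nil)))) (Cert.s2 (nat_lit 0) (nat_lit 92) (Cert.o1 (nat_lit 0) (nat_lit 92) (Cert.fu (nat_lit 10) (nat_lit 1) (nat_lit 0) (nat_lit 0) [] [nat_lit 92,nat_lit 1,nat_lit 16,nat_lit 32,nat_lit 130] [] [] [] [nat_lit 1] [[nat_lit 1]] [[nat_lit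 92]] [Ins.fr [nat_lit 0],Ins.ts (nat_lit 3) [nat_lit 0] [],Ins.ts (nat_lit 4) [nat_lit 0] [nat_lit 0,nat_lit 0,nat_lit 0],Ins.ts (nat_lit 1) [nat_lit 0] [],Ins.fr [nat_lit 1],Ins.ts (nat_lit 3) [nat_lit 0] [],Ins.ts (nat_lit 0) [nat_lit 0,nat_lit 0] [],Ins.ts (nat_lit 1) [nat_lit 0] [],Ins.ts (nat_lit 4) [nat_lit 0] [nat_lit 0,nat_lit 0,nat_lit 1],Ins.ts (nat_lit 1) [nat_lit 0,nat_lit 1] [],Ins.fr [nat_lit 2],Ins.ts (nat_lit 2) [nat_lit 0] [],Ins.ts (nat_lit 0) [nat_lit 0,nat_lit 0] [],Ins.ts (nat_lit 1) [nat_lit 0] [],Ins.ts (nat_lit 0) [nat_lit 1,nat_lit 0] [nat_lit 0,nat_lit 1],Ins.ts (nat_lit 1) [nat_lit 0,nat_lit 3] [],Ins.ts (nat_lit 4) [nat_lit 0,nat_lit 1,nat_lit 2,nat_lit 3] [nat_lit 0,nat_lit 0,nat_lit 2],Ins.ts (nat_lit 4) [nat_lit 0,nat_lit 2,nat_lit 3] [nat_lit 0,nat_lit 0,nat_lit 2],Ins.ts (nat_lit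 1) [nat_lit 0,nat_lit 2,nat_lit 3] [],Ins.ts (nat_lit 1) [nat_lit 0,nat_lit 1,nat_lit 2,nat_lit 3] [],Ins.fr [nat_lit 1,nat_lit 3],Ins.ts (nat_lit 0) [nat_lit 0,nat_lit 0] [],Ins.ts (nat_lit 2) [nat_lit 0] [],Ins.fr [nat_lit 1,nat_lit 0,nat_lit 4],Ins.ts (nat_lit 0) [nat_lit 0,nat_lit 2,nat_lit 0] [nat_lit 2],Ins.ts (nat_lit 0) [nat_lit 1,nat_lit 2] [nat_lit 0,nat_lit 0]] [(nat_lit 2,nat_lit 0),(nat_lit 3,nat_lit 0)] (Cert.rep (nat_lit 10) [] [nat_lit 68,nat_lit 36,nat_lit 16,nat_lit 8,nat_lit 2,nat_lit 1] [nat_lit 512,nat_lit 256,nat_lit 128,nat_lit 4] (Cert.rep (nat_lit 1) [nat_lit 2,nat_lit 16,nat_lit 36,nat_lit 68] [] [] (Cert.rep (nat_lit 26) [] [] [] Cert.nil (Cert.rep (nat_lit 52) [] [] [] Cert.nil (Cert.rep (nat_lit 92) [] [] [] (Cert.rep (nat_lit 16) [] [] [] Cert.nil (Cert.rep (nat_lit 17) [] [] [] Cert.nil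 (Cert.rep (nat_lit 76) [] [] [] Cert.nil (Cert.rep (nat_lit 77) [] [] [] Cert.nil Cert.nil)))) Cert.nil))) Cert.nil) (Cert.rep (nat_lit 76) [] [nat_lit 70,nat_lit 34,nat_lit 16,nat_lit 10,nat_lit 1] [nat_lit 512,nat_lit 256,nat_lit 128,nat_lit 4,nat_lit 2] (Cert.rep (nat_lit 1) [nat_lit 10,nat_lit 34] [] [] (Cert.rep (nat_lit 26) [nat_lit 10] [] [] (Cert.rep (nat_lit 100) [] [] [] Cert.nil (Cert.rep (nat_lit 126) [] [] [] Cert.nil Cert.nil)) (Cert.rep (nat_lit 27) [nat_lit 10] [] [] (Cert.rep (nat_lit 100) [] [] [] Cert.nil (Cert.rep (nat_lit 126) [] [] [] Cert.nil Cert.nil)) (Cert.rep (nat_lit 40) [] [] [] (Cert.rep (nat_lit 86) [nat_lit 76] [] [] (Cert.rep (nat_lit 390) [] [] [] Cert.nil (Cert.rep (nat_lit 391) [] [] [] Cert.nil (Cert.rep (nat_lit 413) [] [] [] Cert.nil (Cert.rep (nat_lit 412) [] [] [] Cert.nil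 Cert.nil)))) (Cert.rep (nat_lit 87) [nat_lit 76] [] [] (Cert.rep (nat_lit 390) [] [] [] Cert.nil (Cert.rep (nat_lit 391) [] [] [] Cert.nil (Cert.rep (nat_lit 413) [] [] [] Cert.nil (Cert.rep (nat_lit 412) [] [] [] Cert.nil Cert.nil)))) (Cert.rep (nat_lit 126) [nat_lit 76] [] [] (Cert.rep (nat_lit 390) [] [] [] Cert.nil (Cert.rep (nat_lit 391) [] [] [] Cert.nil (Cert.rep (nat_lit 413) [] [] [] Cert.nil (Cert.rep (nat_lit 412) [] [] [] Cert.nil Cert.nil)))) (Cert.rep (nat_lit 127) [nat_lit 76] [] [] (Cert.rep (nat_lit 390) [] [] [] Cert.nil (Cert.rep (nat_lit 391) [] [] [] Cert.nil (Cert.rep (nat_lit 413) [] [] [] Cert.nil (Cert.rep (nat_lit 412) [] [] [] Cert.nil Cert.nil)))) Cert.nil)))) (Cert.rep (nat_lit 50) [] [] [] (Cert.rep (nat_lit 86) [] [] [] Cert.nil (Cert.rep (nat_lit 87) [] [] [] Cert.nil (Cert.rep (nat_lit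 100) [] [] [] Cert.nil (Cert.rep (nat_lit 101) [] [] [] Cert.nil Cert.nil)))) (Cert.rep (nat_lit 92) [] [] [] (Cert.rep (nat_lit 10) [] [] [] Cert.nil (Cert.rep (nat_lit 11) [] [] [] Cert.nil (Cert.rep (nat_lit 86) [] [] [] Cert.nil (Cert.rep (nat_lit 87) [] [] [] Cert.nil Cert.nil)))) Cert.nil))))) Cert.nil) Cert.nil)))) (Cert.root (nat_lit 32) [] [nat_lit 8,nat_lit 4] [nat_lit 0,nat_lit 1,nat_lit 2,nat_lit 3,nat_lit 4] [Ins.fr [nat_lit 0],Ins.ts (nat_lit 0) [nat_lit 0,nat_lit 0] [],Ins.ts (nat_lit 1) [nat_lit 0] [],Ins.ts (nat_lit 1) [nat_lit 0,nat_lit 1] [],Ins.fr [nat_lit 1],Ins.ts (nat_lit 1) [nat_lit 0,nat_lit 0] [],Ins.ts (nat_lit 1) [nat_lit 0,nat_lit 0,nat_lit 0,nat_lit 0] [],Ins.ts (nat_lit 0) [nat_lit 1,nat_lit 0,nat_lit 1] [nat_lit 0,nat_lit 0,nat_lit 0],Ins.df [nat_lit 0,nat_lit 0],Ins.df [nat_lit 0,nat_lit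 0]] f204_0))
noncomputable def f204 : Cert :=
  (Cert.st (nat_lit 0) (nat_lit 10) (nat_lit 0) (Cert.st (nat_lit 0) (nat_lit 76) (nat_lit 0) (Cert.sp (nat_lit 1) (Cert.lf (Leaf.pt (nat_lit 9) (nat_lit 1) [nat_lit 10])) (Cert.sp (nat_lit 26) (Cert.lf (Leaf.pt (nat_lit 9) (nat_lit 26) [nat_lit 10])) (Cert.st (nat_lit 0) (nat_lit 26) (nat_lit 0) (Cert.sp (nat_lit 28) (Cert.lf (Leaf.pt (nat_lit 9) (nat_lit 28) [nat_lit 12])) (Cert.st (nat_lit 0) (nat_lit 28) (nat_lit 0) (Cert.sp (nat_lit 40) (Cert.lf (Leaf.pt (nat_lit 9) (nat_lit 40) [nat_lit 76])) (Cert.st (nat_lit 0) (nat_lit 40) (nat_lit 0) (Cert.sp (nat_lit 68) (Cert.lf (Leaf.pt (nat_lit 9) (nat_lit 68) [nat_lit 10])) (Cert.st (nat_lit 0) (nat_lit 68) (nat_lit 0) (Cert.sp (nat_lit 92) (Cert.lf (Leaf.pt (nat_lit 9) (nat_lit 92) [nat_lit 10])) (Cert.st (nat_lit 0) (nat_lit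 92) (nat_lit 0) (Cert.sp (nat_lit 138) (Cert.lf (Leaf.pt (nat_lit 12) (nat_lit 138) [nat_lit 28,nat_lit 320])) (Cert.st (nat_lit 0) (nat_lit 138) (nat_lit 0) (Cert.sp (nat_lit 140) (Cert.lf (Leaf.pt (nat_lit 12) (nat_lit 140) [nat_lit 26,nat_lit 586])) (Cert.st (nat_lit 0) (nat_lit 140) (nat_lit 0) (Cert.sp (nat_lit 204) (Cert.lf (Leaf.pt (nat_lit 13) (nat_lit 204) [nat_lit 70])) (Cert.st (nat_lit 0) (nat_lit 204) (nat_lit 0) (Cert.sp (nat_lit 460) (Cert.lf (Leaf.pt (nat_lit 12) (nat_lit 460) [nat_lit 40,nat_lit 522])) (Cert.st (nat_lit 0) (nat_lit 460) (nat_lit 0) (Cert.sp (nat_lit 584) (Cert.lf (Leaf.pt (nat_lit 23) (nat_lit 584) [nat_lit 40,nat_lit 24,nat_lit 462])) (Cert.st (nat_lit 0) (nat_lit 584) (nat_lit 0) (Cert.nl (nat_lit 1) (Cert.sy (nat_lit 0) f204_1)))))))))))))))))))))))))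
theorem fin204 : finOK DB PT 88 t88 204 t204 (nat_lit 0x3c000000003c000000000000000000000000000000000000000000000000000000000000000000000033000033000000000000000000000000f00000f00003f0f003f00c0cf00000000000000000000c03000300000cf00000000000f000fc0000fc00fcfc00f00000f0f0f0f0f0fcfc0303fc03fc03) f204 = true := by
  decide +kernel
noncomputable def f253_0 : Cert :=
  Cert.rep (nat_lit 64) [] [] [] (Cert.er (Cert.ro (nat_lit 0) [nat_lit 1,nat_lit 8,nat_lit 16] [nat_lit 8,nat_lit 9,nat_lit 16] [nat_lit 0,nat_lit 1,nat_lit 8,nat_lit 9,nat_lit 16,nat_lit 17,nat_lit 24,nat_lit 25] (Cert.ro (nat_lit 1) [nat_lit 1,nat_lit 2,nat_lit 14,nat_lit 16] [nat_lit 1,nat_lit 14,nat_lit 12,nat_lit 16] [nat_lit 0,nat_lit 1,nat_lit 51,nat_lit 50,nat_lit 72,nat_lit 73,nat_lit 123,nat_lit 122,nat_lit 16,nat_lit 17,nat_lit 35,nat_lit 34,nat_lit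 88,nat_lit 89,nat_lit 107,nat_lit 106] (Cert.lw (nat_lit 0) (nat_lit 2) (nat_lit 1) (Cert.s2 (nat_lit 0) (nat_lit 48) (Cert.o1 (nat_lit 0) (nat_lit 48) (Cert.fu (nat_lit 48) (nat_lit 1) (nat_lit 0) (nat_lit 0) [nat_lit 0] [nat_lit 2,nat_lit 18] [] [] [] [nat_lit 1] [[nat_lit 1]] [[nat_lit 48]] [Ins.ts (nat_lit 1) [nat_lit 0] [],Ins.fr [nat_lit 0],Ins.ts (nat_lit 1) [nat_lit 0,nat_lit 0] [],Ins.ts (nat_lit 1) [nat_lit 0,nat_lit 0,nat_lit 1] [],Ins.ts (nat_lit 0) [nat_lit 0,nat_lit 0,nat_lit 0,nat_lit 0] [],Ins.fr [nat_lit 1],Ins.ts (nat_lit 0) [nat_lit 1,nat_lit 1] [nat_lit 0,nat_lit 0],Ins.ts (nat_lit 2) [nat_lit 0,nat_lit 1] [],Ins.ts (nat_lit 0) [nat_lit 1,nat_lit 0] [nat_lit 0,nat_lit 1],Ins.ts (nat_lit 1) [nat_lit 0,nat_lit 1] []] [] (Cert.rep (nat_lit 1) [nat_lit 4,nat_lit 8,nat_lit 16,nat_lit 64] [nat_lit 64,nat_lit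 32,nat_lit 16,nat_lit 8,nat_lit 4,nat_lit 2,nat_lit 1] [] (Cert.rep (nat_lit 76) [] [] [] Cert.nil (Cert.rep (nat_lit 92) [] [] [] Cert.nil Cert.nil)) Cert.nil))) (Cert.o1 (nat_lit 0) (nat_lit 8) (Cert.fu (nat_lit 8) (nat_lit 1) (nat_lit 0) (nat_lit 0) [nat_lit 0] [nat_lit 25,nat_lit 57,nat_lit 9] [] [] [] [nat_lit 1] [[nat_lit 1]] [[nat_lit 8]] [Ins.ts (nat_lit 1) [nat_lit 0] [],Ins.fr [nat_lit 0],Ins.ts (nat_lit 0) [nat_lit 0,nat_lit 0] [],Ins.ts (nat_lit 2) [nat_lit 0] [],Ins.ts (nat_lit 1) [nat_lit 0] [],Ins.fr [nat_lit 1],Ins.ts (nat_lit 0) [nat_lit 0,nat_lit 0] [],Ins.ts (nat_lit 3) [nat_lit 0] [],Ins.ts (nat_lit 0) [nat_lit 1,nat_lit 0] [nat_lit 0,nat_lit 1],Ins.ts (nat_lit 2) [nat_lit 0,nat_lit 1] [],Ins.ts (nat_lit 1) [nat_lit 0] [],Ins.ts (nat_lit 4) [nat_lit 0,nat_lit 2] [nat_lit 0,nat_lit 0,nat_lit 1],Ins.ts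 (nat_lit 4) [nat_lit 0] [nat_lit 0,nat_lit 0,nat_lit 2],Ins.ts (nat_lit 1) [nat_lit 0,nat_lit 2] [],Ins.ts (nat_lit 1) [nat_lit 0,nat_lit 1] [],Ins.fr [nat_lit 2],Ins.ts (nat_lit 0) [nat_lit 0,nat_lit 0] [],Ins.ts (nat_lit 3) [nat_lit 0] [],Ins.ts (nat_lit 0) [nat_lit 1,nat_lit 0] [nat_lit 0,nat_lit 1],Ins.ts (nat_lit 1) [nat_lit 0] [],Ins.ts (nat_lit 0) [nat_lit 2,nat_lit 0] [nat_lit 0,nat_lit 2],Ins.ts (nat_lit 3) [nat_lit 0,nat_lit 1] [],Ins.ts (nat_lit 1) [nat_lit 0,nat_lit 3] [],Ins.ts (nat_lit 1) [nat_lit 0,nat_lit 1] [],Ins.ts (nat_lit 2) [nat_lit 0,nat_lit 2] [],Ins.ts (nat_lit 1) [nat_lit 0,nat_lit 1,nat_lit 3] [],Ins.ts (nat_lit 1) [nat_lit 0,nat_lit 2] []] [(nat_lit 3,nat_lit 0),(nat_lit 2,nat_lit 0)] (Cert.rep (nat_lit 1) [nat_lit 2,nat_lit 4,nat_lit 8,nat_lit 16,nat_lit 32,nat_lit 64] [nat_lit 64,nat_lit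 32,nat_lit 16,nat_lit 8,nat_lit 4,nat_lit 2,nat_lit 1] [] (Cert.rep (nat_lit 16) [nat_lit 8,nat_lit 32,nat_lit 64] [] [] (Cert.rep (nat_lit 74) [] [] [] Cert.nil (Cert.rep (nat_lit 90) [] [] [] Cert.nil Cert.nil)) (Cert.rep (nat_lit 24) [] [] [] Cert.nil (Cert.rep (nat_lit 28) [nat_lit 32,nat_lit 70] [] [] (Cert.rep (nat_lit 60) [] [] [] Cert.nil (Cert.rep (nat_lit 70) [] [] [] Cert.nil (Cert.rep (nat_lit 90) [] [] [] Cert.nil (Cert.rep (nat_lit 104) [] [] [] Cert.nil (Cert.rep (nat_lit 116) [] [] [] Cert.nil Cert.nil))))) (Cert.rep (nat_lit 32) [nat_lit 2,nat_lit 4,nat_lit 8] [] [] (Cert.rep (nat_lit 60) [] [] [] Cert.nil Cert.nil) (Cert.rep (nat_lit 68) [nat_lit 12,nat_lit 34] [] [] (Cert.rep (nat_lit 60) [] [] [] Cert.nil (Cert.rep (nat_lit 90) [] [] [] Cert.nil Cert.nil)) (Cert.rep (nat_lit 70) [nat_lit 14,nat_lit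 34] [] [] (Cert.rep (nat_lit 62) [] [] [] Cert.nil (Cert.rep (nat_lit 90) [] [] [] Cert.nil Cert.nil)) (Cert.rep (nat_lit 74) [nat_lit 2,nat_lit 44] [] [] (Cert.rep (nat_lit 60) [] [] [] Cert.nil (Cert.rep (nat_lit 62) [] [] [] Cert.nil (Cert.rep (nat_lit 90) [] [] [] Cert.nil Cert.nil))) (Cert.rep (nat_lit 90) [nat_lit 2,nat_lit 12] [] [] (Cert.rep (nat_lit 68) [] [] [] Cert.nil (Cert.rep (nat_lit 70) [] [] [] Cert.nil (Cert.rep (nat_lit 74) [] [] [] Cert.nil Cert.nil))) Cert.nil)))))))) Cert.nil)))))))) (Cert.rep (nat_lit 80) [] [] [] (Cert.er (Cert.ro (nat_lit 0) [nat_lit 1,nat_lit 8,nat_lit 16] [nat_lit 8,nat_lit 9,nat_lit 16] [nat_lit 0,nat_lit 1,nat_lit 8,nat_lit 9,nat_lit 16,nat_lit 17,nat_lit 24,nat_lit 25] (Cert.ro (nat_lit 1) [nat_lit 1,nat_lit 2,nat_lit 14,nat_lit 16] [nat_lit 1,nat_lit 14,nat_lit 12,nat_lit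 16] [nat_lit 0,nat_lit 1,nat_lit 51,nat_lit 50,nat_lit 88,nat_lit 89,nat_lit 107,nat_lit 106,nat_lit 16,nat_lit 17,nat_lit 35,nat_lit 34,nat_lit 72,nat_lit 73,nat_lit 123,nat_lit 122] (Cert.lw (nat_lit 0) (nat_lit 2) (nat_lit 1) (Cert.s2 (nat_lit 0) (nat_lit 48) (Cert.o1 (nat_lit 0) (nat_lit 48) (Cert.fu (nat_lit 48) (nat_lit 1) (nat_lit 0) (nat_lit 0) [nat_lit 0] [nat_lit 2,nat_lit 18] [] [] [] [nat_lit 1] [[nat_lit 1]] [[nat_lit 48]] [Ins.ts (nat_lit 1) [nat_lit 0] [],Ins.fr [nat_lit 0],Ins.ts (nat_lit 1) [nat_lit 0,nat_lit 0] [],Ins.ts (nat_lit 1) [nat_lit 0,nat_lit 0,nat_lit 1] [],Ins.ts (nat_lit 0) [nat_lit 0,nat_lit 0,nat_lit 0,nat_lit 0] [],Ins.fr [nat_lit 1],Ins.ts (nat_lit 0) [nat_lit 1,nat_lit 1] [nat_lit 0,nat_lit 0],Ins.ts (nat_lit 2) [nat_lit 0,nat_lit 1] [],Ins.ts (nat_lit 0) [nat_lit 1,nat_lit 0] [nat_lit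 0,nat_lit 1],Ins.ts (nat_lit 1) [nat_lit 0,nat_lit 1] []] [] (Cert.rep (nat_lit 1) [nat_lit 4,nat_lit 8,nat_lit 16,nat_lit 64] [nat_lit 64,nat_lit 32,nat_lit 16,nat_lit 8,nat_lit 4,nat_lit 2,nat_lit 1] [] (Cert.rep (nat_lit 76) [] [] [] Cert.nil (Cert.rep (nat_lit 92) [] [] [] Cert.nil Cert.nil)) Cert.nil))) (Cert.o1 (nat_lit 0) (nat_lit 8) (Cert.fu (nat_lit 8) (nat_lit 1) (nat_lit 0) (nat_lit 0) [nat_lit 0] [nat_lit 25,nat_lit 57,nat_lit 9] [] [] [] [nat_lit 1] [[nat_lit 1]] [[nat_lit 8]] [Ins.ts (nat_lit 1) [nat_lit 0] [],Ins.fr [nat_lit 0],Ins.ts (nat_lit 0) [nat_lit 0,nat_lit 0] [],Ins.ts (nat_lit 2) [nat_lit 0] [],Ins.ts (nat_lit 1) [nat_lit 0] [],Ins.fr [nat_lit 1],Ins.ts (nat_lit 0) [nat_lit 0,nat_lit 0] [],Ins.ts (nat_lit 3) [nat_lit 0] [],Ins.ts (nat_lit 0) [nat_lit 1,nat_lit 0] [nat_lit 0,nat_lit 1],Ins.ts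 (nat_lit 2) [nat_lit 0,nat_lit 1] [],Ins.ts (nat_lit 1) [nat_lit 0] [],Ins.ts (nat_lit 4) [nat_lit 0,nat_lit 2] [nat_lit 0,nat_lit 0,nat_lit 1],Ins.ts (nat_lit 4) [nat_lit 0] [nat_lit 0,nat_lit 0,nat_lit 2],Ins.ts (nat_lit 1) [nat_lit 0,nat_lit 2] [],Ins.ts (nat_lit 1) [nat_lit 0,nat_lit 1] [],Ins.fr [nat_lit 2],Ins.ts (nat_lit 0) [nat_lit 0,nat_lit 0] [],Ins.ts (nat_lit 3) [nat_lit 0] [],Ins.ts (nat_lit 0) [nat_lit 1,nat_lit 0] [nat_lit 0,nat_lit 1],Ins.ts (nat_lit 1) [nat_lit 0] [],Ins.ts (nat_lit 0) [nat_lit 2,nat_lit 0] [nat_lit 0,nat_lit 2],Ins.ts (nat_lit 3) [nat_lit 0,nat_lit 1] [],Ins.ts (nat_lit 1) [nat_lit 0,nat_lit 3] [],Ins.ts (nat_lit 1) [nat_lit 0,nat_lit 1] [],Ins.ts (nat_lit 2) [nat_lit 0,nat_lit 2] [],Ins.ts (nat_lit 1) [nat_lit 0,nat_lit 1,nat_lit 3] [],Ins.ts (nat_lit 1) [nat_lit 0,nat_lit 2] []]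 [(nat_lit 3,nat_lit 0),(nat_lit 2,nat_lit 0)] (Cert.rep (nat_lit 1) [nat_lit 2,nat_lit 4,nat_lit 8,nat_lit 16,nat_lit 32,nat_lit 64] [nat_lit 64,nat_lit 32,nat_lit 16,nat_lit 8,nat_lit 4,nat_lit 2,nat_lit 1] [] (Cert.rep (nat_lit 16) [nat_lit 8,nat_lit 32,nat_lit 64] [] [] (Cert.rep (nat_lit 74) [] [] [] Cert.nil (Cert.rep (nat_lit 90) [] [] [] Cert.nil Cert.nil)) (Cert.rep (nat_lit 24) [] [] [] Cert.nil (Cert.rep (nat_lit 28) [nat_lit 32,nat_lit 70] [] [] (Cert.rep (nat_lit 60) [] [] [] Cert.nil (Cert.rep (nat_lit 70) [] [] [] Cert.nil (Cert.rep (nat_lit 90) [] [] [] Cert.nil (Cert.rep (nat_lit 104) [] [] [] Cert.nil (Cert.rep (nat_lit 116) [] [] [] Cert.nil Cert.nil))))) (Cert.rep (nat_lit 32) [nat_lit 2,nat_lit 4,nat_lit 8] [] [] (Cert.rep (nat_lit 60) [] [] [] Cert.nil Cert.nil) (Cert.rep (nat_lit 68) [nat_lit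 12,nat_lit 34] [] [] (Cert.rep (nat_lit 60) [] [] [] Cert.nil (Cert.rep (nat_lit 90) [] [] [] Cert.nil Cert.nil)) (Cert.rep (nat_lit 70) [nat_lit 14,nat_lit 34] [] [] (Cert.rep (nat_lit 62) [] [] [] Cert.nil (Cert.rep (nat_lit 90) [] [] [] Cert.nil Cert.nil)) (Cert.rep (nat_lit 74) [nat_lit 2,nat_lit 44] [] [] (Cert.rep (nat_lit 60) [] [] [] Cert.nil (Cert.rep (nat_lit 62) [] [] [] Cert.nil (Cert.rep (nat_lit 90) [] [] [] Cert.nil Cert.nil))) (Cert.rep (nat_lit 90) [nat_lit 2,nat_lit 12] [] [] (Cert.rep (nat_lit 68) [] [] [] Cert.nil (Cert.rep (nat_lit 70) [] [] [] Cert.nil (Cert.rep (nat_lit 74) [] [] [] Cert.nil Cert.nil))) Cert.nil)))))))) Cert.nil)))))))) Cert.nil)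
noncomputable def f253_1 : Cert :=
  Cert.rep (nat_lit 66) [] [] [] (Cert.er (Cert.ro (nat_lit 0) [nat_lit 1,nat_lit 8,nat_lit 16] [nat_lit 8,nat_lit 9,nat_lit 16] [nat_lit 0,nat_lit 1,nat_lit 10,nat_lit 11,nat_lit 16,nat_lit 17,nat_lit 26,nat_lit 27] (Cert.ro (nat_lit 1) [nat_lit 1,nat_lit 2,nat_lit 14,nat_lit 16] [nat_lit 1,nat_lit 14,nat_lit 12,nat_lit 16] [nat_lit 0,nat_lit 1,nat_lit 51,nat_lit 50,nat_lit 72,nat_lit 73,nat_lit 123,nat_lit 122,nat_lit 16,nat_lit 17,nat_lit 35,nat_lit 34,nat_lit 88,nat_lit 89,nat_lit 107,nat_lit 106] (Cert.lw (nat_lit 0) (nat_lit 2) (nat_lit 1) (Cert.s2 (nat_lit 0) (nat_lit 48) (Cert.o1 (nat_lit 0) (nat_lit 48) (Cert.fu (nat_lit 48) (nat_lit 1) (nat_lit 0) (nat_lit 0) [nat_lit 0] [nat_lit 2,nat_lit 18] [] [] [] [nat_lit 1] [[nat_lit 1]] [[nat_lit 48]] [Ins.ts (nat_lit 1) [nat_lit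 0] [],Ins.fr [nat_lit 0],Ins.ts (nat_lit 1) [nat_lit 0,nat_lit 0] [],Ins.ts (nat_lit 1) [nat_lit 0,nat_lit 0,nat_lit 1] [],Ins.ts (nat_lit 0) [nat_lit 0,nat_lit 0,nat_lit 0,nat_lit 0] [],Ins.fr [nat_lit 1],Ins.ts (nat_lit 0) [nat_lit 1,nat_lit 1] [nat_lit 0,nat_lit 0],Ins.ts (nat_lit 2) [nat_lit 0,nat_lit 1] [],Ins.ts (nat_lit 0) [nat_lit 1,nat_lit 0] [nat_lit 0,nat_lit 1],Ins.ts (nat_lit 1) [nat_lit 0,nat_lit 1] []] [] (Cert.rep (nat_lit 1) [nat_lit 4,nat_lit 8,nat_lit 16,nat_lit 64] [nat_lit 64,nat_lit 32,nat_lit 16,nat_lit 8,nat_lit 4,nat_lit 2,nat_lit 1] [] (Cert.rep (nat_lit 76) [] [] [] Cert.nil (Cert.rep (nat_lit 92) [] [] [] Cert.nil Cert.nil)) Cert.nil))) (Cert.o1 (nat_lit 0) (nat_lit 8) (Cert.fu (nat_lit 8) (nat_lit 1) (nat_lit 0) (nat_lit 0) [nat_lit 0] [nat_lit 25,nat_lit 57,nat_lit 9] [] [] [] [nat_lit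 1] [[nat_lit 1]] [[nat_lit 8]] [Ins.ts (nat_lit 1) [nat_lit 0] [],Ins.fr [nat_lit 0],Ins.ts (nat_lit 0) [nat_lit 0,nat_lit 0] [],Ins.ts (nat_lit 2) [nat_lit 0] [],Ins.ts (nat_lit 1) [nat_lit 0] [],Ins.fr [nat_lit 1],Ins.ts (nat_lit 0) [nat_lit 0,nat_lit 0] [],Ins.ts (nat_lit 3) [nat_lit 0] [],Ins.ts (nat_lit 0) [nat_lit 1,nat_lit 0] [nat_lit 0,nat_lit 1],Ins.ts (nat_lit 2) [nat_lit 0,nat_lit 1] [],Ins.ts (nat_lit 1) [nat_lit 0] [],Ins.ts (nat_lit 4) [nat_lit 0,nat_lit 2] [nat_lit 0,nat_lit 0,nat_lit 1],Ins.ts (nat_lit 4) [nat_lit 0] [nat_lit 0,nat_lit 0,nat_lit 2],Ins.ts (nat_lit 1) [nat_lit 0,nat_lit 2] [],Ins.ts (nat_lit 1) [nat_lit 0,nat_lit 1] [],Ins.fr [nat_lit 2],Ins.ts (nat_lit 0) [nat_lit 0,nat_lit 0] [],Ins.ts (nat_lit 3) [nat_lit 0] [],Ins.ts (nat_lit 0) [nat_lit 1,nat_lit 0] [nat_lit 0,nat_lit 1],Ins.ts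 (nat_lit 1) [nat_lit 0] [],Ins.ts (nat_lit 0) [nat_lit 2,nat_lit 0] [nat_lit 0,nat_lit 2],Ins.ts (nat_lit 3) [nat_lit 0,nat_lit 1] [],Ins.ts (nat_lit 1) [nat_lit 0,nat_lit 3] [],Ins.ts (nat_lit 1) [nat_lit 0,nat_lit 1] [],Ins.ts (nat_lit 2) [nat_lit 0,nat_lit 2] [],Ins.ts (nat_lit 1) [nat_lit 0,nat_lit 1,nat_lit 3] [],Ins.ts (nat_lit 1) [nat_lit 0,nat_lit 2] []] [(nat_lit 3,nat_lit 0),(nat_lit 2,nat_lit 0)] (Cert.rep (nat_lit 1) [nat_lit 2,nat_lit 4,nat_lit 8,nat_lit 16,nat_lit 32,nat_lit 64] [nat_lit 64,nat_lit 32,nat_lit 16,nat_lit 8,nat_lit 4,nat_lit 2,nat_lit 1] [] (Cert.rep (nat_lit 16) [nat_lit 8,nat_lit 32,nat_lit 64] [] [] (Cert.rep (nat_lit 74) [] [] [] Cert.nil (Cert.rep (nat_lit 90) [] [] [] Cert.nil Cert.nil)) (Cert.rep (nat_lit 24) [] [] [] Cert.nil (Cert.rep (nat_lit 28) [nat_lit 32,nat_lit 70] [] []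 (Cert.rep (nat_lit 60) [] [] [] Cert.nil (Cert.rep (nat_lit 70) [] [] [] Cert.nil (Cert.rep (nat_lit 90) [] [] [] Cert.nil (Cert.rep (nat_lit 104) [] [] [] Cert.nil (Cert.rep (nat_lit 116) [] [] [] Cert.nil Cert.nil))))) (Cert.rep (nat_lit 32) [nat_lit 2,nat_lit 4,nat_lit 8] [] [] (Cert.rep (nat_lit 60) [] [] [] Cert.nil Cert.nil) (Cert.rep (nat_lit 68) [nat_lit 12,nat_lit 34] [] [] (Cert.rep (nat_lit 60) [] [] [] Cert.nil (Cert.rep (nat_lit 90) [] [] [] Cert.nil Cert.nil)) (Cert.rep (nat_lit 70) [nat_lit 14,nat_lit 34] [] [] (Cert.rep (nat_lit 62) [] [] [] Cert.nil (Cert.rep (nat_lit 90) [] [] [] Cert.nil Cert.nil)) (Cert.rep (nat_lit 74) [nat_lit 2,nat_lit 44] [] [] (Cert.rep (nat_lit 60) [] [] [] Cert.nil (Cert.rep (nat_lit 62) [] [] [] Cert.nil (Cert.rep (nat_lit 90) [] [] [] Cert.nil Cert.nil))) (Cert.rep (nat_lit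 90) [nat_lit 2,nat_lit 12] [] [] (Cert.rep (nat_lit 68) [] [] [] Cert.nil (Cert.rep (nat_lit 70) [] [] [] Cert.nil (Cert.rep (nat_lit 74) [] [] [] Cert.nil Cert.nil))) Cert.nil)))))))) Cert.nil)))))))) (Cert.rep (nat_lit 82) [] [] [] (Cert.er (Cert.ro (nat_lit 0) [nat_lit 1,nat_lit 8,nat_lit 16] [nat_lit 8,nat_lit 9,nat_lit 16] [nat_lit 0,nat_lit 1,nat_lit 10,nat_lit 11,nat_lit 16,nat_lit 17,nat_lit 26,nat_lit 27] (Cert.ro (nat_lit 1) [nat_lit 1,nat_lit 2,nat_lit 14,nat_lit 16] [nat_lit 1,nat_lit 14,nat_lit 12,nat_lit 16] [nat_lit 0,nat_lit 1,nat_lit 51,nat_lit 50,nat_lit 88,nat_lit 89,nat_lit 107,nat_lit 106,nat_lit 16,nat_lit 17,nat_lit 35,nat_lit 34,nat_lit 72,nat_lit 73,nat_lit 123,nat_lit 122] (Cert.lw (nat_lit 0) (nat_lit 2) (nat_lit 1) (Cert.s2 (nat_lit 0) (nat_lit 48) (Cert.o1 (nat_lit 0) (nat_lit 48) (Cert.fu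 (nat_lit 48) (nat_lit 1) (nat_lit 0) (nat_lit 0) [nat_lit 0] [nat_lit 2,nat_lit 18] [] [] [] [nat_lit 1] [[nat_lit 1]] [[nat_lit 48]] [Ins.ts (nat_lit 1) [nat_lit 0] [],Ins.fr [nat_lit 0],Ins.ts (nat_lit 1) [nat_lit 0,nat_lit 0] [],Ins.ts (nat_lit 1) [nat_lit 0,nat_lit 0,nat_lit 1] [],Ins.ts (nat_lit 0) [nat_lit 0,nat_lit 0,nat_lit 0,nat_lit 0] [],Ins.fr [nat_lit 1],Ins.ts (nat_lit 0) [nat_lit 1,nat_lit 1] [nat_lit 0,nat_lit 0],Ins.ts (nat_lit 2) [nat_lit 0,nat_lit 1] [],Ins.ts (nat_lit 0) [nat_lit 1,nat_lit 0] [nat_lit 0,nat_lit 1],Ins.ts (nat_lit 1) [nat_lit 0,nat_lit 1] []] [] (Cert.rep (nat_lit 1) [nat_lit 4,nat_lit 8,nat_lit 16,nat_lit 64] [nat_lit 64,nat_lit 32,nat_lit 16,nat_lit 8,nat_lit 4,nat_lit 2,nat_lit 1] [] (Cert.rep (nat_lit 76) [] [] [] Cert.nil (Cert.rep (nat_lit 92) [] [] [] Cert.nil Cert.nil))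 Cert.nil))) (Cert.o1 (nat_lit 0) (nat_lit 8) (Cert.fu (nat_lit 8) (nat_lit 1) (nat_lit 0) (nat_lit 0) [nat_lit 0] [nat_lit 25,nat_lit 57,nat_lit 9] [] [] [] [nat_lit 1] [[nat_lit 1]] [[nat_lit 8]] [Ins.ts (nat_lit 1) [nat_lit 0] [],Ins.fr [nat_lit 0],Ins.ts (nat_lit 0) [nat_lit 0,nat_lit 0] [],Ins.ts (nat_lit 2) [nat_lit 0] [],Ins.ts (nat_lit 1) [nat_lit 0] [],Ins.fr [nat_lit 1],Ins.ts (nat_lit 0) [nat_lit 0,nat_lit 0] [],Ins.ts (nat_lit 3) [nat_lit 0] [],Ins.ts (nat_lit 0) [nat_lit 1,nat_lit 0] [nat_lit 0,nat_lit 1],Ins.ts (nat_lit 2) [nat_lit 0,nat_lit 1] [],Ins.ts (nat_lit 1) [nat_lit 0] [],Ins.ts (nat_lit 4) [nat_lit 0,nat_lit 2] [nat_lit 0,nat_lit 0,nat_lit 1],Ins.ts (nat_lit 4) [nat_lit 0] [nat_lit 0,nat_lit 0,nat_lit 2],Ins.ts (nat_lit 1) [nat_lit 0,nat_lit 2] [],Ins.ts (nat_lit 1) [nat_lit 0,nat_lit 1] [],Ins.fr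 [nat_lit 2],Ins.ts (nat_lit 0) [nat_lit 0,nat_lit 0] [],Ins.ts (nat_lit 3) [nat_lit 0] [],Ins.ts (nat_lit 0) [nat_lit 1,nat_lit 0] [nat_lit 0,nat_lit 1],Ins.ts (nat_lit 1) [nat_lit 0] [],Ins.ts (nat_lit 0) [nat_lit 2,nat_lit 0] [nat_lit 0,nat_lit 2],Ins.ts (nat_lit 3) [nat_lit 0,nat_lit 1] [],Ins.ts (nat_lit 1) [nat_lit 0,nat_lit 3] [],Ins.ts (nat_lit 1) [nat_lit 0,nat_lit 1] [],Ins.ts (nat_lit 2) [nat_lit 0,nat_lit 2] [],Ins.ts (nat_lit 1) [nat_lit 0,nat_lit 1,nat_lit 3] [],Ins.ts (nat_lit 1) [nat_lit 0,nat_lit 2] []] [(nat_lit 3,nat_lit 0),(nat_lit 2,nat_lit 0)] (Cert.rep (nat_lit 1) [nat_lit 2,nat_lit 4,nat_lit 8,nat_lit 16,nat_lit 32,nat_lit 64] [nat_lit 64,nat_lit 32,nat_lit 16,nat_lit 8,nat_lit 4,nat_lit 2,nat_lit 1] [] (Cert.rep (nat_lit 16) [nat_lit 8,nat_lit 32,nat_lit 64] [] [] (Cert.rep (nat_lit 74) []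 [] [] Cert.nil (Cert.rep (nat_lit 90) [] [] [] Cert.nil Cert.nil)) (Cert.rep (nat_lit 24) [] [] [] Cert.nil (Cert.rep (nat_lit 28) [nat_lit 32,nat_lit 70] [] [] (Cert.rep (nat_lit 60) [] [] [] Cert.nil (Cert.rep (nat_lit 70) [] [] [] Cert.nil (Cert.rep (nat_lit 90) [] [] [] Cert.nil (Cert.rep (nat_lit 104) [] [] [] Cert.nil (Cert.rep (nat_lit 116) [] [] [] Cert.nil Cert.nil))))) (Cert.rep (nat_lit 32) [nat_lit 2,nat_lit 4,nat_lit 8] [] [] (Cert.rep (nat_lit 60) [] [] [] Cert.nil Cert.nil) (Cert.rep (nat_lit 68) [nat_lit 12,nat_lit 34] [] [] (Cert.rep (nat_lit 60) [] [] [] Cert.nil (Cert.rep (nat_lit 90) [] [] [] Cert.nil Cert.nil)) (Cert.rep (nat_lit 70) [nat_lit 14,nat_lit 34] [] [] (Cert.rep (nat_lit 62) [] [] [] Cert.nil (Cert.rep (nat_lit 90) [] [] [] Cert.nil Cert.nil)) (Cert.rep (nat_lit 74) [nat_lit 2,nat_lit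 44] [] [] (Cert.rep (nat_lit 60) [] [] [] Cert.nil (Cert.rep (nat_lit 62) [] [] [] Cert.nil (Cert.rep (nat_lit 90) [] [] [] Cert.nil Cert.nil))) (Cert.rep (nat_lit 90) [nat_lit 2,nat_lit 12] [] [] (Cert.rep (nat_lit 68) [] [] [] Cert.nil (Cert.rep (nat_lit 70) [] [] [] Cert.nil (Cert.rep (nat_lit 74) [] [] [] Cert.nil Cert.nil))) Cert.nil)))))))) Cert.nil)))))))) Cert.nil)
noncomputable def f253_2 : Cert :=
  Cert.rep (nat_lit 48) [] [] [] Cert.nil (Cert.rep (nat_lit 56) [nat_lit 8,nat_lit 16] [] [] (Cert.rep (nat_lit 20) [] [] [] (Cert.er (Cert.ro (nat_lit 0) [nat_lit 1,nat_lit 8,nat_lit 16] [nat_lit 8,nat_lit 9,nat_lit 16] [nat_lit 0,nat_lit 1,nat_lit 56,nat_lit 57,nat_lit 32,nat_lit 33,nat_lit 24,nat_lit 25] (Cert.ro (nat_lit 1) [nat_lit 1,nat_lit 2,nat_lit 14,nat_lit 16] [nat_lit 1,nat_lit 14,nat_lit 12,nat_lit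 16] [nat_lit 0,nat_lit 1,nat_lit 3,nat_lit 2,nat_lit 47,nat_lit 46,nat_lit 45,nat_lit 44,nat_lit 32,nat_lit 33,nat_lit 35,nat_lit 34,nat_lit 15,nat_lit 14,nat_lit 13,nat_lit 12] (Cert.fu (nat_lit 32) (nat_lit 2) (nat_lit 32) (nat_lit 1) [nat_lit 1] [nat_lit 1,nat_lit 44,nat_lit 16] [] [] [nat_lit 64,nat_lit 32,nat_lit 16,nat_lit 8,nat_lit 4,nat_lit 2,nat_lit 1] [nat_lit 1] [[nat_lit 3,nat_lit 1]] [[nat_lit 1],[nat_lit 32,nat_lit 1],[nat_lit 44,nat_lit 1]] [Ins.fr [nat_lit 0],Ins.ts (nat_lit 3) [nat_lit 0] [],Ins.ts (nat_lit 4) [nat_lit 0] [nat_lit 0,nat_lit 0,nat_lit 0],Ins.ts (nat_lit 1) [nat_lit 0] [],Ins.fr [nat_lit 1],Ins.ts (nat_lit 4) [nat_lit 0] [nat_lit 0,nat_lit 0,nat_lit 2],Ins.ts (nat_lit 1) [nat_lit 0] [],Ins.ts (nat_lit 0) [nat_lit 0,nat_lit 0] [nat_lit 1],Ins.fr [nat_lit 2],Ins.ts (nat_lit 2) [nat_lit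 0] [],Ins.ts (nat_lit 0) [nat_lit 0,nat_lit 0] [],Ins.ts (nat_lit 3) [nat_lit 1,nat_lit 0] [],Ins.ts (nat_lit 1) [nat_lit 0] [],Ins.ts (nat_lit 0) [nat_lit 1,nat_lit 0,nat_lit 1] [nat_lit 0]] [] (Cert.rep (nat_lit 32) [] [nat_lit 32,nat_lit 16,nat_lit 8,nat_lit 4,nat_lit 2,nat_lit 1] [nat_lit 64] (Cert.rep (nat_lit 1) [nat_lit 8] [] [] (Cert.rep (nat_lit 2) [] [] [] Cert.nil Cert.nil) Cert.nil) Cert.nil))))) (Cert.rep (nat_lit 52) [] [] [] (Cert.er (Cert.ro (nat_lit 0) [nat_lit 1,nat_lit 8,nat_lit 16] [nat_lit 8,nat_lit 9,nat_lit 16] [nat_lit 0,nat_lit 1,nat_lit 56,nat_lit 57,nat_lit 32,nat_lit 33,nat_lit 24,nat_lit 25] (Cert.ro (nat_lit 1) [nat_lit 1,nat_lit 2,nat_lit 14,nat_lit 16] [nat_lit 1,nat_lit 14,nat_lit 12,nat_lit 16] [nat_lit 0,nat_lit 1,nat_lit 3,nat_lit 2,nat_lit 15,nat_lit 14,nat_lit 13,nat_lit 12,nat_lit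 32,nat_lit 33,nat_lit 35,nat_lit 34,nat_lit 47,nat_lit 46,nat_lit 45,nat_lit 44] (Cert.lw (nat_lit 0) (nat_lit 2) (nat_lit 1) (Cert.s2 (nat_lit 0) (nat_lit 48) (Cert.o1 (nat_lit 0) (nat_lit 48) (Cert.fu (nat_lit 48) (nat_lit 1) (nat_lit 0) (nat_lit 0) [nat_lit 0] [nat_lit 2,nat_lit 18] [] [] [] [nat_lit 1] [[nat_lit 1]] [[nat_lit 48]] [Ins.ts (nat_lit 1) [nat_lit 0] [],Ins.fr [nat_lit 0],Ins.ts (nat_lit 1) [nat_lit 0,nat_lit 0] [],Ins.ts (nat_lit 1) [nat_lit 0,nat_lit 0,nat_lit 1] [],Ins.ts (nat_lit 0) [nat_lit 0,nat_lit 0,nat_lit 0,nat_lit 0] [],Ins.fr [nat_lit 1],Ins.ts (nat_lit 0) [nat_lit 1,nat_lit 1] [nat_lit 0,nat_lit 0],Ins.ts (nat_lit 2) [nat_lit 0,nat_lit 1] [],Ins.ts (nat_lit 0) [nat_lit 1,nat_lit 0] [nat_lit 0,nat_lit 1],Ins.ts (nat_lit 1) [nat_lit 0,nat_lit 1] []] [] (Cert.rep (nat_lit 1) [nat_lit 4,nat_lit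 8,nat_lit 16,nat_lit 64] [nat_lit 64,nat_lit 32,nat_lit 16,nat_lit 8,nat_lit 4,nat_lit 2,nat_lit 1] [] (Cert.rep (nat_lit 76) [] [] [] Cert.nil (Cert.rep (nat_lit 92) [] [] [] Cert.nil Cert.nil)) Cert.nil))) (Cert.o1 (nat_lit 0) (nat_lit 8) (Cert.fu (nat_lit 8) (nat_lit 1) (nat_lit 0) (nat_lit 0) [nat_lit 0] [nat_lit 25,nat_lit 57,nat_lit 9] [] [] [] [nat_lit 1] [[nat_lit 1]] [[nat_lit 8]] [Ins.ts (nat_lit 1) [nat_lit 0] [],Ins.fr [nat_lit 0],Ins.ts (nat_lit 0) [nat_lit 0,nat_lit 0] [],Ins.ts (nat_lit 2) [nat_lit 0] [],Ins.ts (nat_lit 1) [nat_lit 0] [],Ins.fr [nat_lit 1],Ins.ts (nat_lit 0) [nat_lit 0,nat_lit 0] [],Ins.ts (nat_lit 3) [nat_lit 0] [],Ins.ts (nat_lit 0) [nat_lit 1,nat_lit 0] [nat_lit 0,nat_lit 1],Ins.ts (nat_lit 2) [nat_lit 0,nat_lit 1] [],Ins.ts (nat_lit 1) [nat_lit 0] [],Ins.ts (nat_lit 4) [nat_lit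 0,nat_lit 2] [nat_lit 0,nat_lit 0,nat_lit 1],Ins.ts (nat_lit 4) [nat_lit 0] [nat_lit 0,nat_lit 0,nat_lit 2],Ins.ts (nat_lit 1) [nat_lit 0,nat_lit 2] [],Ins.ts (nat_lit 1) [nat_lit 0,nat_lit 1] [],Ins.fr [nat_lit 2],Ins.ts (nat_lit 0) [nat_lit 0,nat_lit 0] [],Ins.ts (nat_lit 3) [nat_lit 0] [],Ins.ts (nat_lit 0) [nat_lit 1,nat_lit 0] [nat_lit 0,nat_lit 1],Ins.ts (nat_lit 1) [nat_lit 0] [],Ins.ts (nat_lit 0) [nat_lit 2,nat_lit 0] [nat_lit 0,nat_lit 2],Ins.ts (nat_lit 3) [nat_lit 0,nat_lit 1] [],Ins.ts (nat_lit 1) [nat_lit 0,nat_lit 3] [],Ins.ts (nat_lit 1) [nat_lit 0,nat_lit 1] [],Ins.ts (nat_lit 2) [nat_lit 0,nat_lit 2] [],Ins.ts (nat_lit 1) [nat_lit 0,nat_lit 1,nat_lit 3] [],Ins.ts (nat_lit 1) [nat_lit 0,nat_lit 2] []] [(nat_lit 3,nat_lit 0),(nat_lit 2,nat_lit 0)] (Cert.rep (nat_lit 1) [nat_lit 2,nat_lit 4,nat_lit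 8,nat_lit 16,nat_lit 32,nat_lit 64] [nat_lit 64,nat_lit 32,nat_lit 16,nat_lit 8,nat_lit 4,nat_lit 2,nat_lit 1] [] (Cert.rep (nat_lit 16) [nat_lit 8,nat_lit 32,nat_lit 64] [] [] (Cert.rep (nat_lit 74) [] [] [] Cert.nil (Cert.rep (nat_lit 90) [] [] [] Cert.nil Cert.nil)) (Cert.rep (nat_lit 24) [] [] [] Cert.nil (Cert.rep (nat_lit 28) [nat_lit 32,nat_lit 70] [] [] (Cert.rep (nat_lit 60) [] [] [] Cert.nil (Cert.rep (nat_lit 70) [] [] [] Cert.nil (Cert.rep (nat_lit 90) [] [] [] Cert.nil (Cert.rep (nat_lit 104) [] [] [] Cert.nil (Cert.rep (nat_lit 116) [] [] [] Cert.nil Cert.nil))))) (Cert.rep (nat_lit 32) [nat_lit 2,nat_lit 4,nat_lit 8] [] [] (Cert.rep (nat_lit 60) [] [] [] Cert.nil Cert.nil) (Cert.rep (nat_lit 68) [nat_lit 12,nat_lit 34] [] [] (Cert.rep (nat_lit 60) [] [] [] Cert.nil (Cert.rep (nat_lit 90) [] [] [] Cert.nil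 Cert.nil)) (Cert.rep (nat_lit 70) [nat_lit 14,nat_lit 34] [] [] (Cert.rep (nat_lit 62) [] [] [] Cert.nil (Cert.rep (nat_lit 90) [] [] [] Cert.nil Cert.nil)) (Cert.rep (nat_lit 74) [nat_lit 2,nat_lit 44] [] [] (Cert.rep (nat_lit 60) [] [] [] Cert.nil (Cert.rep (nat_lit 62) [] [] [] Cert.nil (Cert.rep (nat_lit 90) [] [] [] Cert.nil Cert.nil))) (Cert.rep (nat_lit 90) [nat_lit 2,nat_lit 12] [] [] (Cert.rep (nat_lit 68) [] [] [] Cert.nil (Cert.rep (nat_lit 70) [] [] [] Cert.nil (Cert.rep (nat_lit 74) [] [] [] Cert.nil Cert.nil))) Cert.nil)))))))) Cert.nil)))))))) Cert.nil)) (Cert.rep (nat_lit 60) [] [] [] Cert.nil Cert.nil))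
noncomputable def f253_3 : Cert :=
  Cert.rep (nat_lit 8) [nat_lit 8,nat_lit 16] [] [] (Cert.rep (nat_lit 4) [] [] [] (Cert.er (Cert.ro (nat_lit 0) [nat_lit 1,nat_lit 8,nat_lit 16] [nat_lit 8,nat_lit 9,nat_lit 16] [nat_lit 0,nat_lit 1,nat_lit 8,nat_lit 9,nat_lit 32,nat_lit 33,nat_lit 40,nat_lit 41] (Cert.ro (nat_lit 1) [nat_lit 1,nat_lit 2,nat_lit 14,nat_lit 16] [nat_lit 1,nat_lit 14,nat_lit 12,nat_lit 16] [nat_lit 0,nat_lit 1,nat_lit 2,nat_lit 3,nat_lit 14,nat_lit 15,nat_lit 13,nat_lit 12,nat_lit 32,nat_lit 33,nat_lit 34,nat_lit 35,nat_lit 46,nat_lit 47,nat_lit 45,nat_lit 44] (Cert.lw (nat_lit 0) (nat_lit 2) (nat_lit 1) (Cert.s2 (nat_lit 0) (nat_lit 48) (Cert.o1 (nat_lit 0) (nat_lit 48) (Cert.fu (nat_lit 48) (nat_lit 1) (nat_lit 0) (nat_lit 0) [nat_lit 0] [nat_lit 2,nat_lit 18] [] [] [] [nat_lit 1] [[nat_lit 1]]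 [[nat_lit 48]] [Ins.ts (nat_lit 1) [nat_lit 0] [],Ins.fr [nat_lit 0],Ins.ts (nat_lit 1) [nat_lit 0,nat_lit 0] [],Ins.ts (nat_lit 1) [nat_lit 0,nat_lit 0,nat_lit 1] [],Ins.ts (nat_lit 0) [nat_lit 0,nat_lit 0,nat_lit 0,nat_lit 0] [],Ins.fr [nat_lit 1],Ins.ts (nat_lit 0) [nat_lit 1,nat_lit 1] [nat_lit 0,nat_lit 0],Ins.ts (nat_lit 2) [nat_lit 0,nat_lit 1] [],Ins.ts (nat_lit 0) [nat_lit 1,nat_lit 0] [nat_lit 0,nat_lit 1],Ins.ts (nat_lit 1) [nat_lit 0,nat_lit 1] []] [] (Cert.rep (nat_lit 1) [nat_lit 4,nat_lit 8,nat_lit 16,nat_lit 64] [nat_lit 64,nat_lit 32,nat_lit 16,nat_lit 8,nat_lit 4,nat_lit 2,nat_lit 1] [] (Cert.rep (nat_lit 76) [] [] [] Cert.nil (Cert.rep (nat_lit 92) [] [] [] Cert.nil Cert.nil)) Cert.nil))) (Cert.o1 (nat_lit 0) (nat_lit 8) (Cert.fu (nat_lit 8) (nat_lit 1) (nat_lit 0) (nat_lit 0) [nat_lit 0] [nat_lit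 25,nat_lit 57,nat_lit 9] [] [] [] [nat_lit 1] [[nat_lit 1]] [[nat_lit 8]] [Ins.ts (nat_lit 1) [nat_lit 0] [],Ins.fr [nat_lit 0],Ins.ts (nat_lit 0) [nat_lit 0,nat_lit 0] [],Ins.ts (nat_lit 2) [nat_lit 0] [],Ins.ts (nat_lit 1) [nat_lit 0] [],Ins.fr [nat_lit 1],Ins.ts (nat_lit 0) [nat_lit 0,nat_lit 0] [],Ins.ts (nat_lit 3) [nat_lit 0] [],Ins.ts (nat_lit 0) [nat_lit 1,nat_lit 0] [nat_lit 0,nat_lit 1],Ins.ts (nat_lit 2) [nat_lit 0,nat_lit 1] [],Ins.ts (nat_lit 1) [nat_lit 0] [],Ins.ts (nat_lit 4) [nat_lit 0,nat_lit 2] [nat_lit 0,nat_lit 0,nat_lit 1],Ins.ts (nat_lit 4) [nat_lit 0] [nat_lit 0,nat_lit 0,nat_lit 2],Ins.ts (nat_lit 1) [nat_lit 0,nat_lit 2] [],Ins.ts (nat_lit 1) [nat_lit 0,nat_lit 1] [],Ins.fr [nat_lit 2],Ins.ts (nat_lit 0) [nat_lit 0,nat_lit 0] [],Ins.ts (nat_lit 3) [nat_lit 0] [],Ins.ts (nat_lit 0) [nat_lit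 1,nat_lit 0] [nat_lit 0,nat_lit 1],Ins.ts (nat_lit 1) [nat_lit 0] [],Ins.ts (nat_lit 0) [nat_lit 2,nat_lit 0] [nat_lit 0,nat_lit 2],Ins.ts (nat_lit 3) [nat_lit 0,nat_lit 1] [],Ins.ts (nat_lit 1) [nat_lit 0,nat_lit 3] [],Ins.ts (nat_lit 1) [nat_lit 0,nat_lit 1] [],Ins.ts (nat_lit 2) [nat_lit 0,nat_lit 2] [],Ins.ts (nat_lit 1) [nat_lit 0,nat_lit 1,nat_lit 3] [],Ins.ts (nat_lit 1) [nat_lit 0,nat_lit 2] []] [(nat_lit 3,nat_lit 0),(nat_lit 2,nat_lit 0)] (Cert.rep (nat_lit 1) [nat_lit 2,nat_lit 4,nat_lit 8,nat_lit 16,nat_lit 32,nat_lit 64] [nat_lit 64,nat_lit 32,nat_lit 16,nat_lit 8,nat_lit 4,nat_lit 2,nat_lit 1] [] (Cert.rep (nat_lit 16) [nat_lit 8,nat_lit 32,nat_lit 64] [] [] (Cert.rep (nat_lit 74) [] [] [] Cert.nil (Cert.rep (nat_lit 90) [] [] [] Cert.nil Cert.nil)) (Cert.rep (nat_lit 24) [] [] [] Cert.nil (Cert.rep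 (nat_lit 28) [nat_lit 32,nat_lit 70] [] [] (Cert.rep (nat_lit 60) [] [] [] Cert.nil (Cert.rep (nat_lit 70) [] [] [] Cert.nil (Cert.rep (nat_lit 90) [] [] [] Cert.nil (Cert.rep (nat_lit 104) [] [] [] Cert.nil (Cert.rep (nat_lit 116) [] [] [] Cert.nil Cert.nil))))) (Cert.rep (nat_lit 32) [nat_lit 2,nat_lit 4,nat_lit 8] [] [] (Cert.rep (nat_lit 60) [] [] [] Cert.nil Cert.nil) (Cert.rep (nat_lit 68) [nat_lit 12,nat_lit 34] [] [] (Cert.rep (nat_lit 60) [] [] [] Cert.nil (Cert.rep (nat_lit 90) [] [] [] Cert.nil Cert.nil)) (Cert.rep (nat_lit 70) [nat_lit 14,nat_lit 34] [] [] (Cert.rep (nat_lit 62) [] [] [] Cert.nil (Cert.rep (nat_lit 90) [] [] [] Cert.nil Cert.nil)) (Cert.rep (nat_lit 74) [nat_lit 2,nat_lit 44] [] [] (Cert.rep (nat_lit 60) [] [] [] Cert.nil (Cert.rep (nat_lit 62) [] [] [] Cert.nil (Cert.rep (nat_lit 90)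 [] [] [] Cert.nil Cert.nil))) (Cert.rep (nat_lit 90) [nat_lit 2,nat_lit 12] [] [] (Cert.rep (nat_lit 68) [] [] [] Cert.nil (Cert.rep (nat_lit 70) [] [] [] Cert.nil (Cert.rep (nat_lit 74) [] [] [] Cert.nil Cert.nil))) Cert.nil)))))))) Cert.nil)))))))) (Cert.rep (nat_lit 36) [] [] [] (Cert.er (Cert.ro (nat_lit 0) [nat_lit 1,nat_lit 8,nat_lit 16] [nat_lit 8,nat_lit 9,nat_lit 16] [nat_lit 0,nat_lit 1,nat_lit 8,nat_lit 9,nat_lit 32,nat_lit 33,nat_lit 40,nat_lit 41] (Cert.ro (nat_lit 1) [nat_lit 1,nat_lit 2,nat_lit 14,nat_lit 16] [nat_lit 1,nat_lit 14,nat_lit 12,nat_lit 16] [nat_lit 0,nat_lit 1,nat_lit 2,nat_lit 3,nat_lit 46,nat_lit 47,nat_lit 45,nat_lit 44,nat_lit 32,nat_lit 33,nat_lit 34,nat_lit 35,nat_lit 14,nat_lit 15,nat_lit 13,nat_lit 12] (Cert.fu (nat_lit 32) (nat_lit 2) (nat_lit 32) (nat_lit 1) [nat_lit 1] [nat_lit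 1,nat_lit 44,nat_lit 16] [] [] [nat_lit 64,nat_lit 32,nat_lit 16,nat_lit 8,nat_lit 4,nat_lit 2,nat_lit 1] [nat_lit 1] [[nat_lit 2,nat_lit 1]] [[nat_lit 1],[nat_lit 32,nat_lit 1],[nat_lit 44,nat_lit 1]] [Ins.fr [nat_lit 0],Ins.ts (nat_lit 3) [nat_lit 0] [],Ins.ts (nat_lit 4) [nat_lit 0] [nat_lit 0,nat_lit 0,nat_lit 0],Ins.ts (nat_lit 1) [nat_lit 0] [],Ins.fr [nat_lit 1],Ins.ts (nat_lit 4) [nat_lit 0] [nat_lit 0,nat_lit 0,nat_lit 2],Ins.ts (nat_lit 1) [nat_lit 0] [],Ins.ts (nat_lit 0) [nat_lit 0,nat_lit 0] [nat_lit 1],Ins.fr [nat_lit 2],Ins.ts (nat_lit 2) [nat_lit 0] [],Ins.ts (nat_lit 0) [nat_lit 0,nat_lit 0] [],Ins.ts (nat_lit 3) [nat_lit 1,nat_lit 0] [],Ins.ts (nat_lit 1) [nat_lit 0] [],Ins.ts (nat_lit 0) [nat_lit 1,nat_lit 0,nat_lit 1] [nat_lit 0]] [] (Cert.rep (nat_lit 32) [] [nat_lit 32,nat_lit 16,nat_lit 8,nat_lit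 4,nat_lit 2,nat_lit 1] [nat_lit 64] (Cert.rep (nat_lit 1) [nat_lit 8] [] [] (Cert.rep (nat_lit 2) [] [] [] Cert.nil Cert.nil) Cert.nil) Cert.nil))))) Cert.nil)) (Cert.rep (nat_lit 16) [] [] [] Cert.nil (Cert.rep (nat_lit 24) [nat_lit 8,nat_lit 16] [] [] (Cert.rep (nat_lit 20) [] [] [] (Cert.er (Cert.ro (nat_lit 0) [nat_lit 1,nat_lit 8,nat_lit 16] [nat_lit 8,nat_lit 9,nat_lit 16] [nat_lit 0,nat_lit 1,nat_lit 24,nat_lit 25,nat_lit 32,nat_lit 33,nat_lit 56,nat_lit 57] (Cert.ro (nat_lit 1) [nat_lit 1,nat_lit 2,nat_lit 14,nat_lit 16] [nat_lit 1,nat_lit 14,nat_lit 12,nat_lit 16] [nat_lit 0,nat_lit 1,nat_lit 3,nat_lit 2,nat_lit 15,nat_lit 14,nat_lit 13,nat_lit 12,nat_lit 32,nat_lit 33,nat_lit 35,nat_lit 34,nat_lit 47,nat_lit 46,nat_lit 45,nat_lit 44] (Cert.lf (Leaf.st (nat_lit 2) (nat_lit 1) (nat_lit 1) (Leaf.cf (nat_lit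 1))))))) (Cert.rep (nat_lit 52) [] [] [] (Cert.er (Cert.ro (nat_lit 0) [nat_lit 1,nat_lit 8,nat_lit 16] [nat_lit 8,nat_lit 9,nat_lit 16] [nat_lit 0,nat_lit 1,nat_lit 24,nat_lit 25,nat_lit 32,nat_lit 33,nat_lit 56,nat_lit 57] (Cert.ro (nat_lit 1) [nat_lit 1,nat_lit 2,nat_lit 14,nat_lit 16] [nat_lit 1,nat_lit 14,nat_lit 12,nat_lit 16] [nat_lit 0,nat_lit 1,nat_lit 3,nat_lit 2,nat_lit 47,nat_lit 46,nat_lit 45,nat_lit 44,nat_lit 32,nat_lit 33,nat_lit 35,nat_lit 34,nat_lit 15,nat_lit 14,nat_lit 13,nat_lit 12] (Cert.lf (Leaf.st (nat_lit 2) (nat_lit 1) (nat_lit 1) (Leaf.cf (nat_lit 1))))))) Cert.nil)) (Cert.rep (nat_lit 28) [] [] [] Cert.nil (Cert.rep (nat_lit 33) [] [] [] Cert.nil (Cert.rep (nat_lit 40) [nat_lit 8,nat_lit 16] [] [] (Cert.rep (nat_lit 4) [] [] [] (Cert.er (Cert.ro (nat_lit 0) [nat_lit 1,nat_lit 8,nat_lit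 16] [nat_lit 8,nat_lit 9,nat_lit 16] [nat_lit 0,nat_lit 1,nat_lit 40,nat_lit 41,nat_lit 32,nat_lit 33,nat_lit 8,nat_lit 9] (Cert.ro (nat_lit 1) [nat_lit 1,nat_lit 2,nat_lit 14,nat_lit 16] [nat_lit 1,nat_lit 14,nat_lit 12,nat_lit 16] [nat_lit 0,nat_lit 1,nat_lit 2,nat_lit 3,nat_lit 46,nat_lit 47,nat_lit 45,nat_lit 44,nat_lit 32,nat_lit 33,nat_lit 34,nat_lit 35,nat_lit 14,nat_lit 15,nat_lit 13,nat_lit 12] (Cert.lf (Leaf.st (nat_lit 2) (nat_lit 1) (nat_lit 1) (Leaf.cf (nat_lit 1))))))) (Cert.rep (nat_lit 36) [] [] [] (Cert.er (Cert.ro (nat_lit 0) [nat_lit 1,nat_lit 8,nat_lit 16] [nat_lit 8,nat_lit 9,nat_lit 16] [nat_lit 0,nat_lit 1,nat_lit 40,nat_lit 41,nat_lit 32,nat_lit 33,nat_lit 8,nat_lit 9] (Cert.ro (nat_lit 1) [nat_lit 1,nat_lit 2,nat_lit 14,nat_lit 16] [nat_lit 1,nat_lit 14,nat_lit 12,nat_lit 16] [nat_lit 0,nat_lit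 1,nat_lit 2,nat_lit 3,nat_lit 14,nat_lit 15,nat_lit 13,nat_lit 12,nat_lit 32,nat_lit 33,nat_lit 34,nat_lit 35,nat_lit 46,nat_lit 47,nat_lit 45,nat_lit 44] (Cert.lf (Leaf.st (nat_lit 2) (nat_lit 1) (nat_lit 1) (Leaf.cf (nat_lit 1))))))) Cert.nil)) f253_2)))))
noncomputable def f253_4 : Cert :=
  Cert.rep (nat_lit 16) [nat_lit 2,nat_lit 8,nat_lit 32,nat_lit 64] [nat_lit 64,nat_lit 32,nat_lit 16,nat_lit 8,nat_lit 2,nat_lit 1] [nat_lit 4] (Cert.rep (nat_lit 1) [] [] [] Cert.nil (Cert.rep (nat_lit 8) [nat_lit 8,nat_lit 32] [] [] f253_0 (Cert.rep (nat_lit 10) [nat_lit 10,nat_lit 32] [] [] f253_1 (Cert.rep (nat_lit 17) [] [] [] Cert.nil (Cert.rep (nat_lit 24) [nat_lit 8,nat_lit 32] [] [] (Cert.rep (nat_lit 64) [] [] [] (Cert.er (Cert.ro (nat_lit 0) [nat_lit 1,nat_lit 8,nat_lit 16] [nat_lit 8,nat_lit 9,nat_lit 16] [nat_lit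 0,nat_lit 1,nat_lit 24,nat_lit 25,nat_lit 16,nat_lit 17,nat_lit 8,nat_lit 9] (Cert.ro (nat_lit 1) [nat_lit 1,nat_lit 2,nat_lit 14,nat_lit 16] [nat_lit 1,nat_lit 14,nat_lit 12,nat_lit 16] [nat_lit 0,nat_lit 1,nat_lit 51,nat_lit 50,nat_lit 88,nat_lit 89,nat_lit 107,nat_lit 106,nat_lit 16,nat_lit 17,nat_lit 35,nat_lit 34,nat_lit 72,nat_lit 73,nat_lit 123,nat_lit 122] (Cert.lf (Leaf.st (nat_lit 2) (nat_lit 1) (nat_lit 1) (Leaf.cf (nat_lit 1))))))) (Cert.rep (nat_lit 80) [] [] [] (Cert.er (Cert.ro (nat_lit 0) [nat_lit 1,nat_lit 8,nat_lit 16] [nat_lit 8,nat_lit 9,nat_lit 16] [nat_lit 0,nat_lit 1,nat_lit 24,nat_lit 25,nat_lit 16,nat_lit 17,nat_lit 8,nat_lit 9] (Cert.ro (nat_lit 1) [nat_lit 1,nat_lit 2,nat_lit 14,nat_lit 16] [nat_lit 1,nat_lit 14,nat_lit 12,nat_lit 16] [nat_lit 0,nat_lit 1,nat_lit 51,nat_lit 50,nat_lit 72,nat_lit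 73,nat_lit 123,nat_lit 122,nat_lit 16,nat_lit 17,nat_lit 35,nat_lit 34,nat_lit 88,nat_lit 89,nat_lit 107,nat_lit 106] (Cert.lf (Leaf.st (nat_lit 2) (nat_lit 1) (nat_lit 1) (Leaf.cf (nat_lit 1))))))) Cert.nil)) (Cert.rep (nat_lit 26) [nat_lit 10,nat_lit 32] [] [] (Cert.rep (nat_lit 66) [] [] [] (Cert.er (Cert.ro (nat_lit 0) [nat_lit 1,nat_lit 8,nat_lit 16] [nat_lit 8,nat_lit 9,nat_lit 16] [nat_lit 0,nat_lit 1,nat_lit 26,nat_lit 27,nat_lit 16,nat_lit 17,nat_lit 10,nat_lit 11] (Cert.ro (nat_lit 1) [nat_lit 1,nat_lit 2,nat_lit 14,nat_lit 16] [nat_lit 1,nat_lit 14,nat_lit 12,nat_lit 16] [nat_lit 0,nat_lit 1,nat_lit 51,nat_lit 50,nat_lit 88,nat_lit 89,nat_lit 107,nat_lit 106,nat_lit 16,nat_lit 17,nat_lit 35,nat_lit 34,nat_lit 72,nat_lit 73,nat_lit 123,nat_lit 122] (Cert.lf (Leaf.st (nat_lit 2) (nat_lit 1) (nat_lit 1) (Leaf.cf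 (nat_lit 1))))))) (Cert.rep (nat_lit 82) [] [] [] (Cert.er (Cert.ro (nat_lit 0) [nat_lit 1,nat_lit 8,nat_lit 16] [nat_lit 8,nat_lit 9,nat_lit 16] [nat_lit 0,nat_lit 1,nat_lit 26,nat_lit 27,nat_lit 16,nat_lit 17,nat_lit 10,nat_lit 11] (Cert.ro (nat_lit 1) [nat_lit 1,nat_lit 2,nat_lit 14,nat_lit 16] [nat_lit 1,nat_lit 14,nat_lit 12,nat_lit 16] [nat_lit 0,nat_lit 1,nat_lit 51,nat_lit 50,nat_lit 72,nat_lit 73,nat_lit 123,nat_lit 122,nat_lit 16,nat_lit 17,nat_lit 35,nat_lit 34,nat_lit 88,nat_lit 89,nat_lit 107,nat_lit 106] (Cert.lf (Leaf.st (nat_lit 2) (nat_lit 1) (nat_lit 1) (Leaf.cf (nat_lit 1))))))) Cert.nil)) (Cert.rep (nat_lit 32) [] [] [] Cert.nil (Cert.rep (nat_lit 48) [] [] [] Cert.nil (Cert.rep (nat_lit 74) [] [] [] Cert.nil (Cert.rep (nat_lit 90) [] [] [] Cert.nil Cert.nil)))))))))) (Cert.rep (nat_lit 24) []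 [nat_lit 32,nat_lit 16,nat_lit 8,nat_lit 1] [nat_lit 64,nat_lit 4,nat_lit 2] (Cert.rep (nat_lit 1) [] [] [] Cert.nil (Cert.rep (nat_lit 8) [] [] [] Cert.nil (Cert.rep (nat_lit 9) [] [] [] Cert.nil (Cert.rep (nat_lit 16) [] [] [] Cert.nil (Cert.rep (nat_lit 17) [] [] [] Cert.nil (Cert.rep (nat_lit 25) [] [] [] Cert.nil (Cert.rep (nat_lit 32) [] [] [] Cert.nil (Cert.rep (nat_lit 33) [] [] [] Cert.nil (Cert.rep (nat_lit 40) [] [] [] Cert.nil (Cert.rep (nat_lit 41) [] [] [] Cert.nil (Cert.rep (nat_lit 48) [] [] [] Cert.nil (Cert.rep (nat_lit 49) [] [] [] Cert.nil (Cert.rep (nat_lit 56) [] [] [] Cert.nil (Cert.rep (nat_lit 57) [] [] [] Cert.nil Cert.nil)))))))))))))) (Cert.rep (nat_lit 28) [nat_lit 32,nat_lit 70] [nat_lit 70,nat_lit 32,nat_lit 18,nat_lit 14,nat_lit 1] [nat_lit 4,nat_lit 2] (Cert.rep (nat_lit 1) [] []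 [] Cert.nil (Cert.rep (nat_lit 29) [] [] [] Cert.nil (Cert.rep (nat_lit 32) [] [] [] Cert.nil (Cert.rep (nat_lit 60) [] [] [] Cert.nil (Cert.rep (nat_lit 70) [] [] [] Cert.nil (Cert.rep (nat_lit 90) [] [] [] Cert.nil (Cert.rep (nat_lit 104) [] [] [] Cert.nil (Cert.rep (nat_lit 116) [] [] [] Cert.nil Cert.nil)))))))) (Cert.rep (nat_lit 32) [nat_lit 2,nat_lit 4,nat_lit 8,nat_lit 16] [nat_lit 32,nat_lit 16,nat_lit 8,nat_lit 4,nat_lit 2,nat_lit 1] [nat_lit 64] (Cert.rep (nat_lit 1) [] [] [] Cert.nil f253_3) (Cert.rep (nat_lit 68) [nat_lit 12,nat_lit 34] [nat_lit 68,nat_lit 34,nat_lit 18,nat_lit 12,nat_lit 1] [nat_lit 4,nat_lit 2] (Cert.rep (nat_lit 1) [] [] [] Cert.nil (Cert.rep (nat_lit 30) [] [] [] Cert.nil (Cert.rep (nat_lit 48) [] [] [] Cert.nil (Cert.rep (nat_lit 60) [] [] [] Cert.nil (Cert.rep (nat_lit 69) [] []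 [] Cert.nil (Cert.rep (nat_lit 90) [] [] [] Cert.nil (Cert.rep (nat_lit 116) [] [] [] Cert.nil (Cert.rep (nat_lit 120) [] [] [] Cert.nil Cert.nil)))))))) (Cert.rep (nat_lit 70) [nat_lit 14,nat_lit 34] [nat_lit 70,nat_lit 34,nat_lit 18,nat_lit 14,nat_lit 1] [nat_lit 4,nat_lit 2] (Cert.rep (nat_lit 1) [] [] [] Cert.nil (Cert.rep (nat_lit 28) [] [] [] Cert.nil (Cert.rep (nat_lit 48) [] [] [] Cert.nil (Cert.rep (nat_lit 62) [] [] [] Cert.nil (Cert.rep (nat_lit 71) [] [] [] Cert.nil (Cert.rep (nat_lit 90) [] [] [] Cert.nil (Cert.rep (nat_lit 118) [] [] [] Cert.nil (Cert.rep (nat_lit 120) [] [] [] Cert.nil Cert.nil)))))))) (Cert.rep (nat_lit 74) [nat_lit 2,nat_lit 44] [nat_lit 72,nat_lit 44,nat_lit 16,nat_lit 2,nat_lit 1] [nat_lit 4,nat_lit 12] (Cert.rep (nat_lit 1) [] [] [] Cert.nil (Cert.rep (nat_lit 16) [] [] [] Cert.nil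 (Cert.rep (nat_lit 60) [] [] [] Cert.nil (Cert.rep (nat_lit 62) [] [] [] Cert.nil (Cert.rep (nat_lit 75) [] [] [] Cert.nil (Cert.rep (nat_lit 90) [] [] [] Cert.nil (Cert.rep (nat_lit 116) [] [] [] Cert.nil (Cert.rep (nat_lit 118) [] [] [] Cert.nil Cert.nil)))))))) (Cert.rep (nat_lit 90) [nat_lit 2,nat_lit 12] [nat_lit 68,nat_lit 16,nat_lit 12,nat_lit 2,nat_lit 1] [nat_lit 4,nat_lit 32] (Cert.rep (nat_lit 1) [] [] [] Cert.nil (Cert.rep (nat_lit 16) [] [] [] Cert.nil (Cert.rep (nat_lit 28) [] [] [] Cert.nil (Cert.rep (nat_lit 30) [] [] [] Cert.nil (Cert.rep (nat_lit 68) [] [] [] Cert.nil (Cert.rep (nat_lit 70) [] [] [] Cert.nil (Cert.rep (nat_lit 74) [] [] [] Cert.nil (Cert.rep (nat_lit 91) [] [] [] Cert.nil Cert.nil)))))))) Cert.nil)))))))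
noncomputable def f253 : Cert :=
  (Cert.st (nat_lit 0) (nat_lit 16) (nat_lit 0) (Cert.st (nat_lit 0) (nat_lit 24) (nat_lit 0) (Cert.st (nat_lit 0) (nat_lit 28) (nat_lit 0) (Cert.st (nat_lit 0) (nat_lit 32) (nat_lit 0) (Cert.sp (nat_lit 1) (Cert.lf (Leaf.pt (nat_lit 9) (nat_lit 1) [nat_lit 16])) (Cert.sp (nat_lit 8) (Cert.lf (Leaf.pt (nat_lit 9) (nat_lit 8) [nat_lit 16])) (Cert.st (nat_lit 0) (nat_lit 8) (nat_lit 0) (Cert.sp (nat_lit 48) (Cert.lf (Leaf.pt (nat_lit 9) (nat_lit 48) [nat_lit 16])) (Cert.st (nat_lit 0) (nat_lit 48) (nat_lit 0) (Cert.sp (nat_lit 60) (Cert.lf (Leaf.pt (nat_lit 9) (nat_lit 60) [nat_lit 28])) (Cert.st (nat_lit 0) (nat_lit 60) (nat_lit 0) (Cert.nl (nat_lit 1) (Cert.sy (nat_lit 0) (Cert.root (nat_lit 32) [] [nat_lit 8,nat_lit 4] [nat_lit 0,nat_lit 1,nat_lit 2,nat_lit 3,nat_lit 4] [Ins.fr [nat_lit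 0],Ins.ts (nat_lit 0) [nat_lit 0,nat_lit 0] [],Ins.ts (nat_lit 1) [nat_lit 0] [],Ins.ts (nat_lit 1) [nat_lit 0,nat_lit 1] [],Ins.fr [nat_lit 1],Ins.ts (nat_lit 1) [nat_lit 0,nat_lit 0] [],Ins.ts (nat_lit 1) [nat_lit 0,nat_lit 0,nat_lit 0,nat_lit 0] [],Ins.ts (nat_lit 0) [nat_lit 1,nat_lit 0,nat_lit 1] [nat_lit 0,nat_lit 0,nat_lit 0],Ins.df [nat_lit 0,nat_lit 0],Ins.df [nat_lit 0,nat_lit 0]] f253_4))))))))))))))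
theorem fin253 : finOK DB PT 88 t88 253 t253 (nat_lit 0x3f003000c000cf0ff030f03ff030f03) f253 = true := by
  decide +kernel
noncomputable def f257_0 : Cert :=
  Cert.rep (nat_lit 24) [nat_lit 8,nat_lit 16] [] [] (Cert.rep (nat_lit 20) [] [] [] (Cert.er (Cert.ro (nat_lit 0) [nat_lit 1,nat_lit 8,nat_lit 16] [nat_lit 8,nat_lit 9,nat_lit 16] [nat_lit 0,nat_lit 1,nat_lit 24,nat_lit 25,nat_lit 32,nat_lit 33,nat_lit 56,nat_lit 57] (Cert.ro (nat_lit 1) [nat_lit 1,nat_lit 2,nat_lit 14,nat_lit 16] [nat_lit 1,nat_lit 14,nat_lit 12,nat_lit 16] [nat_lit 0,nat_lit 1,nat_lit 3,nat_lit 2,nat_lit 15,nat_lit 14,nat_lit 13,nat_lit 12,nat_lit 32,nat_lit 33,nat_lit 35,nat_lit 34,nat_lit 47,nat_lit 46,nat_lit 45,nat_lit 44] (Cert.st (nat_lit 2) (nat_lit 1) (nat_lit 1) (Cert.st (nat_lit 0) (nat_lit 1) (nat_lit 0) (Cert.nl (nat_lit 32)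 (Cert.sy (nat_lit 0) (Cert.o1 (nat_lit 0) (nat_lit 1) (Cert.fu (nat_lit 1) (nat_lit 4) (nat_lit 32) (nat_lit 0) [nat_lit 0] [nat_lit 4] [] [] [nat_lit 32,nat_lit 16,nat_lit 8,nat_lit 4,nat_lit 2,nat_lit 1] [nat_lit 1] [] [[nat_lit 1]] [Ins.fr [nat_lit 0],Ins.ts (nat_lit 1) [nat_lit 0,nat_lit 0] [],Ins.ts (nat_lit 0) [nat_lit 0,nat_lit 0,nat_lit 0,nat_lit 0] [nat_lit 1]] [] (Cert.rep (nat_lit 32) [] [nat_lit 32,nat_lit 16,nat_lit 8,nat_lit 4,nat_lit 2,nat_lit 1] [] Cert.nil Cert.nil)))))))))) (Cert.rep (nat_lit 52) [] [] [] (Cert.er (Cert.ro (nat_lit 0) [nat_lit 1,nat_lit 8,nat_lit 16] [nat_lit 8,nat_lit 9,nat_lit 16] [nat_lit 0,nat_lit 1,nat_lit 24,nat_lit 25,nat_lit 32,nat_lit 33,nat_lit 56,nat_lit 57] (Cert.ro (nat_lit 1) [nat_lit 1,nat_lit 2,nat_lit 14,nat_lit 16] [nat_lit 1,nat_lit 14,nat_lit 12,nat_lit 16] [nat_lit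 0,nat_lit 1,nat_lit 3,nat_lit 2,nat_lit 47,nat_lit 46,nat_lit 45,nat_lit 44,nat_lit 32,nat_lit 33,nat_lit 35,nat_lit 34,nat_lit 15,nat_lit 14,nat_lit 13,nat_lit 12] (Cert.st (nat_lit 2) (nat_lit 1) (nat_lit 1) (Cert.st (nat_lit 0) (nat_lit 1) (nat_lit 0) (Cert.nl (nat_lit 32) (Cert.sy (nat_lit 0) (Cert.o1 (nat_lit 0) (nat_lit 1) (Cert.fu (nat_lit 1) (nat_lit 4) (nat_lit 32) (nat_lit 0) [nat_lit 0] [nat_lit 4] [] [] [nat_lit 32,nat_lit 16,nat_lit 8,nat_lit 4,nat_lit 2,nat_lit 1] [nat_lit 1] [] [[nat_lit 1]] [Ins.fr [nat_lit 0],Ins.ts (nat_lit 1) [nat_lit 0,nat_lit 0] [],Ins.ts (nat_lit 0) [nat_lit 0,nat_lit 0,nat_lit 0,nat_lit 0] [nat_lit 1]] [] (Cert.rep (nat_lit 32) [] [nat_lit 32,nat_lit 16,nat_lit 8,nat_lit 4,nat_lit 2,nat_lit 1] [] Cert.nil Cert.nil)))))))))) Cert.nil)) (Cert.rep (nat_lit 28) [] [] [] Cert.nil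 (Cert.rep (nat_lit 33) [] [] [] Cert.nil (Cert.rep (nat_lit 40) [nat_lit 8,nat_lit 16] [] [] (Cert.rep (nat_lit 4) [] [] [] (Cert.er (Cert.ro (nat_lit 0) [nat_lit 1,nat_lit 8,nat_lit 16] [nat_lit 8,nat_lit 9,nat_lit 16] [nat_lit 0,nat_lit 1,nat_lit 40,nat_lit 41,nat_lit 32,nat_lit 33,nat_lit 8,nat_lit 9] (Cert.ro (nat_lit 1) [nat_lit 1,nat_lit 2,nat_lit 14,nat_lit 16] [nat_lit 1,nat_lit 14,nat_lit 12,nat_lit 16] [nat_lit 0,nat_lit 1,nat_lit 2,nat_lit 3,nat_lit 46,nat_lit 47,nat_lit 45,nat_lit 44,nat_lit 32,nat_lit 33,nat_lit 34,nat_lit 35,nat_lit 14,nat_lit 15,nat_lit 13,nat_lit 12] (Cert.st (nat_lit 2) (nat_lit 1) (nat_lit 1) (Cert.st (nat_lit 0) (nat_lit 1) (nat_lit 0) (Cert.nl (nat_lit 32) (Cert.sy (nat_lit 0) (Cert.o1 (nat_lit 0) (nat_lit 1) (Cert.fu (nat_lit 1) (nat_lit 4) (nat_lit 32) (nat_lit 0) [nat_lit 0]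 [nat_lit 4] [] [] [nat_lit 32,nat_lit 16,nat_lit 8,nat_lit 4,nat_lit 2,nat_lit 1] [nat_lit 1] [] [[nat_lit 1]] [Ins.fr [nat_lit 0],Ins.ts (nat_lit 1) [nat_lit 0,nat_lit 0] [],Ins.ts (nat_lit 0) [nat_lit 0,nat_lit 0,nat_lit 0,nat_lit 0] [nat_lit 1]] [] (Cert.rep (nat_lit 32) [] [nat_lit 32,nat_lit 16,nat_lit 8,nat_lit 4,nat_lit 2,nat_lit 1] [] Cert.nil Cert.nil)))))))))) (Cert.rep (nat_lit 36) [] [] [] (Cert.er (Cert.ro (nat_lit 0) [nat_lit 1,nat_lit 8,nat_lit 16] [nat_lit 8,nat_lit 9,nat_lit 16] [nat_lit 0,nat_lit 1,nat_lit 40,nat_lit 41,nat_lit 32,nat_lit 33,nat_lit 8,nat_lit 9] (Cert.ro (nat_lit 1) [nat_lit 1,nat_lit 2,nat_lit 14,nat_lit 16] [nat_lit 1,nat_lit 14,nat_lit 12,nat_lit 16] [nat_lit 0,nat_lit 1,nat_lit 2,nat_lit 3,nat_lit 14,nat_lit 15,nat_lit 13,nat_lit 12,nat_lit 32,nat_lit 33,nat_lit 34,nat_lit 35,nat_lit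 46,nat_lit 47,nat_lit 45,nat_lit 44] (Cert.st (nat_lit 2) (nat_lit 1) (nat_lit 1) (Cert.st (nat_lit 0) (nat_lit 1) (nat_lit 0) (Cert.nl (nat_lit 32) (Cert.sy (nat_lit 0) (Cert.o1 (nat_lit 0) (nat_lit 1) (Cert.fu (nat_lit 1) (nat_lit 4) (nat_lit 32) (nat_lit 0) [nat_lit 0] [nat_lit 4] [] [] [nat_lit 32,nat_lit 16,nat_lit 8,nat_lit 4,nat_lit 2,nat_lit 1] [nat_lit 1] [] [[nat_lit 1]] [Ins.fr [nat_lit 0],Ins.ts (nat_lit 1) [nat_lit 0,nat_lit 0] [],Ins.ts (nat_lit 0) [nat_lit 0,nat_lit 0,nat_lit 0,nat_lit 0] [nat_lit 1]] [] (Cert.rep (nat_lit 32) [] [nat_lit 32,nat_lit 16,nat_lit 8,nat_lit 4,nat_lit 2,nat_lit 1] [] Cert.nil Cert.nil)))))))))) Cert.nil)) (Cert.rep (nat_lit 48) [] [] [] Cert.nil (Cert.rep (nat_lit 56) [nat_lit 8,nat_lit 16] [] [] (Cert.rep (nat_lit 20) [] [] [] (Cert.er (Cert.ro (nat_lit 0) [nat_lit 1,nat_lit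 8,nat_lit 16] [nat_lit 8,nat_lit 9,nat_lit 16] [nat_lit 0,nat_lit 1,nat_lit 56,nat_lit 57,nat_lit 32,nat_lit 33,nat_lit 24,nat_lit 25] (Cert.ro (nat_lit 1) [nat_lit 1,nat_lit 2,nat_lit 14,nat_lit 16] [nat_lit 1,nat_lit 14,nat_lit 12,nat_lit 16] [nat_lit 0,nat_lit 1,nat_lit 3,nat_lit 2,nat_lit 47,nat_lit 46,nat_lit 45,nat_lit 44,nat_lit 32,nat_lit 33,nat_lit 35,nat_lit 34,nat_lit 15,nat_lit 14,nat_lit 13,nat_lit 12] (Cert.lw (nat_lit 0) (nat_lit 2) (nat_lit 1) (Cert.lw (nat_lit 0) (nat_lit 3) (nat_lit 13) (Cert.o1 (nat_lit 0) (nat_lit 48) (Cert.fu (nat_lit 48) (nat_lit 1) (nat_lit 0) (nat_lit 0) [nat_lit 0] [nat_lit 2] [] [] [] [nat_lit 1] [[nat_lit 1]] [[nat_lit 48]] [Ins.ts (nat_lit 1) [nat_lit 0] [],Ins.fr [nat_lit 0],Ins.ts (nat_lit 1) [nat_lit 0,nat_lit 0] [],Ins.ts (nat_lit 1) [nat_lit 0,nat_lit 0,nat_lit 1]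 [],Ins.ts (nat_lit 0) [nat_lit 0,nat_lit 0,nat_lit 0,nat_lit 0] []] [] (Cert.rep (nat_lit 1) [] [nat_lit 32,nat_lit 16,nat_lit 8,nat_lit 4,nat_lit 2,nat_lit 1] [] Cert.nil Cert.nil)))))))) (Cert.rep (nat_lit 52) [] [] [] (Cert.er (Cert.ro (nat_lit 0) [nat_lit 1,nat_lit 8,nat_lit 16] [nat_lit 8,nat_lit 9,nat_lit 16] [nat_lit 0,nat_lit 1,nat_lit 56,nat_lit 57,nat_lit 32,nat_lit 33,nat_lit 24,nat_lit 25] (Cert.ro (nat_lit 1) [nat_lit 1,nat_lit 2,nat_lit 14,nat_lit 16] [nat_lit 1,nat_lit 14,nat_lit 12,nat_lit 16] [nat_lit 0,nat_lit 1,nat_lit 3,nat_lit 2,nat_lit 15,nat_lit 14,nat_lit 13,nat_lit 12,nat_lit 32,nat_lit 33,nat_lit 35,nat_lit 34,nat_lit 47,nat_lit 46,nat_lit 45,nat_lit 44] (Cert.lw (nat_lit 0) (nat_lit 2) (nat_lit 1) (Cert.lw (nat_lit 0) (nat_lit 3) (nat_lit 13) (Cert.o1 (nat_lit 0) (nat_lit 48) (Cert.fu (nat_lit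 48) (nat_lit 1) (nat_lit 0) (nat_lit 0) [nat_lit 0] [nat_lit 2] [] [] [] [nat_lit 1] [[nat_lit 1]] [[nat_lit 48]] [Ins.ts (nat_lit 1) [nat_lit 0] [],Ins.fr [nat_lit 0],Ins.ts (nat_lit 1) [nat_lit 0,nat_lit 0] [],Ins.ts (nat_lit 1) [nat_lit 0,nat_lit 0,nat_lit 1] [],Ins.ts (nat_lit 0) [nat_lit 0,nat_lit 0,nat_lit 0,nat_lit 0] []] [] (Cert.rep (nat_lit 1) [] [nat_lit 32,nat_lit 16,nat_lit 8,nat_lit 4,nat_lit 2,nat_lit 1] [] Cert.nil Cert.nil)))))))) Cert.nil)) (Cert.rep (nat_lit 60) [] [] [] Cert.nil Cert.nil))))))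
noncomputable def f257_1 : Cert :=
  Cert.rep (nat_lit 24) [nat_lit 8,nat_lit 16] [] [] (Cert.rep (nat_lit 20) [] [] [] (Cert.er (Cert.ro (nat_lit 0) [nat_lit 1,nat_lit 8,nat_lit 16] [nat_lit 8,nat_lit 9,nat_lit 16] [nat_lit 0,nat_lit 1,nat_lit 24,nat_lit 25,nat_lit 33,nat_lit 32,nat_lit 57,nat_lit 56] (Cert.ro (nat_lit 1) [nat_lit 1,nat_lit 2,nat_lit 14,nat_lit 16] [nat_lit 1,nat_lit 14,nat_lit 12,nat_lit 16] [nat_lit 0,nat_lit 1,nat_lit 3,nat_lit 2,nat_lit 15,nat_lit 14,nat_lit 13,nat_lit 12,nat_lit 33,nat_lit 32,nat_lit 34,nat_lit 35,nat_lit 46,nat_lit 47,nat_lit 44,nat_lit 45] (Cert.st (nat_lit 2) (nat_lit 1) (nat_lit 1) (Cert.st (nat_lit 0) (nat_lit 1) (nat_lit 0) (Cert.nl (nat_lit 33) (Cert.sy (nat_lit 0) (Cert.o1 (nat_lit 0) (nat_lit 1) (Cert.fu (nat_lit 1) (nat_lit 4) (nat_lit 33) (nat_lit 0) [nat_lit 0]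 [nat_lit 4] [] [] [nat_lit 32,nat_lit 16,nat_lit 8,nat_lit 4,nat_lit 2,nat_lit 1] [nat_lit 1] [] [[nat_lit 1]] [Ins.fr [nat_lit 0],Ins.ts (nat_lit 1) [nat_lit 0,nat_lit 0] [],Ins.ts (nat_lit 0) [nat_lit 0,nat_lit 0,nat_lit 0,nat_lit 0] [nat_lit 1]] [] (Cert.rep (nat_lit 33) [] [nat_lit 32,nat_lit 16,nat_lit 8,nat_lit 4,nat_lit 2,nat_lit 1] [] Cert.nil Cert.nil)))))))))) (Cert.rep (nat_lit 52) [] [] [] (Cert.er (Cert.ro (nat_lit 0) [nat_lit 1,nat_lit 8,nat_lit 16] [nat_lit 8,nat_lit 9,nat_lit 16] [nat_lit 0,nat_lit 1,nat_lit 24,nat_lit 25,nat_lit 33,nat_lit 32,nat_lit 57,nat_lit 56] (Cert.ro (nat_lit 1) [nat_lit 1,nat_lit 2,nat_lit 14,nat_lit 16] [nat_lit 1,nat_lit 14,nat_lit 12,nat_lit 16] [nat_lit 0,nat_lit 1,nat_lit 3,nat_lit 2,nat_lit 47,nat_lit 46,nat_lit 45,nat_lit 44,nat_lit 33,nat_lit 32,nat_lit 34,nat_lit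 35,nat_lit 14,nat_lit 15,nat_lit 12,nat_lit 13] (Cert.st (nat_lit 2) (nat_lit 1) (nat_lit 1) (Cert.st (nat_lit 0) (nat_lit 1) (nat_lit 0) (Cert.nl (nat_lit 33) (Cert.sy (nat_lit 0) (Cert.o1 (nat_lit 0) (nat_lit 1) (Cert.fu (nat_lit 1) (nat_lit 4) (nat_lit 33) (nat_lit 0) [nat_lit 0] [nat_lit 4] [] [] [nat_lit 32,nat_lit 16,nat_lit 8,nat_lit 4,nat_lit 2,nat_lit 1] [nat_lit 1] [] [[nat_lit 1]] [Ins.fr [nat_lit 0],Ins.ts (nat_lit 1) [nat_lit 0,nat_lit 0] [],Ins.ts (nat_lit 0) [nat_lit 0,nat_lit 0,nat_lit 0,nat_lit 0] [nat_lit 1]] [] (Cert.rep (nat_lit 33) [] [nat_lit 32,nat_lit 16,nat_lit 8,nat_lit 4,nat_lit 2,nat_lit 1] [] Cert.nil Cert.nil)))))))))) Cert.nil)) (Cert.rep (nat_lit 28) [] [] [] Cert.nil (Cert.rep (nat_lit 32) [] [] [] Cert.nil (Cert.rep (nat_lit 40) [nat_lit 8,nat_lit 16] [] [] (Cert.rep (nat_lit 4)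 [] [] [] (Cert.er (Cert.ro (nat_lit 0) [nat_lit 1,nat_lit 8,nat_lit 16] [nat_lit 8,nat_lit 9,nat_lit 16] [nat_lit 0,nat_lit 1,nat_lit 40,nat_lit 41,nat_lit 33,nat_lit 32,nat_lit 9,nat_lit 8] (Cert.ro (nat_lit 1) [nat_lit 1,nat_lit 2,nat_lit 14,nat_lit 16] [nat_lit 1,nat_lit 14,nat_lit 12,nat_lit 16] [nat_lit 0,nat_lit 1,nat_lit 2,nat_lit 3,nat_lit 46,nat_lit 47,nat_lit 45,nat_lit 44,nat_lit 33,nat_lit 32,nat_lit 35,nat_lit 34,nat_lit 15,nat_lit 14,nat_lit 12,nat_lit 13] (Cert.st (nat_lit 2) (nat_lit 1) (nat_lit 1) (Cert.st (nat_lit 0) (nat_lit 1) (nat_lit 0) (Cert.nl (nat_lit 33) (Cert.sy (nat_lit 0) (Cert.o1 (nat_lit 0) (nat_lit 1) (Cert.fu (nat_lit 1) (nat_lit 4) (nat_lit 33) (nat_lit 0) [nat_lit 0] [nat_lit 4] [] [] [nat_lit 32,nat_lit 16,nat_lit 8,nat_lit 4,nat_lit 2,nat_lit 1] [nat_lit 1] [] [[nat_lit 1]] [Ins.fr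 [nat_lit 0],Ins.ts (nat_lit 1) [nat_lit 0,nat_lit 0] [],Ins.ts (nat_lit 0) [nat_lit 0,nat_lit 0,nat_lit 0,nat_lit 0] [nat_lit 1]] [] (Cert.rep (nat_lit 33) [] [nat_lit 32,nat_lit 16,nat_lit 8,nat_lit 4,nat_lit 2,nat_lit 1] [] Cert.nil Cert.nil)))))))))) (Cert.rep (nat_lit 36) [] [] [] (Cert.er (Cert.ro (nat_lit 0) [nat_lit 1,nat_lit 8,nat_lit 16] [nat_lit 8,nat_lit 9,nat_lit 16] [nat_lit 0,nat_lit 1,nat_lit 40,nat_lit 41,nat_lit 33,nat_lit 32,nat_lit 9,nat_lit 8] (Cert.ro (nat_lit 1) [nat_lit 1,nat_lit 2,nat_lit 14,nat_lit 16] [nat_lit 1,nat_lit 14,nat_lit 12,nat_lit 16] [nat_lit 0,nat_lit 1,nat_lit 2,nat_lit 3,nat_lit 14,nat_lit 15,nat_lit 13,nat_lit 12,nat_lit 33,nat_lit 32,nat_lit 35,nat_lit 34,nat_lit 47,nat_lit 46,nat_lit 44,nat_lit 45] (Cert.st (nat_lit 2) (nat_lit 1) (nat_lit 1) (Cert.st (nat_lit 0) (nat_lit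 1) (nat_lit 0) (Cert.nl (nat_lit 33) (Cert.sy (nat_lit 0) (Cert.o1 (nat_lit 0) (nat_lit 1) (Cert.fu (nat_lit 1) (nat_lit 4) (nat_lit 33) (nat_lit 0) [nat_lit 0] [nat_lit 4] [] [] [nat_lit 32,nat_lit 16,nat_lit 8,nat_lit 4,nat_lit 2,nat_lit 1] [nat_lit 1] [] [[nat_lit 1]] [Ins.fr [nat_lit 0],Ins.ts (nat_lit 1) [nat_lit 0,nat_lit 0] [],Ins.ts (nat_lit 0) [nat_lit 0,nat_lit 0,nat_lit 0,nat_lit 0] [nat_lit 1]] [] (Cert.rep (nat_lit 33) [] [nat_lit 32,nat_lit 16,nat_lit 8,nat_lit 4,nat_lit 2,nat_lit 1] [] Cert.nil Cert.nil)))))))))) Cert.nil)) (Cert.rep (nat_lit 48) [] [] [] Cert.nil (Cert.rep (nat_lit 56) [nat_lit 8,nat_lit 16] [] [] (Cert.rep (nat_lit 20) [] [] [] (Cert.er (Cert.ro (nat_lit 0) [nat_lit 1,nat_lit 8,nat_lit 16] [nat_lit 8,nat_lit 9,nat_lit 16] [nat_lit 0,nat_lit 1,nat_lit 56,nat_lit 57,nat_lit 33,nat_lit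 32,nat_lit 25,nat_lit 24] (Cert.ro (nat_lit 1) [nat_lit 1,nat_lit 2,nat_lit 14,nat_lit 16] [nat_lit 1,nat_lit 14,nat_lit 12,nat_lit 16] [nat_lit 0,nat_lit 1,nat_lit 3,nat_lit 2,nat_lit 47,nat_lit 46,nat_lit 45,nat_lit 44,nat_lit 33,nat_lit 32,nat_lit 34,nat_lit 35,nat_lit 14,nat_lit 15,nat_lit 12,nat_lit 13] (Cert.lw (nat_lit 0) (nat_lit 2) (nat_lit 1) (Cert.lw (nat_lit 0) (nat_lit 3) (nat_lit 13) (Cert.o1 (nat_lit 0) (nat_lit 48) (Cert.fu (nat_lit 48) (nat_lit 1) (nat_lit 0) (nat_lit 0) [nat_lit 0] [nat_lit 2] [] [] [] [nat_lit 1] [[nat_lit 1]] [[nat_lit 48]] [Ins.ts (nat_lit 1) [nat_lit 0] [],Ins.fr [nat_lit 0],Ins.ts (nat_lit 1) [nat_lit 0,nat_lit 0] [],Ins.ts (nat_lit 1) [nat_lit 0,nat_lit 0,nat_lit 1] [],Ins.ts (nat_lit 0) [nat_lit 0,nat_lit 0,nat_lit 0,nat_lit 0] []] [] (Cert.rep (nat_lit 1) [] [nat_lit 32,nat_lit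 16,nat_lit 8,nat_lit 4,nat_lit 2,nat_lit 1] [] Cert.nil Cert.nil)))))))) (Cert.rep (nat_lit 52) [] [] [] (Cert.er (Cert.ro (nat_lit 0) [nat_lit 1,nat_lit 8,nat_lit 16] [nat_lit 8,nat_lit 9,nat_lit 16] [nat_lit 0,nat_lit 1,nat_lit 56,nat_lit 57,nat_lit 33,nat_lit 32,nat_lit 25,nat_lit 24] (Cert.ro (nat_lit 1) [nat_lit 1,nat_lit 2,nat_lit 14,nat_lit 16] [nat_lit 1,nat_lit 14,nat_lit 12,nat_lit 16] [nat_lit 0,nat_lit 1,nat_lit 3,nat_lit 2,nat_lit 15,nat_lit 14,nat_lit 13,nat_lit 12,nat_lit 33,nat_lit 32,nat_lit 34,nat_lit 35,nat_lit 46,nat_lit 47,nat_lit 44,nat_lit 45] (Cert.lw (nat_lit 0) (nat_lit 2) (nat_lit 1) (Cert.lw (nat_lit 0) (nat_lit 3) (nat_lit 13) (Cert.o1 (nat_lit 0) (nat_lit 48) (Cert.fu (nat_lit 48) (nat_lit 1) (nat_lit 0) (nat_lit 0) [nat_lit 0] [nat_lit 2] [] [] [] [nat_lit 1] [[nat_lit 1]] [[nat_lit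 48]] [Ins.ts (nat_lit 1) [nat_lit 0] [],Ins.fr [nat_lit 0],Ins.ts (nat_lit 1) [nat_lit 0,nat_lit 0] [],Ins.ts (nat_lit 1) [nat_lit 0,nat_lit 0,nat_lit 1] [],Ins.ts (nat_lit 0) [nat_lit 0,nat_lit 0,nat_lit 0,nat_lit 0] []] [] (Cert.rep (nat_lit 1) [] [nat_lit 32,nat_lit 16,nat_lit 8,nat_lit 4,nat_lit 2,nat_lit 1] [] Cert.nil Cert.nil)))))))) Cert.nil)) (Cert.rep (nat_lit 60) [] [] [] Cert.nil Cert.nil))))))
noncomputable def f257_2 : Cert :=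
  Cert.rep (nat_lit 32) [nat_lit 2,nat_lit 4,nat_lit 8,nat_lit 16] [nat_lit 32,nat_lit 16,nat_lit 8,nat_lit 4,nat_lit 2,nat_lit 1] [] (Cert.rep (nat_lit 1) [] [] [] Cert.nil (Cert.rep (nat_lit 8) [nat_lit 8,nat_lit 16] [] [] (Cert.rep (nat_lit 4) [] [] [] (Cert.er (Cert.ro (nat_lit 0) [nat_lit 1,nat_lit 8,nat_lit 16] [nat_lit 8,nat_lit 9,nat_lit 16] [nat_lit 0,nat_lit 1,nat_lit 8,nat_lit 9,nat_lit 32,nat_lit 33,nat_lit 40,nat_lit 41] (Cert.ro (nat_lit 1) [nat_lit 1,nat_lit 2,nat_lit 14,nat_lit 16] [nat_lit 1,nat_lit 14,nat_lit 12,nat_lit 16] [nat_lit 0,nat_lit 1,nat_lit 2,nat_lit 3,nat_lit 14,nat_lit 15,nat_lit 13,nat_lit 12,nat_lit 32,nat_lit 33,nat_lit 34,nat_lit 35,nat_lit 46,nat_lit 47,nat_lit 45,nat_lit 44] (Cert.fu (nat_lit 1) (nat_lit 1) (nat_lit 0) (nat_lit 0) [nat_lit 0] [nat_lit 16,nat_lit 4] [] [] [] [nat_lit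 9] [[nat_lit 32,nat_lit 1]] [[nat_lit 16,nat_lit 1]] [Ins.ts (nat_lit 1) [nat_lit 0] [],Ins.fr [nat_lit 0],Ins.ts (nat_lit 4) [nat_lit 0] [nat_lit 0,nat_lit 0,nat_lit 0],Ins.ts (nat_lit 1) [nat_lit 0] [],Ins.ts (nat_lit 1) [nat_lit 0,nat_lit 1] [],Ins.fr [nat_lit 1],Ins.ts (nat_lit 1) [nat_lit 0,nat_lit 0] [],Ins.ts (nat_lit 0) [nat_lit 1,nat_lit 2,nat_lit 0] [nat_lit 0,nat_lit 1]] [] (Cert.rep (nat_lit 1) [] [nat_lit 32,nat_lit 16,nat_lit 8,nat_lit 4,nat_lit 2,nat_lit 1] [] (Cert.rep (nat_lit 32) [] [] [] Cert.nil (Cert.rep (nat_lit 33) [] [] [] Cert.nil Cert.nil)) (Cert.rep (nat_lit 32) [] [nat_lit 32,nat_lit 16,nat_lit 8,nat_lit 4,nat_lit 2,nat_lit 1] [] (Cert.rep (nat_lit 1) [] [] [] Cert.nil (Cert.rep (nat_lit 33) [] [] [] Cert.nil Cert.nil)) (Cert.rep (nat_lit 33) [] [nat_lit 32,nat_lit 16,nat_lit 8,nat_lit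 4,nat_lit 2,nat_lit 1] [] (Cert.rep (nat_lit 1) [] [] [] Cert.nil (Cert.rep (nat_lit 32) [] [] [] Cert.nil Cert.nil)) Cert.nil))))))) (Cert.rep (nat_lit 36) [] [] [] (Cert.er (Cert.ro (nat_lit 0) [nat_lit 1,nat_lit 8,nat_lit 16] [nat_lit 8,nat_lit 9,nat_lit 16] [nat_lit 0,nat_lit 1,nat_lit 8,nat_lit 9,nat_lit 32,nat_lit 33,nat_lit 40,nat_lit 41] (Cert.ro (nat_lit 1) [nat_lit 1,nat_lit 2,nat_lit 14,nat_lit 16] [nat_lit 1,nat_lit 14,nat_lit 12,nat_lit 16] [nat_lit 0,nat_lit 1,nat_lit 2,nat_lit 3,nat_lit 46,nat_lit 47,nat_lit 45,nat_lit 44,nat_lit 32,nat_lit 33,nat_lit 34,nat_lit 35,nat_lit 14,nat_lit 15,nat_lit 13,nat_lit 12] (Cert.fu (nat_lit 1) (nat_lit 1) (nat_lit 0) (nat_lit 0) [nat_lit 0] [nat_lit 16,nat_lit 4] [] [] [] [nat_lit 9] [[nat_lit 32,nat_lit 1]] [[nat_lit 16,nat_lit 1]] [Ins.ts (nat_lit 1) [nat_lit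 0] [],Ins.fr [nat_lit 0],Ins.ts (nat_lit 4) [nat_lit 0] [nat_lit 0,nat_lit 0,nat_lit 0],Ins.ts (nat_lit 1) [nat_lit 0] [],Ins.ts (nat_lit 1) [nat_lit 0,nat_lit 1] [],Ins.fr [nat_lit 1],Ins.ts (nat_lit 1) [nat_lit 0,nat_lit 0] [],Ins.ts (nat_lit 0) [nat_lit 1,nat_lit 2,nat_lit 0] [nat_lit 0,nat_lit 1]] [] (Cert.rep (nat_lit 1) [] [nat_lit 32,nat_lit 16,nat_lit 8,nat_lit 4,nat_lit 2,nat_lit 1] [] (Cert.rep (nat_lit 32) [] [] [] Cert.nil (Cert.rep (nat_lit 33) [] [] [] Cert.nil Cert.nil)) (Cert.rep (nat_lit 32) [] [nat_lit 32,nat_lit 16,nat_lit 8,nat_lit 4,nat_lit 2,nat_lit 1] [] (Cert.rep (nat_lit 1) [] [] [] Cert.nil (Cert.rep (nat_lit 33) [] [] [] Cert.nil Cert.nil)) (Cert.rep (nat_lit 33) [] [nat_lit 32,nat_lit 16,nat_lit 8,nat_lit 4,nat_lit 2,nat_lit 1] [] (Cert.rep (nat_lit 1) [] [] [] Cert.nil (Cert.rep (nat_lit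 32) [] [] [] Cert.nil Cert.nil)) Cert.nil))))))) Cert.nil)) (Cert.rep (nat_lit 16) [] [] [] Cert.nil f257_0))) (Cert.rep (nat_lit 33) [nat_lit 2,nat_lit 4,nat_lit 8,nat_lit 16] [nat_lit 32,nat_lit 16,nat_lit 8,nat_lit 4,nat_lit 2,nat_lit 1] [] (Cert.rep (nat_lit 1) [] [] [] Cert.nil (Cert.rep (nat_lit 8) [nat_lit 8,nat_lit 16] [] [] (Cert.rep (nat_lit 4) [] [] [] (Cert.er (Cert.ro (nat_lit 0) [nat_lit 1,nat_lit 8,nat_lit 16] [nat_lit 8,nat_lit 9,nat_lit 16] [nat_lit 0,nat_lit 1,nat_lit 8,nat_lit 9,nat_lit 33,nat_lit 32,nat_lit 41,nat_lit 40] (Cert.ro (nat_lit 1) [nat_lit 1,nat_lit 2,nat_lit 14,nat_lit 16] [nat_lit 1,nat_lit 14,nat_lit 12,nat_lit 16] [nat_lit 0,nat_lit 1,nat_lit 2,nat_lit 3,nat_lit 14,nat_lit 15,nat_lit 13,nat_lit 12,nat_lit 33,nat_lit 32,nat_lit 35,nat_lit 34,nat_lit 47,nat_lit 46,nat_lit 44,nat_lit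 45] (Cert.fu (nat_lit 1) (nat_lit 1) (nat_lit 0) (nat_lit 0) [nat_lit 0] [nat_lit 16,nat_lit 4] [] [] [] [nat_lit 9] [[nat_lit 32,nat_lit 1]] [[nat_lit 16,nat_lit 1]] [Ins.ts (nat_lit 1) [nat_lit 0] [],Ins.fr [nat_lit 0],Ins.ts (nat_lit 4) [nat_lit 0] [nat_lit 0,nat_lit 0,nat_lit 0],Ins.ts (nat_lit 1) [nat_lit 0] [],Ins.ts (nat_lit 1) [nat_lit 0,nat_lit 1] [],Ins.fr [nat_lit 1],Ins.ts (nat_lit 1) [nat_lit 0,nat_lit 0] [],Ins.ts (nat_lit 0) [nat_lit 1,nat_lit 2,nat_lit 0] [nat_lit 0,nat_lit 1]] [] (Cert.rep (nat_lit 1) [] [nat_lit 32,nat_lit 16,nat_lit 8,nat_lit 4,nat_lit 2,nat_lit 1] [] (Cert.rep (nat_lit 32) [] [] [] Cert.nil (Cert.rep (nat_lit 33) [] [] [] Cert.nil Cert.nil)) (Cert.rep (nat_lit 32) [] [nat_lit 32,nat_lit 16,nat_lit 8,nat_lit 4,nat_lit 2,nat_lit 1] [] (Cert.rep (nat_lit 1) [] [] [] Cert.nil (Cert.rep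 (nat_lit 33) [] [] [] Cert.nil Cert.nil)) (Cert.rep (nat_lit 33) [] [nat_lit 32,nat_lit 16,nat_lit 8,nat_lit 4,nat_lit 2,nat_lit 1] [] (Cert.rep (nat_lit 1) [] [] [] Cert.nil (Cert.rep (nat_lit 32) [] [] [] Cert.nil Cert.nil)) Cert.nil))))))) (Cert.rep (nat_lit 36) [] [] [] (Cert.er (Cert.ro (nat_lit 0) [nat_lit 1,nat_lit 8,nat_lit 16] [nat_lit 8,nat_lit 9,nat_lit 16] [nat_lit 0,nat_lit 1,nat_lit 8,nat_lit 9,nat_lit 33,nat_lit 32,nat_lit 41,nat_lit 40] (Cert.ro (nat_lit 1) [nat_lit 1,nat_lit 2,nat_lit 14,nat_lit 16] [nat_lit 1,nat_lit 14,nat_lit 12,nat_lit 16] [nat_lit 0,nat_lit 1,nat_lit 2,nat_lit 3,nat_lit 46,nat_lit 47,nat_lit 45,nat_lit 44,nat_lit 33,nat_lit 32,nat_lit 35,nat_lit 34,nat_lit 15,nat_lit 14,nat_lit 12,nat_lit 13] (Cert.fu (nat_lit 1) (nat_lit 1) (nat_lit 0) (nat_lit 0) [nat_lit 0] [nat_lit 16,nat_lit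 4] [] [] [] [nat_lit 9] [[nat_lit 32,nat_lit 1]] [[nat_lit 16,nat_lit 1]] [Ins.ts (nat_lit 1) [nat_lit 0] [],Ins.fr [nat_lit 0],Ins.ts (nat_lit 4) [nat_lit 0] [nat_lit 0,nat_lit 0,nat_lit 0],Ins.ts (nat_lit 1) [nat_lit 0] [],Ins.ts (nat_lit 1) [nat_lit 0,nat_lit 1] [],Ins.fr [nat_lit 1],Ins.ts (nat_lit 1) [nat_lit 0,nat_lit 0] [],Ins.ts (nat_lit 0) [nat_lit 1,nat_lit 2,nat_lit 0] [nat_lit 0,nat_lit 1]] [] (Cert.rep (nat_lit 1) [] [nat_lit 32,nat_lit 16,nat_lit 8,nat_lit 4,nat_lit 2,nat_lit 1] [] (Cert.rep (nat_lit 32) [] [] [] Cert.nil (Cert.rep (nat_lit 33) [] [] [] Cert.nil Cert.nil)) (Cert.rep (nat_lit 32) [] [nat_lit 32,nat_lit 16,nat_lit 8,nat_lit 4,nat_lit 2,nat_lit 1] [] (Cert.rep (nat_lit 1) [] [] [] Cert.nil (Cert.rep (nat_lit 33) [] [] [] Cert.nil Cert.nil)) (Cert.rep (nat_lit 33) [] [nat_lit 32,nat_lit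 16,nat_lit 8,nat_lit 4,nat_lit 2,nat_lit 1] [] (Cert.rep (nat_lit 1) [] [] [] Cert.nil (Cert.rep (nat_lit 32) [] [] [] Cert.nil Cert.nil)) Cert.nil))))))) Cert.nil)) (Cert.rep (nat_lit 16) [] [] [] Cert.nil f257_1))) (Cert.rep (nat_lit 40) [] [nat_lit 32,nat_lit 16,nat_lit 8,nat_lit 1] [nat_lit 4,nat_lit 2] (Cert.rep (nat_lit 1) [] [] [] Cert.nil (Cert.rep (nat_lit 8) [] [] [] Cert.nil (Cert.rep (nat_lit 9) [] [] [] Cert.nil (Cert.rep (nat_lit 16) [] [] [] Cert.nil (Cert.rep (nat_lit 17) [] [] [] Cert.nil (Cert.rep (nat_lit 24) [] [] [] Cert.nil (Cert.rep (nat_lit 25) [] [] [] Cert.nil (Cert.rep (nat_lit 32) [] [] [] Cert.nil (Cert.rep (nat_lit 33) [] [] [] Cert.nil (Cert.rep (nat_lit 41) [] [] [] Cert.nil (Cert.rep (nat_lit 48) [] [] [] Cert.nil (Cert.rep (nat_lit 49) [] [] [] Cert.nil (Cert.rep (nat_lit 56) []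 [] [] Cert.nil (Cert.rep (nat_lit 57) [] [] [] Cert.nil Cert.nil)))))))))))))) (Cert.rep (nat_lit 48) [nat_lit 2,nat_lit 8] [nat_lit 32,nat_lit 16,nat_lit 8,nat_lit 2,nat_lit 1] [nat_lit 4] (Cert.rep (nat_lit 1) [] [] [] Cert.nil (Cert.rep (nat_lit 8) [] [] [] Cert.nil (Cert.rep (nat_lit 10) [] [] [] Cert.nil (Cert.rep (nat_lit 16) [] [] [] Cert.nil (Cert.rep (nat_lit 17) [] [] [] Cert.nil (Cert.rep (nat_lit 24) [] [] [] Cert.nil (Cert.rep (nat_lit 26) [] [] [] Cert.nil (Cert.rep (nat_lit 32) [] [] [] Cert.nil (Cert.rep (nat_lit 33) [] [] [] Cert.nil (Cert.rep (nat_lit 40) [] [] [] Cert.nil (Cert.rep (nat_lit 42) [] [] [] Cert.nil (Cert.rep (nat_lit 49) [] [] [] Cert.nil (Cert.rep (nat_lit 56) [] [] [] Cert.nil (Cert.rep (nat_lit 58) [] [] [] Cert.nil Cert.nil)))))))))))))) (Cert.rep (nat_lit 56) [] [nat_lit 32,nat_lit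 16,nat_lit 8,nat_lit 1] [nat_lit 4,nat_lit 2] (Cert.rep (nat_lit 1) [] [] [] Cert.nil (Cert.rep (nat_lit 8) [] [] [] Cert.nil (Cert.rep (nat_lit 9) [] [] [] Cert.nil (Cert.rep (nat_lit 16) [] [] [] Cert.nil (Cert.rep (nat_lit 17) [] [] [] Cert.nil (Cert.rep (nat_lit 24) [] [] [] Cert.nil (Cert.rep (nat_lit 25) [] [] [] Cert.nil (Cert.rep (nat_lit 32) [] [] [] Cert.nil (Cert.rep (nat_lit 33) [] [] [] Cert.nil (Cert.rep (nat_lit 40) [] [] [] Cert.nil (Cert.rep (nat_lit 41) [] [] [] Cert.nil (Cert.rep (nat_lit 48) [] [] [] Cert.nil (Cert.rep (nat_lit 49) [] [] [] Cert.nil (Cert.rep (nat_lit 57) [] [] [] Cert.nil Cert.nil)))))))))))))) (Cert.rep (nat_lit 60) [] [nat_lit 32,nat_lit 18,nat_lit 14,nat_lit 1] [nat_lit 4,nat_lit 2] (Cert.rep (nat_lit 1) [] [] [] Cert.nil (Cert.rep (nat_lit 28) [] [] [] Cert.nil (Cert.rep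 (nat_lit 29) [] [] [] Cert.nil (Cert.rep (nat_lit 32) [] [] [] Cert.nil (Cert.rep (nat_lit 33) [] [] [] Cert.nil (Cert.rep (nat_lit 61) [] [] [] Cert.nil Cert.nil)))))) Cert.nil)))))
noncomputable def f257 : Cert :=
  (Cert.nl (nat_lit 1) (Cert.lw (nat_lit 0) (nat_lit 1) (nat_lit 1) (Cert.st (nat_lit 2) (nat_lit 1) (nat_lit 11) (Cert.st (nat_lit 0) (nat_lit 29) (nat_lit 0) (Cert.st (nat_lit 2) (nat_lit 1) (nat_lit 10) (Cert.st (nat_lit 0) (nat_lit 17) (nat_lit 0) (Cert.st (nat_lit 2) (nat_lit 0) (nat_lit 5) (Cert.st (nat_lit 0) (nat_lit 24) (nat_lit 0) (Cert.st (nat_lit 2) (nat_lit 2) (nat_lit 3) (Cert.st (nat_lit 0) (nat_lit 33) (nat_lit 0) (Cert.st (nat_lit 2) (nat_lit 0) (nat_lit 9) (Cert.st (nat_lit 0) (nat_lit 40) (nat_lit 0) (Cert.root (nat_lit 32) [] [nat_lit 8,nat_lit 4] [nat_lit 0,nat_lit 1,nat_lit 2,nat_lit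 3,nat_lit 4] [Ins.fr [nat_lit 0],Ins.ts (nat_lit 0) [nat_lit 0,nat_lit 0] [],Ins.ts (nat_lit 1) [nat_lit 0] [],Ins.ts (nat_lit 1) [nat_lit 0,nat_lit 1] [],Ins.fr [nat_lit 1],Ins.ts (nat_lit 1) [nat_lit 0,nat_lit 0] [],Ins.ts (nat_lit 1) [nat_lit 0,nat_lit 0,nat_lit 0,nat_lit 0] [],Ins.ts (nat_lit 0) [nat_lit 1,nat_lit 0,nat_lit 1] [nat_lit 0,nat_lit 0,nat_lit 0],Ins.ts (nat_lit 1) [nat_lit 0,nat_lit 0,nat_lit 0,nat_lit 0,nat_lit 2] [],Ins.df [nat_lit 0,nat_lit 0],Ins.df [nat_lit 0,nat_lit 0]] (Cert.rep (nat_lit 1) [nat_lit 2,nat_lit 4,nat_lit 8,nat_lit 16] [nat_lit 32,nat_lit 16,nat_lit 8,nat_lit 4,nat_lit 2,nat_lit 1] [] (Cert.rep (nat_lit 8) [] [] [] Cert.nil (Cert.rep (nat_lit 16) [] [] [] Cert.nil (Cert.rep (nat_lit 24) [] [] [] Cert.nil (Cert.rep (nat_lit 28) [] [] [] Cert.nil (Cert.rep (nat_lit 32) [] [] []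 Cert.nil (Cert.rep (nat_lit 33) [] [] [] Cert.nil (Cert.rep (nat_lit 40) [] [] [] Cert.nil (Cert.rep (nat_lit 48) [] [] [] Cert.nil (Cert.rep (nat_lit 56) [] [] [] Cert.nil (Cert.rep (nat_lit 60) [] [] [] Cert.nil Cert.nil)))))))))) (Cert.rep (nat_lit 8) [] [nat_lit 32,nat_lit 16,nat_lit 8,nat_lit 1] [nat_lit 4,nat_lit 2] (Cert.rep (nat_lit 1) [] [] [] Cert.nil (Cert.rep (nat_lit 9) [] [] [] Cert.nil (Cert.rep (nat_lit 16) [] [] [] Cert.nil (Cert.rep (nat_lit 17) [] [] [] Cert.nil (Cert.rep (nat_lit 24) [] [] [] Cert.nil (Cert.rep (nat_lit 25) [] [] [] Cert.nil (Cert.rep (nat_lit 32) [] [] [] Cert.nil (Cert.rep (nat_lit 33) [] [] [] Cert.nil (Cert.rep (nat_lit 40) [] [] [] Cert.nil (Cert.rep (nat_lit 41) [] [] [] Cert.nil (Cert.rep (nat_lit 48) [] [] [] Cert.nil (Cert.rep (nat_lit 49) [] [] [] Cert.nil (Cert.rep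 (nat_lit 56) [] [] [] Cert.nil (Cert.rep (nat_lit 57) [] [] [] Cert.nil Cert.nil)))))))))))))) (Cert.rep (nat_lit 16) [nat_lit 2,nat_lit 8] [nat_lit 32,nat_lit 16,nat_lit 8,nat_lit 2,nat_lit 1] [nat_lit 4] (Cert.rep (nat_lit 1) [] [] [] Cert.nil (Cert.rep (nat_lit 8) [] [] [] Cert.nil (Cert.rep (nat_lit 10) [] [] [] Cert.nil (Cert.rep (nat_lit 17) [] [] [] Cert.nil (Cert.rep (nat_lit 24) [] [] [] Cert.nil (Cert.rep (nat_lit 26) [] [] [] Cert.nil (Cert.rep (nat_lit 32) [] [] [] Cert.nil (Cert.rep (nat_lit 33) [] [] [] Cert.nil (Cert.rep (nat_lit 40) [] [] [] Cert.nil (Cert.rep (nat_lit 42) [] [] [] Cert.nil (Cert.rep (nat_lit 48) [] [] [] Cert.nil (Cert.rep (nat_lit 49) [] [] [] Cert.nil (Cert.rep (nat_lit 56) [] [] [] Cert.nil (Cert.rep (nat_lit 58) [] [] [] Cert.nil Cert.nil)))))))))))))) (Cert.rep (nat_lit 24)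 [] [nat_lit 32,nat_lit 16,nat_lit 8,nat_lit 1] [nat_lit 4,nat_lit 2] (Cert.rep (nat_lit 1) [] [] [] Cert.nil (Cert.rep (nat_lit 8) [] [] [] Cert.nil (Cert.rep (nat_lit 9) [] [] [] Cert.nil (Cert.rep (nat_lit 16) [] [] [] Cert.nil (Cert.rep (nat_lit 17) [] [] [] Cert.nil (Cert.rep (nat_lit 25) [] [] [] Cert.nil (Cert.rep (nat_lit 32) [] [] [] Cert.nil (Cert.rep (nat_lit 33) [] [] [] Cert.nil (Cert.rep (nat_lit 40) [] [] [] Cert.nil (Cert.rep (nat_lit 41) [] [] [] Cert.nil (Cert.rep (nat_lit 48) [] [] [] Cert.nil (Cert.rep (nat_lit 49) [] [] [] Cert.nil (Cert.rep (nat_lit 56) [] [] [] Cert.nil (Cert.rep (nat_lit 57) [] [] [] Cert.nil Cert.nil)))))))))))))) (Cert.rep (nat_lit 28) [] [nat_lit 32,nat_lit 18,nat_lit 14,nat_lit 1] [nat_lit 4,nat_lit 2] (Cert.rep (nat_lit 1) [] [] [] Cert.nil (Cert.rep (nat_lit 29) [] []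 [] Cert.nil (Cert.rep (nat_lit 32) [] [] [] Cert.nil (Cert.rep (nat_lit 33) [] [] [] Cert.nil (Cert.rep (nat_lit 60) [] [] [] Cert.nil (Cert.rep (nat_lit 61) [] [] [] Cert.nil Cert.nil)))))) f257_2))))))))))))))))))
theorem fin257 : finOK DB PT 88 t88 257 t257 (nat_lit 0xff030f03ff030f03) f257 = true := by
  decide +kernel

end Cfsg.Agent.L3S.Dat
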