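import Mathlib
import Cfsg.Agent.L3S.GA

/-!
Certificates for the Sylow subgroups.
-/

set_option autoImplicit false
set_option maxRecDepth 100000

namespace Cfsg.Agent.L3S.Dat

open Cfsg.Agent.L33 Cfsg.Agent.L33.Dat Cfsg.Agent.L3S

noncomputable def g100_3_0 : Cert :=
  Cert.rep (nat_lit 28) [] [nat_lit 586,nat_lit 192,nat_lit 32,nat_lit 24,nat_lit 4,nat_lit 1] [nat_lit 1024,nat_lit 64,nat_lit 256,nat_lit 2] (Cert.rep (nat_lit 4) [] [] [] Cert.nil (Cert.rep (nat_lit 5) [] [] [] Cert.nil (Cert.rep (nat_lit 24) [] [] [] Cert.nil (Cert.rep (nat_lit 25) [] [] [] Cert.nil (Cert.rep (nat_lit 36) [] [] [] Cert.nil (Cert.rep (nat_lit 37) [] [] [] Cert.nil (Cert.rep (nat_lit 56) [] [] [] Cert.nil (Cert.rep (nat_lit 57) [] [] [] Cert.nil (Cert.rep (nat_lit 652) [] [] [] Cert.nil (Cert.rep (nat_lit 653) [] [] [] Cert.nil (Cert.rep (nat_lit 656) [] [] [] Cert.nil (Cert.rep (nat_lit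 657) [] [] [] Cert.nil (Cert.rep (nat_lit 684) [] [] [] Cert.nil (Cert.rep (nat_lit 685) [] [] [] Cert.nil (Cert.rep (nat_lit 688) [] [] [] Cert.nil (Cert.rep (nat_lit 689) [] [] [] Cert.nil Cert.nil)))))))))))))))) (Cert.rep (nat_lit 32) [nat_lit 2,nat_lit 4,nat_lit 64,nat_lit 256,nat_lit 520,nat_lit 1024] [nat_lit 1024,nat_lit 520,nat_lit 256,nat_lit 128,nat_lit 64,nat_lit 32,nat_lit 24,nat_lit 4,nat_lit 2,nat_lit 1] [] (Cert.rep (nat_lit 2) [] [] [] Cert.nil (Cert.rep (nat_lit 4) [] [] [] Cert.nil (Cert.rep (nat_lit 24) [] [] [] Cert.nil (Cert.rep (nat_lit 258) [] [] [] Cert.nil (Cert.rep (nat_lit 280) [] [] [] Cert.nil (Cert.rep (nat_lit 592) [] [] [] Cert.nil (Cert.rep (nat_lit 596) [] [] [] Cert.nil (Cert.rep (nat_lit 652) [] [] [] Cert.nil (Cert.rep (nat_lit 656) [] [] [] Cert.nil Cert.nil))))))))) (Cert.rep (nat_lit 33) [nat_lit 2,nat_lit 4,nat_lit 64,nat_lit 256,nat_lit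 520,nat_lit 1024] [nat_lit 1024,nat_lit 520,nat_lit 256,nat_lit 128,nat_lit 64,nat_lit 32,nat_lit 24,nat_lit 4,nat_lit 2,nat_lit 1] [] (Cert.rep (nat_lit 2) [] [] [] Cert.nil (Cert.rep (nat_lit 4) [] [] [] Cert.nil (Cert.rep (nat_lit 24) [] [] [] Cert.nil (Cert.rep (nat_lit 258) [] [] [] Cert.nil (Cert.rep (nat_lit 280) [] [] [] Cert.nil (Cert.rep (nat_lit 592) [] [] [] Cert.nil (Cert.rep (nat_lit 596) [] [] [] Cert.nil (Cert.rep (nat_lit 652) [] [] [] Cert.nil (Cert.rep (nat_lit 656) [] [] [] Cert.nil Cert.nil))))))))) (Cert.rep (nat_lit 132) [] [nat_lit 1030,nat_lit 256,nat_lit 132,nat_lit 32,nat_lit 26,nat_lit 1] [nat_lit 520,nat_lit 4,nat_lit 68,nat_lit 2] Cert.nil (Cert.rep (nat_lit 156) [] [nat_lit 1088,nat_lit 256,nat_lit 134,nat_lit 32,nat_lit 26,nat_lit 1] [nat_lit 520,nat_lit 4,nat_lit 68,nat_lit 2] Cert.nil (Cert.rep (nat_lit 648) [nat_lit 4,nat_lit 258,nat_lit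 1090] [nat_lit 1090,nat_lit 586,nat_lit 258,nat_lit 192,nat_lit 32,nat_lit 24,nat_lit 4,nat_lit 1] [nat_lit 64,nat_lit 2] (Cert.rep (nat_lit 4) [] [] [] Cert.nil (Cert.rep (nat_lit 5) [] [] [] Cert.nil (Cert.rep (nat_lit 24) [] [] [] Cert.nil (Cert.rep (nat_lit 25) [] [] [] Cert.nil (Cert.rep (nat_lit 258) [] [] [] Cert.nil (Cert.rep (nat_lit 259) [] [] [] Cert.nil (Cert.rep (nat_lit 652) [] [] [] Cert.nil (Cert.rep (nat_lit 653) [] [] [] Cert.nil (Cert.rep (nat_lit 656) [] [] [] Cert.nil (Cert.rep (nat_lit 657) [] [] [] Cert.nil (Cert.rep (nat_lit 912) [] [] [] Cert.nil (Cert.rep (nat_lit 913) [] [] [] Cert.nil Cert.nil)))))))))))) (Cert.rep (nat_lit 649) [nat_lit 4,nat_lit 258,nat_lit 1090] [nat_lit 1090,nat_lit 586,nat_lit 258,nat_lit 192,nat_lit 32,nat_lit 24,nat_lit 4,nat_lit 1] [nat_lit 64,nat_lit 2] (Cert.rep (nat_lit 4) [] [] [] Cert.nil (Cert.rep (nat_lit 5) []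 [] [] Cert.nil (Cert.rep (nat_lit 24) [] [] [] Cert.nil (Cert.rep (nat_lit 25) [] [] [] Cert.nil (Cert.rep (nat_lit 258) [] [] [] Cert.nil (Cert.rep (nat_lit 259) [] [] [] Cert.nil (Cert.rep (nat_lit 652) [] [] [] Cert.nil (Cert.rep (nat_lit 653) [] [] [] Cert.nil (Cert.rep (nat_lit 656) [] [] [] Cert.nil (Cert.rep (nat_lit 657) [] [] [] Cert.nil (Cert.rep (nat_lit 912) [] [] [] Cert.nil (Cert.rep (nat_lit 913) [] [] [] Cert.nil Cert.nil)))))))))))) (Cert.rep (nat_lit 660) [nat_lit 4,nat_lit 256,nat_lit 1024] [nat_lit 1024,nat_lit 586,nat_lit 256,nat_lit 192,nat_lit 32,nat_lit 24,nat_lit 4,nat_lit 1] [nat_lit 64,nat_lit 2] (Cert.rep (nat_lit 4) [] [] [] Cert.nil (Cert.rep (nat_lit 5) [] [] [] Cert.nil (Cert.rep (nat_lit 24) [] [] [] Cert.nil (Cert.rep (nat_lit 25) [] [] [] Cert.nil (Cert.rep (nat_lit 280) [] [] [] Cert.nil (Cert.rep (nat_lit 281) [] [] [] Cert.nil (Cert.rep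 (nat_lit 652) [] [] [] Cert.nil (Cert.rep (nat_lit 653) [] [] [] Cert.nil (Cert.rep (nat_lit 656) [] [] [] Cert.nil (Cert.rep (nat_lit 657) [] [] [] Cert.nil (Cert.rep (nat_lit 918) [] [] [] Cert.nil (Cert.rep (nat_lit 919) [] [] [] Cert.nil Cert.nil)))))))))))) (Cert.rep (nat_lit 661) [nat_lit 4,nat_lit 256,nat_lit 1024] [nat_lit 1024,nat_lit 586,nat_lit 256,nat_lit 192,nat_lit 32,nat_lit 24,nat_lit 4,nat_lit 1] [nat_lit 64,nat_lit 2] (Cert.rep (nat_lit 4) [] [] [] Cert.nil (Cert.rep (nat_lit 5) [] [] [] Cert.nil (Cert.rep (nat_lit 24) [] [] [] Cert.nil (Cert.rep (nat_lit 25) [] [] [] Cert.nil (Cert.rep (nat_lit 280) [] [] [] Cert.nil (Cert.rep (nat_lit 281) [] [] [] Cert.nil (Cert.rep (nat_lit 652) [] [] [] Cert.nil (Cert.rep (nat_lit 653) [] [] [] Cert.nil (Cert.rep (nat_lit 656) [] [] [] Cert.nil (Cert.rep (nat_lit 657) [] [] [] Cert.nil (Cert.rep (nat_lit 918) [] []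 [] Cert.nil (Cert.rep (nat_lit 919) [] [] [] Cert.nil Cert.nil)))))))))))) (Cert.rep (nat_lit 1030) [] [nat_lit 1030,nat_lit 256,nat_lit 132,nat_lit 68,nat_lit 32,nat_lit 26,nat_lit 1] [nat_lit 520,nat_lit 4,nat_lit 2] Cert.nil (Cert.rep (nat_lit 1052) [] [nat_lit 1030,nat_lit 520,nat_lit 256,nat_lit 132,nat_lit 68,nat_lit 32,nat_lit 26,nat_lit 1] [nat_lit 4,nat_lit 2] Cert.nil (Cert.rep (nat_lit 1053) [] [nat_lit 1030,nat_lit 520,nat_lit 256,nat_lit 132,nat_lit 68,nat_lit 32,nat_lit 26,nat_lit 1] [nat_lit 4,nat_lit 2] Cert.nil (Cert.rep (nat_lit 1152) [] [nat_lit 1030,nat_lit 524,nat_lit 256,nat_lit 132,nat_lit 70,nat_lit 32,nat_lit 26,nat_lit 1] [nat_lit 4,nat_lit 2] Cert.nil (Cert.rep (nat_lit 1153) [] [nat_lit 1030,nat_lit 524,nat_lit 256,nat_lit 132,nat_lit 70,nat_lit 32,nat_lit 26,nat_lit 1] [nat_lit 4,nat_lit 2] Cert.nil (Cert.rep (nat_lit 1178) [] [nat_lit 1030,nat_lit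 256,nat_lit 132,nat_lit 70,nat_lit 32,nat_lit 26,nat_lit 1] [nat_lit 520,nat_lit 4,nat_lit 2] Cert.nil (Cert.rep (nat_lit 1552) [] [nat_lit 1114,nat_lit 594,nat_lit 282,nat_lit 192,nat_lit 32,nat_lit 1] [nat_lit 64,nat_lit 4,nat_lit 24,nat_lit 2] Cert.nil (Cert.rep (nat_lit 1672) [] [nat_lit 1052,nat_lit 598,nat_lit 256,nat_lit 216,nat_lit 32,nat_lit 1] [nat_lit 64,nat_lit 4,nat_lit 24,nat_lit 2] Cert.nil Cert.nil))))))))))))))))
noncomputable def g100_3 : Top :=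
  (Top.base (Cert.th (nat_lit 256) (nat_lit 256) (nat_lit 0) false [nat_lit 0] [nat_lit 596,nat_lit 1054] [] [] [nat_lit 1024,nat_lit 520,nat_lit 128,nat_lit 24,nat_lit 4,nat_lit 448,nat_lit 34,nat_lit 2,nat_lit 1] [nat_lit 1,nat_lit 2,nat_lit 4,nat_lit 24,nat_lit 32,nat_lit 64,nat_lit 128,nat_lit 256,nat_lit 520,nat_lit 1024] [Ins.ts (nat_lit 1) [nat_lit 0] [],Ins.fr [nat_lit 0],Ins.ts (nat_lit 1) [nat_lit 0,nat_lit 0] [],Ins.ts (nat_lit 4) [nat_lit 0,nat_lit 0] [nat_lit 0,nat_lit 0,nat_lit 1],Ins.ts (nat_lit 0) [nat_lit 0,nat_lit 0,nat_lit 0,nat_lit 0] [],Ins.ts (nat_lit 1) [nat_lit 0,nat_lit 0,nat_lit 1] [],Ins.fr [nat_lit 1],Ins.ts (nat_lit 0) [nat_lit 1,nat_lit 0,nat_lit 1] [nat_lit 0],Ins.ts (nat_lit 1) [nat_lit 0,nat_lit 0] [],Ins.ts (nat_lit 0) [nat_lit 0,nat_lit 0,nat_lit 0,nat_lit 0] [],Ins.ts (nat_lit 1) [nat_lit 0,nat_lit 0,nat_lit 2] [],Ins.ts (nat_lit 1) [nat_lit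 0,nat_lit 0,nat_lit 1,nat_lit 1,nat_lit 2] [],Ins.ts (nat_lit 4) [nat_lit 0,nat_lit 0] [nat_lit 0,nat_lit 0,nat_lit 2]] [(nat_lit 2,nat_lit 0),(nat_lit 3,nat_lit 0)] (Cert.rep (nat_lit 1) [] [nat_lit 1024,nat_lit 520,nat_lit 256,nat_lit 128,nat_lit 64,nat_lit 32,nat_lit 24,nat_lit 4,nat_lit 2,nat_lit 1] [] Cert.nil (Cert.rep (nat_lit 26) [nat_lit 68,nat_lit 1028] [nat_lit 1028,nat_lit 256,nat_lit 132,nat_lit 68,nat_lit 32,nat_lit 24,nat_lit 2,nat_lit 1] [nat_lit 520,nat_lit 4] (Cert.rep (nat_lit 2) [] [] [] Cert.nil (Cert.rep (nat_lit 24) [] [] [] Cert.nil (Cert.rep (nat_lit 258) [] [] [] Cert.nil (Cert.rep (nat_lit 280) [] [] [] Cert.nil Cert.nil)))) g100_3_0))))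
theorem top100_3 : topOK DB PT 88 t88 100 t100 (nat_lit 0xf0000000f0000000f0000000f000000000f0000000f00000f0000000f0000000f0000000f000000000f0000000f00000f0000000f0000000f0000000f0000300000c0300000c00c0000030c0000030c0000030c000003300000c0300000c0300000c0300000c00c0000030c0000030c0000030c000003300000c0300000c000000000000000000000c3000000c30000c0030000c0030000000000000000000000000000000000003003000030030000003300000033000000000000000000f0000000f0000000f00c0cf0f00303f0f00000f0f00000f00c0000030c0000030000000000000000f00000f0f00000f0f00000f0f0f0f0f0fcfc0303fc03fc03) s100 3 g100_3 = true := by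
  decide +kernel
noncomputable def g100_4_0 : Cert :=
  Cert.rep (nat_lit 28) [] [nat_lit 586,nat_lit 192,nat_lit 32,nat_lit 24,nat_lit 4,nat_lit 1] [nat_lit 1024,nat_lit 64,nat_lit 256,nat_lit 2] (Cert.rep (nat_lit 4) [] [] [] Cert.nil (Cert.rep (nat_lit 5) [] [] [] Cert.nil (Cert.rep (nat_lit 24) [] [] [] Cert.nil (Cert.rep (nat_lit 25) [] [] [] Cert.nil (Cert.rep (nat_lit 36) [] [] [] Cert.nil (Cert.rep (nat_lit 37) [] [] [] Cert.nil (Cert.rep (nat_lit 56) [] [] [] Cert.nil (Cert.rep (nat_lit 57) [] [] [] Cert.nil (Cert.rep (nat_lit 652) [] [] [] Cert.nil (Cert.rep (nat_lit 653) [] [] [] Cert.nil (Cert.rep (nat_lit 656) [] [] [] Cert.nil (Cert.rep (nat_lit 657) [] [] [] Cert.nil (Cert.rep (nat_lit 684) [] [] [] Cert.nil (Cert.rep (nat_lit 685) [] [] [] Cert.nil (Cert.rep (nat_lit 688) [] [] [] Cert.nil (Cert.rep (nat_lit 689) [] [] [] Cert.nil Cert.nil))))))))))))))))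 (Cert.rep (nat_lit 32) [nat_lit 2,nat_lit 4,nat_lit 64,nat_lit 256,nat_lit 520,nat_lit 1024] [nat_lit 1024,nat_lit 520,nat_lit 256,nat_lit 128,nat_lit 64,nat_lit 32,nat_lit 24,nat_lit 4,nat_lit 2,nat_lit 1] [] (Cert.rep (nat_lit 2) [] [] [] Cert.nil (Cert.rep (nat_lit 4) [] [] [] Cert.nil (Cert.rep (nat_lit 24) [] [] [] Cert.nil (Cert.rep (nat_lit 258) [] [] [] Cert.nil (Cert.rep (nat_lit 280) [] [] [] Cert.nil (Cert.rep (nat_lit 592) [] [] [] Cert.nil (Cert.rep (nat_lit 596) [] [] [] Cert.nil (Cert.rep (nat_lit 652) [] [] [] Cert.nil (Cert.rep (nat_lit 656) [] [] [] Cert.nil Cert.nil))))))))) (Cert.rep (nat_lit 33) [nat_lit 2,nat_lit 4,nat_lit 64,nat_lit 256,nat_lit 520,nat_lit 1024] [nat_lit 1024,nat_lit 520,nat_lit 256,nat_lit 128,nat_lit 64,nat_lit 32,nat_lit 24,nat_lit 4,nat_lit 2,nat_lit 1] [] (Cert.rep (nat_lit 2) [] [] [] Cert.nil (Cert.rep (nat_lit 4) [] [] []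 Cert.nil (Cert.rep (nat_lit 24) [] [] [] Cert.nil (Cert.rep (nat_lit 258) [] [] [] Cert.nil (Cert.rep (nat_lit 280) [] [] [] Cert.nil (Cert.rep (nat_lit 592) [] [] [] Cert.nil (Cert.rep (nat_lit 596) [] [] [] Cert.nil (Cert.rep (nat_lit 652) [] [] [] Cert.nil (Cert.rep (nat_lit 656) [] [] [] Cert.nil Cert.nil))))))))) (Cert.rep (nat_lit 132) [] [nat_lit 1030,nat_lit 256,nat_lit 132,nat_lit 32,nat_lit 26,nat_lit 1] [nat_lit 520,nat_lit 4,nat_lit 68,nat_lit 2] Cert.nil (Cert.rep (nat_lit 156) [] [nat_lit 1088,nat_lit 256,nat_lit 134,nat_lit 32,nat_lit 26,nat_lit 1] [nat_lit 520,nat_lit 4,nat_lit 68,nat_lit 2] Cert.nil (Cert.rep (nat_lit 648) [nat_lit 4,nat_lit 258,nat_lit 1090] [nat_lit 1090,nat_lit 586,nat_lit 258,nat_lit 192,nat_lit 32,nat_lit 24,nat_lit 4,nat_lit 1] [nat_lit 64,nat_lit 2] (Cert.rep (nat_lit 4) [] [] [] Cert.nil (Cert.rep (nat_lit 5) [] [] [] Cert.nil (Cert.rep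 (nat_lit 24) [] [] [] Cert.nil (Cert.rep (nat_lit 25) [] [] [] Cert.nil (Cert.rep (nat_lit 258) [] [] [] Cert.nil (Cert.rep (nat_lit 259) [] [] [] Cert.nil (Cert.rep (nat_lit 652) [] [] [] Cert.nil (Cert.rep (nat_lit 653) [] [] [] Cert.nil (Cert.rep (nat_lit 656) [] [] [] Cert.nil (Cert.rep (nat_lit 657) [] [] [] Cert.nil (Cert.rep (nat_lit 912) [] [] [] Cert.nil (Cert.rep (nat_lit 913) [] [] [] Cert.nil Cert.nil)))))))))))) (Cert.rep (nat_lit 649) [nat_lit 4,nat_lit 258,nat_lit 1090] [nat_lit 1090,nat_lit 586,nat_lit 258,nat_lit 192,nat_lit 32,nat_lit 24,nat_lit 4,nat_lit 1] [nat_lit 64,nat_lit 2] (Cert.rep (nat_lit 4) [] [] [] Cert.nil (Cert.rep (nat_lit 5) [] [] [] Cert.nil (Cert.rep (nat_lit 24) [] [] [] Cert.nil (Cert.rep (nat_lit 25) [] [] [] Cert.nil (Cert.rep (nat_lit 258) [] [] [] Cert.nil (Cert.rep (nat_lit 259) [] [] [] Cert.nil (Cert.rep (nat_lit 652) [] []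 [] Cert.nil (Cert.rep (nat_lit 653) [] [] [] Cert.nil (Cert.rep (nat_lit 656) [] [] [] Cert.nil (Cert.rep (nat_lit 657) [] [] [] Cert.nil (Cert.rep (nat_lit 912) [] [] [] Cert.nil (Cert.rep (nat_lit 913) [] [] [] Cert.nil Cert.nil)))))))))))) (Cert.rep (nat_lit 660) [nat_lit 4,nat_lit 256,nat_lit 1024] [nat_lit 1024,nat_lit 586,nat_lit 256,nat_lit 192,nat_lit 32,nat_lit 24,nat_lit 4,nat_lit 1] [nat_lit 64,nat_lit 2] (Cert.rep (nat_lit 4) [] [] [] Cert.nil (Cert.rep (nat_lit 5) [] [] [] Cert.nil (Cert.rep (nat_lit 24) [] [] [] Cert.nil (Cert.rep (nat_lit 25) [] [] [] Cert.nil (Cert.rep (nat_lit 280) [] [] [] Cert.nil (Cert.rep (nat_lit 281) [] [] [] Cert.nil (Cert.rep (nat_lit 652) [] [] [] Cert.nil (Cert.rep (nat_lit 653) [] [] [] Cert.nil (Cert.rep (nat_lit 656) [] [] [] Cert.nil (Cert.rep (nat_lit 657) [] [] [] Cert.nil (Cert.rep (nat_lit 918) [] [] [] Cert.nil (Cert.rep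 (nat_lit 919) [] [] [] Cert.nil Cert.nil)))))))))))) (Cert.rep (nat_lit 661) [nat_lit 4,nat_lit 256,nat_lit 1024] [nat_lit 1024,nat_lit 586,nat_lit 256,nat_lit 192,nat_lit 32,nat_lit 24,nat_lit 4,nat_lit 1] [nat_lit 64,nat_lit 2] (Cert.rep (nat_lit 4) [] [] [] Cert.nil (Cert.rep (nat_lit 5) [] [] [] Cert.nil (Cert.rep (nat_lit 24) [] [] [] Cert.nil (Cert.rep (nat_lit 25) [] [] [] Cert.nil (Cert.rep (nat_lit 280) [] [] [] Cert.nil (Cert.rep (nat_lit 281) [] [] [] Cert.nil (Cert.rep (nat_lit 652) [] [] [] Cert.nil (Cert.rep (nat_lit 653) [] [] [] Cert.nil (Cert.rep (nat_lit 656) [] [] [] Cert.nil (Cert.rep (nat_lit 657) [] [] [] Cert.nil (Cert.rep (nat_lit 918) [] [] [] Cert.nil (Cert.rep (nat_lit 919) [] [] [] Cert.nil Cert.nil)))))))))))) (Cert.rep (nat_lit 1030) [] [nat_lit 1030,nat_lit 256,nat_lit 132,nat_lit 68,nat_lit 32,nat_lit 26,nat_lit 1] [nat_lit 520,nat_lit 4,nat_lit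 2] Cert.nil (Cert.rep (nat_lit 1052) [] [nat_lit 1030,nat_lit 520,nat_lit 256,nat_lit 132,nat_lit 68,nat_lit 32,nat_lit 26,nat_lit 1] [nat_lit 4,nat_lit 2] Cert.nil (Cert.rep (nat_lit 1053) [] [nat_lit 1030,nat_lit 520,nat_lit 256,nat_lit 132,nat_lit 68,nat_lit 32,nat_lit 26,nat_lit 1] [nat_lit 4,nat_lit 2] Cert.nil (Cert.rep (nat_lit 1152) [] [nat_lit 1030,nat_lit 524,nat_lit 256,nat_lit 132,nat_lit 70,nat_lit 32,nat_lit 26,nat_lit 1] [nat_lit 4,nat_lit 2] Cert.nil (Cert.rep (nat_lit 1153) [] [nat_lit 1030,nat_lit 524,nat_lit 256,nat_lit 132,nat_lit 70,nat_lit 32,nat_lit 26,nat_lit 1] [nat_lit 4,nat_lit 2] Cert.nil (Cert.rep (nat_lit 1178) [] [nat_lit 1030,nat_lit 256,nat_lit 132,nat_lit 70,nat_lit 32,nat_lit 26,nat_lit 1] [nat_lit 520,nat_lit 4,nat_lit 2] Cert.nil (Cert.rep (nat_lit 1552) [] [nat_lit 1114,nat_lit 594,nat_lit 282,nat_lit 192,nat_lit 32,nat_lit 1] [nat_lit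 64,nat_lit 4,nat_lit 24,nat_lit 2] Cert.nil (Cert.rep (nat_lit 1672) [] [nat_lit 1052,nat_lit 598,nat_lit 256,nat_lit 216,nat_lit 32,nat_lit 1] [nat_lit 64,nat_lit 4,nat_lit 24,nat_lit 2] Cert.nil Cert.nil))))))))))))))))
noncomputable def g100_4 : Top :=
  (Top.base (Cert.th (nat_lit 256) (nat_lit 256) (nat_lit 0) false [nat_lit 0] [nat_lit 596,nat_lit 1054] [] [] [nat_lit 1024,nat_lit 520,nat_lit 128,nat_lit 24,nat_lit 4,nat_lit 448,nat_lit 34,nat_lit 2,nat_lit 1] [nat_lit 1,nat_lit 2,nat_lit 4,nat_lit 24,nat_lit 32,nat_lit 64,nat_lit 128,nat_lit 256,nat_lit 520,nat_lit 1024] [Ins.ts (nat_lit 1) [nat_lit 0] [],Ins.fr [nat_lit 0],Ins.ts (nat_lit 1) [nat_lit 0,nat_lit 0] [],Ins.ts (nat_lit 4) [nat_lit 0,nat_lit 0] [nat_lit 0,nat_lit 0,nat_lit 1],Ins.ts (nat_lit 0) [nat_lit 0,nat_lit 0,nat_lit 0,nat_lit 0] [],Ins.ts (nat_lit 1) [nat_lit 0,nat_lit 0,nat_lit 1] [],Ins.fr [nat_lit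 1],Ins.ts (nat_lit 0) [nat_lit 1,nat_lit 0,nat_lit 1] [nat_lit 0],Ins.ts (nat_lit 1) [nat_lit 0,nat_lit 0] [],Ins.ts (nat_lit 0) [nat_lit 0,nat_lit 0,nat_lit 0,nat_lit 0] [],Ins.ts (nat_lit 1) [nat_lit 0,nat_lit 0,nat_lit 2] [],Ins.ts (nat_lit 1) [nat_lit 0,nat_lit 0,nat_lit 1,nat_lit 1,nat_lit 2] [],Ins.ts (nat_lit 4) [nat_lit 0,nat_lit 0] [nat_lit 0,nat_lit 0,nat_lit 2]] [(nat_lit 2,nat_lit 0),(nat_lit 3,nat_lit 0)] (Cert.rep (nat_lit 1) [] [nat_lit 1024,nat_lit 520,nat_lit 256,nat_lit 128,nat_lit 64,nat_lit 32,nat_lit 24,nat_lit 4,nat_lit 2,nat_lit 1] [] Cert.nil (Cert.rep (nat_lit 26) [nat_lit 68,nat_lit 1028] [nat_lit 1028,nat_lit 256,nat_lit 132,nat_lit 68,nat_lit 32,nat_lit 24,nat_lit 2,nat_lit 1] [nat_lit 520,nat_lit 4] (Cert.rep (nat_lit 2) [] [] [] Cert.nil (Cert.rep (nat_lit 24) [] [] [] Cert.nil (Cert.rep (nat_lit 258) [] [] [] Cert.nil (Cert.rep (nat_lit 280)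 [] [] [] Cert.nil Cert.nil)))) g100_4_0))))
theorem top100_4 : topOK DB PT 88 t88 100 t100 (nat_lit 0xf0000000f0000000f0000000f000000000f0000000f00000f0000000f0000000f0000000f000000000f0000000f00000f0000000f0000000f0000000f0000300000c0300000c00c0000030c0000030c0000030c000003300000c0300000c0300000c0300000c00c0000030c0000030c0000030c000003300000c0300000c000000000000000000000c3000000c30000c0030000c0030000000000000000000000000000000000003003000030030000003300000033000000000000000000f0000000f0000000f00c0cf0f00303f0f00000f0f00000f00c0000030c0000030000000000000000f00000f0f00000f0f00000f0f0f0f0f0fcfc0303fc03fc03) s100 4 g100_4 = true := by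
  decide +kernel

end Cfsg.Agent.L3S.Dat
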