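import Mathlib
import Cfsg.Agent.L3S.GA

/-!
Certificates for the Sylow subgroups.
-/

set_option autoImplicit false
set_option maxRecDepth 100000

namespace Cfsg.Agent.L3S.Dat

open Cfsg.Agent.L33 Cfsg.Agent.L33.Dat Cfsg.Agent.L3S

noncomputable def g100_0 : Top :=
  (Top.base (Cert.th (nat_lit 256) (nat_lit 256) (nat_lit 0) true [nat_lit 0] [nat_lit 1650,nat_lit 521] [] [] [nat_lit 1024,nat_lit 512,nat_lit 384,nat_lit 96,nat_lit 64,nat_lit 2,nat_lit 26,nat_lit 71,nat_lit 27] [] [Ins.ts (nat_lit 1) [nat_lit 0] [],Ins.fr [nat_lit 0],Ins.ts (nat_lit 0) [nat_lit 0,nat_lit 0] [],Ins.ts (nat_lit 4) [nat_lit 0] [nat_lit 0,nat_lit 0,nat_lit 1],Ins.ts (nat_lit 3) [nat_lit 0] [],Ins.fr [nat_lit 1],Ins.ts (nat_lit 4) [nat_lit 0] [nat_lit 0,nat_lit 0,nat_lit 1],Ins.ts (nat_lit 1) [nat_lit 0,nat_lit 0,nat_lit 0,nat_lit 0] [],Ins.ts (nat_lit 1) [nat_lit 0,nat_lit 1,nat_lit 0,nat_lit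 1] [],Ins.ts (nat_lit 0) [nat_lit 0,nat_lit 0,nat_lit 1,nat_lit 0,nat_lit 0] [nat_lit 1],Ins.ts (nat_lit 1) [nat_lit 0,nat_lit 0,nat_lit 0,nat_lit 0,nat_lit 2] [],Ins.ts (nat_lit 1) [nat_lit 0,nat_lit 1,nat_lit 0,nat_lit 1,nat_lit 2] [],Ins.ts (nat_lit 0) [nat_lit 1,nat_lit 0,nat_lit 1,nat_lit 0] [nat_lit 0,nat_lit 1,nat_lit 0,nat_lit 1],Ins.ts (nat_lit 1) [nat_lit 0,nat_lit 0,nat_lit 0,nat_lit 0,nat_lit 0,nat_lit 1,nat_lit 0,nat_lit 1,nat_lit 2] [],Ins.ts (nat_lit 1) [nat_lit 0,nat_lit 0,nat_lit 0,nat_lit 0,nat_lit 0,nat_lit 1,nat_lit 0,nat_lit 1] []] [(nat_lit 1,nat_lit 0)] (Cert.rep (nat_lit 1) [nat_lit 2,nat_lit 4,nat_lit 8,nat_lit 16,nat_lit 64,nat_lit 128,nat_lit 256,nat_lit 512,nat_lit 1024] [nat_lit 1024,nat_lit 512,nat_lit 256,nat_lit 128,nat_lit 64,nat_lit 32,nat_lit 16,nat_lit 8,nat_lit 4,nat_lit 2,nat_lit 1] [] (Cert.rep (nat_lit 584) [] [] [] Cert.nil (Cert.rep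 (nat_lit 648) [] [] [] Cert.nil (Cert.rep (nat_lit 649) [] [] [] Cert.nil (Cert.rep (nat_lit 1552) [] [] [] Cert.nil (Cert.rep (nat_lit 1672) [] [] [] Cert.nil Cert.nil))))) (Cert.rep (nat_lit 26) [] [nat_lit 1028,nat_lit 256,nat_lit 132,nat_lit 68,nat_lit 32,nat_lit 16,nat_lit 8,nat_lit 2,nat_lit 1] [nat_lit 512,nat_lit 4] Cert.nil (Cert.rep (nat_lit 28) [nat_lit 8] [nat_lit 578,nat_lit 192,nat_lit 32,nat_lit 16,nat_lit 8,nat_lit 4,nat_lit 1] [nat_lit 1024,nat_lit 64,nat_lit 256,nat_lit 2] (Cert.rep (nat_lit 648) [] [] [] Cert.nil (Cert.rep (nat_lit 649) [] [] [] Cert.nil (Cert.rep (nat_lit 680) [] [] [] Cert.nil (Cert.rep (nat_lit 681) [] [] [] Cert.nil Cert.nil)))) (Cert.rep (nat_lit 32) [nat_lit 2,nat_lit 4,nat_lit 24,nat_lit 64,nat_lit 128,nat_lit 256,nat_lit 520,nat_lit 1024] [nat_lit 1024,nat_lit 520,nat_lit 256,nat_lit 128,nat_lit 64,nat_lit 32,nat_lit 24,nat_lit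 4,nat_lit 2,nat_lit 1] [nat_lit 8] (Cert.rep (nat_lit 584) [] [] [] Cert.nil (Cert.rep (nat_lit 588) [] [] [] Cert.nil (Cert.rep (nat_lit 648) [] [] [] Cert.nil (Cert.rep (nat_lit 649) [] [] [] Cert.nil (Cert.rep (nat_lit 660) [] [] [] Cert.nil (Cert.rep (nat_lit 661) [] [] [] Cert.nil (Cert.rep (nat_lit 1552) [] [] [] Cert.nil (Cert.rep (nat_lit 1616) [] [] [] Cert.nil (Cert.rep (nat_lit 1672) [] [] [] Cert.nil (Cert.rep (nat_lit 1744) [] [] [] Cert.nil Cert.nil)))))))))) (Cert.rep (nat_lit 68) [] [nat_lit 1030,nat_lit 256,nat_lit 68,nat_lit 32,nat_lit 16,nat_lit 10,nat_lit 1] [nat_lit 512,nat_lit 4,nat_lit 132,nat_lit 2] Cert.nil (Cert.rep (nat_lit 92) [] [nat_lit 1152,nat_lit 256,nat_lit 70,nat_lit 32,nat_lit 16,nat_lit 10,nat_lit 1] [nat_lit 512,nat_lit 4,nat_lit 132,nat_lit 2] Cert.nil (Cert.rep (nat_lit 1030) [] [nat_lit 1030,nat_lit 256,nat_lit 132,nat_lit 68,nat_lit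 32,nat_lit 26,nat_lit 1] [nat_lit 512,nat_lit 8,nat_lit 4,nat_lit 2] Cert.nil (Cert.rep (nat_lit 1052) [nat_lit 26,nat_lit 68,nat_lit 520] [nat_lit 1030,nat_lit 520,nat_lit 256,nat_lit 132,nat_lit 68,nat_lit 32,nat_lit 26,nat_lit 1] [nat_lit 8,nat_lit 4,nat_lit 2] (Cert.rep (nat_lit 588) [] [] [] Cert.nil (Cert.rep (nat_lit 589) [] [] [] Cert.nil (Cert.rep (nat_lit 660) [] [] [] Cert.nil (Cert.rep (nat_lit 661) [] [] [] Cert.nil (Cert.rep (nat_lit 1616) [] [] [] Cert.nil (Cert.rep (nat_lit 1617) [] [] [] Cert.nil (Cert.rep (nat_lit 1672) [] [] [] Cert.nil (Cert.rep (nat_lit 1673) [] [] [] Cert.nil Cert.nil)))))))) (Cert.rep (nat_lit 1053) [nat_lit 26,nat_lit 68,nat_lit 520] [nat_lit 1030,nat_lit 520,nat_lit 256,nat_lit 132,nat_lit 68,nat_lit 32,nat_lit 26,nat_lit 1] [nat_lit 8,nat_lit 4,nat_lit 2] (Cert.rep (nat_lit 588) [] [] [] Cert.nil (Cert.rep (nat_lit 589) [] []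 [] Cert.nil (Cert.rep (nat_lit 660) [] [] [] Cert.nil (Cert.rep (nat_lit 661) [] [] [] Cert.nil (Cert.rep (nat_lit 1616) [] [] [] Cert.nil (Cert.rep (nat_lit 1617) [] [] [] Cert.nil (Cert.rep (nat_lit 1672) [] [] [] Cert.nil (Cert.rep (nat_lit 1673) [] [] [] Cert.nil Cert.nil)))))))) Cert.nil)))))))))))
theorem top100_0 : topOK DB PT 88 t88 100 t100 (nat_lit 0xf0000000f0000000f0000000f000000000f0000000f00000f0000000f0000000f0000000f000000000f0000000f00000f0000000f0000000f0000000f0000300000c0300000c00c0000030c0000030c0000030c000003300000c0300000c0300000c0300000c00c0000030c0000030c0000030c000003300000c0300000c000000000000000000000c3000000c30000c0030000c0030000000000000000000000000000000000003003000030030000003300000033000000000000000000f0000000f0000000f00c0cf0f00303f0f00000f0f00000f00c0000030c0000030000000000000000f00000f0f00000f0f00000f0f0f0f0f0fcfc0303fc03fc03) s100 0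 g100_0 = true := by
  decide +kernel
noncomputable def g100_6 : Top :=
  (Top.base (Cert.th (nat_lit 648) (nat_lit 648) (nat_lit 0) true [nat_lit 0] [nat_lit 1095,nat_lit 5] [] [] [nat_lit 1032,nat_lit 512,nat_lit 88,nat_lit 2,nat_lit 26,nat_lit 448,nat_lit 59,nat_lit 95,nat_lit 27] [] [Ins.ts (nat_lit 1) [nat_lit 0] [],Ins.fr [nat_lit 0],Ins.ts (nat_lit 4) [nat_lit 0] [nat_lit 0,nat_lit 0,nat_lit 1],Ins.ts (nat_lit 1) [nat_lit 0,nat_lit 0,nat_lit 0,nat_lit 0] [],Ins.ts (nat_lit 1) [nat_lit 0,nat_lit 0,nat_lit 0,nat_lit 0,nat_lit 1] [],Ins.ts (nat_lit 0) [nat_lit 0,nat_lit 0,nat_lit 0,nat_lit 0,nat_lit 0,nat_lit 0,nat_lit 0,nat_lit 0] [],Ins.fr [nat_lit 1],Ins.ts (nat_lit 4) [nat_lit 0] [nat_lit 0,nat_lit 0,nat_lit 2],Ins.ts (nat_lit 0) [nat_lit 1,nat_lit 1,nat_lit 1,nat_lit 0] [nat_lit 0,nat_lit 1],Ins.ts (nat_lit 1) [nat_lit 0,nat_lit 0] [],Ins.ts (nat_lit 1) [nat_lit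 0,nat_lit 1,nat_lit 0,nat_lit 1] [],Ins.ts (nat_lit 1) [nat_lit 0,nat_lit 0,nat_lit 2] [],Ins.ts (nat_lit 0) [nat_lit 0,nat_lit 0,nat_lit 0,nat_lit 0] [],Ins.ts (nat_lit 1) [nat_lit 0,nat_lit 1,nat_lit 0,nat_lit 1,nat_lit 2] []] [(nat_lit 1,nat_lit 0),(nat_lit 0,nat_lit 0)] (Cert.rep (nat_lit 1) [nat_lit 2,nat_lit 4,nat_lit 8,nat_lit 16,nat_lit 64,nat_lit 128,nat_lit 256,nat_lit 512,nat_lit 1024] [nat_lit 1024,nat_lit 512,nat_lit 256,nat_lit 128,nat_lit 64,nat_lit 32,nat_lit 16,nat_lit 8,nat_lit 4,nat_lit 2,nat_lit 1] [] (Cert.rep (nat_lit 520) [] [] [] Cert.nil (Cert.rep (nat_lit 528) [] [] [] Cert.nil (Cert.rep (nat_lit 1024) [] [] [] Cert.nil (Cert.rep (nat_lit 1048) [] [] [] Cert.nil (Cert.rep (nat_lit 1676) [] [] [] Cert.nil (Cert.rep (nat_lit 1678) [] [] [] Cert.nil (Cert.rep (nat_lit 1684) [] [] [] Cert.nil (Cert.rep (nat_lit 1685) [] [] [] Cert.nil (Cert.rep (nat_lit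 1686) [] [] [] Cert.nil Cert.nil))))))))) (Cert.rep (nat_lit 26) [nat_lit 2,nat_lit 8,nat_lit 32,nat_lit 68,nat_lit 132,nat_lit 256,nat_lit 1028] [nat_lit 1028,nat_lit 256,nat_lit 132,nat_lit 68,nat_lit 32,nat_lit 16,nat_lit 8,nat_lit 2,nat_lit 1] [nat_lit 512,nat_lit 4] (Cert.rep (nat_lit 396) [] [] [] Cert.nil Cert.nil) (Cert.rep (nat_lit 28) [] [nat_lit 578,nat_lit 192,nat_lit 32,nat_lit 16,nat_lit 8,nat_lit 4,nat_lit 1] [nat_lit 1024,nat_lit 64,nat_lit 256,nat_lit 2] Cert.nil (Cert.rep (nat_lit 32) [nat_lit 2,nat_lit 4,nat_lit 24,nat_lit 64,nat_lit 128,nat_lit 520,nat_lit 1024] [nat_lit 1024,nat_lit 520,nat_lit 256,nat_lit 128,nat_lit 64,nat_lit 32,nat_lit 24,nat_lit 4,nat_lit 2,nat_lit 1] [nat_lit 8] (Cert.rep (nat_lit 128) [] [] [] Cert.nil (Cert.rep (nat_lit 152) [] [] [] Cert.nil (Cert.rep (nat_lit 520) [] [] [] Cert.nil (Cert.rep (nat_lit 528) [] [] [] Cert.nil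 (Cert.rep (nat_lit 1092) [] [] [] Cert.nil (Cert.rep (nat_lit 1116) [] [] [] Cert.nil (Cert.rep (nat_lit 1740) [] [] [] Cert.nil (Cert.rep (nat_lit 1741) [] [] [] Cert.nil (Cert.rep (nat_lit 1742) [] [] [] Cert.nil (Cert.rep (nat_lit 1748) [] [] [] Cert.nil (Cert.rep (nat_lit 1750) [] [] [] Cert.nil Cert.nil))))))))))) (Cert.rep (nat_lit 68) [] [nat_lit 1030,nat_lit 256,nat_lit 68,nat_lit 32,nat_lit 16,nat_lit 10,nat_lit 1] [nat_lit 512,nat_lit 4,nat_lit 132,nat_lit 2] Cert.nil (Cert.rep (nat_lit 92) [] [nat_lit 1152,nat_lit 256,nat_lit 70,nat_lit 32,nat_lit 16,nat_lit 10,nat_lit 1] [nat_lit 512,nat_lit 4,nat_lit 132,nat_lit 2] Cert.nil (Cert.rep (nat_lit 1552) [] [nat_lit 1114,nat_lit 594,nat_lit 282,nat_lit 192,nat_lit 32,nat_lit 1] [nat_lit 8,nat_lit 64,nat_lit 4,nat_lit 24,nat_lit 2] Cert.nil Cert.nil)))))))))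
theorem top100_6 : topOK DB PT 88 t88 100 t100 (nat_lit 0xf0000000f0000000f0000000f000000000f0000000f00000f0000000f0000000f0000000f000000000f0000000f00000f0000000f0000000f0000000f0000300000c0300000c00c0000030c0000030c0000030c000003300000c0300000c0300000c0300000c00c0000030c0000030c0000030c000003300000c0300000c000000000000000000000c3000000c30000c0030000c0030000000000000000000000000000000000003003000030030000003300000033000000000000000000f0000000f0000000f00c0cf0f00303f0f00000f0f00000f00c0000030c0000030000000000000000f00000f0f00000f0f00000f0f0f0f0f0fcfc0303fc03fc03) s100 6 g100_6 = true := by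
  decide +kernel

end Cfsg.Agent.L3S.Dat
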