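import Mathlib
import Cfsg.Agent.L3S.GA

/-!
Certificates for the Sylow subgroups.
-/

set_option autoImplicit false
set_option maxRecDepth 100000

namespace Cfsg.Agent.L3S.Dat

open Cfsg.Agent.L33 Cfsg.Agent.L33.Dat Cfsg.Agent.L3S

noncomputable def g100_5_0 : Cert :=
  Cert.rep (nat_lit 1052) [nat_lit 26,nat_lit 68,nat_lit 520] [nat_lit 1030,nat_lit 520,nat_lit 256,nat_lit 132,nat_lit 68,nat_lit 32,nat_lit 26,nat_lit 1] [nat_lit 8,nat_lit 4,nat_lit 2] (Cert.rep (nat_lit 450) [nat_lit 520] [] [] (Cert.rep (nat_lit 1) [] [] [] Cert.nil (Cert.rep (nat_lit 26) [] [] [] Cert.nil (Cert.rep (nat_lit 27) [] [] [] Cert.nil (Cert.rep (nat_lit 1030) [] [] [] Cert.nil (Cert.rep (nat_lit 1031) [] [] [] Cert.nil (Cert.rep (nat_lit 1084) [] [] [] Cert.nil Cert.nil)))))) (Cert.rep (nat_lit 451) [nat_lit 520] [] [] (Cert.rep (nat_lit 1) [] [] [] Cert.nil (Cert.rep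 (nat_lit 26) [] [] [] Cert.nil (Cert.rep (nat_lit 27) [] [] [] Cert.nil (Cert.rep (nat_lit 1030) [] [] [] Cert.nil (Cert.rep (nat_lit 1031) [] [] [] Cert.nil (Cert.rep (nat_lit 1084) [] [] [] Cert.nil Cert.nil)))))) (Cert.rep (nat_lit 472) [nat_lit 588] [] [] (Cert.rep (nat_lit 1) [] [] [] Cert.nil (Cert.rep (nat_lit 26) [] [] [] Cert.nil (Cert.rep (nat_lit 27) [] [] [] Cert.nil (Cert.rep (nat_lit 1030) [] [] [] Cert.nil (Cert.rep (nat_lit 1031) [] [] [] Cert.nil (Cert.rep (nat_lit 1084) [] [] [] Cert.nil Cert.nil)))))) (Cert.rep (nat_lit 473) [nat_lit 588] [] [] (Cert.rep (nat_lit 1) [] [] [] Cert.nil (Cert.rep (nat_lit 26) [] [] [] Cert.nil (Cert.rep (nat_lit 27) [] [] [] Cert.nil (Cert.rep (nat_lit 1030) [] [] [] Cert.nil (Cert.rep (nat_lit 1031) [] [] [] Cert.nil (Cert.rep (nat_lit 1084) [] [] [] Cert.nil Cert.nil)))))) (Cert.rep (nat_lit 598)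 [] [] [] (Cert.rep (nat_lit 1) [] [] [] Cert.nil (Cert.rep (nat_lit 1084) [] [] [] Cert.nil Cert.nil)) (Cert.rep (nat_lit 599) [] [] [] (Cert.rep (nat_lit 1) [] [] [] Cert.nil (Cert.rep (nat_lit 1084) [] [] [] Cert.nil Cert.nil)) (Cert.rep (nat_lit 1476) [nat_lit 588] [] [] (Cert.rep (nat_lit 1) [] [] [] Cert.nil (Cert.rep (nat_lit 26) [] [] [] Cert.nil (Cert.rep (nat_lit 27) [] [] [] Cert.nil (Cert.rep (nat_lit 1030) [] [] [] Cert.nil (Cert.rep (nat_lit 1031) [] [] [] Cert.nil (Cert.rep (nat_lit 1084) [] [] [] Cert.nil Cert.nil)))))) (Cert.rep (nat_lit 1477) [nat_lit 588] [] [] (Cert.rep (nat_lit 1) [] [] [] Cert.nil (Cert.rep (nat_lit 26) [] [] [] Cert.nil (Cert.rep (nat_lit 27) [] [] [] Cert.nil (Cert.rep (nat_lit 1030) [] [] [] Cert.nil (Cert.rep (nat_lit 1031) [] [] [] Cert.nil (Cert.rep (nat_lit 1084) [] [] [] Cert.nil Cert.nil)))))) (Cert.rep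 (nat_lit 1502) [nat_lit 520] [] [] (Cert.rep (nat_lit 1) [] [] [] Cert.nil (Cert.rep (nat_lit 26) [] [] [] Cert.nil (Cert.rep (nat_lit 27) [] [] [] Cert.nil (Cert.rep (nat_lit 1030) [] [] [] Cert.nil (Cert.rep (nat_lit 1031) [] [] [] Cert.nil (Cert.rep (nat_lit 1084) [] [] [] Cert.nil Cert.nil)))))) (Cert.rep (nat_lit 1503) [nat_lit 520] [] [] (Cert.rep (nat_lit 1) [] [] [] Cert.nil (Cert.rep (nat_lit 26) [] [] [] Cert.nil (Cert.rep (nat_lit 27) [] [] [] Cert.nil (Cert.rep (nat_lit 1030) [] [] [] Cert.nil (Cert.rep (nat_lit 1031) [] [] [] Cert.nil (Cert.rep (nat_lit 1084) [] [] [] Cert.nil Cert.nil)))))) (Cert.rep (nat_lit 1610) [] [] [] (Cert.rep (nat_lit 1) [] [] [] Cert.nil (Cert.rep (nat_lit 1084) [] [] [] Cert.nil Cert.nil)) (Cert.rep (nat_lit 1611) [] [] [] (Cert.rep (nat_lit 1) [] [] [] Cert.nil (Cert.rep (nat_lit 1084) [] [] [] Cert.nil Cert.nil))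 Cert.nil)))))))))))) (Cert.rep (nat_lit 1053) [nat_lit 26,nat_lit 68,nat_lit 520] [nat_lit 1030,nat_lit 520,nat_lit 256,nat_lit 132,nat_lit 68,nat_lit 32,nat_lit 26,nat_lit 1] [nat_lit 8,nat_lit 4,nat_lit 2] (Cert.rep (nat_lit 450) [nat_lit 520] [] [] (Cert.rep (nat_lit 1) [] [] [] Cert.nil (Cert.rep (nat_lit 26) [] [] [] Cert.nil (Cert.rep (nat_lit 27) [] [] [] Cert.nil (Cert.rep (nat_lit 1030) [] [] [] Cert.nil (Cert.rep (nat_lit 1031) [] [] [] Cert.nil (Cert.rep (nat_lit 1085) [] [] [] Cert.nil Cert.nil)))))) (Cert.rep (nat_lit 451) [nat_lit 520] [] [] (Cert.rep (nat_lit 1) [] [] [] Cert.nil (Cert.rep (nat_lit 26) [] [] [] Cert.nil (Cert.rep (nat_lit 27) [] [] [] Cert.nil (Cert.rep (nat_lit 1030) [] [] [] Cert.nil (Cert.rep (nat_lit 1031) [] [] [] Cert.nil (Cert.rep (nat_lit 1085) [] [] [] Cert.nil Cert.nil)))))) (Cert.rep (nat_lit 472) [nat_lit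 588] [] [] (Cert.rep (nat_lit 1) [] [] [] Cert.nil (Cert.rep (nat_lit 26) [] [] [] Cert.nil (Cert.rep (nat_lit 27) [] [] [] Cert.nil (Cert.rep (nat_lit 1030) [] [] [] Cert.nil (Cert.rep (nat_lit 1031) [] [] [] Cert.nil (Cert.rep (nat_lit 1085) [] [] [] Cert.nil Cert.nil)))))) (Cert.rep (nat_lit 473) [nat_lit 588] [] [] (Cert.rep (nat_lit 1) [] [] [] Cert.nil (Cert.rep (nat_lit 26) [] [] [] Cert.nil (Cert.rep (nat_lit 27) [] [] [] Cert.nil (Cert.rep (nat_lit 1030) [] [] [] Cert.nil (Cert.rep (nat_lit 1031) [] [] [] Cert.nil (Cert.rep (nat_lit 1085) [] [] [] Cert.nil Cert.nil)))))) (Cert.rep (nat_lit 598) [] [] [] (Cert.rep (nat_lit 1) [] [] [] Cert.nil (Cert.rep (nat_lit 1085) [] [] [] Cert.nil Cert.nil)) (Cert.rep (nat_lit 599) [] [] [] (Cert.rep (nat_lit 1) [] [] [] Cert.nil (Cert.rep (nat_lit 1085) [] [] [] Cert.nil Cert.nil)) (Cert.rep (nat_lit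 1476) [nat_lit 588] [] [] (Cert.rep (nat_lit 1) [] [] [] Cert.nil (Cert.rep (nat_lit 26) [] [] [] Cert.nil (Cert.rep (nat_lit 27) [] [] [] Cert.nil (Cert.rep (nat_lit 1030) [] [] [] Cert.nil (Cert.rep (nat_lit 1031) [] [] [] Cert.nil (Cert.rep (nat_lit 1085) [] [] [] Cert.nil Cert.nil)))))) (Cert.rep (nat_lit 1477) [nat_lit 588] [] [] (Cert.rep (nat_lit 1) [] [] [] Cert.nil (Cert.rep (nat_lit 26) [] [] [] Cert.nil (Cert.rep (nat_lit 27) [] [] [] Cert.nil (Cert.rep (nat_lit 1030) [] [] [] Cert.nil (Cert.rep (nat_lit 1031) [] [] [] Cert.nil (Cert.rep (nat_lit 1085) [] [] [] Cert.nil Cert.nil)))))) (Cert.rep (nat_lit 1502) [nat_lit 520] [] [] (Cert.rep (nat_lit 1) [] [] [] Cert.nil (Cert.rep (nat_lit 26) [] [] [] Cert.nil (Cert.rep (nat_lit 27) [] [] [] Cert.nil (Cert.rep (nat_lit 1030) [] [] [] Cert.nil (Cert.rep (nat_lit 1031) [] [] [] Cert.nil (Cert.rep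 (nat_lit 1085) [] [] [] Cert.nil Cert.nil)))))) (Cert.rep (nat_lit 1503) [nat_lit 520] [] [] (Cert.rep (nat_lit 1) [] [] [] Cert.nil (Cert.rep (nat_lit 26) [] [] [] Cert.nil (Cert.rep (nat_lit 27) [] [] [] Cert.nil (Cert.rep (nat_lit 1030) [] [] [] Cert.nil (Cert.rep (nat_lit 1031) [] [] [] Cert.nil (Cert.rep (nat_lit 1085) [] [] [] Cert.nil Cert.nil)))))) (Cert.rep (nat_lit 1610) [] [] [] (Cert.rep (nat_lit 1) [] [] [] Cert.nil (Cert.rep (nat_lit 1085) [] [] [] Cert.nil Cert.nil)) (Cert.rep (nat_lit 1611) [] [] [] (Cert.rep (nat_lit 1) [] [] [] Cert.nil (Cert.rep (nat_lit 1085) [] [] [] Cert.nil Cert.nil)) Cert.nil)))))))))))) (Cert.rep (nat_lit 1552) [] [nat_lit 1114,nat_lit 594,nat_lit 282,nat_lit 192,nat_lit 32,nat_lit 1] [nat_lit 8,nat_lit 64,nat_lit 4,nat_lit 24,nat_lit 2] Cert.nil Cert.nil))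
noncomputable def g100_5_1 : Cert :=
  Cert.rep (nat_lit 584) [nat_lit 24,nat_lit 1090] [nat_lit 1090,nat_lit 584,nat_lit 258,nat_lit 192,nat_lit 32,nat_lit 24,nat_lit 1] [nat_lit 8,nat_lit 64,nat_lit 4,nat_lit 2] (Cert.rep (nat_lit 24) [] [] [] Cert.nil (Cert.rep (nat_lit 25) [] [] [] Cert.nil (Cert.rep (nat_lit 450) [] [] [] (Cert.rep (nat_lit 1) [] [] [] Cert.nil (Cert.rep (nat_lit 617) [] [] [] Cert.nil Cert.nil)) (Cert.rep (nat_lit 451) [] [] [] (Cert.rep (nat_lit 1) [] [] [] Cert.nil (Cert.rep (nat_lit 617) [] [] [] Cert.nil Cert.nil)) (Cert.rep (nat_lit 474) [] [] [] (Cert.rep (nat_lit 1) [] [] [] Cert.nil (Cert.rep (nat_lit 616) [] [] [] Cert.nil Cert.nil)) (Cert.rep (nat_lit 475) [] [] [] (Cert.rep (nat_lit 1) [] [] [] Cert.nil (Cert.rep (nat_lit 616) [] [] [] Cert.nil Cert.nil)) (Cert.rep (nat_lit 506) [] [] [] (Cert.rep (nat_lit 1) []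 [] [] Cert.nil (Cert.rep (nat_lit 616) [] [] [] Cert.nil Cert.nil)) (Cert.rep (nat_lit 507) [] [] [] (Cert.rep (nat_lit 1) [] [] [] Cert.nil (Cert.rep (nat_lit 616) [] [] [] Cert.nil Cert.nil)) (Cert.rep (nat_lit 592) [] [] [] Cert.nil (Cert.rep (nat_lit 593) [] [] [] Cert.nil (Cert.rep (nat_lit 906) [] [] [] (Cert.rep (nat_lit 1) [] [] [] Cert.nil (Cert.rep (nat_lit 617) [] [] [] Cert.nil Cert.nil)) (Cert.rep (nat_lit 907) [] [] [] (Cert.rep (nat_lit 1) [] [] [] Cert.nil (Cert.rep (nat_lit 617) [] [] [] Cert.nil Cert.nil)) (Cert.rep (nat_lit 914) [] [] [] (Cert.rep (nat_lit 1) [] [] [] Cert.nil (Cert.rep (nat_lit 616) [] [] [] Cert.nil Cert.nil)) (Cert.rep (nat_lit 915) [] [] [] (Cert.rep (nat_lit 1) [] [] [] Cert.nil (Cert.rep (nat_lit 616) [] [] [] Cert.nil Cert.nil)) (Cert.rep (nat_lit 946) [] [] [] (Cert.rep (nat_lit 1) [] [] [] Cert.nil (Cert.rep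 (nat_lit 616) [] [] [] Cert.nil Cert.nil)) (Cert.rep (nat_lit 947) [] [] [] (Cert.rep (nat_lit 1) [] [] [] Cert.nil (Cert.rep (nat_lit 616) [] [] [] Cert.nil Cert.nil)) (Cert.rep (nat_lit 1090) [] [] [] (Cert.rep (nat_lit 1) [] [] [] Cert.nil (Cert.rep (nat_lit 616) [] [] [] Cert.nil Cert.nil)) (Cert.rep (nat_lit 1091) [] [] [] (Cert.rep (nat_lit 1) [] [] [] Cert.nil (Cert.rep (nat_lit 616) [] [] [] Cert.nil Cert.nil)) (Cert.rep (nat_lit 1410) [] [] [] (Cert.rep (nat_lit 1) [] [] [] Cert.nil (Cert.rep (nat_lit 616) [] [] [] Cert.nil Cert.nil)) (Cert.rep (nat_lit 1411) [] [] [] (Cert.rep (nat_lit 1) [] [] [] Cert.nil (Cert.rep (nat_lit 616) [] [] [] Cert.nil Cert.nil)) (Cert.rep (nat_lit 1546) [] [] [] (Cert.rep (nat_lit 1) [] [] [] Cert.nil (Cert.rep (nat_lit 616) [] [] [] Cert.nil Cert.nil)) (Cert.rep (nat_lit 1547) [] [] [] (Cert.rep (nat_lit 1)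 [] [] [] Cert.nil (Cert.rep (nat_lit 616) [] [] [] Cert.nil Cert.nil)) (Cert.rep (nat_lit 1994) [] [] [] (Cert.rep (nat_lit 1) [] [] [] Cert.nil (Cert.rep (nat_lit 616) [] [] [] Cert.nil Cert.nil)) (Cert.rep (nat_lit 1995) [] [] [] (Cert.rep (nat_lit 1) [] [] [] Cert.nil (Cert.rep (nat_lit 616) [] [] [] Cert.nil Cert.nil)) Cert.nil)))))))))))))))))))))))) (Cert.rep (nat_lit 1030) [nat_lit 68] [nat_lit 1030,nat_lit 256,nat_lit 132,nat_lit 68,nat_lit 32,nat_lit 26,nat_lit 1] [nat_lit 512,nat_lit 8,nat_lit 4,nat_lit 2] (Cert.rep (nat_lit 450) [] [] [] (Cert.rep (nat_lit 1) [] [] [] Cert.nil (Cert.rep (nat_lit 26) [] [] [] Cert.nil (Cert.rep (nat_lit 27) [] [] [] Cert.nil (Cert.rep (nat_lit 58) [] [] [] Cert.nil (Cert.rep (nat_lit 59) [] [] [] Cert.nil (Cert.rep (nat_lit 1052) [] [] [] Cert.nil (Cert.rep (nat_lit 1053) [] [] [] Cert.nil (Cert.rep (nat_lit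 1062) [] [] [] Cert.nil (Cert.rep (nat_lit 1084) [] [] [] Cert.nil (Cert.rep (nat_lit 1085) [] [] [] Cert.nil Cert.nil)))))))))) (Cert.rep (nat_lit 451) [] [] [] (Cert.rep (nat_lit 1) [] [] [] Cert.nil (Cert.rep (nat_lit 26) [] [] [] Cert.nil (Cert.rep (nat_lit 27) [] [] [] Cert.nil (Cert.rep (nat_lit 58) [] [] [] Cert.nil (Cert.rep (nat_lit 59) [] [] [] Cert.nil (Cert.rep (nat_lit 1052) [] [] [] Cert.nil (Cert.rep (nat_lit 1053) [] [] [] Cert.nil (Cert.rep (nat_lit 1062) [] [] [] Cert.nil (Cert.rep (nat_lit 1084) [] [] [] Cert.nil (Cert.rep (nat_lit 1085) [] [] [] Cert.nil Cert.nil)))))))))) (Cert.rep (nat_lit 472) [] [] [] (Cert.rep (nat_lit 1) [] [] [] Cert.nil (Cert.rep (nat_lit 26) [] [] [] Cert.nil (Cert.rep (nat_lit 27) [] [] [] Cert.nil (Cert.rep (nat_lit 58) [] [] [] Cert.nil (Cert.rep (nat_lit 59) [] [] [] Cert.nil (Cert.rep (nat_lit 1052)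 [] [] [] Cert.nil (Cert.rep (nat_lit 1053) [] [] [] Cert.nil (Cert.rep (nat_lit 1062) [] [] [] Cert.nil (Cert.rep (nat_lit 1084) [] [] [] Cert.nil (Cert.rep (nat_lit 1085) [] [] [] Cert.nil Cert.nil)))))))))) (Cert.rep (nat_lit 473) [] [] [] (Cert.rep (nat_lit 1) [] [] [] Cert.nil (Cert.rep (nat_lit 26) [] [] [] Cert.nil (Cert.rep (nat_lit 27) [] [] [] Cert.nil (Cert.rep (nat_lit 58) [] [] [] Cert.nil (Cert.rep (nat_lit 59) [] [] [] Cert.nil (Cert.rep (nat_lit 1052) [] [] [] Cert.nil (Cert.rep (nat_lit 1053) [] [] [] Cert.nil (Cert.rep (nat_lit 1062) [] [] [] Cert.nil (Cert.rep (nat_lit 1084) [] [] [] Cert.nil (Cert.rep (nat_lit 1085) [] [] [] Cert.nil Cert.nil)))))))))) (Cert.rep (nat_lit 1476) [] [] [] (Cert.rep (nat_lit 1) [] [] [] Cert.nil (Cert.rep (nat_lit 26) [] [] [] Cert.nil (Cert.rep (nat_lit 27) [] [] [] Cert.nil (Cert.rep (nat_lit 58)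 [] [] [] Cert.nil (Cert.rep (nat_lit 59) [] [] [] Cert.nil (Cert.rep (nat_lit 1052) [] [] [] Cert.nil (Cert.rep (nat_lit 1053) [] [] [] Cert.nil (Cert.rep (nat_lit 1062) [] [] [] Cert.nil (Cert.rep (nat_lit 1084) [] [] [] Cert.nil (Cert.rep (nat_lit 1085) [] [] [] Cert.nil Cert.nil)))))))))) (Cert.rep (nat_lit 1477) [] [] [] (Cert.rep (nat_lit 1) [] [] [] Cert.nil (Cert.rep (nat_lit 26) [] [] [] Cert.nil (Cert.rep (nat_lit 27) [] [] [] Cert.nil (Cert.rep (nat_lit 58) [] [] [] Cert.nil (Cert.rep (nat_lit 59) [] [] [] Cert.nil (Cert.rep (nat_lit 1052) [] [] [] Cert.nil (Cert.rep (nat_lit 1053) [] [] [] Cert.nil (Cert.rep (nat_lit 1062) [] [] [] Cert.nil (Cert.rep (nat_lit 1084) [] [] [] Cert.nil (Cert.rep (nat_lit 1085) [] [] [] Cert.nil Cert.nil)))))))))) (Cert.rep (nat_lit 1502) [] [] [] (Cert.rep (nat_lit 1) [] [] [] Cert.nil (Cert.rep (nat_lit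 26) [] [] [] Cert.nil (Cert.rep (nat_lit 27) [] [] [] Cert.nil (Cert.rep (nat_lit 58) [] [] [] Cert.nil (Cert.rep (nat_lit 59) [] [] [] Cert.nil (Cert.rep (nat_lit 1052) [] [] [] Cert.nil (Cert.rep (nat_lit 1053) [] [] [] Cert.nil (Cert.rep (nat_lit 1062) [] [] [] Cert.nil (Cert.rep (nat_lit 1084) [] [] [] Cert.nil (Cert.rep (nat_lit 1085) [] [] [] Cert.nil Cert.nil)))))))))) (Cert.rep (nat_lit 1503) [] [] [] (Cert.rep (nat_lit 1) [] [] [] Cert.nil (Cert.rep (nat_lit 26) [] [] [] Cert.nil (Cert.rep (nat_lit 27) [] [] [] Cert.nil (Cert.rep (nat_lit 58) [] [] [] Cert.nil (Cert.rep (nat_lit 59) [] [] [] Cert.nil (Cert.rep (nat_lit 1052) [] [] [] Cert.nil (Cert.rep (nat_lit 1053) [] [] [] Cert.nil (Cert.rep (nat_lit 1062) [] [] [] Cert.nil (Cert.rep (nat_lit 1084) [] [] [] Cert.nil (Cert.rep (nat_lit 1085) [] [] [] Cert.nil Cert.nil)))))))))) Cert.nil))))))))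 g100_5_0)
noncomputable def g100_5_2 : Cert :=
  Cert.rep (nat_lit 26) [nat_lit 2,nat_lit 8,nat_lit 68,nat_lit 132,nat_lit 1028] [nat_lit 1028,nat_lit 256,nat_lit 132,nat_lit 68,nat_lit 32,nat_lit 16,nat_lit 8,nat_lit 2,nat_lit 1] [nat_lit 512,nat_lit 4] (Cert.rep (nat_lit 2) [] [] [] Cert.nil (Cert.rep (nat_lit 24) [] [] [] Cert.nil (Cert.rep (nat_lit 448) [nat_lit 2,nat_lit 1088] [] [] (Cert.rep (nat_lit 1) [] [] [] Cert.nil (Cert.rep (nat_lit 59) [] [] [] Cert.nil (Cert.rep (nat_lit 1088) [] [] [] Cert.nil (Cert.rep (nat_lit 1089) [] [] [] Cert.nil (Cert.rep (nat_lit 1114) [] [] [] Cert.nil (Cert.rep (nat_lit 1115) [] [] [] Cert.nil (Cert.rep (nat_lit 1408) [] [] [] Cert.nil (Cert.rep (nat_lit 1409) [] [] [] Cert.nil (Cert.rep (nat_lit 1434) [] [] [] Cert.nil (Cert.rep (nat_lit 1435) [] [] [] Cert.nil Cert.nil)))))))))) (Cert.rep (nat_lit 449)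 [nat_lit 2,nat_lit 1088] [] [] (Cert.rep (nat_lit 1) [] [] [] Cert.nil (Cert.rep (nat_lit 59) [] [] [] Cert.nil (Cert.rep (nat_lit 1088) [] [] [] Cert.nil (Cert.rep (nat_lit 1089) [] [] [] Cert.nil (Cert.rep (nat_lit 1114) [] [] [] Cert.nil (Cert.rep (nat_lit 1115) [] [] [] Cert.nil (Cert.rep (nat_lit 1408) [] [] [] Cert.nil (Cert.rep (nat_lit 1409) [] [] [] Cert.nil (Cert.rep (nat_lit 1434) [] [] [] Cert.nil (Cert.rep (nat_lit 1435) [] [] [] Cert.nil Cert.nil)))))))))) (Cert.rep (nat_lit 472) [nat_lit 2,nat_lit 1028] [] [] (Cert.rep (nat_lit 1) [] [] [] Cert.nil (Cert.rep (nat_lit 58) [] [] [] Cert.nil (Cert.rep (nat_lit 1030) [] [] [] Cert.nil (Cert.rep (nat_lit 1031) [] [] [] Cert.nil (Cert.rep (nat_lit 1052) [] [] [] Cert.nil (Cert.rep (nat_lit 1053) [] [] [] Cert.nil (Cert.rep (nat_lit 1478) [] [] [] Cert.nil (Cert.rep (nat_lit 1479) [] [] []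 Cert.nil (Cert.rep (nat_lit 1500) [] [] [] Cert.nil (Cert.rep (nat_lit 1501) [] [] [] Cert.nil Cert.nil)))))))))) (Cert.rep (nat_lit 473) [nat_lit 2,nat_lit 1028] [] [] (Cert.rep (nat_lit 1) [] [] [] Cert.nil (Cert.rep (nat_lit 58) [] [] [] Cert.nil (Cert.rep (nat_lit 1030) [] [] [] Cert.nil (Cert.rep (nat_lit 1031) [] [] [] Cert.nil (Cert.rep (nat_lit 1052) [] [] [] Cert.nil (Cert.rep (nat_lit 1053) [] [] [] Cert.nil (Cert.rep (nat_lit 1478) [] [] [] Cert.nil (Cert.rep (nat_lit 1479) [] [] [] Cert.nil (Cert.rep (nat_lit 1500) [] [] [] Cert.nil (Cert.rep (nat_lit 1501) [] [] [] Cert.nil Cert.nil)))))))))) (Cert.rep (nat_lit 1028) [] [] [] (Cert.rep (nat_lit 1) [] [] [] Cert.nil (Cert.rep (nat_lit 58) [] [] [] Cert.nil (Cert.rep (nat_lit 1478) [] [] [] Cert.nil (Cert.rep (nat_lit 1479) [] [] [] Cert.nil (Cert.rep (nat_lit 1500) [] [] [] Cert.nil (Cert.rep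 (nat_lit 1501) [] [] [] Cert.nil (Cert.rep (nat_lit 1510) [] [] [] Cert.nil (Cert.rep (nat_lit 1511) [] [] [] Cert.nil (Cert.rep (nat_lit 1532) [] [] [] Cert.nil (Cert.rep (nat_lit 1533) [] [] [] Cert.nil Cert.nil)))))))))) (Cert.rep (nat_lit 1054) [] [] [] (Cert.rep (nat_lit 1) [] [] [] Cert.nil (Cert.rep (nat_lit 58) [] [] [] Cert.nil (Cert.rep (nat_lit 1478) [] [] [] Cert.nil (Cert.rep (nat_lit 1479) [] [] [] Cert.nil (Cert.rep (nat_lit 1500) [] [] [] Cert.nil (Cert.rep (nat_lit 1501) [] [] [] Cert.nil (Cert.rep (nat_lit 1510) [] [] [] Cert.nil (Cert.rep (nat_lit 1511) [] [] [] Cert.nil (Cert.rep (nat_lit 1532) [] [] [] Cert.nil (Cert.rep (nat_lit 1533) [] [] [] Cert.nil Cert.nil)))))))))) (Cert.rep (nat_lit 1410) [] [] [] (Cert.rep (nat_lit 1) [] [] [] Cert.nil (Cert.rep (nat_lit 59) [] [] [] Cert.nil (Cert.rep (nat_lit 1088) [] [] [] Cert.nil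 (Cert.rep (nat_lit 1089) [] [] [] Cert.nil (Cert.rep (nat_lit 1114) [] [] [] Cert.nil (Cert.rep (nat_lit 1115) [] [] [] Cert.nil (Cert.rep (nat_lit 1120) [] [] [] Cert.nil (Cert.rep (nat_lit 1121) [] [] [] Cert.nil (Cert.rep (nat_lit 1146) [] [] [] Cert.nil (Cert.rep (nat_lit 1147) [] [] [] Cert.nil Cert.nil)))))))))) (Cert.rep (nat_lit 1432) [] [] [] (Cert.rep (nat_lit 1) [] [] [] Cert.nil (Cert.rep (nat_lit 59) [] [] [] Cert.nil (Cert.rep (nat_lit 1088) [] [] [] Cert.nil (Cert.rep (nat_lit 1089) [] [] [] Cert.nil (Cert.rep (nat_lit 1114) [] [] [] Cert.nil (Cert.rep (nat_lit 1115) [] [] [] Cert.nil (Cert.rep (nat_lit 1120) [] [] [] Cert.nil (Cert.rep (nat_lit 1121) [] [] [] Cert.nil (Cert.rep (nat_lit 1146) [] [] [] Cert.nil (Cert.rep (nat_lit 1147) [] [] [] Cert.nil Cert.nil)))))))))) Cert.nil)))))))))) (Cert.rep (nat_lit 28) [nat_lit 8] [nat_lit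 578,nat_lit 192,nat_lit 32,nat_lit 16,nat_lit 8,nat_lit 4,nat_lit 1] [nat_lit 1024,nat_lit 64,nat_lit 256,nat_lit 2] (Cert.rep (nat_lit 4) [] [] [] Cert.nil (Cert.rep (nat_lit 5) [] [] [] Cert.nil (Cert.rep (nat_lit 24) [] [] [] Cert.nil (Cert.rep (nat_lit 25) [] [] [] Cert.nil (Cert.rep (nat_lit 36) [] [] [] Cert.nil (Cert.rep (nat_lit 56) [] [] [] Cert.nil (Cert.rep (nat_lit 586) [] [] [] (Cert.rep (nat_lit 1) [] [] [] Cert.nil (Cert.rep (nat_lit 60) [] [] [] Cert.nil Cert.nil)) (Cert.rep (nat_lit 587) [] [] [] (Cert.rep (nat_lit 1) [] [] [] Cert.nil (Cert.rep (nat_lit 60) [] [] [] Cert.nil Cert.nil)) (Cert.rep (nat_lit 590) [] [] [] (Cert.rep (nat_lit 1) [] [] [] Cert.nil (Cert.rep (nat_lit 61) [] [] [] Cert.nil Cert.nil)) (Cert.rep (nat_lit 591) [] [] [] (Cert.rep (nat_lit 1) [] [] [] Cert.nil (Cert.rep (nat_lit 61) [] [] [] Cert.nil Cert.nil))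 (Cert.rep (nat_lit 594) [] [] [] (Cert.rep (nat_lit 1) [] [] [] Cert.nil (Cert.rep (nat_lit 61) [] [] [] Cert.nil Cert.nil)) (Cert.rep (nat_lit 595) [] [] [] (Cert.rep (nat_lit 1) [] [] [] Cert.nil (Cert.rep (nat_lit 61) [] [] [] Cert.nil Cert.nil)) (Cert.rep (nat_lit 598) [] [] [] (Cert.rep (nat_lit 1) [] [] [] Cert.nil (Cert.rep (nat_lit 60) [] [] [] Cert.nil Cert.nil)) (Cert.rep (nat_lit 599) [] [] [] (Cert.rep (nat_lit 1) [] [] [] Cert.nil (Cert.rep (nat_lit 60) [] [] [] Cert.nil Cert.nil)) Cert.nil)))))))))))))) (Cert.rep (nat_lit 32) [nat_lit 2,nat_lit 4,nat_lit 24,nat_lit 64,nat_lit 256,nat_lit 520,nat_lit 1024] [nat_lit 1024,nat_lit 520,nat_lit 256,nat_lit 128,nat_lit 64,nat_lit 32,nat_lit 24,nat_lit 4,nat_lit 2,nat_lit 1] [nat_lit 8] (Cert.rep (nat_lit 450) [nat_lit 2,nat_lit 24,nat_lit 64,nat_lit 520,nat_lit 1028] [] [] (Cert.rep (nat_lit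 26) [] [] [] Cert.nil (Cert.rep (nat_lit 584) [] [] [] Cert.nil (Cert.rep (nat_lit 1030) [] [] [] Cert.nil (Cert.rep (nat_lit 1052) [] [] [] Cert.nil (Cert.rep (nat_lit 1053) [] [] [] Cert.nil Cert.nil))))) (Cert.rep (nat_lit 451) [nat_lit 2,nat_lit 24,nat_lit 64,nat_lit 520,nat_lit 1028] [] [] (Cert.rep (nat_lit 26) [] [] [] Cert.nil (Cert.rep (nat_lit 584) [] [] [] Cert.nil (Cert.rep (nat_lit 1030) [] [] [] Cert.nil (Cert.rep (nat_lit 1052) [] [] [] Cert.nil (Cert.rep (nat_lit 1053) [] [] [] Cert.nil Cert.nil))))) (Cert.rep (nat_lit 472) [nat_lit 2,nat_lit 24,nat_lit 588,nat_lit 1028] [] [] (Cert.rep (nat_lit 26) [] [] [] Cert.nil (Cert.rep (nat_lit 27) [] [] [] Cert.nil (Cert.rep (nat_lit 588) [] [] [] Cert.nil (Cert.rep (nat_lit 589) [] [] [] Cert.nil (Cert.rep (nat_lit 910) [] [] [] Cert.nil (Cert.rep (nat_lit 911) [] [] [] Cert.nil (Cert.rep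 (nat_lit 1030) [] [] [] Cert.nil (Cert.rep (nat_lit 1052) [] [] [] Cert.nil (Cert.rep (nat_lit 1053) [] [] [] Cert.nil (Cert.rep (nat_lit 1478) [] [] [] Cert.nil (Cert.rep (nat_lit 1500) [] [] [] Cert.nil (Cert.rep (nat_lit 1501) [] [] [] Cert.nil Cert.nil)))))))))))) (Cert.rep (nat_lit 586) [nat_lit 4,nat_lit 258] [] [] (Cert.rep (nat_lit 28) [] [] [] Cert.nil (Cert.rep (nat_lit 29) [] [] [] Cert.nil (Cert.rep (nat_lit 478) [] [] [] Cert.nil (Cert.rep (nat_lit 479) [] [] [] Cert.nil (Cert.rep (nat_lit 904) [] [] [] Cert.nil (Cert.rep (nat_lit 905) [] [] [] Cert.nil Cert.nil)))))) (Cert.rep (nat_lit 598) [nat_lit 4,nat_lit 24,nat_lit 256,nat_lit 1024] [] [] (Cert.rep (nat_lit 28) [] [] [] Cert.nil (Cert.rep (nat_lit 29) [] [] [] Cert.nil (Cert.rep (nat_lit 910) [] [] [] Cert.nil (Cert.rep (nat_lit 911) [] [] [] Cert.nil (Cert.rep (nat_lit 1052) []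 [] [] Cert.nil (Cert.rep (nat_lit 1053) [] [] [] Cert.nil Cert.nil)))))) (Cert.rep (nat_lit 599) [nat_lit 4,nat_lit 24,nat_lit 256,nat_lit 1024] [] [] (Cert.rep (nat_lit 28) [] [] [] Cert.nil (Cert.rep (nat_lit 29) [] [] [] Cert.nil (Cert.rep (nat_lit 910) [] [] [] Cert.nil (Cert.rep (nat_lit 911) [] [] [] Cert.nil (Cert.rep (nat_lit 1052) [] [] [] Cert.nil (Cert.rep (nat_lit 1053) [] [] [] Cert.nil Cert.nil)))))) (Cert.rep (nat_lit 1028) [nat_lit 26,nat_lit 588] [] [] (Cert.rep (nat_lit 26) [] [] [] Cert.nil (Cert.rep (nat_lit 27) [] [] [] Cert.nil (Cert.rep (nat_lit 588) [] [] [] Cert.nil (Cert.rep (nat_lit 589) [] [] [] Cert.nil (Cert.rep (nat_lit 910) [] [] [] Cert.nil (Cert.rep (nat_lit 911) [] [] [] Cert.nil (Cert.rep (nat_lit 1478) [] [] [] Cert.nil (Cert.rep (nat_lit 1479) [] [] [] Cert.nil (Cert.rep (nat_lit 1500) [] [] [] Cert.nil (Cert.rep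 (nat_lit 1501) [] [] [] Cert.nil (Cert.rep (nat_lit 1532) [] [] [] Cert.nil (Cert.rep (nat_lit 1533) [] [] [] Cert.nil Cert.nil)))))))))))) (Cert.rep (nat_lit 1054) [nat_lit 522] [] [] (Cert.rep (nat_lit 26) [] [] [] Cert.nil (Cert.rep (nat_lit 27) [] [] [] Cert.nil (Cert.rep (nat_lit 1478) [] [] [] Cert.nil (Cert.rep (nat_lit 1479) [] [] [] Cert.nil (Cert.rep (nat_lit 1500) [] [] [] Cert.nil (Cert.rep (nat_lit 1501) [] [] [] Cert.nil (Cert.rep (nat_lit 1532) [] [] [] Cert.nil (Cert.rep (nat_lit 1533) [] [] [] Cert.nil Cert.nil)))))))) (Cert.rep (nat_lit 1608) [] [] [] (Cert.rep (nat_lit 588) [] [] [] Cert.nil (Cert.rep (nat_lit 589) [] [] [] Cert.nil (Cert.rep (nat_lit 620) [] [] [] Cert.nil (Cert.rep (nat_lit 621) [] [] [] Cert.nil (Cert.rep (nat_lit 1500) [] [] [] Cert.nil (Cert.rep (nat_lit 1501) [] [] [] Cert.nil (Cert.rep (nat_lit 1532) []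 [] [] Cert.nil (Cert.rep (nat_lit 1533) [] [] [] Cert.nil Cert.nil)))))))) Cert.nil))))))))) (Cert.rep (nat_lit 92) [] [nat_lit 1152,nat_lit 256,nat_lit 70,nat_lit 32,nat_lit 16,nat_lit 10,nat_lit 1] [nat_lit 512,nat_lit 4,nat_lit 132,nat_lit 2] Cert.nil g100_5_1)))
noncomputable def g100_5 : Top :=
  (Top.base (Cert.th (nat_lit 444) (nat_lit 136) (nat_lit 1) true [nat_lit 1,nat_lit 2] [nat_lit 136,nat_lit 1,nat_lit 2] [] [] [nat_lit 1024,nat_lit 520,nat_lit 88,nat_lit 2,nat_lit 26,nat_lit 448,nat_lit 59,nat_lit 94,nat_lit 27] [] [Ins.ts (nat_lit 1) [nat_lit 0] [],Ins.fr [nat_lit 0],Ins.ts (nat_lit 4) [nat_lit 0] [nat_lit 0,nat_lit 0,nat_lit 0],Ins.ts (nat_lit 1) [nat_lit 0,nat_lit 0] [],Ins.ts (nat_lit 0) [nat_lit 0,nat_lit 0,nat_lit 0,nat_lit 0] [],Ins.ts (nat_lit 1) [nat_lit 0,nat_lit 0,nat_lit 1] [],Ins.ts (nat_lit 4) [nat_lit 0,nat_lit 0,nat_lit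 1] [nat_lit 0,nat_lit 0,nat_lit 3],Ins.fr [nat_lit 1],Ins.ts (nat_lit 0) [nat_lit 0,nat_lit 0] [],Ins.ts (nat_lit 4) [nat_lit 0] [nat_lit 0,nat_lit 0,nat_lit 1],Ins.ts (nat_lit 0) [nat_lit 1,nat_lit 0] [nat_lit 0,nat_lit 1],Ins.ts (nat_lit 4) [nat_lit 0] [nat_lit 0,nat_lit 0,nat_lit 3],Ins.ts (nat_lit 1) [nat_lit 0] [],Ins.ts (nat_lit 4) [nat_lit 0,nat_lit 1,nat_lit 1,nat_lit 2] [nat_lit 0,nat_lit 0,nat_lit 3],Ins.ts (nat_lit 1) [nat_lit 0,nat_lit 1,nat_lit 1,nat_lit 2] [],Ins.ts (nat_lit 1) [nat_lit 0,nat_lit 2] [],Ins.ts (nat_lit 1) [nat_lit 0,nat_lit 1,nat_lit 1] [],Ins.fr [nat_lit 0,nat_lit 2],Ins.ts (nat_lit 0) [nat_lit 0,nat_lit 0] [nat_lit 1],Ins.ts (nat_lit 0) [nat_lit 2,nat_lit 0] [nat_lit 0,nat_lit 2],Ins.ts (nat_lit 4) [nat_lit 0] [nat_lit 0,nat_lit 0,nat_lit 1],Ins.ts (nat_lit 4) [nat_lit 2,nat_lit 2,nat_lit 3,nat_lit 0] [nat_lit 0,nat_lit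 0,nat_lit 3]] [(nat_lit 0,nat_lit 0),(nat_lit 3,nat_lit 0),(nat_lit 2,nat_lit 0)] g100_5_2))
theorem top100_5 : topOK DB PT 88 t88 100 t100 (nat_lit 0xf0000000f0000000f0000000f000000000f0000000f00000f0000000f0000000f0000000f000000000f0000000f00000f0000000f0000000f0000000f0000300000c0300000c00c0000030c0000030c0000030c000003300000c0300000c0300000c0300000c00c0000030c0000030c0000030c000003300000c0300000c000000000000000000000c3000000c30000c0030000c0030000000000000000000000000000000000003003000030030000003300000033000000000000000000f0000000f0000000f00c0cf0f00303f0f00000f0f00000f00c0000030c0000030000000000000000f00000f0f00000f0f00000f0f0f0f0f0fcfc0303fc03fc03) s100 5 g100_5 = true := by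
  decide +kernel
noncomputable def g100_9_0 : Cert :=
  Cert.s2 (nat_lit 0) (nat_lit 68) (Cert.o1 (nat_lit 0) (nat_lit 68) (Cert.fu (nat_lit 10) (nat_lit 1) (nat_lit 0) (nat_lit 0) [] [nat_lit 68,nat_lit 1,nat_lit 16,nat_lit 32,nat_lit 256] [] [] [] [nat_lit 1] [[nat_lit 1]] [[nat_lit 68]] [Ins.fr [nat_lit 0],Ins.ts (nat_lit 3) [nat_lit 0] [],Ins.ts (nat_lit 4) [nat_lit 0] [nat_lit 0,nat_lit 0,nat_lit 0],Ins.ts (nat_lit 1) [nat_lit 0] [],Ins.fr [nat_lit 1],Ins.ts (nat_lit 3) [nat_lit 0] [],Ins.ts (nat_lit 0) [nat_lit 0,nat_lit 0] [],Ins.ts (nat_lit 1) [nat_lit 0] [],Ins.ts (nat_lit 1) [nat_lit 0,nat_lit 1] [],Ins.fr [nat_lit 2],Ins.ts (nat_lit 2) [nat_lit 0] [],Ins.ts (nat_lit 0) [nat_lit 0,nat_lit 0] [],Ins.ts (nat_lit 0) [nat_lit 1,nat_lit 0] [nat_lit 0,nat_lit 1],Ins.ts (nat_lit 1) [nat_lit 0,nat_lit 3] [],Ins.ts (nat_lit 1) [nat_lit 0,nat_lit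 2,nat_lit 3] [],Ins.ts (nat_lit 1) [nat_lit 0,nat_lit 1,nat_lit 3] [],Ins.ts (nat_lit 1) [nat_lit 0,nat_lit 1,nat_lit 2,nat_lit 3] [],Ins.fr [nat_lit 1,nat_lit 3],Ins.ts (nat_lit 0) [nat_lit 0,nat_lit 0] [],Ins.ts (nat_lit 4) [nat_lit 0] [nat_lit 0,nat_lit 0,nat_lit 1],Ins.ts (nat_lit 0) [nat_lit 1,nat_lit 2,nat_lit 0] [nat_lit 0,nat_lit 1],Ins.fr [nat_lit 1],Ins.ts (nat_lit 0) [nat_lit 0,nat_lit 0] [],Ins.ts (nat_lit 4) [nat_lit 0] [nat_lit 0,nat_lit 0,nat_lit 1]] [(nat_lit 0,nat_lit 0)] (Cert.rep (nat_lit 10) [] [nat_lit 68,nat_lit 36,nat_lit 16,nat_lit 8,nat_lit 2,nat_lit 1] [nat_lit 1024,nat_lit 512,nat_lit 256,nat_lit 128,nat_lit 4] (Cert.rep (nat_lit 1) [nat_lit 2,nat_lit 16,nat_lit 36,nat_lit 68] [] [] (Cert.rep (nat_lit 26) [nat_lit 2,nat_lit 68] [] [] (Cert.rep (nat_lit 76) [nat_lit 10] [] [] (Cert.rep (nat_lit 256) [] [] [] Cert.nil (Cert.rep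 (nat_lit 257) [] [] [] Cert.nil (Cert.rep (nat_lit 326) [] [] [] Cert.nil (Cert.rep (nat_lit 327) [] [] [] Cert.nil Cert.nil)))) (Cert.rep (nat_lit 78) [nat_lit 10] [] [] (Cert.rep (nat_lit 256) [] [] [] Cert.nil (Cert.rep (nat_lit 257) [] [] [] Cert.nil (Cert.rep (nat_lit 324) [] [] [] Cert.nil (Cert.rep (nat_lit 325) [] [] [] Cert.nil Cert.nil)))) (Cert.rep (nat_lit 84) [nat_lit 10] [] [] (Cert.rep (nat_lit 256) [] [] [] Cert.nil (Cert.rep (nat_lit 257) [] [] [] Cert.nil (Cert.rep (nat_lit 324) [] [] [] Cert.nil (Cert.rep (nat_lit 325) [] [] [] Cert.nil Cert.nil)))) (Cert.rep (nat_lit 86) [nat_lit 10] [] [] (Cert.rep (nat_lit 256) [] [] [] Cert.nil (Cert.rep (nat_lit 257) [] [] [] Cert.nil (Cert.rep (nat_lit 326) [] [] [] Cert.nil (Cert.rep (nat_lit 327) [] [] [] Cert.nil Cert.nil)))) Cert.nil)))) (Cert.rep (nat_lit 60) [] [] [] Cert.nil (Cert.rep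 (nat_lit 68) [] [] [] (Cert.rep (nat_lit 16) [] [] [] Cert.nil (Cert.rep (nat_lit 17) [] [] [] Cert.nil (Cert.rep (nat_lit 84) [] [] [] Cert.nil (Cert.rep (nat_lit 85) [] [] [] Cert.nil Cert.nil)))) (Cert.rep (nat_lit 92) [] [] [] (Cert.rep (nat_lit 16) [] [] [] Cert.nil (Cert.rep (nat_lit 17) [] [] [] Cert.nil (Cert.rep (nat_lit 76) [] [] [] Cert.nil (Cert.rep (nat_lit 77) [] [] [] Cert.nil Cert.nil)))) Cert.nil)))) Cert.nil) Cert.nil))) (Cert.s2 (nat_lit 0) (nat_lit 92) (Cert.o1 (nat_lit 0) (nat_lit 92) (Cert.fu (nat_lit 10) (nat_lit 1) (nat_lit 0) (nat_lit 0) [] [nat_lit 92,nat_lit 1,nat_lit 16,nat_lit 32] [] [] [] [nat_lit 1] [[nat_lit 1]] [[nat_lit 92]] [Ins.fr [nat_lit 0],Ins.ts (nat_lit 3) [nat_lit 0] [],Ins.ts (nat_lit 4) [nat_lit 0] [nat_lit 0,nat_lit 0,nat_lit 0],Ins.ts (nat_lit 1) [nat_lit 0] [],Ins.fr [nat_lit 1],Ins.ts (nat_lit 3) [nat_lit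 0] [],Ins.ts (nat_lit 0) [nat_lit 0,nat_lit 0] [],Ins.ts (nat_lit 1) [nat_lit 0] [],Ins.ts (nat_lit 4) [nat_lit 0] [nat_lit 0,nat_lit 0,nat_lit 1],Ins.ts (nat_lit 1) [nat_lit 0,nat_lit 1] [],Ins.fr [nat_lit 2],Ins.ts (nat_lit 2) [nat_lit 0] [],Ins.ts (nat_lit 0) [nat_lit 0,nat_lit 0] [],Ins.ts (nat_lit 0) [nat_lit 1,nat_lit 0] [nat_lit 0,nat_lit 1],Ins.ts (nat_lit 4) [nat_lit 0,nat_lit 2,nat_lit 3] [nat_lit 0,nat_lit 0,nat_lit 2],Ins.ts (nat_lit 4) [nat_lit 0,nat_lit 1,nat_lit 2,nat_lit 3] [nat_lit 0,nat_lit 0,nat_lit 2],Ins.ts (nat_lit 1) [nat_lit 0,nat_lit 2,nat_lit 3] [],Ins.ts (nat_lit 1) [nat_lit 0,nat_lit 1,nat_lit 2,nat_lit 3] [],Ins.fr [nat_lit 1,nat_lit 3],Ins.ts (nat_lit 0) [nat_lit 0,nat_lit 0] [],Ins.ts (nat_lit 4) [nat_lit 0] [nat_lit 0,nat_lit 0,nat_lit 3]] [(nat_lit 2,nat_lit 0),(nat_lit 3,nat_lit 0),(nat_lit 0,nat_lit 0)] (Cert.rep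 (nat_lit 10) [] [nat_lit 68,nat_lit 36,nat_lit 16,nat_lit 8,nat_lit 2,nat_lit 1] [nat_lit 1024,nat_lit 512,nat_lit 256,nat_lit 128,nat_lit 4] (Cert.rep (nat_lit 1) [nat_lit 2,nat_lit 16,nat_lit 36,nat_lit 68] [] [] (Cert.rep (nat_lit 26) [] [] [] Cert.nil (Cert.rep (nat_lit 60) [] [] [] Cert.nil (Cert.rep (nat_lit 92) [] [] [] (Cert.rep (nat_lit 16) [] [] [] Cert.nil (Cert.rep (nat_lit 17) [] [] [] Cert.nil (Cert.rep (nat_lit 76) [] [] [] Cert.nil (Cert.rep (nat_lit 77) [] [] [] Cert.nil Cert.nil)))) Cert.nil))) Cert.nil) Cert.nil))) (Cert.root (nat_lit 32) [] [nat_lit 8,nat_lit 4] [nat_lit 0,nat_lit 1,nat_lit 2,nat_lit 3,nat_lit 4] [Ins.fr [nat_lit 0],Ins.ts (nat_lit 0) [nat_lit 0,nat_lit 0] [],Ins.ts (nat_lit 4) [nat_lit 0] [nat_lit 0,nat_lit 0,nat_lit 0],Ins.ts (nat_lit 1) [nat_lit 0] [],Ins.fr [nat_lit 1],Ins.ts (nat_lit 1) [nat_lit 0,nat_lit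 0] [],Ins.ts (nat_lit 4) [nat_lit 0] [nat_lit 0,nat_lit 0,nat_lit 0],Ins.ts (nat_lit 0) [nat_lit 1,nat_lit 0,nat_lit 1] [nat_lit 0,nat_lit 0,nat_lit 0],Ins.ts (nat_lit 1) [nat_lit 0,nat_lit 0,nat_lit 0,nat_lit 0] [],Ins.df [nat_lit 0,nat_lit 0],Ins.df [nat_lit 0,nat_lit 0]] (Cert.rep (nat_lit 10) [nat_lit 2,nat_lit 16,nat_lit 36,nat_lit 68] [nat_lit 68,nat_lit 36,nat_lit 16,nat_lit 8,nat_lit 2,nat_lit 1] [nat_lit 1024,nat_lit 512,nat_lit 256,nat_lit 128,nat_lit 4] (Cert.rep (nat_lit 1) [] [] [] Cert.nil (Cert.rep (nat_lit 26) [] [] [] Cert.nil (Cert.rep (nat_lit 60) [] [] [] Cert.nil (Cert.rep (nat_lit 68) [nat_lit 16,nat_lit 68] [] [] (Cert.rep (nat_lit 96) [] [] [] (Cert.er (Cert.ro (nat_lit 0) [nat_lit 1,nat_lit 8,nat_lit 16] [nat_lit 8,nat_lit 9,nat_lit 16] [nat_lit 0,nat_lit 1,nat_lit 68,nat_lit 69,nat_lit 10,nat_lit 11,nat_lit 78,nat_lit 79]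 (Cert.ro (nat_lit 1) [nat_lit 1,nat_lit 2,nat_lit 14,nat_lit 16] [nat_lit 1,nat_lit 14,nat_lit 12,nat_lit 16] [nat_lit 0,nat_lit 1,nat_lit 2,nat_lit 3,nat_lit 39,nat_lit 38,nat_lit 36,nat_lit 37,nat_lit 10,nat_lit 11,nat_lit 9,nat_lit 8,nat_lit 44,nat_lit 45,nat_lit 46,nat_lit 47] (Cert.kw (nat_lit 2) (nat_lit 0) (nat_lit 2) (nat_lit 1) )))) Cert.nil) (Cert.rep (nat_lit 92) [nat_lit 16,nat_lit 70] [] [] (Cert.rep (nat_lit 120) [] [] [] (Cert.er (Cert.ro (nat_lit 0) [nat_lit 1,nat_lit 8,nat_lit 16] [nat_lit 8,nat_lit 9,nat_lit 16] [nat_lit 0,nat_lit 1,nat_lit 92,nat_lit 93,nat_lit 10,nat_lit 11,nat_lit 87,nat_lit 86] (Cert.ro (nat_lit 1) [nat_lit 1,nat_lit 2,nat_lit 14,nat_lit 16] [nat_lit 1,nat_lit 14,nat_lit 12,nat_lit 16] [nat_lit 0,nat_lit 1,nat_lit 2,nat_lit 3,nat_lit 39,nat_lit 38,nat_lit 36,nat_lit 37,nat_lit 10,nat_lit 11,nat_lit 9,nat_lit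 8,nat_lit 44,nat_lit 45,nat_lit 46,nat_lit 47] (Cert.kw (nat_lit 2) (nat_lit 0) (nat_lit 2) (nat_lit 1) )))) Cert.nil) Cert.nil))))) Cert.nil)))
noncomputable def g100_9_1 : Top :=
  Top.xk (nat_lit 536) (Top.xn (nat_lit 10) (Top.root (nat_lit 32) [] [nat_lit 8,nat_lit 4] [nat_lit 0,nat_lit 1,nat_lit 2,nat_lit 3,nat_lit 4] [Ins.fr [nat_lit 0],Ins.ts (nat_lit 0) [nat_lit 0,nat_lit 0] [],Ins.ts (nat_lit 4) [nat_lit 0] [nat_lit 0,nat_lit 0,nat_lit 0],Ins.ts (nat_lit 1) [nat_lit 0] [],Ins.fr [nat_lit 1],Ins.ts (nat_lit 1) [nat_lit 0,nat_lit 0] [],Ins.ts (nat_lit 4) [nat_lit 0] [nat_lit 0,nat_lit 0,nat_lit 0],Ins.ts (nat_lit 0) [nat_lit 1,nat_lit 0,nat_lit 1] [nat_lit 0,nat_lit 0,nat_lit 0],Ins.ts (nat_lit 1) [nat_lit 0,nat_lit 0,nat_lit 0,nat_lit 0] [],Ins.df [nat_lit 0,nat_lit 0],Ins.df [nat_lit 0,nat_lit 0]] (Top.rep (nat_lit 10) [nat_lit 2,nat_lit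 16,nat_lit 36,nat_lit 68] [nat_lit 68,nat_lit 36,nat_lit 16,nat_lit 8,nat_lit 2,nat_lit 1] [nat_lit 1024,nat_lit 512,nat_lit 256,nat_lit 128,nat_lit 4] (Top.rep (nat_lit 1) [] [] [] (Top.base Cert.nil) (Top.rep (nat_lit 26) [] [] [] (Top.base Cert.nil) (Top.rep (nat_lit 60) [] [] [] (Top.base Cert.nil) (Top.rep (nat_lit 68) [nat_lit 16,nat_lit 68] [] [] (Top.rep (nat_lit 96) [] [] [] (Top.er (Top.ro (nat_lit 0) [nat_lit 1,nat_lit 8,nat_lit 16] [nat_lit 8,nat_lit 9,nat_lit 16] [nat_lit 0,nat_lit 1,nat_lit 68,nat_lit 69,nat_lit 10,nat_lit 11,nat_lit 78,nat_lit 79] (Top.ro (nat_lit 1) [nat_lit 1,nat_lit 2,nat_lit 14,nat_lit 16] [nat_lit 1,nat_lit 14,nat_lit 12,nat_lit 16] [nat_lit 0,nat_lit 1,nat_lit 2,nat_lit 3,nat_lit 39,nat_lit 38,nat_lit 36,nat_lit 37,nat_lit 10,nat_lit 11,nat_lit 9,nat_lit 8,nat_lit 44,nat_lit 45,nat_lit 46,nat_lit 47] (Top.s2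 (nat_lit 0) (nat_lit 32) (Top.base (Cert.o1 (nat_lit 0) (nat_lit 32) (Cert.fu (nat_lit 32) (nat_lit 1) (nat_lit 0) (nat_lit 0) [nat_lit 0] [nat_lit 1940,nat_lit 714] [] [] [] [nat_lit 1] [[nat_lit 1]] [[nat_lit 32]] [Ins.ts (nat_lit 1) [nat_lit 0] [],Ins.fr [nat_lit 0],Ins.ts (nat_lit 4) [nat_lit 0] [nat_lit 0,nat_lit 0,nat_lit 1],Ins.ts (nat_lit 0) [nat_lit 0,nat_lit 0,nat_lit 0,nat_lit 0] [nat_lit 1],Ins.fr [nat_lit 1],Ins.ts (nat_lit 4) [nat_lit 0] [nat_lit 0,nat_lit 0,nat_lit 1],Ins.ts (nat_lit 1) [nat_lit 0,nat_lit 0] [],Ins.ts (nat_lit 0) [nat_lit 1,nat_lit 1,nat_lit 0,nat_lit 1,nat_lit 1] [nat_lit 0],Ins.ts (nat_lit 1) [nat_lit 0,nat_lit 0,nat_lit 0,nat_lit 0] []] [(nat_lit 0,nat_lit 0)] (Cert.rep (nat_lit 1) [nat_lit 4,nat_lit 8,nat_lit 16,nat_lit 64,nat_lit 128,nat_lit 512,nat_lit 1024] [nat_lit 1024,nat_lit 512,nat_lit 256,nat_lit 128,nat_lit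 64,nat_lit 32,nat_lit 16,nat_lit 8,nat_lit 4,nat_lit 2,nat_lit 1] [] (Cert.rep (nat_lit 64) [] [] [] Cert.nil (Cert.rep (nat_lit 88) [] [] [] Cert.nil (Cert.rep (nat_lit 128) [] [] [] Cert.nil Cert.nil))) Cert.nil)))) (Top.cut (nat_lit 3)))))) (Top.base Cert.nil)) (Top.rep (nat_lit 92) [nat_lit 16,nat_lit 70] [] [] (Top.rep (nat_lit 120) [] [] [] (Top.er (Top.ro (nat_lit 0) [nat_lit 1,nat_lit 8,nat_lit 16] [nat_lit 8,nat_lit 9,nat_lit 16] [nat_lit 0,nat_lit 1,nat_lit 92,nat_lit 93,nat_lit 10,nat_lit 11,nat_lit 87,nat_lit 86] (Top.ro (nat_lit 1) [nat_lit 1,nat_lit 2,nat_lit 14,nat_lit 16] [nat_lit 1,nat_lit 14,nat_lit 12,nat_lit 16] [nat_lit 0,nat_lit 1,nat_lit 2,nat_lit 3,nat_lit 39,nat_lit 38,nat_lit 36,nat_lit 37,nat_lit 10,nat_lit 11,nat_lit 9,nat_lit 8,nat_lit 44,nat_lit 45,nat_lit 46,nat_lit 47] (Top.s2 (nat_lit 0) (nat_lit 32) (Top.base (Cert.o1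 (nat_lit 0) (nat_lit 32) (Cert.fu (nat_lit 32) (nat_lit 1) (nat_lit 0) (nat_lit 0) [nat_lit 0] [nat_lit 1940,nat_lit 714] [] [] [] [nat_lit 1] [[nat_lit 1]] [[nat_lit 32]] [Ins.ts (nat_lit 1) [nat_lit 0] [],Ins.fr [nat_lit 0],Ins.ts (nat_lit 4) [nat_lit 0] [nat_lit 0,nat_lit 0,nat_lit 1],Ins.ts (nat_lit 0) [nat_lit 0,nat_lit 0,nat_lit 0,nat_lit 0] [nat_lit 1],Ins.fr [nat_lit 1],Ins.ts (nat_lit 4) [nat_lit 0] [nat_lit 0,nat_lit 0,nat_lit 1],Ins.ts (nat_lit 1) [nat_lit 0,nat_lit 0] [],Ins.ts (nat_lit 0) [nat_lit 1,nat_lit 1,nat_lit 0,nat_lit 1,nat_lit 1] [nat_lit 0],Ins.ts (nat_lit 1) [nat_lit 0,nat_lit 0,nat_lit 0,nat_lit 0] []] [(nat_lit 0,nat_lit 0)] (Cert.rep (nat_lit 1) [nat_lit 4,nat_lit 8,nat_lit 16,nat_lit 64,nat_lit 128,nat_lit 512,nat_lit 1024] [nat_lit 1024,nat_lit 512,nat_lit 256,nat_lit 128,nat_lit 64,nat_lit 32,nat_lit 16,nat_lit 8,nat_lit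 4,nat_lit 2,nat_lit 1] [] (Cert.rep (nat_lit 64) [] [] [] Cert.nil (Cert.rep (nat_lit 88) [] [] [] Cert.nil (Cert.rep (nat_lit 128) [] [] [] Cert.nil Cert.nil))) Cert.nil)))) (Top.cut (nat_lit 4)))))) (Top.base Cert.nil)) (Top.base Cert.nil)))))) (Top.base Cert.nil)))) (Top.xk (nat_lit 920) (Top.xn (nat_lit 10) (Top.s2 (nat_lit 0) (nat_lit 92) (Top.base (Cert.o1 (nat_lit 0) (nat_lit 92) (Cert.fu (nat_lit 92) (nat_lit 1) (nat_lit 0) (nat_lit 0) [nat_lit 0] [nat_lit 1201,nat_lit 11] [] [] [] [nat_lit 1] [[nat_lit 1]] [[nat_lit 92]] [Ins.ts (nat_lit 1) [nat_lit 0] [],Ins.fr [nat_lit 0],Ins.ts (nat_lit 0) [nat_lit 0,nat_lit 0] [nat_lit 1],Ins.ts (nat_lit 4) [nat_lit 0] [nat_lit 0,nat_lit 0,nat_lit 1],Ins.fr [nat_lit 1],Ins.ts (nat_lit 2) [nat_lit 0] [],Ins.ts (nat_lit 0) [nat_lit 0,nat_lit 0] [],Ins.ts (nat_lit 0) [nat_lit 1,nat_lit 0,nat_lit 1] [nat_lit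 0],Ins.ts (nat_lit 3) [nat_lit 1,nat_lit 0] []] [(nat_lit 0,nat_lit 0)] (Cert.rep (nat_lit 1) [nat_lit 2,nat_lit 4,nat_lit 8,nat_lit 64,nat_lit 256,nat_lit 512,nat_lit 1024] [nat_lit 1024,nat_lit 512,nat_lit 256,nat_lit 128,nat_lit 64,nat_lit 32,nat_lit 16,nat_lit 8,nat_lit 4,nat_lit 2,nat_lit 1] [] (Cert.rep (nat_lit 2) [] [] [] Cert.nil (Cert.rep (nat_lit 4) [] [] [] Cert.nil (Cert.rep (nat_lit 24) [] [] [] Cert.nil (Cert.rep (nat_lit 592) [] [] [] Cert.nil Cert.nil)))) Cert.nil)))) (Top.root (nat_lit 32) [] [nat_lit 8,nat_lit 4] [nat_lit 0,nat_lit 1,nat_lit 2,nat_lit 3,nat_lit 4] [Ins.fr [nat_lit 0],Ins.ts (nat_lit 0) [nat_lit 0,nat_lit 0] [],Ins.ts (nat_lit 4) [nat_lit 0] [nat_lit 0,nat_lit 0,nat_lit 0],Ins.ts (nat_lit 1) [nat_lit 0] [],Ins.fr [nat_lit 1],Ins.ts (nat_lit 1) [nat_lit 0,nat_lit 0] [],Ins.ts (nat_lit 4) [nat_lit 0] [nat_lit 0,nat_lit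 0,nat_lit 0],Ins.ts (nat_lit 0) [nat_lit 1,nat_lit 0,nat_lit 1] [nat_lit 0,nat_lit 0,nat_lit 0],Ins.ts (nat_lit 1) [nat_lit 0,nat_lit 0,nat_lit 0,nat_lit 0] [],Ins.df [nat_lit 0,nat_lit 0],Ins.df [nat_lit 0,nat_lit 0]] (Top.rep (nat_lit 10) [nat_lit 2,nat_lit 16,nat_lit 36,nat_lit 68] [nat_lit 68,nat_lit 36,nat_lit 16,nat_lit 8,nat_lit 2,nat_lit 1] [nat_lit 1024,nat_lit 512,nat_lit 256,nat_lit 128,nat_lit 4] (Top.rep (nat_lit 1) [] [] [] (Top.base Cert.nil) (Top.rep (nat_lit 26) [] [] [] (Top.base Cert.nil) (Top.rep (nat_lit 60) [] [] [] (Top.base Cert.nil) (Top.rep (nat_lit 68) [nat_lit 16,nat_lit 68] [] [] (Top.rep (nat_lit 96) [] [] [] (Top.er (Top.ro (nat_lit 0) [nat_lit 1,nat_lit 8,nat_lit 16] [nat_lit 8,nat_lit 9,nat_lit 16] [nat_lit 0,nat_lit 1,nat_lit 68,nat_lit 69,nat_lit 10,nat_lit 11,nat_lit 78,nat_lit 79] (Top.ro (nat_lit 1) [nat_lit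 1,nat_lit 2,nat_lit 14,nat_lit 16] [nat_lit 1,nat_lit 14,nat_lit 12,nat_lit 16] [nat_lit 0,nat_lit 1,nat_lit 2,nat_lit 3,nat_lit 39,nat_lit 38,nat_lit 36,nat_lit 37,nat_lit 10,nat_lit 11,nat_lit 9,nat_lit 8,nat_lit 44,nat_lit 45,nat_lit 46,nat_lit 47] (Top.lw (nat_lit 0) (nat_lit 2) (nat_lit 1) (Top.s2 (nat_lit 0) (nat_lit 32) (Top.base (Cert.o1 (nat_lit 0) (nat_lit 32) (Cert.fu (nat_lit 32) (nat_lit 1) (nat_lit 0) (nat_lit 0) [nat_lit 0] [nat_lit 1940,nat_lit 727] [] [] [] [nat_lit 1] [[nat_lit 1]] [[nat_lit 32]] [Ins.ts (nat_lit 1) [nat_lit 0] [],Ins.fr [nat_lit 0],Ins.ts (nat_lit 4) [nat_lit 0] [nat_lit 0,nat_lit 0,nat_lit 1],Ins.ts (nat_lit 0) [nat_lit 0,nat_lit 0,nat_lit 0,nat_lit 0] [nat_lit 1],Ins.fr [nat_lit 1],Ins.ts (nat_lit 0) [nat_lit 1,nat_lit 1] [nat_lit 0,nat_lit 0],Ins.ts (nat_lit 4) [nat_lit 0] [nat_lit 0,nat_lit 0,nat_lit 2],Ins.ts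 (nat_lit 3) [nat_lit 1,nat_lit 0] [],Ins.ts (nat_lit 0) [nat_lit 1,nat_lit 2,nat_lit 0] [nat_lit 0,nat_lit 1]] [(nat_lit 0,nat_lit 0),(nat_lit 1,nat_lit 0)] (Cert.rep (nat_lit 1) [nat_lit 2,nat_lit 4,nat_lit 8,nat_lit 16,nat_lit 32,nat_lit 64,nat_lit 128,nat_lit 256,nat_lit 512,nat_lit 1024] [nat_lit 1024,nat_lit 512,nat_lit 256,nat_lit 128,nat_lit 64,nat_lit 32,nat_lit 16,nat_lit 8,nat_lit 4,nat_lit 2,nat_lit 1] [] (Cert.rep (nat_lit 64) [] [] [] Cert.nil (Cert.rep (nat_lit 88) [] [] [] Cert.nil (Cert.rep (nat_lit 140) [] [] [] Cert.nil Cert.nil))) Cert.nil)))) (Top.s2 (nat_lit 0) (nat_lit 1552) (Top.base (Cert.o1 (nat_lit 0) (nat_lit 1552) (Cert.fu (nat_lit 1552) (nat_lit 1) (nat_lit 0) (nat_lit 0) [nat_lit 0] [nat_lit 883] [] [] [] [nat_lit 1] [[nat_lit 1]] [[nat_lit 1552]] [Ins.ts (nat_lit 1) [nat_lit 0] [],Ins.fr [nat_lit 0],Ins.ts (nat_lit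 4) [nat_lit 0] [nat_lit 0,nat_lit 0,nat_lit 1],Ins.ts (nat_lit 0) [nat_lit 0,nat_lit 0,nat_lit 0,nat_lit 0] [],Ins.ts (nat_lit 1) [nat_lit 0,nat_lit 0] [],Ins.ts (nat_lit 4) [nat_lit 0,nat_lit 0] [nat_lit 0,nat_lit 0,nat_lit 2],Ins.ts (nat_lit 4) [nat_lit 0,nat_lit 0,nat_lit 1] [nat_lit 0,nat_lit 0,nat_lit 3]] [(nat_lit 1,nat_lit 0),(nat_lit 3,nat_lit 0),(nat_lit 2,nat_lit 0)] (Cert.rep (nat_lit 1) [] [nat_lit 1024,nat_lit 512,nat_lit 256,nat_lit 128,nat_lit 64,nat_lit 32,nat_lit 16,nat_lit 8,nat_lit 4,nat_lit 2,nat_lit 1] [] Cert.nil Cert.nil)))) (Top.cut (nat_lit 5)))))))) (Top.base Cert.nil)) (Top.base (Cert.rep (nat_lit 92) [nat_lit 16,nat_lit 70] [] [] (Cert.rep (nat_lit 120) [] [] [] (Cert.er (Cert.ro (nat_lit 0) [nat_lit 1,nat_lit 8,nat_lit 16] [nat_lit 8,nat_lit 9,nat_lit 16] [nat_lit 0,nat_lit 1,nat_lit 92,nat_lit 93,nat_lit 10,nat_lit 11,nat_lit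 87,nat_lit 86] (Cert.ro (nat_lit 1) [nat_lit 1,nat_lit 2,nat_lit 14,nat_lit 16] [nat_lit 1,nat_lit 14,nat_lit 12,nat_lit 16] [nat_lit 0,nat_lit 1,nat_lit 2,nat_lit 3,nat_lit 39,nat_lit 38,nat_lit 36,nat_lit 37,nat_lit 10,nat_lit 11,nat_lit 9,nat_lit 8,nat_lit 44,nat_lit 45,nat_lit 46,nat_lit 47] (Cert.kw (nat_lit 2) (nat_lit 0) (nat_lit 2) (nat_lit 1) )))) Cert.nil) Cert.nil)))))) (Top.base Cert.nil))))) (Top.xk (nat_lit 1048) (Top.base (Cert.xn (nat_lit 10) g100_9_0)) (Top.cut (nat_lit 8))))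
noncomputable def g100_9 : Top :=
  g100_9_1
theorem top100_9 : topOK DB PT 88 t88 100 t100 (nat_lit 0xf0000000f0000000f0000000f000000000f0000000f00000f0000000f0000000f0000000f000000000f0000000f00000f0000000f0000000f0000000f0000300000c0300000c00c0000030c0000030c0000030c000003300000c0300000c0300000c0300000c00c0000030c0000030c0000030c000003300000c0300000c000000000000000000000c3000000c30000c0030000c0030000000000000000000000000000000000003003000030030000003300000033000000000000000000f0000000f0000000f00c0cf0f00303f0f00000f0f00000f00c0000030c0000030000000000000000f00000f0f00000f0f00000f0f0f0f0f0fcfc0303fc03fc03) s100 9 g100_9 = true := by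
  decide +kernel
noncomputable def g100_10_0 : Top :=
  Top.sp (nat_lit 1552) (Top.base (Cert.lf (Leaf.pt (nat_lit 13) (nat_lit 1552) [nat_lit 648]))) (Top.st (nat_lit 0) (nat_lit 1552) (nat_lit 0) (Top.sp (nat_lit 1672) (Top.base (Cert.lf (Leaf.pt (nat_lit 13) (nat_lit 1672) [nat_lit 256]))) (Top.st (nat_lit 0) (nat_lit 1672) (nat_lit 0) (Top.nl (nat_lit 1) (Top.sy (nat_lit 0) (Top.xk (nat_lit 0) (Top.base (Cert.th (nat_lit 10) (nat_lit 10) (nat_lit 0) true [nat_lit 0] [] [] [] [nat_lit 1024,nat_lit 512,nat_lit 128,nat_lit 384,nat_lit 96,nat_lit 64,nat_lit 2,nat_lit 26,nat_lit 71,nat_lit 27] [] [] [] Cert.nil)) (Top.xk (nat_lit 24) (Top.xn (nat_lit 10) (Top.root (nat_lit 32) [] [nat_lit 8,nat_lit 4] [nat_lit 0,nat_lit 1,nat_lit 2,nat_lit 3,nat_lit 4] [Ins.fr [nat_lit 0],Ins.ts (nat_lit 0) [nat_lit 0,nat_lit 0] [],Ins.ts (nat_lit 4) [nat_lit 0] [nat_lit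 0,nat_lit 0,nat_lit 0],Ins.ts (nat_lit 1) [nat_lit 0] [],Ins.fr [nat_lit 1],Ins.ts (nat_lit 1) [nat_lit 0,nat_lit 0] [],Ins.ts (nat_lit 4) [nat_lit 0] [nat_lit 0,nat_lit 0,nat_lit 0],Ins.ts (nat_lit 0) [nat_lit 1,nat_lit 0,nat_lit 1] [nat_lit 0,nat_lit 0,nat_lit 0],Ins.ts (nat_lit 1) [nat_lit 0,nat_lit 0,nat_lit 0,nat_lit 0] [],Ins.df [nat_lit 0,nat_lit 0],Ins.df [nat_lit 0,nat_lit 0]] (Top.rep (nat_lit 10) [nat_lit 2,nat_lit 16,nat_lit 36,nat_lit 68] [nat_lit 68,nat_lit 36,nat_lit 16,nat_lit 8,nat_lit 2,nat_lit 1] [nat_lit 1024,nat_lit 512,nat_lit 256,nat_lit 128,nat_lit 4] (Top.rep (nat_lit 1) [] [] [] (Top.base Cert.nil) (Top.rep (nat_lit 26) [] [] [] (Top.base Cert.nil) (Top.rep (nat_lit 60) [] [] [] (Top.base Cert.nil) (Top.rep (nat_lit 68) [nat_lit 16,nat_lit 68] [] [] (Top.rep (nat_lit 96) [] [] [] (Top.er (Top.ro (nat_lit 0) [nat_lit 1,nat_lit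 8,nat_lit 16] [nat_lit 8,nat_lit 9,nat_lit 16] [nat_lit 0,nat_lit 1,nat_lit 68,nat_lit 69,nat_lit 10,nat_lit 11,nat_lit 78,nat_lit 79] (Top.ro (nat_lit 1) [nat_lit 1,nat_lit 2,nat_lit 14,nat_lit 16] [nat_lit 1,nat_lit 14,nat_lit 12,nat_lit 16] [nat_lit 0,nat_lit 1,nat_lit 2,nat_lit 3,nat_lit 39,nat_lit 38,nat_lit 36,nat_lit 37,nat_lit 10,nat_lit 11,nat_lit 9,nat_lit 8,nat_lit 44,nat_lit 45,nat_lit 46,nat_lit 47] (Top.cut (nat_lit 0))))) (Top.base Cert.nil)) (Top.rep (nat_lit 92) [nat_lit 16,nat_lit 70] [] [] (Top.rep (nat_lit 120) [] [] [] (Top.er (Top.ro (nat_lit 0) [nat_lit 1,nat_lit 8,nat_lit 16] [nat_lit 8,nat_lit 9,nat_lit 16] [nat_lit 0,nat_lit 1,nat_lit 92,nat_lit 93,nat_lit 10,nat_lit 11,nat_lit 87,nat_lit 86] (Top.ro (nat_lit 1) [nat_lit 1,nat_lit 2,nat_lit 14,nat_lit 16] [nat_lit 1,nat_lit 14,nat_lit 12,nat_lit 16] [nat_lit 0,nat_lit 1,nat_lit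 2,nat_lit 3,nat_lit 39,nat_lit 38,nat_lit 36,nat_lit 37,nat_lit 10,nat_lit 11,nat_lit 9,nat_lit 8,nat_lit 44,nat_lit 45,nat_lit 46,nat_lit 47] (Top.cut (nat_lit 1))))) (Top.base Cert.nil)) (Top.base Cert.nil)))))) (Top.base Cert.nil)))) (Top.xk (nat_lit 408) (Top.xn (nat_lit 10) (Top.s2 (nat_lit 0) (nat_lit 92) (Top.base (Cert.o1 (nat_lit 0) (nat_lit 92) (Cert.fu (nat_lit 92) (nat_lit 1) (nat_lit 0) (nat_lit 0) [nat_lit 0] [nat_lit 1201,nat_lit 11] [] [] [] [nat_lit 1] [[nat_lit 1]] [[nat_lit 92]] [Ins.ts (nat_lit 1) [nat_lit 0] [],Ins.fr [nat_lit 0],Ins.ts (nat_lit 0) [nat_lit 0,nat_lit 0] [nat_lit 1],Ins.ts (nat_lit 4) [nat_lit 0] [nat_lit 0,nat_lit 0,nat_lit 1],Ins.fr [nat_lit 1],Ins.ts (nat_lit 2) [nat_lit 0] [],Ins.ts (nat_lit 0) [nat_lit 0,nat_lit 0] [],Ins.ts (nat_lit 0) [nat_lit 1,nat_lit 0,nat_lit 1] [nat_lit 0],Ins.ts (nat_lit 3) [nat_lit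 1,nat_lit 0] []] [(nat_lit 0,nat_lit 0)] (Cert.rep (nat_lit 1) [nat_lit 2,nat_lit 4,nat_lit 8,nat_lit 64,nat_lit 256,nat_lit 512,nat_lit 1024] [nat_lit 1024,nat_lit 512,nat_lit 256,nat_lit 128,nat_lit 64,nat_lit 32,nat_lit 16,nat_lit 8,nat_lit 4,nat_lit 2,nat_lit 1] [] (Cert.rep (nat_lit 2) [] [] [] Cert.nil (Cert.rep (nat_lit 4) [] [] [] Cert.nil (Cert.rep (nat_lit 24) [] [] [] Cert.nil (Cert.rep (nat_lit 652) [] [] [] Cert.nil Cert.nil)))) Cert.nil)))) (Top.root (nat_lit 32) [] [nat_lit 8,nat_lit 4] [nat_lit 0,nat_lit 1,nat_lit 2,nat_lit 3,nat_lit 4] [Ins.fr [nat_lit 0],Ins.ts (nat_lit 0) [nat_lit 0,nat_lit 0] [],Ins.ts (nat_lit 4) [nat_lit 0] [nat_lit 0,nat_lit 0,nat_lit 0],Ins.ts (nat_lit 1) [nat_lit 0] [],Ins.fr [nat_lit 1],Ins.ts (nat_lit 1) [nat_lit 0,nat_lit 0] [],Ins.ts (nat_lit 4) [nat_lit 0] [nat_lit 0,nat_lit 0,nat_lit 0],Ins.ts (nat_lit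 0) [nat_lit 1,nat_lit 0,nat_lit 1] [nat_lit 0,nat_lit 0,nat_lit 0],Ins.ts (nat_lit 1) [nat_lit 0,nat_lit 0,nat_lit 0,nat_lit 0] [],Ins.df [nat_lit 0,nat_lit 0],Ins.df [nat_lit 0,nat_lit 0]] (Top.rep (nat_lit 10) [nat_lit 2,nat_lit 16,nat_lit 36,nat_lit 68] [nat_lit 68,nat_lit 36,nat_lit 16,nat_lit 8,nat_lit 2,nat_lit 1] [nat_lit 1024,nat_lit 512,nat_lit 256,nat_lit 128,nat_lit 4] (Top.rep (nat_lit 1) [] [] [] (Top.base Cert.nil) (Top.rep (nat_lit 26) [] [] [] (Top.base Cert.nil) (Top.rep (nat_lit 60) [] [] [] (Top.base Cert.nil) (Top.rep (nat_lit 68) [nat_lit 16,nat_lit 68] [] [] (Top.rep (nat_lit 96) [] [] [] (Top.er (Top.ro (nat_lit 0) [nat_lit 1,nat_lit 8,nat_lit 16] [nat_lit 8,nat_lit 9,nat_lit 16] [nat_lit 0,nat_lit 1,nat_lit 68,nat_lit 69,nat_lit 10,nat_lit 11,nat_lit 78,nat_lit 79] (Top.ro (nat_lit 1) [nat_lit 1,nat_lit 2,nat_lit 14,nat_lit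 16] [nat_lit 1,nat_lit 14,nat_lit 12,nat_lit 16] [nat_lit 0,nat_lit 1,nat_lit 2,nat_lit 3,nat_lit 39,nat_lit 38,nat_lit 36,nat_lit 37,nat_lit 10,nat_lit 11,nat_lit 9,nat_lit 8,nat_lit 44,nat_lit 45,nat_lit 46,nat_lit 47] (Top.cut (nat_lit 2))))) (Top.base Cert.nil)) (Top.base (Cert.rep (nat_lit 92) [nat_lit 16,nat_lit 70] [] [] (Cert.rep (nat_lit 120) [] [] [] (Cert.er (Cert.ro (nat_lit 0) [nat_lit 1,nat_lit 8,nat_lit 16] [nat_lit 8,nat_lit 9,nat_lit 16] [nat_lit 0,nat_lit 1,nat_lit 92,nat_lit 93,nat_lit 10,nat_lit 11,nat_lit 87,nat_lit 86] (Cert.ro (nat_lit 1) [nat_lit 1,nat_lit 2,nat_lit 14,nat_lit 16] [nat_lit 1,nat_lit 14,nat_lit 12,nat_lit 16] [nat_lit 0,nat_lit 1,nat_lit 2,nat_lit 3,nat_lit 39,nat_lit 38,nat_lit 36,nat_lit 37,nat_lit 10,nat_lit 11,nat_lit 9,nat_lit 8,nat_lit 44,nat_lit 45,nat_lit 46,nat_lit 47] (Cert.kw (nat_lit 2) (nat_lit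 0) (nat_lit 2) (nat_lit 1) )))) Cert.nil) Cert.nil)))))) (Top.base Cert.nil))))) (Top.cut (nat_lit 9))))))))))
noncomputable def g100_10 : Top :=
  (Top.st (nat_lit 0) (nat_lit 10) (nat_lit 0) (Top.sp (nat_lit 1) (Top.base (Cert.lf (Leaf.pt (nat_lit 9) (nat_lit 1) [nat_lit 10]))) (Top.sp (nat_lit 26) (Top.base (Cert.lf (Leaf.pt (nat_lit 9) (nat_lit 26) [nat_lit 10]))) (Top.st (nat_lit 0) (nat_lit 26) (nat_lit 0) (Top.sp (nat_lit 28) (Top.base (Cert.lf (Leaf.pt (nat_lit 9) (nat_lit 28) [nat_lit 12]))) (Top.st (nat_lit 0) (nat_lit 28) (nat_lit 0) (Top.sp (nat_lit 32) (Top.base (Cert.lf (Leaf.pt (nat_lit 12) (nat_lit 32) [nat_lit 26,nat_lit 196]))) (Top.st (nat_lit 0) (nat_lit 32) (nat_lit 0) (Top.sp (nat_lit 68) (Top.base (Cert.lf (Leaf.pt (nat_lit 9) (nat_lit 68) [nat_lit 10]))) (Top.st (nat_lit 0) (nat_lit 68) (nat_lit 0) (Top.sp (nat_lit 92) (Top.base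 (Cert.lf (Leaf.pt (nat_lit 9) (nat_lit 92) [nat_lit 10]))) (Top.st (nat_lit 0) (nat_lit 92) (nat_lit 0) (Top.sp (nat_lit 132) (Top.base (Cert.lf (Leaf.pt (nat_lit 26) (nat_lit 132) [nat_lit 1,nat_lit 26,nat_lit 32,nat_lit 256]))) (Top.st (nat_lit 0) (nat_lit 132) (nat_lit 0) (Top.sp (nat_lit 256) (Top.base (Cert.lf (Leaf.pt (nat_lit 13) (nat_lit 256) [nat_lit 68]))) (Top.st (nat_lit 0) (nat_lit 256) (nat_lit 0) (Top.sp (nat_lit 257) (Top.base (Cert.lf (Leaf.pt (nat_lit 13) (nat_lit 257) [nat_lit 1]))) (Top.st (nat_lit 0) (nat_lit 257) (nat_lit 0) (Top.sp (nat_lit 584) (Top.base (Cert.lf (Leaf.pt (nat_lit 19) (nat_lit 584) [nat_lit 24,nat_lit 192]))) (Top.st (nat_lit 0) (nat_lit 584) (nat_lit 0) (Top.sp (nat_lit 648) (Top.base (Cert.lf (Leaf.pt (nat_lit 12) (nat_lit 648) [nat_lit 28,nat_lit 258]))) (Top.st (nat_lit 0) (nat_lit 648) (nat_lit 0) (Top.sp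 (nat_lit 649) (Top.base (Cert.lf (Leaf.pt (nat_lit 12) (nat_lit 649) [nat_lit 28,nat_lit 258]))) (Top.st (nat_lit 0) (nat_lit 649) (nat_lit 0) (Top.sp (nat_lit 1030) (Top.base (Cert.lf (Leaf.pt (nat_lit 23) (nat_lit 1030) [nat_lit 1,nat_lit 194,nat_lit 26]))) (Top.st (nat_lit 0) (nat_lit 1030) (nat_lit 0) (Top.sp (nat_lit 1052) (Top.base (Cert.lf (Leaf.pt (nat_lit 13) (nat_lit 1052) [nat_lit 26]))) (Top.st (nat_lit 0) (nat_lit 1052) (nat_lit 0) (Top.sp (nat_lit 1053) (Top.base (Cert.lf (Leaf.pt (nat_lit 13) (nat_lit 1053) [nat_lit 1]))) (Top.st (nat_lit 0) (nat_lit 1053) (nat_lit 0) (Top.sp (nat_lit 1152) (Top.base (Cert.lf (Leaf.pt (nat_lit 13) (nat_lit 1152) [nat_lit 132]))) (Top.st (nat_lit 0) (nat_lit 1152) (nat_lit 0) (Top.sp (nat_lit 1153) (Top.base (Cert.lf (Leaf.pt (nat_lit 13) (nat_lit 1153) [nat_lit 1]))) (Top.st (nat_lit 0) (nat_lit 1153)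 (nat_lit 0) (Top.sp (nat_lit 1178) (Top.base (Cert.lf (Leaf.pt (nat_lit 13) (nat_lit 1178) [nat_lit 26]))) (Top.st (nat_lit 0) (nat_lit 1178) (nat_lit 0) g100_10_0))))))))))))))))))))))))))))))))))))
theorem top100_10 : topOK DB PT 88 t88 100 t100 (nat_lit 0xf0000000f0000000f0000000f000000000f0000000f00000f0000000f0000000f0000000f000000000f0000000f00000f0000000f0000000f0000000f0000300000c0300000c00c0000030c0000030c0000030c000003300000c0300000c0300000c0300000c00c0000030c0000030c0000030c000003300000c0300000c000000000000000000000c3000000c30000c0030000c0030000000000000000000000000000000000003003000030030000003300000033000000000000000000f0000000f0000000f00c0cf0f00303f0f00000f0f00000f00c0000030c0000030000000000000000f00000f0f00000f0f00000f0f0f0f0f0fcfc0303fc03fc03) s100 10 g100_10 = true := by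
  decide +kernel

end Cfsg.Agent.L3S.Dat
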