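import Mathlib
import Cfsg.Agent.L3S.GA

/-!
Certificates for the Sylow subgroups.
-/

set_option autoImplicit false
set_option maxRecDepth 100000

namespace Cfsg.Agent.L3S.Dat

open Cfsg.Agent.L33 Cfsg.Agent.L33.Dat Cfsg.Agent.L3S

noncomputable def g100_7_0 : Cert :=
  Cert.rep (nat_lit 1153) [nat_lit 26,nat_lit 70,nat_lit 524] [nat_lit 1030,nat_lit 524,nat_lit 256,nat_lit 132,nat_lit 70,nat_lit 32,nat_lit 26,nat_lit 1] [nat_lit 8,nat_lit 4,nat_lit 2] (Cert.rep (nat_lit 448) [nat_lit 524] [] [] (Cert.rep (nat_lit 1) [] [] [] Cert.nil (Cert.rep (nat_lit 26) [] [] [] Cert.nil (Cert.rep (nat_lit 27) [] [] [] Cert.nil (Cert.rep (nat_lit 1178) [] [] [] Cert.nil (Cert.rep (nat_lit 1179) [] [] [] Cert.nil (Cert.rep (nat_lit 1184) [] [] [] Cert.nil Cert.nil)))))) (Cert.rep (nat_lit 449) [nat_lit 524] [] [] (Cert.rep (nat_lit 1) [] [] [] Cert.nil (Cert.rep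 (nat_lit 26) [] [] [] Cert.nil (Cert.rep (nat_lit 27) [] [] [] Cert.nil (Cert.rep (nat_lit 1178) [] [] [] Cert.nil (Cert.rep (nat_lit 1179) [] [] [] Cert.nil (Cert.rep (nat_lit 1184) [] [] [] Cert.nil Cert.nil)))))) (Cert.rep (nat_lit 474) [nat_lit 584] [] [] (Cert.rep (nat_lit 1) [] [] [] Cert.nil (Cert.rep (nat_lit 26) [] [] [] Cert.nil (Cert.rep (nat_lit 27) [] [] [] Cert.nil (Cert.rep (nat_lit 1178) [] [] [] Cert.nil (Cert.rep (nat_lit 1179) [] [] [] Cert.nil (Cert.rep (nat_lit 1184) [] [] [] Cert.nil Cert.nil)))))) (Cert.rep (nat_lit 475) [nat_lit 584] [] [] (Cert.rep (nat_lit 1) [] [] [] Cert.nil (Cert.rep (nat_lit 26) [] [] [] Cert.nil (Cert.rep (nat_lit 27) [] [] [] Cert.nil (Cert.rep (nat_lit 1178) [] [] [] Cert.nil (Cert.rep (nat_lit 1179) [] [] [] Cert.nil (Cert.rep (nat_lit 1184) [] [] [] Cert.nil Cert.nil)))))) (Cert.rep (nat_lit 594)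 [] [] [] (Cert.rep (nat_lit 1) [] [] [] Cert.nil (Cert.rep (nat_lit 1184) [] [] [] Cert.nil Cert.nil)) (Cert.rep (nat_lit 595) [] [] [] (Cert.rep (nat_lit 1) [] [] [] Cert.nil (Cert.rep (nat_lit 1184) [] [] [] Cert.nil Cert.nil)) (Cert.rep (nat_lit 1346) [nat_lit 524] [] [] (Cert.rep (nat_lit 1) [] [] [] Cert.nil (Cert.rep (nat_lit 26) [] [] [] Cert.nil (Cert.rep (nat_lit 27) [] [] [] Cert.nil (Cert.rep (nat_lit 1178) [] [] [] Cert.nil (Cert.rep (nat_lit 1179) [] [] [] Cert.nil (Cert.rep (nat_lit 1184) [] [] [] Cert.nil Cert.nil)))))) (Cert.rep (nat_lit 1347) [nat_lit 524] [] [] (Cert.rep (nat_lit 1) [] [] [] Cert.nil (Cert.rep (nat_lit 26) [] [] [] Cert.nil (Cert.rep (nat_lit 27) [] [] [] Cert.nil (Cert.rep (nat_lit 1178) [] [] [] Cert.nil (Cert.rep (nat_lit 1179) [] [] [] Cert.nil (Cert.rep (nat_lit 1184) [] [] [] Cert.nil Cert.nil)))))) (Cert.rep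 (nat_lit 1368) [nat_lit 584] [] [] (Cert.rep (nat_lit 1) [] [] [] Cert.nil (Cert.rep (nat_lit 26) [] [] [] Cert.nil (Cert.rep (nat_lit 27) [] [] [] Cert.nil (Cert.rep (nat_lit 1178) [] [] [] Cert.nil (Cert.rep (nat_lit 1179) [] [] [] Cert.nil (Cert.rep (nat_lit 1184) [] [] [] Cert.nil Cert.nil)))))) (Cert.rep (nat_lit 1369) [nat_lit 584] [] [] (Cert.rep (nat_lit 1) [] [] [] Cert.nil (Cert.rep (nat_lit 26) [] [] [] Cert.nil (Cert.rep (nat_lit 27) [] [] [] Cert.nil (Cert.rep (nat_lit 1178) [] [] [] Cert.nil (Cert.rep (nat_lit 1179) [] [] [] Cert.nil (Cert.rep (nat_lit 1184) [] [] [] Cert.nil Cert.nil)))))) (Cert.rep (nat_lit 1738) [] [] [] (Cert.rep (nat_lit 1) [] [] [] Cert.nil (Cert.rep (nat_lit 1184) [] [] [] Cert.nil Cert.nil)) (Cert.rep (nat_lit 1739) [] [] [] (Cert.rep (nat_lit 1) [] [] [] Cert.nil (Cert.rep (nat_lit 1184) [] [] [] Cert.nil Cert.nil))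 Cert.nil)))))))))))) (Cert.rep (nat_lit 1178) [nat_lit 70] [nat_lit 1030,nat_lit 256,nat_lit 132,nat_lit 70,nat_lit 32,nat_lit 26,nat_lit 1] [nat_lit 512,nat_lit 8,nat_lit 4,nat_lit 2] (Cert.rep (nat_lit 448) [] [] [] (Cert.rep (nat_lit 1) [] [] [] Cert.nil (Cert.rep (nat_lit 26) [] [] [] Cert.nil (Cert.rep (nat_lit 27) [] [] [] Cert.nil (Cert.rep (nat_lit 58) [] [] [] Cert.nil (Cert.rep (nat_lit 59) [] [] [] Cert.nil (Cert.rep (nat_lit 1152) [] [] [] Cert.nil (Cert.rep (nat_lit 1153) [] [] [] Cert.nil (Cert.rep (nat_lit 1184) [] [] [] Cert.nil (Cert.rep (nat_lit 1185) [] [] [] Cert.nil (Cert.rep (nat_lit 1211) [] [] [] Cert.nil Cert.nil)))))))))) (Cert.rep (nat_lit 449) [] [] [] (Cert.rep (nat_lit 1) [] [] [] Cert.nil (Cert.rep (nat_lit 26) [] [] [] Cert.nil (Cert.rep (nat_lit 27) [] [] [] Cert.nil (Cert.rep (nat_lit 58) [] [] [] Cert.nil (Cert.rep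 (nat_lit 59) [] [] [] Cert.nil (Cert.rep (nat_lit 1152) [] [] [] Cert.nil (Cert.rep (nat_lit 1153) [] [] [] Cert.nil (Cert.rep (nat_lit 1184) [] [] [] Cert.nil (Cert.rep (nat_lit 1185) [] [] [] Cert.nil (Cert.rep (nat_lit 1211) [] [] [] Cert.nil Cert.nil)))))))))) (Cert.rep (nat_lit 474) [] [] [] (Cert.rep (nat_lit 1) [] [] [] Cert.nil (Cert.rep (nat_lit 26) [] [] [] Cert.nil (Cert.rep (nat_lit 27) [] [] [] Cert.nil (Cert.rep (nat_lit 58) [] [] [] Cert.nil (Cert.rep (nat_lit 59) [] [] [] Cert.nil (Cert.rep (nat_lit 1152) [] [] [] Cert.nil (Cert.rep (nat_lit 1153) [] [] [] Cert.nil (Cert.rep (nat_lit 1184) [] [] [] Cert.nil (Cert.rep (nat_lit 1185) [] [] [] Cert.nil (Cert.rep (nat_lit 1211) [] [] [] Cert.nil Cert.nil)))))))))) (Cert.rep (nat_lit 475) [] [] [] (Cert.rep (nat_lit 1) [] [] [] Cert.nil (Cert.rep (nat_lit 26) [] [] [] Cert.nil (Cert.rep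 (nat_lit 27) [] [] [] Cert.nil (Cert.rep (nat_lit 58) [] [] [] Cert.nil (Cert.rep (nat_lit 59) [] [] [] Cert.nil (Cert.rep (nat_lit 1152) [] [] [] Cert.nil (Cert.rep (nat_lit 1153) [] [] [] Cert.nil (Cert.rep (nat_lit 1184) [] [] [] Cert.nil (Cert.rep (nat_lit 1185) [] [] [] Cert.nil (Cert.rep (nat_lit 1211) [] [] [] Cert.nil Cert.nil)))))))))) (Cert.rep (nat_lit 1346) [] [] [] (Cert.rep (nat_lit 1) [] [] [] Cert.nil (Cert.rep (nat_lit 26) [] [] [] Cert.nil (Cert.rep (nat_lit 27) [] [] [] Cert.nil (Cert.rep (nat_lit 58) [] [] [] Cert.nil (Cert.rep (nat_lit 59) [] [] [] Cert.nil (Cert.rep (nat_lit 1152) [] [] [] Cert.nil (Cert.rep (nat_lit 1153) [] [] [] Cert.nil (Cert.rep (nat_lit 1184) [] [] [] Cert.nil (Cert.rep (nat_lit 1185) [] [] [] Cert.nil (Cert.rep (nat_lit 1211) [] [] [] Cert.nil Cert.nil)))))))))) (Cert.rep (nat_lit 1347) [] [] [] (Cert.rep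 (nat_lit 1) [] [] [] Cert.nil (Cert.rep (nat_lit 26) [] [] [] Cert.nil (Cert.rep (nat_lit 27) [] [] [] Cert.nil (Cert.rep (nat_lit 58) [] [] [] Cert.nil (Cert.rep (nat_lit 59) [] [] [] Cert.nil (Cert.rep (nat_lit 1152) [] [] [] Cert.nil (Cert.rep (nat_lit 1153) [] [] [] Cert.nil (Cert.rep (nat_lit 1184) [] [] [] Cert.nil (Cert.rep (nat_lit 1185) [] [] [] Cert.nil (Cert.rep (nat_lit 1211) [] [] [] Cert.nil Cert.nil)))))))))) (Cert.rep (nat_lit 1368) [] [] [] (Cert.rep (nat_lit 1) [] [] [] Cert.nil (Cert.rep (nat_lit 26) [] [] [] Cert.nil (Cert.rep (nat_lit 27) [] [] [] Cert.nil (Cert.rep (nat_lit 58) [] [] [] Cert.nil (Cert.rep (nat_lit 59) [] [] [] Cert.nil (Cert.rep (nat_lit 1152) [] [] [] Cert.nil (Cert.rep (nat_lit 1153) [] [] [] Cert.nil (Cert.rep (nat_lit 1184) [] [] [] Cert.nil (Cert.rep (nat_lit 1185) [] [] [] Cert.nil (Cert.rep (nat_lit 1211)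 [] [] [] Cert.nil Cert.nil)))))))))) (Cert.rep (nat_lit 1369) [] [] [] (Cert.rep (nat_lit 1) [] [] [] Cert.nil (Cert.rep (nat_lit 26) [] [] [] Cert.nil (Cert.rep (nat_lit 27) [] [] [] Cert.nil (Cert.rep (nat_lit 58) [] [] [] Cert.nil (Cert.rep (nat_lit 59) [] [] [] Cert.nil (Cert.rep (nat_lit 1152) [] [] [] Cert.nil (Cert.rep (nat_lit 1153) [] [] [] Cert.nil (Cert.rep (nat_lit 1184) [] [] [] Cert.nil (Cert.rep (nat_lit 1185) [] [] [] Cert.nil (Cert.rep (nat_lit 1211) [] [] [] Cert.nil Cert.nil)))))))))) Cert.nil)))))))) (Cert.rep (nat_lit 1672) [] [nat_lit 1052,nat_lit 598,nat_lit 256,nat_lit 216,nat_lit 32,nat_lit 1] [nat_lit 8,nat_lit 64,nat_lit 4,nat_lit 24,nat_lit 2] Cert.nil Cert.nil))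
noncomputable def g100_7_1 : Cert :=
  Cert.rep (nat_lit 584) [nat_lit 24,nat_lit 1090] [nat_lit 1090,nat_lit 584,nat_lit 258,nat_lit 192,nat_lit 32,nat_lit 24,nat_lit 1] [nat_lit 8,nat_lit 64,nat_lit 4,nat_lit 2] (Cert.rep (nat_lit 24) [] [] [] Cert.nil (Cert.rep (nat_lit 25) [] [] [] Cert.nil (Cert.rep (nat_lit 450) [] [] [] (Cert.rep (nat_lit 1) [] [] [] Cert.nil (Cert.rep (nat_lit 617) [] [] [] Cert.nil Cert.nil)) (Cert.rep (nat_lit 451) [] [] [] (Cert.rep (nat_lit 1) [] [] [] Cert.nil (Cert.rep (nat_lit 617) [] [] [] Cert.nil Cert.nil)) (Cert.rep (nat_lit 474) [] [] [] (Cert.rep (nat_lit 1) [] [] [] Cert.nil (Cert.rep (nat_lit 616) [] [] [] Cert.nil Cert.nil)) (Cert.rep (nat_lit 475) [] [] [] (Cert.rep (nat_lit 1) [] [] [] Cert.nil (Cert.rep (nat_lit 616) [] [] [] Cert.nil Cert.nil)) (Cert.rep (nat_lit 506) [] [] [] (Cert.rep (nat_lit 1) [] []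 [] Cert.nil (Cert.rep (nat_lit 616) [] [] [] Cert.nil Cert.nil)) (Cert.rep (nat_lit 507) [] [] [] (Cert.rep (nat_lit 1) [] [] [] Cert.nil (Cert.rep (nat_lit 616) [] [] [] Cert.nil Cert.nil)) (Cert.rep (nat_lit 592) [] [] [] Cert.nil (Cert.rep (nat_lit 593) [] [] [] Cert.nil (Cert.rep (nat_lit 906) [] [] [] (Cert.rep (nat_lit 1) [] [] [] Cert.nil (Cert.rep (nat_lit 617) [] [] [] Cert.nil Cert.nil)) (Cert.rep (nat_lit 907) [] [] [] (Cert.rep (nat_lit 1) [] [] [] Cert.nil (Cert.rep (nat_lit 617) [] [] [] Cert.nil Cert.nil)) (Cert.rep (nat_lit 914) [] [] [] (Cert.rep (nat_lit 1) [] [] [] Cert.nil (Cert.rep (nat_lit 616) [] [] [] Cert.nil Cert.nil)) (Cert.rep (nat_lit 915) [] [] [] (Cert.rep (nat_lit 1) [] [] [] Cert.nil (Cert.rep (nat_lit 616) [] [] [] Cert.nil Cert.nil)) (Cert.rep (nat_lit 946) [] [] [] (Cert.rep (nat_lit 1) [] [] [] Cert.nil (Cert.rep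 (nat_lit 616) [] [] [] Cert.nil Cert.nil)) (Cert.rep (nat_lit 947) [] [] [] (Cert.rep (nat_lit 1) [] [] [] Cert.nil (Cert.rep (nat_lit 616) [] [] [] Cert.nil Cert.nil)) (Cert.rep (nat_lit 1176) [] [] [] (Cert.rep (nat_lit 1) [] [] [] Cert.nil (Cert.rep (nat_lit 616) [] [] [] Cert.nil Cert.nil)) (Cert.rep (nat_lit 1177) [] [] [] (Cert.rep (nat_lit 1) [] [] [] Cert.nil (Cert.rep (nat_lit 616) [] [] [] Cert.nil Cert.nil)) (Cert.rep (nat_lit 1368) [] [] [] (Cert.rep (nat_lit 1) [] [] [] Cert.nil (Cert.rep (nat_lit 616) [] [] [] Cert.nil Cert.nil)) (Cert.rep (nat_lit 1369) [] [] [] (Cert.rep (nat_lit 1) [] [] [] Cert.nil (Cert.rep (nat_lit 616) [] [] [] Cert.nil Cert.nil)) (Cert.rep (nat_lit 1738) [] [] [] (Cert.rep (nat_lit 1) [] [] [] Cert.nil (Cert.rep (nat_lit 616) [] [] [] Cert.nil Cert.nil)) (Cert.rep (nat_lit 1739) [] [] [] (Cert.rep (nat_lit 1)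 [] [] [] Cert.nil (Cert.rep (nat_lit 616) [] [] [] Cert.nil Cert.nil)) (Cert.rep (nat_lit 1802) [] [] [] (Cert.rep (nat_lit 1) [] [] [] Cert.nil (Cert.rep (nat_lit 616) [] [] [] Cert.nil Cert.nil)) (Cert.rep (nat_lit 1803) [] [] [] (Cert.rep (nat_lit 1) [] [] [] Cert.nil (Cert.rep (nat_lit 616) [] [] [] Cert.nil Cert.nil)) Cert.nil)))))))))))))))))))))))) (Cert.rep (nat_lit 1152) [nat_lit 26,nat_lit 70,nat_lit 524] [nat_lit 1030,nat_lit 524,nat_lit 256,nat_lit 132,nat_lit 70,nat_lit 32,nat_lit 26,nat_lit 1] [nat_lit 8,nat_lit 4,nat_lit 2] (Cert.rep (nat_lit 448) [nat_lit 524] [] [] (Cert.rep (nat_lit 1) [] [] [] Cert.nil (Cert.rep (nat_lit 26) [] [] [] Cert.nil (Cert.rep (nat_lit 27) [] [] [] Cert.nil (Cert.rep (nat_lit 1178) [] [] [] Cert.nil (Cert.rep (nat_lit 1179) [] [] [] Cert.nil (Cert.rep (nat_lit 1185) [] [] [] Cert.nil Cert.nil)))))) (Cert.rep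 (nat_lit 449) [nat_lit 524] [] [] (Cert.rep (nat_lit 1) [] [] [] Cert.nil (Cert.rep (nat_lit 26) [] [] [] Cert.nil (Cert.rep (nat_lit 27) [] [] [] Cert.nil (Cert.rep (nat_lit 1178) [] [] [] Cert.nil (Cert.rep (nat_lit 1179) [] [] [] Cert.nil (Cert.rep (nat_lit 1185) [] [] [] Cert.nil Cert.nil)))))) (Cert.rep (nat_lit 474) [nat_lit 584] [] [] (Cert.rep (nat_lit 1) [] [] [] Cert.nil (Cert.rep (nat_lit 26) [] [] [] Cert.nil (Cert.rep (nat_lit 27) [] [] [] Cert.nil (Cert.rep (nat_lit 1178) [] [] [] Cert.nil (Cert.rep (nat_lit 1179) [] [] [] Cert.nil (Cert.rep (nat_lit 1185) [] [] [] Cert.nil Cert.nil)))))) (Cert.rep (nat_lit 475) [nat_lit 584] [] [] (Cert.rep (nat_lit 1) [] [] [] Cert.nil (Cert.rep (nat_lit 26) [] [] [] Cert.nil (Cert.rep (nat_lit 27) [] [] [] Cert.nil (Cert.rep (nat_lit 1178) [] [] [] Cert.nil (Cert.rep (nat_lit 1179) [] [] [] Cert.nil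 (Cert.rep (nat_lit 1185) [] [] [] Cert.nil Cert.nil)))))) (Cert.rep (nat_lit 594) [] [] [] (Cert.rep (nat_lit 1) [] [] [] Cert.nil (Cert.rep (nat_lit 1185) [] [] [] Cert.nil Cert.nil)) (Cert.rep (nat_lit 595) [] [] [] (Cert.rep (nat_lit 1) [] [] [] Cert.nil (Cert.rep (nat_lit 1185) [] [] [] Cert.nil Cert.nil)) (Cert.rep (nat_lit 1346) [nat_lit 524] [] [] (Cert.rep (nat_lit 1) [] [] [] Cert.nil (Cert.rep (nat_lit 26) [] [] [] Cert.nil (Cert.rep (nat_lit 27) [] [] [] Cert.nil (Cert.rep (nat_lit 1178) [] [] [] Cert.nil (Cert.rep (nat_lit 1179) [] [] [] Cert.nil (Cert.rep (nat_lit 1185) [] [] [] Cert.nil Cert.nil)))))) (Cert.rep (nat_lit 1347) [nat_lit 524] [] [] (Cert.rep (nat_lit 1) [] [] [] Cert.nil (Cert.rep (nat_lit 26) [] [] [] Cert.nil (Cert.rep (nat_lit 27) [] [] [] Cert.nil (Cert.rep (nat_lit 1178) [] [] [] Cert.nil (Cert.rep (nat_lit 1179) []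 [] [] Cert.nil (Cert.rep (nat_lit 1185) [] [] [] Cert.nil Cert.nil)))))) (Cert.rep (nat_lit 1368) [nat_lit 584] [] [] (Cert.rep (nat_lit 1) [] [] [] Cert.nil (Cert.rep (nat_lit 26) [] [] [] Cert.nil (Cert.rep (nat_lit 27) [] [] [] Cert.nil (Cert.rep (nat_lit 1178) [] [] [] Cert.nil (Cert.rep (nat_lit 1179) [] [] [] Cert.nil (Cert.rep (nat_lit 1185) [] [] [] Cert.nil Cert.nil)))))) (Cert.rep (nat_lit 1369) [nat_lit 584] [] [] (Cert.rep (nat_lit 1) [] [] [] Cert.nil (Cert.rep (nat_lit 26) [] [] [] Cert.nil (Cert.rep (nat_lit 27) [] [] [] Cert.nil (Cert.rep (nat_lit 1178) [] [] [] Cert.nil (Cert.rep (nat_lit 1179) [] [] [] Cert.nil (Cert.rep (nat_lit 1185) [] [] [] Cert.nil Cert.nil)))))) (Cert.rep (nat_lit 1738) [] [] [] (Cert.rep (nat_lit 1) [] [] [] Cert.nil (Cert.rep (nat_lit 1185) [] [] [] Cert.nil Cert.nil)) (Cert.rep (nat_lit 1739) [] [] [] (Cert.rep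 (nat_lit 1) [] [] [] Cert.nil (Cert.rep (nat_lit 1185) [] [] [] Cert.nil Cert.nil)) Cert.nil)))))))))))) g100_7_0)
noncomputable def g100_7_2 : Cert :=
  Cert.rep (nat_lit 26) [nat_lit 2,nat_lit 8,nat_lit 68,nat_lit 132,nat_lit 1028] [nat_lit 1028,nat_lit 256,nat_lit 132,nat_lit 68,nat_lit 32,nat_lit 16,nat_lit 8,nat_lit 2,nat_lit 1] [nat_lit 512,nat_lit 4] (Cert.rep (nat_lit 2) [] [] [] Cert.nil (Cert.rep (nat_lit 24) [] [] [] Cert.nil (Cert.rep (nat_lit 448) [nat_lit 2,nat_lit 1088] [] [] (Cert.rep (nat_lit 1) [] [] [] Cert.nil (Cert.rep (nat_lit 59) [] [] [] Cert.nil (Cert.rep (nat_lit 1152) [] [] [] Cert.nil (Cert.rep (nat_lit 1153) [] [] [] Cert.nil (Cert.rep (nat_lit 1178) [] [] [] Cert.nil (Cert.rep (nat_lit 1179) [] [] [] Cert.nil (Cert.rep (nat_lit 1344) [] [] [] Cert.nil (Cert.rep (nat_lit 1345) [] [] [] Cert.nil (Cert.rep (nat_lit 1370)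 [] [] [] Cert.nil (Cert.rep (nat_lit 1371) [] [] [] Cert.nil Cert.nil)))))))))) (Cert.rep (nat_lit 449) [nat_lit 2,nat_lit 1088] [] [] (Cert.rep (nat_lit 1) [] [] [] Cert.nil (Cert.rep (nat_lit 59) [] [] [] Cert.nil (Cert.rep (nat_lit 1152) [] [] [] Cert.nil (Cert.rep (nat_lit 1153) [] [] [] Cert.nil (Cert.rep (nat_lit 1178) [] [] [] Cert.nil (Cert.rep (nat_lit 1179) [] [] [] Cert.nil (Cert.rep (nat_lit 1344) [] [] [] Cert.nil (Cert.rep (nat_lit 1345) [] [] [] Cert.nil (Cert.rep (nat_lit 1370) [] [] [] Cert.nil (Cert.rep (nat_lit 1371) [] [] [] Cert.nil Cert.nil)))))))))) (Cert.rep (nat_lit 472) [nat_lit 2,nat_lit 1028] [] [] (Cert.rep (nat_lit 1) [] [] [] Cert.nil (Cert.rep (nat_lit 58) [] [] [] Cert.nil (Cert.rep (nat_lit 1222) [] [] [] Cert.nil (Cert.rep (nat_lit 1223) [] [] [] Cert.nil (Cert.rep (nat_lit 1244) [] [] [] Cert.nil (Cert.rep (nat_lit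 1245) [] [] [] Cert.nil (Cert.rep (nat_lit 1286) [] [] [] Cert.nil (Cert.rep (nat_lit 1287) [] [] [] Cert.nil (Cert.rep (nat_lit 1308) [] [] [] Cert.nil (Cert.rep (nat_lit 1309) [] [] [] Cert.nil Cert.nil)))))))))) (Cert.rep (nat_lit 473) [nat_lit 2,nat_lit 1028] [] [] (Cert.rep (nat_lit 1) [] [] [] Cert.nil (Cert.rep (nat_lit 58) [] [] [] Cert.nil (Cert.rep (nat_lit 1222) [] [] [] Cert.nil (Cert.rep (nat_lit 1223) [] [] [] Cert.nil (Cert.rep (nat_lit 1244) [] [] [] Cert.nil (Cert.rep (nat_lit 1245) [] [] [] Cert.nil (Cert.rep (nat_lit 1286) [] [] [] Cert.nil (Cert.rep (nat_lit 1287) [] [] [] Cert.nil (Cert.rep (nat_lit 1308) [] [] [] Cert.nil (Cert.rep (nat_lit 1309) [] [] [] Cert.nil Cert.nil)))))))))) (Cert.rep (nat_lit 1154) [] [] [] (Cert.rep (nat_lit 1) [] [] [] Cert.nil (Cert.rep (nat_lit 59) [] [] [] Cert.nil (Cert.rep (nat_lit 1344) [] []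 [] Cert.nil (Cert.rep (nat_lit 1345) [] [] [] Cert.nil (Cert.rep (nat_lit 1370) [] [] [] Cert.nil (Cert.rep (nat_lit 1371) [] [] [] Cert.nil (Cert.rep (nat_lit 1376) [] [] [] Cert.nil (Cert.rep (nat_lit 1377) [] [] [] Cert.nil (Cert.rep (nat_lit 1402) [] [] [] Cert.nil (Cert.rep (nat_lit 1403) [] [] [] Cert.nil Cert.nil)))))))))) (Cert.rep (nat_lit 1176) [] [] [] (Cert.rep (nat_lit 1) [] [] [] Cert.nil (Cert.rep (nat_lit 59) [] [] [] Cert.nil (Cert.rep (nat_lit 1344) [] [] [] Cert.nil (Cert.rep (nat_lit 1345) [] [] [] Cert.nil (Cert.rep (nat_lit 1370) [] [] [] Cert.nil (Cert.rep (nat_lit 1371) [] [] [] Cert.nil (Cert.rep (nat_lit 1376) [] [] [] Cert.nil (Cert.rep (nat_lit 1377) [] [] [] Cert.nil (Cert.rep (nat_lit 1402) [] [] [] Cert.nil (Cert.rep (nat_lit 1403) [] [] [] Cert.nil Cert.nil)))))))))) (Cert.rep (nat_lit 1284) [] [] [] (Cert.rep (nat_lit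 1) [] [] [] Cert.nil (Cert.rep (nat_lit 58) [] [] [] Cert.nil (Cert.rep (nat_lit 1222) [] [] [] Cert.nil (Cert.rep (nat_lit 1223) [] [] [] Cert.nil (Cert.rep (nat_lit 1244) [] [] [] Cert.nil (Cert.rep (nat_lit 1245) [] [] [] Cert.nil (Cert.rep (nat_lit 1254) [] [] [] Cert.nil (Cert.rep (nat_lit 1255) [] [] [] Cert.nil (Cert.rep (nat_lit 1276) [] [] [] Cert.nil (Cert.rep (nat_lit 1277) [] [] [] Cert.nil Cert.nil)))))))))) (Cert.rep (nat_lit 1310) [] [] [] (Cert.rep (nat_lit 1) [] [] [] Cert.nil (Cert.rep (nat_lit 58) [] [] [] Cert.nil (Cert.rep (nat_lit 1222) [] [] [] Cert.nil (Cert.rep (nat_lit 1223) [] [] [] Cert.nil (Cert.rep (nat_lit 1244) [] [] [] Cert.nil (Cert.rep (nat_lit 1245) [] [] [] Cert.nil (Cert.rep (nat_lit 1254) [] [] [] Cert.nil (Cert.rep (nat_lit 1255) [] [] [] Cert.nil (Cert.rep (nat_lit 1276) [] [] [] Cert.nil (Cert.rep (nat_lit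 1277) [] [] [] Cert.nil Cert.nil)))))))))) Cert.nil)))))))))) (Cert.rep (nat_lit 28) [nat_lit 8] [nat_lit 578,nat_lit 192,nat_lit 32,nat_lit 16,nat_lit 8,nat_lit 4,nat_lit 1] [nat_lit 1024,nat_lit 64,nat_lit 256,nat_lit 2] (Cert.rep (nat_lit 4) [] [] [] Cert.nil (Cert.rep (nat_lit 5) [] [] [] Cert.nil (Cert.rep (nat_lit 24) [] [] [] Cert.nil (Cert.rep (nat_lit 25) [] [] [] Cert.nil (Cert.rep (nat_lit 36) [] [] [] Cert.nil (Cert.rep (nat_lit 56) [] [] [] Cert.nil (Cert.rep (nat_lit 586) [] [] [] (Cert.rep (nat_lit 1) [] [] [] Cert.nil (Cert.rep (nat_lit 60) [] [] [] Cert.nil Cert.nil)) (Cert.rep (nat_lit 587) [] [] [] (Cert.rep (nat_lit 1) [] [] [] Cert.nil (Cert.rep (nat_lit 60) [] [] [] Cert.nil Cert.nil)) (Cert.rep (nat_lit 590) [] [] [] (Cert.rep (nat_lit 1) [] [] [] Cert.nil (Cert.rep (nat_lit 61) [] [] [] Cert.nil Cert.nil)) (Cert.rep (nat_lit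 591) [] [] [] (Cert.rep (nat_lit 1) [] [] [] Cert.nil (Cert.rep (nat_lit 61) [] [] [] Cert.nil Cert.nil)) (Cert.rep (nat_lit 594) [] [] [] (Cert.rep (nat_lit 1) [] [] [] Cert.nil (Cert.rep (nat_lit 61) [] [] [] Cert.nil Cert.nil)) (Cert.rep (nat_lit 595) [] [] [] (Cert.rep (nat_lit 1) [] [] [] Cert.nil (Cert.rep (nat_lit 61) [] [] [] Cert.nil Cert.nil)) (Cert.rep (nat_lit 598) [] [] [] (Cert.rep (nat_lit 1) [] [] [] Cert.nil (Cert.rep (nat_lit 60) [] [] [] Cert.nil Cert.nil)) (Cert.rep (nat_lit 599) [] [] [] (Cert.rep (nat_lit 1) [] [] [] Cert.nil (Cert.rep (nat_lit 60) [] [] [] Cert.nil Cert.nil)) Cert.nil)))))))))))))) (Cert.rep (nat_lit 32) [nat_lit 2,nat_lit 4,nat_lit 24,nat_lit 64,nat_lit 256,nat_lit 520,nat_lit 1024] [nat_lit 1024,nat_lit 520,nat_lit 256,nat_lit 128,nat_lit 64,nat_lit 32,nat_lit 24,nat_lit 4,nat_lit 2,nat_lit 1] [nat_lit 8] (Cert.rep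 (nat_lit 450) [nat_lit 2,nat_lit 24,nat_lit 64,nat_lit 520,nat_lit 1028] [] [] (Cert.rep (nat_lit 26) [] [] [] Cert.nil (Cert.rep (nat_lit 584) [] [] [] Cert.nil (Cert.rep (nat_lit 1222) [] [] [] Cert.nil (Cert.rep (nat_lit 1244) [] [] [] Cert.nil (Cert.rep (nat_lit 1245) [] [] [] Cert.nil Cert.nil))))) (Cert.rep (nat_lit 451) [nat_lit 2,nat_lit 24,nat_lit 64,nat_lit 520,nat_lit 1028] [] [] (Cert.rep (nat_lit 26) [] [] [] Cert.nil (Cert.rep (nat_lit 584) [] [] [] Cert.nil (Cert.rep (nat_lit 1222) [] [] [] Cert.nil (Cert.rep (nat_lit 1244) [] [] [] Cert.nil (Cert.rep (nat_lit 1245) [] [] [] Cert.nil Cert.nil))))) (Cert.rep (nat_lit 472) [nat_lit 2,nat_lit 24,nat_lit 588,nat_lit 1028] [] [] (Cert.rep (nat_lit 26) [] [] [] Cert.nil (Cert.rep (nat_lit 27) [] [] [] Cert.nil (Cert.rep (nat_lit 588) [] [] [] Cert.nil (Cert.rep (nat_lit 589) [] [] [] Cert.nil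 (Cert.rep (nat_lit 910) [] [] [] Cert.nil (Cert.rep (nat_lit 911) [] [] [] Cert.nil (Cert.rep (nat_lit 1222) [] [] [] Cert.nil (Cert.rep (nat_lit 1244) [] [] [] Cert.nil (Cert.rep (nat_lit 1245) [] [] [] Cert.nil (Cert.rep (nat_lit 1286) [] [] [] Cert.nil (Cert.rep (nat_lit 1308) [] [] [] Cert.nil (Cert.rep (nat_lit 1309) [] [] [] Cert.nil Cert.nil)))))))))))) (Cert.rep (nat_lit 586) [nat_lit 4,nat_lit 258] [] [] (Cert.rep (nat_lit 28) [] [] [] Cert.nil (Cert.rep (nat_lit 29) [] [] [] Cert.nil (Cert.rep (nat_lit 478) [] [] [] Cert.nil (Cert.rep (nat_lit 479) [] [] [] Cert.nil (Cert.rep (nat_lit 904) [] [] [] Cert.nil (Cert.rep (nat_lit 905) [] [] [] Cert.nil Cert.nil)))))) (Cert.rep (nat_lit 598) [nat_lit 4,nat_lit 24,nat_lit 256,nat_lit 1024] [] [] (Cert.rep (nat_lit 28) [] [] [] Cert.nil (Cert.rep (nat_lit 29) [] [] [] Cert.nil (Cert.rep (nat_lit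 910) [] [] [] Cert.nil (Cert.rep (nat_lit 911) [] [] [] Cert.nil (Cert.rep (nat_lit 1244) [] [] [] Cert.nil (Cert.rep (nat_lit 1245) [] [] [] Cert.nil Cert.nil)))))) (Cert.rep (nat_lit 599) [nat_lit 4,nat_lit 24,nat_lit 256,nat_lit 1024] [] [] (Cert.rep (nat_lit 28) [] [] [] Cert.nil (Cert.rep (nat_lit 29) [] [] [] Cert.nil (Cert.rep (nat_lit 910) [] [] [] Cert.nil (Cert.rep (nat_lit 911) [] [] [] Cert.nil (Cert.rep (nat_lit 1244) [] [] [] Cert.nil (Cert.rep (nat_lit 1245) [] [] [] Cert.nil Cert.nil)))))) (Cert.rep (nat_lit 1220) [nat_lit 26,nat_lit 588] [] [] (Cert.rep (nat_lit 26) [] [] [] Cert.nil (Cert.rep (nat_lit 27) [] [] [] Cert.nil (Cert.rep (nat_lit 588) [] [] [] Cert.nil (Cert.rep (nat_lit 589) [] [] [] Cert.nil (Cert.rep (nat_lit 910) [] [] [] Cert.nil (Cert.rep (nat_lit 911) [] [] [] Cert.nil (Cert.rep (nat_lit 1286) [] [] [] Cert.nil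 (Cert.rep (nat_lit 1287) [] [] [] Cert.nil (Cert.rep (nat_lit 1308) [] [] [] Cert.nil (Cert.rep (nat_lit 1309) [] [] [] Cert.nil (Cert.rep (nat_lit 1340) [] [] [] Cert.nil (Cert.rep (nat_lit 1341) [] [] [] Cert.nil Cert.nil)))))))))))) (Cert.rep (nat_lit 1246) [nat_lit 520] [] [] (Cert.rep (nat_lit 26) [] [] [] Cert.nil (Cert.rep (nat_lit 27) [] [] [] Cert.nil (Cert.rep (nat_lit 1286) [] [] [] Cert.nil (Cert.rep (nat_lit 1287) [] [] [] Cert.nil (Cert.rep (nat_lit 1308) [] [] [] Cert.nil (Cert.rep (nat_lit 1309) [] [] [] Cert.nil (Cert.rep (nat_lit 1340) [] [] [] Cert.nil (Cert.rep (nat_lit 1341) [] [] [] Cert.nil Cert.nil)))))))) (Cert.rep (nat_lit 1680) [] [] [] (Cert.rep (nat_lit 910) [] [] [] Cert.nil (Cert.rep (nat_lit 911) [] [] [] Cert.nil (Cert.rep (nat_lit 942) [] [] [] Cert.nil (Cert.rep (nat_lit 943) [] [] [] Cert.nil (Cert.rep (nat_lit 1244)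 [] [] [] Cert.nil (Cert.rep (nat_lit 1245) [] [] [] Cert.nil (Cert.rep (nat_lit 1276) [] [] [] Cert.nil (Cert.rep (nat_lit 1277) [] [] [] Cert.nil Cert.nil)))))))) Cert.nil))))))))) (Cert.rep (nat_lit 68) [] [nat_lit 1030,nat_lit 256,nat_lit 68,nat_lit 32,nat_lit 16,nat_lit 10,nat_lit 1] [nat_lit 512,nat_lit 4,nat_lit 132,nat_lit 2] Cert.nil g100_7_1)))
noncomputable def g100_7 : Top :=
  (Top.base (Cert.th (nat_lit 388) (nat_lit 136) (nat_lit 1) true [nat_lit 1,nat_lit 2] [nat_lit 136,nat_lit 1,nat_lit 2] [] [] [nat_lit 1208,nat_lit 520,nat_lit 64,nat_lit 2,nat_lit 26,nat_lit 448,nat_lit 59,nat_lit 70,nat_lit 27] [] [Ins.ts (nat_lit 1) [nat_lit 0] [],Ins.fr [nat_lit 0],Ins.ts (nat_lit 4) [nat_lit 0] [nat_lit 0,nat_lit 0,nat_lit 0],Ins.ts (nat_lit 1) [nat_lit 0,nat_lit 0] [],Ins.ts (nat_lit 0) [nat_lit 0,nat_lit 0,nat_lit 0,nat_lit 0] [],Ins.ts (nat_lit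 1) [nat_lit 0,nat_lit 0,nat_lit 1] [],Ins.ts (nat_lit 4) [nat_lit 0,nat_lit 0,nat_lit 1] [nat_lit 0,nat_lit 0,nat_lit 3],Ins.fr [nat_lit 1],Ins.ts (nat_lit 0) [nat_lit 0,nat_lit 0] [],Ins.ts (nat_lit 4) [nat_lit 0] [nat_lit 0,nat_lit 0,nat_lit 1],Ins.ts (nat_lit 0) [nat_lit 1,nat_lit 0] [nat_lit 0,nat_lit 1],Ins.ts (nat_lit 4) [nat_lit 0] [nat_lit 0,nat_lit 0,nat_lit 3],Ins.ts (nat_lit 1) [nat_lit 0] [],Ins.ts (nat_lit 4) [nat_lit 0,nat_lit 1,nat_lit 1,nat_lit 2] [nat_lit 0,nat_lit 0,nat_lit 3],Ins.ts (nat_lit 1) [nat_lit 0,nat_lit 1,nat_lit 1,nat_lit 2] [],Ins.ts (nat_lit 1) [nat_lit 0,nat_lit 2] [],Ins.ts (nat_lit 1) [nat_lit 0,nat_lit 1,nat_lit 1] [],Ins.fr [nat_lit 0,nat_lit 2],Ins.ts (nat_lit 0) [nat_lit 0,nat_lit 0] [nat_lit 1],Ins.ts (nat_lit 0) [nat_lit 2,nat_lit 0] [nat_lit 0,nat_lit 2],Ins.ts (nat_lit 4) [nat_lit 0] [nat_lit 0,nat_lit 0,nat_lit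 1],Ins.ts (nat_lit 4) [nat_lit 2,nat_lit 2,nat_lit 3,nat_lit 0] [nat_lit 0,nat_lit 0,nat_lit 3]] [(nat_lit 0,nat_lit 0),(nat_lit 3,nat_lit 0),(nat_lit 2,nat_lit 0)] g100_7_2))
theorem top100_7 : topOK DB PT 88 t88 100 t100 (nat_lit 0xf0000000f0000000f0000000f000000000f0000000f00000f0000000f0000000f0000000f000000000f0000000f00000f0000000f0000000f0000000f0000300000c0300000c00c0000030c0000030c0000030c000003300000c0300000c0300000c0300000c00c0000030c0000030c0000030c000003300000c0300000c000000000000000000000c3000000c30000c0030000c0030000000000000000000000000000000000003003000030030000003300000033000000000000000000f0000000f0000000f00c0cf0f00303f0f00000f0f00000f00c0000030c0000030000000000000000f00000f0f00000f0f00000f0f0f0f0f0fcfc0303fc03fc03) s100 7 g100_7 = true := by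
  decide +kernel
noncomputable def g100_8_0 : Cert :=
  Cert.s2 (nat_lit 0) (nat_lit 68) (Cert.o1 (nat_lit 0) (nat_lit 68) (Cert.fu (nat_lit 10) (nat_lit 1) (nat_lit 0) (nat_lit 0) [] [nat_lit 68,nat_lit 1,nat_lit 16,nat_lit 32,nat_lit 256] [] [] [] [nat_lit 1] [[nat_lit 1]] [[nat_lit 68]] [Ins.fr [nat_lit 0],Ins.ts (nat_lit 3) [nat_lit 0] [],Ins.ts (nat_lit 4) [nat_lit 0] [nat_lit 0,nat_lit 0,nat_lit 0],Ins.ts (nat_lit 1) [nat_lit 0] [],Ins.fr [nat_lit 1],Ins.ts (nat_lit 3) [nat_lit 0] [],Ins.ts (nat_lit 0) [nat_lit 0,nat_lit 0] [],Ins.ts (nat_lit 1) [nat_lit 0] [],Ins.ts (nat_lit 1) [nat_lit 0,nat_lit 1] [],Ins.fr [nat_lit 2],Ins.ts (nat_lit 2) [nat_lit 0] [],Ins.ts (nat_lit 0) [nat_lit 0,nat_lit 0] [],Ins.ts (nat_lit 0) [nat_lit 1,nat_lit 0] [nat_lit 0,nat_lit 1],Ins.ts (nat_lit 1) [nat_lit 0,nat_lit 3] [],Ins.ts (nat_lit 1) [nat_lit 0,nat_lit 2,nat_lit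 3] [],Ins.ts (nat_lit 1) [nat_lit 0,nat_lit 1,nat_lit 3] [],Ins.ts (nat_lit 1) [nat_lit 0,nat_lit 1,nat_lit 2,nat_lit 3] [],Ins.fr [nat_lit 1,nat_lit 3],Ins.ts (nat_lit 0) [nat_lit 0,nat_lit 0] [],Ins.ts (nat_lit 4) [nat_lit 0] [nat_lit 0,nat_lit 0,nat_lit 1],Ins.ts (nat_lit 0) [nat_lit 1,nat_lit 2,nat_lit 0] [nat_lit 0,nat_lit 1],Ins.fr [nat_lit 1],Ins.ts (nat_lit 0) [nat_lit 0,nat_lit 0] [],Ins.ts (nat_lit 4) [nat_lit 0] [nat_lit 0,nat_lit 0,nat_lit 1]] [(nat_lit 0,nat_lit 0)] (Cert.rep (nat_lit 10) [] [nat_lit 68,nat_lit 36,nat_lit 16,nat_lit 8,nat_lit 2,nat_lit 1] [nat_lit 1024,nat_lit 512,nat_lit 256,nat_lit 128,nat_lit 4] (Cert.rep (nat_lit 1) [nat_lit 2,nat_lit 16,nat_lit 36,nat_lit 68] [] [] (Cert.rep (nat_lit 26) [nat_lit 2,nat_lit 68] [] [] (Cert.rep (nat_lit 76) [nat_lit 10] [] [] (Cert.rep (nat_lit 256) [] [] [] Cert.nil (Cert.rep (nat_lit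 257) [] [] [] Cert.nil (Cert.rep (nat_lit 326) [] [] [] Cert.nil (Cert.rep (nat_lit 327) [] [] [] Cert.nil Cert.nil)))) (Cert.rep (nat_lit 78) [nat_lit 10] [] [] (Cert.rep (nat_lit 256) [] [] [] Cert.nil (Cert.rep (nat_lit 257) [] [] [] Cert.nil (Cert.rep (nat_lit 324) [] [] [] Cert.nil (Cert.rep (nat_lit 325) [] [] [] Cert.nil Cert.nil)))) (Cert.rep (nat_lit 84) [nat_lit 10] [] [] (Cert.rep (nat_lit 256) [] [] [] Cert.nil (Cert.rep (nat_lit 257) [] [] [] Cert.nil (Cert.rep (nat_lit 324) [] [] [] Cert.nil (Cert.rep (nat_lit 325) [] [] [] Cert.nil Cert.nil)))) (Cert.rep (nat_lit 86) [nat_lit 10] [] [] (Cert.rep (nat_lit 256) [] [] [] Cert.nil (Cert.rep (nat_lit 257) [] [] [] Cert.nil (Cert.rep (nat_lit 326) [] [] [] Cert.nil (Cert.rep (nat_lit 327) [] [] [] Cert.nil Cert.nil)))) Cert.nil)))) (Cert.rep (nat_lit 60) [] [] [] Cert.nil (Cert.rep (nat_lit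 68) [] [] [] (Cert.rep (nat_lit 16) [] [] [] Cert.nil (Cert.rep (nat_lit 17) [] [] [] Cert.nil (Cert.rep (nat_lit 84) [] [] [] Cert.nil (Cert.rep (nat_lit 85) [] [] [] Cert.nil Cert.nil)))) (Cert.rep (nat_lit 92) [] [] [] (Cert.rep (nat_lit 16) [] [] [] Cert.nil (Cert.rep (nat_lit 17) [] [] [] Cert.nil (Cert.rep (nat_lit 76) [] [] [] Cert.nil (Cert.rep (nat_lit 77) [] [] [] Cert.nil Cert.nil)))) Cert.nil)))) Cert.nil) Cert.nil))) (Cert.s2 (nat_lit 0) (nat_lit 92) (Cert.o1 (nat_lit 0) (nat_lit 92) (Cert.fu (nat_lit 10) (nat_lit 1) (nat_lit 0) (nat_lit 0) [] [nat_lit 92,nat_lit 1,nat_lit 16,nat_lit 32] [] [] [] [nat_lit 1] [[nat_lit 1]] [[nat_lit 92]] [Ins.fr [nat_lit 0],Ins.ts (nat_lit 3) [nat_lit 0] [],Ins.ts (nat_lit 4) [nat_lit 0] [nat_lit 0,nat_lit 0,nat_lit 0],Ins.ts (nat_lit 1) [nat_lit 0] [],Ins.fr [nat_lit 1],Ins.ts (nat_lit 3) [nat_lit 0] [],Ins.ts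 (nat_lit 0) [nat_lit 0,nat_lit 0] [],Ins.ts (nat_lit 1) [nat_lit 0] [],Ins.ts (nat_lit 4) [nat_lit 0] [nat_lit 0,nat_lit 0,nat_lit 1],Ins.ts (nat_lit 1) [nat_lit 0,nat_lit 1] [],Ins.fr [nat_lit 2],Ins.ts (nat_lit 2) [nat_lit 0] [],Ins.ts (nat_lit 0) [nat_lit 0,nat_lit 0] [],Ins.ts (nat_lit 0) [nat_lit 1,nat_lit 0] [nat_lit 0,nat_lit 1],Ins.ts (nat_lit 4) [nat_lit 0,nat_lit 2,nat_lit 3] [nat_lit 0,nat_lit 0,nat_lit 2],Ins.ts (nat_lit 4) [nat_lit 0,nat_lit 1,nat_lit 2,nat_lit 3] [nat_lit 0,nat_lit 0,nat_lit 2],Ins.ts (nat_lit 1) [nat_lit 0,nat_lit 2,nat_lit 3] [],Ins.ts (nat_lit 1) [nat_lit 0,nat_lit 1,nat_lit 2,nat_lit 3] [],Ins.fr [nat_lit 1,nat_lit 3],Ins.ts (nat_lit 0) [nat_lit 0,nat_lit 0] [],Ins.ts (nat_lit 4) [nat_lit 0] [nat_lit 0,nat_lit 0,nat_lit 3]] [(nat_lit 2,nat_lit 0),(nat_lit 3,nat_lit 0),(nat_lit 0,nat_lit 0)] (Cert.rep (nat_lit 10)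 [] [nat_lit 68,nat_lit 36,nat_lit 16,nat_lit 8,nat_lit 2,nat_lit 1] [nat_lit 1024,nat_lit 512,nat_lit 256,nat_lit 128,nat_lit 4] (Cert.rep (nat_lit 1) [nat_lit 2,nat_lit 16,nat_lit 36,nat_lit 68] [] [] (Cert.rep (nat_lit 26) [] [] [] Cert.nil (Cert.rep (nat_lit 60) [] [] [] Cert.nil (Cert.rep (nat_lit 92) [] [] [] (Cert.rep (nat_lit 16) [] [] [] Cert.nil (Cert.rep (nat_lit 17) [] [] [] Cert.nil (Cert.rep (nat_lit 76) [] [] [] Cert.nil (Cert.rep (nat_lit 77) [] [] [] Cert.nil Cert.nil)))) Cert.nil))) Cert.nil) Cert.nil))) (Cert.root (nat_lit 32) [] [nat_lit 8,nat_lit 4] [nat_lit 0,nat_lit 1,nat_lit 2,nat_lit 3,nat_lit 4] [Ins.fr [nat_lit 0],Ins.ts (nat_lit 0) [nat_lit 0,nat_lit 0] [],Ins.ts (nat_lit 4) [nat_lit 0] [nat_lit 0,nat_lit 0,nat_lit 0],Ins.ts (nat_lit 1) [nat_lit 0] [],Ins.fr [nat_lit 1],Ins.ts (nat_lit 1) [nat_lit 0,nat_lit 0] [],Ins.ts (nat_lit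 4) [nat_lit 0] [nat_lit 0,nat_lit 0,nat_lit 0],Ins.ts (nat_lit 0) [nat_lit 1,nat_lit 0,nat_lit 1] [nat_lit 0,nat_lit 0,nat_lit 0],Ins.ts (nat_lit 1) [nat_lit 0,nat_lit 0,nat_lit 0,nat_lit 0] [],Ins.df [nat_lit 0,nat_lit 0],Ins.df [nat_lit 0,nat_lit 0]] (Cert.rep (nat_lit 10) [nat_lit 2,nat_lit 16,nat_lit 36,nat_lit 68] [nat_lit 68,nat_lit 36,nat_lit 16,nat_lit 8,nat_lit 2,nat_lit 1] [nat_lit 1024,nat_lit 512,nat_lit 256,nat_lit 128,nat_lit 4] (Cert.rep (nat_lit 1) [] [] [] Cert.nil (Cert.rep (nat_lit 26) [] [] [] Cert.nil (Cert.rep (nat_lit 60) [] [] [] Cert.nil (Cert.rep (nat_lit 68) [nat_lit 16,nat_lit 68] [] [] (Cert.rep (nat_lit 96) [] [] [] (Cert.er (Cert.ro (nat_lit 0) [nat_lit 1,nat_lit 8,nat_lit 16] [nat_lit 8,nat_lit 9,nat_lit 16] [nat_lit 0,nat_lit 1,nat_lit 68,nat_lit 69,nat_lit 10,nat_lit 11,nat_lit 78,nat_lit 79] (Cert.ro (nat_lit 1) [nat_lit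 1,nat_lit 2,nat_lit 14,nat_lit 16] [nat_lit 1,nat_lit 14,nat_lit 12,nat_lit 16] [nat_lit 0,nat_lit 1,nat_lit 2,nat_lit 3,nat_lit 39,nat_lit 38,nat_lit 36,nat_lit 37,nat_lit 10,nat_lit 11,nat_lit 9,nat_lit 8,nat_lit 44,nat_lit 45,nat_lit 46,nat_lit 47] (Cert.kw (nat_lit 2) (nat_lit 0) (nat_lit 2) (nat_lit 1) )))) Cert.nil) (Cert.rep (nat_lit 92) [nat_lit 16,nat_lit 70] [] [] (Cert.rep (nat_lit 120) [] [] [] (Cert.er (Cert.ro (nat_lit 0) [nat_lit 1,nat_lit 8,nat_lit 16] [nat_lit 8,nat_lit 9,nat_lit 16] [nat_lit 0,nat_lit 1,nat_lit 92,nat_lit 93,nat_lit 10,nat_lit 11,nat_lit 87,nat_lit 86] (Cert.ro (nat_lit 1) [nat_lit 1,nat_lit 2,nat_lit 14,nat_lit 16] [nat_lit 1,nat_lit 14,nat_lit 12,nat_lit 16] [nat_lit 0,nat_lit 1,nat_lit 2,nat_lit 3,nat_lit 39,nat_lit 38,nat_lit 36,nat_lit 37,nat_lit 10,nat_lit 11,nat_lit 9,nat_lit 8,nat_lit 44,nat_lit 45,nat_lit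 46,nat_lit 47] (Cert.kw (nat_lit 2) (nat_lit 0) (nat_lit 2) (nat_lit 1) )))) Cert.nil) Cert.nil))))) Cert.nil)))
noncomputable def g100_8_1 : Top :=
  Top.xk (nat_lit 1432) (Top.xn (nat_lit 10) (Top.s2 (nat_lit 0) (nat_lit 68) (Top.base (Cert.o1 (nat_lit 0) (nat_lit 68) (Cert.fu (nat_lit 68) (nat_lit 1) (nat_lit 0) (nat_lit 0) [nat_lit 0] [nat_lit 1046,nat_lit 11] [] [] [] [nat_lit 1] [[nat_lit 1]] [[nat_lit 68]] [Ins.ts (nat_lit 1) [nat_lit 0] [],Ins.fr [nat_lit 0],Ins.ts (nat_lit 0) [nat_lit 0,nat_lit 0] [nat_lit 1],Ins.ts (nat_lit 4) [nat_lit 0] [nat_lit 0,nat_lit 0,nat_lit 1],Ins.fr [nat_lit 1],Ins.ts (nat_lit 2) [nat_lit 0] [],Ins.ts (nat_lit 0) [nat_lit 0,nat_lit 0] [],Ins.ts (nat_lit 0) [nat_lit 1,nat_lit 0,nat_lit 1] [nat_lit 0],Ins.ts (nat_lit 3) [nat_lit 1,nat_lit 0] []] [(nat_lit 0,nat_lit 0)] (Cert.rep (nat_lit 1) [nat_lit 2,nat_lit 4,nat_lit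 8,nat_lit 64,nat_lit 256,nat_lit 512,nat_lit 1024] [nat_lit 1024,nat_lit 512,nat_lit 256,nat_lit 128,nat_lit 64,nat_lit 32,nat_lit 16,nat_lit 8,nat_lit 4,nat_lit 2,nat_lit 1] [] (Cert.rep (nat_lit 2) [] [] [] Cert.nil (Cert.rep (nat_lit 4) [] [] [] Cert.nil (Cert.rep (nat_lit 24) [] [] [] Cert.nil (Cert.rep (nat_lit 652) [] [] [] Cert.nil Cert.nil)))) Cert.nil)))) (Top.root (nat_lit 32) [] [nat_lit 8,nat_lit 4] [nat_lit 0,nat_lit 1,nat_lit 2,nat_lit 3,nat_lit 4] [Ins.fr [nat_lit 0],Ins.ts (nat_lit 0) [nat_lit 0,nat_lit 0] [],Ins.ts (nat_lit 4) [nat_lit 0] [nat_lit 0,nat_lit 0,nat_lit 0],Ins.ts (nat_lit 1) [nat_lit 0] [],Ins.fr [nat_lit 1],Ins.ts (nat_lit 1) [nat_lit 0,nat_lit 0] [],Ins.ts (nat_lit 4) [nat_lit 0] [nat_lit 0,nat_lit 0,nat_lit 0],Ins.ts (nat_lit 0) [nat_lit 1,nat_lit 0,nat_lit 1] [nat_lit 0,nat_lit 0,nat_lit 0],Ins.ts (nat_lit 1) [nat_lit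 0,nat_lit 0,nat_lit 0,nat_lit 0] [],Ins.df [nat_lit 0,nat_lit 0],Ins.df [nat_lit 0,nat_lit 0]] (Top.rep (nat_lit 10) [nat_lit 2,nat_lit 16,nat_lit 36,nat_lit 68] [nat_lit 68,nat_lit 36,nat_lit 16,nat_lit 8,nat_lit 2,nat_lit 1] [nat_lit 1024,nat_lit 512,nat_lit 256,nat_lit 128,nat_lit 4] (Top.rep (nat_lit 1) [] [] [] (Top.base Cert.nil) (Top.rep (nat_lit 26) [] [] [] (Top.base Cert.nil) (Top.rep (nat_lit 60) [] [] [] (Top.base Cert.nil) (Top.rep (nat_lit 68) [nat_lit 16,nat_lit 68] [] [] (Top.base (Cert.rep (nat_lit 96) [] [] [] (Cert.er (Cert.ro (nat_lit 0) [nat_lit 1,nat_lit 8,nat_lit 16] [nat_lit 8,nat_lit 9,nat_lit 16] [nat_lit 0,nat_lit 1,nat_lit 68,nat_lit 69,nat_lit 10,nat_lit 11,nat_lit 78,nat_lit 79] (Cert.ro (nat_lit 1) [nat_lit 1,nat_lit 2,nat_lit 14,nat_lit 16] [nat_lit 1,nat_lit 14,nat_lit 12,nat_lit 16] [nat_lit 0,nat_lit 1,nat_lit 2,nat_lit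 3,nat_lit 39,nat_lit 38,nat_lit 36,nat_lit 37,nat_lit 10,nat_lit 11,nat_lit 9,nat_lit 8,nat_lit 44,nat_lit 45,nat_lit 46,nat_lit 47] (Cert.kw (nat_lit 2) (nat_lit 0) (nat_lit 2) (nat_lit 1) )))) Cert.nil)) (Top.rep (nat_lit 92) [nat_lit 16,nat_lit 70] [] [] (Top.rep (nat_lit 120) [] [] [] (Top.er (Top.ro (nat_lit 0) [nat_lit 1,nat_lit 8,nat_lit 16] [nat_lit 8,nat_lit 9,nat_lit 16] [nat_lit 0,nat_lit 1,nat_lit 92,nat_lit 93,nat_lit 10,nat_lit 11,nat_lit 87,nat_lit 86] (Top.ro (nat_lit 1) [nat_lit 1,nat_lit 2,nat_lit 14,nat_lit 16] [nat_lit 1,nat_lit 14,nat_lit 12,nat_lit 16] [nat_lit 0,nat_lit 1,nat_lit 2,nat_lit 3,nat_lit 39,nat_lit 38,nat_lit 36,nat_lit 37,nat_lit 10,nat_lit 11,nat_lit 9,nat_lit 8,nat_lit 44,nat_lit 45,nat_lit 46,nat_lit 47] (Top.cut (nat_lit 6))))) (Top.base Cert.nil)) (Top.base Cert.nil)))))) (Top.base Cert.nil))))) (Top.xk (nat_lit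 1560) (Top.base (Cert.xn (nat_lit 10) g100_8_0)) (Top.xk (nat_lit 1944) (Top.xn (nat_lit 10) (Top.s2 (nat_lit 0) (nat_lit 68) (Top.base (Cert.o1 (nat_lit 0) (nat_lit 68) (Cert.fu (nat_lit 68) (nat_lit 1) (nat_lit 0) (nat_lit 0) [nat_lit 0] [nat_lit 1046,nat_lit 11] [] [] [] [nat_lit 1] [[nat_lit 1]] [[nat_lit 68]] [Ins.ts (nat_lit 1) [nat_lit 0] [],Ins.fr [nat_lit 0],Ins.ts (nat_lit 0) [nat_lit 0,nat_lit 0] [nat_lit 1],Ins.ts (nat_lit 4) [nat_lit 0] [nat_lit 0,nat_lit 0,nat_lit 1],Ins.fr [nat_lit 1],Ins.ts (nat_lit 2) [nat_lit 0] [],Ins.ts (nat_lit 0) [nat_lit 0,nat_lit 0] [],Ins.ts (nat_lit 0) [nat_lit 1,nat_lit 0,nat_lit 1] [nat_lit 0],Ins.ts (nat_lit 3) [nat_lit 1,nat_lit 0] []] [(nat_lit 0,nat_lit 0)] (Cert.rep (nat_lit 1) [nat_lit 2,nat_lit 4,nat_lit 8,nat_lit 64,nat_lit 256,nat_lit 512,nat_lit 1024] [nat_lit 1024,nat_lit 512,nat_lit 256,nat_lit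 128,nat_lit 64,nat_lit 32,nat_lit 16,nat_lit 8,nat_lit 4,nat_lit 2,nat_lit 1] [] (Cert.rep (nat_lit 2) [] [] [] Cert.nil (Cert.rep (nat_lit 4) [] [] [] Cert.nil (Cert.rep (nat_lit 24) [] [] [] Cert.nil (Cert.rep (nat_lit 592) [] [] [] Cert.nil Cert.nil)))) Cert.nil)))) (Top.root (nat_lit 32) [] [nat_lit 8,nat_lit 4] [nat_lit 0,nat_lit 1,nat_lit 2,nat_lit 3,nat_lit 4] [Ins.fr [nat_lit 0],Ins.ts (nat_lit 0) [nat_lit 0,nat_lit 0] [],Ins.ts (nat_lit 4) [nat_lit 0] [nat_lit 0,nat_lit 0,nat_lit 0],Ins.ts (nat_lit 1) [nat_lit 0] [],Ins.fr [nat_lit 1],Ins.ts (nat_lit 1) [nat_lit 0,nat_lit 0] [],Ins.ts (nat_lit 4) [nat_lit 0] [nat_lit 0,nat_lit 0,nat_lit 0],Ins.ts (nat_lit 0) [nat_lit 1,nat_lit 0,nat_lit 1] [nat_lit 0,nat_lit 0,nat_lit 0],Ins.ts (nat_lit 1) [nat_lit 0,nat_lit 0,nat_lit 0,nat_lit 0] [],Ins.df [nat_lit 0,nat_lit 0],Ins.df [nat_lit 0,nat_lit 0]]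 (Top.rep (nat_lit 10) [nat_lit 2,nat_lit 16,nat_lit 36,nat_lit 68] [nat_lit 68,nat_lit 36,nat_lit 16,nat_lit 8,nat_lit 2,nat_lit 1] [nat_lit 1024,nat_lit 512,nat_lit 256,nat_lit 128,nat_lit 4] (Top.rep (nat_lit 1) [] [] [] (Top.base Cert.nil) (Top.rep (nat_lit 26) [] [] [] (Top.base Cert.nil) (Top.rep (nat_lit 60) [] [] [] (Top.base Cert.nil) (Top.rep (nat_lit 68) [nat_lit 16,nat_lit 68] [] [] (Top.base (Cert.rep (nat_lit 96) [] [] [] (Cert.er (Cert.ro (nat_lit 0) [nat_lit 1,nat_lit 8,nat_lit 16] [nat_lit 8,nat_lit 9,nat_lit 16] [nat_lit 0,nat_lit 1,nat_lit 68,nat_lit 69,nat_lit 10,nat_lit 11,nat_lit 78,nat_lit 79] (Cert.ro (nat_lit 1) [nat_lit 1,nat_lit 2,nat_lit 14,nat_lit 16] [nat_lit 1,nat_lit 14,nat_lit 12,nat_lit 16] [nat_lit 0,nat_lit 1,nat_lit 2,nat_lit 3,nat_lit 39,nat_lit 38,nat_lit 36,nat_lit 37,nat_lit 10,nat_lit 11,nat_lit 9,nat_lit 8,nat_lit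 44,nat_lit 45,nat_lit 46,nat_lit 47] (Cert.kw (nat_lit 2) (nat_lit 0) (nat_lit 2) (nat_lit 1) )))) Cert.nil)) (Top.rep (nat_lit 92) [nat_lit 16,nat_lit 70] [] [] (Top.rep (nat_lit 120) [] [] [] (Top.er (Top.ro (nat_lit 0) [nat_lit 1,nat_lit 8,nat_lit 16] [nat_lit 8,nat_lit 9,nat_lit 16] [nat_lit 0,nat_lit 1,nat_lit 92,nat_lit 93,nat_lit 10,nat_lit 11,nat_lit 87,nat_lit 86] (Top.ro (nat_lit 1) [nat_lit 1,nat_lit 2,nat_lit 14,nat_lit 16] [nat_lit 1,nat_lit 14,nat_lit 12,nat_lit 16] [nat_lit 0,nat_lit 1,nat_lit 2,nat_lit 3,nat_lit 39,nat_lit 38,nat_lit 36,nat_lit 37,nat_lit 10,nat_lit 11,nat_lit 9,nat_lit 8,nat_lit 44,nat_lit 45,nat_lit 46,nat_lit 47] (Top.lw (nat_lit 0) (nat_lit 2) (nat_lit 1) (Top.s2 (nat_lit 0) (nat_lit 32) (Top.base (Cert.o1 (nat_lit 0) (nat_lit 32) (Cert.fu (nat_lit 32) (nat_lit 1) (nat_lit 0) (nat_lit 0) [nat_lit 0] [nat_lit 1940,nat_lit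 714] [] [] [] [nat_lit 1] [[nat_lit 1]] [[nat_lit 32]] [Ins.ts (nat_lit 1) [nat_lit 0] [],Ins.fr [nat_lit 0],Ins.ts (nat_lit 4) [nat_lit 0] [nat_lit 0,nat_lit 0,nat_lit 1],Ins.ts (nat_lit 0) [nat_lit 0,nat_lit 0,nat_lit 0,nat_lit 0] [nat_lit 1],Ins.fr [nat_lit 1],Ins.ts (nat_lit 4) [nat_lit 0] [nat_lit 0,nat_lit 0,nat_lit 1],Ins.ts (nat_lit 0) [nat_lit 1,nat_lit 1,nat_lit 0,nat_lit 1,nat_lit 1] [nat_lit 0],Ins.ts (nat_lit 1) [nat_lit 0,nat_lit 0] [],Ins.ts (nat_lit 0) [nat_lit 0,nat_lit 0,nat_lit 1,nat_lit 0,nat_lit 1,nat_lit 0] [nat_lit 2],Ins.ts (nat_lit 1) [nat_lit 0,nat_lit 0,nat_lit 0,nat_lit 0] []] [(nat_lit 1,nat_lit 0)] (Cert.rep (nat_lit 1) [nat_lit 2,nat_lit 4,nat_lit 8,nat_lit 16,nat_lit 32,nat_lit 64,nat_lit 128,nat_lit 256,nat_lit 512,nat_lit 1024] [nat_lit 1024,nat_lit 512,nat_lit 256,nat_lit 128,nat_lit 64,nat_lit 32,nat_lit 16,nat_lit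 8,nat_lit 4,nat_lit 2,nat_lit 1] [] (Cert.rep (nat_lit 72) [] [] [] Cert.nil (Cert.rep (nat_lit 128) [] [] [] Cert.nil (Cert.rep (nat_lit 512) [] [] [] Cert.nil Cert.nil))) Cert.nil)))) (Top.s2 (nat_lit 0) (nat_lit 1672) (Top.base (Cert.o1 (nat_lit 0) (nat_lit 1672) (Cert.fu (nat_lit 1672) (nat_lit 1) (nat_lit 0) (nat_lit 0) [nat_lit 0] [nat_lit 877] [] [] [] [nat_lit 1] [[nat_lit 1]] [[nat_lit 1672]] [Ins.ts (nat_lit 1) [nat_lit 0] [],Ins.fr [nat_lit 0],Ins.ts (nat_lit 4) [nat_lit 0] [nat_lit 0,nat_lit 0,nat_lit 1],Ins.ts (nat_lit 0) [nat_lit 0,nat_lit 0,nat_lit 0,nat_lit 0] [],Ins.ts (nat_lit 1) [nat_lit 0,nat_lit 0] [],Ins.ts (nat_lit 4) [nat_lit 0,nat_lit 0] [nat_lit 0,nat_lit 0,nat_lit 2],Ins.ts (nat_lit 4) [nat_lit 0,nat_lit 0,nat_lit 1] [nat_lit 0,nat_lit 0,nat_lit 3]] [(nat_lit 1,nat_lit 0),(nat_lit 3,nat_lit 0),(nat_lit 2,nat_lit 0)] (Cert.rep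 (nat_lit 1) [] [nat_lit 1024,nat_lit 512,nat_lit 256,nat_lit 128,nat_lit 64,nat_lit 32,nat_lit 16,nat_lit 8,nat_lit 4,nat_lit 2,nat_lit 1] [] Cert.nil Cert.nil)))) (Top.cut (nat_lit 7)))))))) (Top.base Cert.nil)) (Top.base Cert.nil)))))) (Top.base Cert.nil))))) (Top.base (Cert.xe (nat_lit 10) [] [(nat_lit 0,nat_lit 2),(nat_lit 0,nat_lit 64),(nat_lit 0,nat_lit 512),(nat_lit 0,nat_lit 1024),(nat_lit 2,nat_lit 512),(nat_lit 8,nat_lit 128),(nat_lit 8,nat_lit 1024)]))))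
noncomputable def g100_8 : Top :=
  g100_8_1
theorem top100_8 : topOK DB PT 88 t88 100 t100 (nat_lit 0xf0000000f0000000f0000000f000000000f0000000f00000f0000000f0000000f0000000f000000000f0000000f00000f0000000f0000000f0000000f0000300000c0300000c00c0000030c0000030c0000030c000003300000c0300000c0300000c0300000c00c0000030c0000030c0000030c000003300000c0300000c000000000000000000000c3000000c30000c0030000c0030000000000000000000000000000000000003003000030030000003300000033000000000000000000f0000000f0000000f00c0cf0f00303f0f00000f0f00000f00c0000030c0000030000000000000000f00000f0f00000f0f00000f0f0f0f0f0fcfc0303fc03fc03) s100 8 g100_8 = true := by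
  decide +kernel

end Cfsg.Agent.L3S.Dat
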