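import Mathlib
import Cfsg.Agent.L3S.GB

/-!
Certificates for the Sylow subgroups.
-/

set_option autoImplicit false
set_option maxRecDepth 100000

namespace Cfsg.Agent.L3S.Dat

open Cfsg.Agent.L33 Cfsg.Agent.L33.Dat Cfsg.Agent.L3S

noncomputable def g102_1 : Top :=
  (Top.s2 (nat_lit 0) (nat_lit 32) (Top.base (Cert.o1 (nat_lit 0) (nat_lit 32) (Cert.fu (nat_lit 32) (nat_lit 1) (nat_lit 0) (nat_lit 0) [nat_lit 0] [nat_lit 1940,nat_lit 714] [] [] [] [nat_lit 1] [[nat_lit 1]] [[nat_lit 32]] [Ins.ts (nat_lit 1) [nat_lit 0] [],Ins.fr [nat_lit 0],Ins.ts (nat_lit 0) [nat_lit 0,nat_lit 0,nat_lit 0,nat_lit 0] [nat_lit 1],Ins.fr [nat_lit 1],Ins.ts (nat_lit 0) [nat_lit 1,nat_lit 1,nat_lit 0,nat_lit 1,nat_lit 1] [nat_lit 0],Ins.ts (nat_lit 1) [nat_lit 0,nat_lit 0,nat_lit 0,nat_lit 0] [],Ins.ts (nat_lit 0) [nat_lit 0,nat_lit 0,nat_lit 1,nat_lit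 0,nat_lit 1,nat_lit 0] [nat_lit 2],Ins.ts (nat_lit 1) [nat_lit 0,nat_lit 0,nat_lit 0,nat_lit 0,nat_lit 2] []] [] (Cert.rep (nat_lit 1) [nat_lit 2,nat_lit 4,nat_lit 8,nat_lit 16,nat_lit 32,nat_lit 64,nat_lit 128,nat_lit 256,nat_lit 512,nat_lit 1024] [nat_lit 1024,nat_lit 512,nat_lit 256,nat_lit 128,nat_lit 64,nat_lit 32,nat_lit 16,nat_lit 8,nat_lit 4,nat_lit 2,nat_lit 1] [] (Cert.rep (nat_lit 64) [] [] [] Cert.nil (Cert.rep (nat_lit 72) [] [] [] Cert.nil (Cert.rep (nat_lit 88) [] [] [] Cert.nil (Cert.rep (nat_lit 128) [] [] [] Cert.nil (Cert.rep (nat_lit 140) [] [] [] Cert.nil (Cert.rep (nat_lit 512) [] [] [] Cert.nil Cert.nil)))))) Cert.nil)))) (Top.s2 (nat_lit 0) (nat_lit 1030) (Top.base (Cert.o1 (nat_lit 0) (nat_lit 1030) (Cert.fu (nat_lit 1030) (nat_lit 1) (nat_lit 0) (nat_lit 0) [nat_lit 0] [nat_lit 909,nat_lit 451] [] [] [] [nat_lit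 1] [[nat_lit 1]] [[nat_lit 1030]] [Ins.ts (nat_lit 1) [nat_lit 0] [],Ins.fr [nat_lit 0],Ins.ts (nat_lit 0) [nat_lit 0,nat_lit 0,nat_lit 0,nat_lit 0] [],Ins.ts (nat_lit 1) [nat_lit 0,nat_lit 0] [],Ins.ts (nat_lit 4) [nat_lit 0,nat_lit 0] [nat_lit 0,nat_lit 0,nat_lit 1],Ins.ts (nat_lit 4) [nat_lit 0,nat_lit 0,nat_lit 1] [nat_lit 0,nat_lit 0,nat_lit 2],Ins.fr [nat_lit 1],Ins.ts (nat_lit 0) [nat_lit 0,nat_lit 1,nat_lit 0] [nat_lit 1],Ins.ts (nat_lit 1) [nat_lit 0,nat_lit 0] [],Ins.ts (nat_lit 1) [nat_lit 0,nat_lit 0,nat_lit 2] []] [(nat_lit 3,nat_lit 0),(nat_lit 2,nat_lit 0)] (Cert.rep (nat_lit 1) [nat_lit 2,nat_lit 4,nat_lit 8,nat_lit 16,nat_lit 32,nat_lit 64,nat_lit 128,nat_lit 256,nat_lit 512,nat_lit 1024] [nat_lit 1024,nat_lit 512,nat_lit 256,nat_lit 128,nat_lit 64,nat_lit 32,nat_lit 16,nat_lit 8,nat_lit 4,nat_lit 2,nat_lit 1] []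 (Cert.rep (nat_lit 136) [] [] [] Cert.nil (Cert.rep (nat_lit 640) [] [] [] Cert.nil (Cert.rep (nat_lit 1160) [] [] [] Cert.nil Cert.nil))) Cert.nil)))) (Top.s2 (nat_lit 0) (nat_lit 1031) (Top.base (Cert.o1 (nat_lit 0) (nat_lit 1031) (Cert.fu (nat_lit 1031) (nat_lit 1) (nat_lit 0) (nat_lit 0) [nat_lit 0] [nat_lit 909,nat_lit 451] [] [] [] [nat_lit 1] [[nat_lit 1]] [[nat_lit 1031]] [Ins.ts (nat_lit 1) [nat_lit 0] [],Ins.fr [nat_lit 0],Ins.ts (nat_lit 0) [nat_lit 0,nat_lit 0,nat_lit 0,nat_lit 0] [],Ins.ts (nat_lit 1) [nat_lit 0,nat_lit 0] [],Ins.ts (nat_lit 4) [nat_lit 0,nat_lit 0] [nat_lit 0,nat_lit 0,nat_lit 1],Ins.ts (nat_lit 4) [nat_lit 0,nat_lit 0,nat_lit 1] [nat_lit 0,nat_lit 0,nat_lit 2],Ins.fr [nat_lit 1],Ins.ts (nat_lit 0) [nat_lit 0,nat_lit 1,nat_lit 0] [nat_lit 1],Ins.ts (nat_lit 1) [nat_lit 0,nat_lit 0] [],Ins.ts (nat_lit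 1) [nat_lit 0,nat_lit 0,nat_lit 2] []] [(nat_lit 3,nat_lit 0),(nat_lit 2,nat_lit 0)] (Cert.rep (nat_lit 1) [nat_lit 2,nat_lit 4,nat_lit 8,nat_lit 16,nat_lit 32,nat_lit 64,nat_lit 128,nat_lit 256,nat_lit 512,nat_lit 1024] [nat_lit 1024,nat_lit 512,nat_lit 256,nat_lit 128,nat_lit 64,nat_lit 32,nat_lit 16,nat_lit 8,nat_lit 4,nat_lit 2,nat_lit 1] [] (Cert.rep (nat_lit 136) [] [] [] Cert.nil (Cert.rep (nat_lit 640) [] [] [] Cert.nil (Cert.rep (nat_lit 1160) [] [] [] Cert.nil Cert.nil))) Cert.nil)))) (Top.s2 (nat_lit 0) (nat_lit 1052) (Top.base (Cert.o1 (nat_lit 0) (nat_lit 1052) (Cert.fu (nat_lit 1052) (nat_lit 1) (nat_lit 0) (nat_lit 0) [nat_lit 0] [nat_lit 249,nat_lit 95] [] [] [] [nat_lit 1] [[nat_lit 1]] [[nat_lit 1052]] [Ins.ts (nat_lit 1) [nat_lit 0] [],Ins.fr [nat_lit 0],Ins.ts (nat_lit 0) [nat_lit 0,nat_lit 0,nat_lit 0,nat_lit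 0] [],Ins.ts (nat_lit 1) [nat_lit 0,nat_lit 0] [],Ins.ts (nat_lit 4) [nat_lit 0,nat_lit 0] [nat_lit 0,nat_lit 0,nat_lit 1],Ins.ts (nat_lit 4) [nat_lit 0,nat_lit 0,nat_lit 1] [nat_lit 0,nat_lit 0,nat_lit 2],Ins.fr [nat_lit 1],Ins.ts (nat_lit 0) [nat_lit 0,nat_lit 0] [],Ins.ts (nat_lit 3) [nat_lit 0] [],Ins.ts (nat_lit 0) [nat_lit 1,nat_lit 0,nat_lit 1] [nat_lit 0],Ins.ts (nat_lit 3) [nat_lit 1,nat_lit 0] []] [(nat_lit 3,nat_lit 0),(nat_lit 2,nat_lit 0)] (Cert.rep (nat_lit 1) [nat_lit 2,nat_lit 4,nat_lit 8,nat_lit 16,nat_lit 32,nat_lit 64,nat_lit 128,nat_lit 256,nat_lit 512,nat_lit 1024] [nat_lit 1024,nat_lit 512,nat_lit 256,nat_lit 128,nat_lit 64,nat_lit 32,nat_lit 16,nat_lit 8,nat_lit 4,nat_lit 2,nat_lit 1] [] (Cert.rep (nat_lit 136) [] [] [] Cert.nil (Cert.rep (nat_lit 640) [] [] [] Cert.nil (Cert.rep (nat_lit 1160) [] [] [] Cert.nil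 Cert.nil))) Cert.nil)))) (Top.cut (nat_lit 0))))))
theorem top102_1 : topOK DB PT 88 t88 102 t102 (nat_lit 0x300000c0300000c00c0000030c0000030c0000030c000003300000c0300000c0300000c0300000c00c0000030c0000030c0000030c000003300000c0300000c000000000000000000000c3000000c30000c0030000c0030000000000000000000000000000000000003003000030030000003300000033000000000000000000f0000000f0000000f00c0cf0f00303f0f00000f0f00000f00c0000030c0000030000000000000000f00000f0f00000f0f00000f0f0f0f0f0fcfc0303fc03fc03) s102 1 g102_1 = true := by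
  decide +kernel
noncomputable def g102_2 : Top :=
  (Top.base (Cert.o1 (nat_lit 0) (nat_lit 92) (Cert.fu (nat_lit 92) (nat_lit 1) (nat_lit 0) (nat_lit 0) [nat_lit 0] [nat_lit 1168,nat_lit 42,nat_lit 266] [] [] [] [nat_lit 1] [[nat_lit 1]] [[nat_lit 92]] [Ins.ts (nat_lit 1) [nat_lit 0] [],Ins.fr [nat_lit 0],Ins.ts (nat_lit 0) [nat_lit 0,nat_lit 0,nat_lit 0,nat_lit 0] [],Ins.ts (nat_lit 1) [nat_lit 0,nat_lit 0] [],Ins.ts (nat_lit 4) [nat_lit 0,nat_lit 0] [nat_lit 0,nat_lit 0,nat_lit 1],Ins.ts (nat_lit 1) [nat_lit 0,nat_lit 0,nat_lit 1] [],Ins.fr [nat_lit 1],Ins.ts (nat_lit 0) [nat_lit 1,nat_lit 2,nat_lit 1] [nat_lit 0,nat_lit 0],Ins.ts (nat_lit 4) [nat_lit 1,nat_lit 0] [nat_lit 0,nat_lit 0,nat_lit 2],Ins.ts (nat_lit 0) [nat_lit 1,nat_lit 2,nat_lit 0] [nat_lit 0,nat_lit 1],Ins.ts (nat_lit 4) [nat_lit 0,nat_lit 0,nat_lit 1,nat_lit 0]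 [nat_lit 0,nat_lit 0,nat_lit 2],Ins.fr [nat_lit 2],Ins.ts (nat_lit 0) [nat_lit 0,nat_lit 2,nat_lit 0,nat_lit 2] [],Ins.ts (nat_lit 0) [nat_lit 2,nat_lit 2,nat_lit 0] [nat_lit 0,nat_lit 2,nat_lit 2],Ins.ts (nat_lit 1) [nat_lit 0,nat_lit 0] [],Ins.ts (nat_lit 1) [nat_lit 0,nat_lit 0,nat_lit 3] [],Ins.ts (nat_lit 4) [nat_lit 0,nat_lit 0,nat_lit 2,nat_lit 1] [nat_lit 0,nat_lit 0,nat_lit 2],Ins.ts (nat_lit 4) [nat_lit 0,nat_lit 0,nat_lit 1,nat_lit 0,nat_lit 2,nat_lit 0] [nat_lit 0,nat_lit 0,nat_lit 2],Ins.ts (nat_lit 0) [nat_lit 0,nat_lit 0,nat_lit 0,nat_lit 0] [],Ins.ts (nat_lit 1) [nat_lit 0,nat_lit 0,nat_lit 2,nat_lit 2] [],Ins.ts (nat_lit 1) [nat_lit 0,nat_lit 0,nat_lit 1,nat_lit 1] []] [(nat_lit 2,nat_lit 0),(nat_lit 3,nat_lit 0)] (Cert.rep (nat_lit 1) [nat_lit 2,nat_lit 4,nat_lit 8,nat_lit 16,nat_lit 32,nat_lit 64,nat_lit 128,nat_lit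 256,nat_lit 512,nat_lit 1024] [nat_lit 1024,nat_lit 512,nat_lit 256,nat_lit 128,nat_lit 64,nat_lit 32,nat_lit 16,nat_lit 8,nat_lit 4,nat_lit 2,nat_lit 1] [] (Cert.rep (nat_lit 136) [nat_lit 136] [] [] (Cert.rep (nat_lit 146) [] [] [] Cert.nil (Cert.rep (nat_lit 168) [] [] [] Cert.nil Cert.nil)) (Cert.rep (nat_lit 640) [nat_lit 640] [] [] (Cert.rep (nat_lit 672) [] [] [] Cert.nil (Cert.rep (nat_lit 700) [] [] [] Cert.nil Cert.nil)) (Cert.rep (nat_lit 1032) [nat_lit 1032] [] [] (Cert.rep (nat_lit 1064) [] [] [] Cert.nil (Cert.rep (nat_lit 1454) [] [] [] Cert.nil Cert.nil)) (Cert.rep (nat_lit 1160) [nat_lit 1160] [] [] (Cert.rep (nat_lit 1202) [] [] [] Cert.nil (Cert.rep (nat_lit 1230) [] [] [] Cert.nil Cert.nil)) Cert.nil)))) Cert.nil))))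
theorem top102_2 : topOK DB PT 88 t88 102 t102 (nat_lit 0x300000c0300000c00c0000030c0000030c0000030c000003300000c0300000c0300000c0300000c00c0000030c0000030c0000030c000003300000c0300000c000000000000000000000c3000000c30000c0030000c0030000000000000000000000000000000000003003000030030000003300000033000000000000000000f0000000f0000000f00c0cf0f00303f0f00000f0f00000f00c0000030c0000030000000000000000f00000f0f00000f0f00000f0f0f0f0f0fcfc0303fc03fc03) s102 2 g102_2 = true := by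
  decide +kernel
noncomputable def g102_4_0 : Top :=
  Top.rep (nat_lit 68) [nat_lit 16,nat_lit 68] [] [] (Top.rep (nat_lit 96) [] [] [] (Top.er (Top.ro (nat_lit 0) [nat_lit 1,nat_lit 8,nat_lit 16] [nat_lit 8,nat_lit 9,nat_lit 16] [nat_lit 0,nat_lit 1,nat_lit 68,nat_lit 69,nat_lit 10,nat_lit 11,nat_lit 78,nat_lit 79] (Top.ro (nat_lit 1) [nat_lit 1,nat_lit 2,nat_lit 14,nat_lit 16] [nat_lit 1,nat_lit 14,nat_lit 12,nat_lit 16] [nat_lit 0,nat_lit 1,nat_lit 2,nat_lit 3,nat_lit 39,nat_lit 38,nat_lit 36,nat_lit 37,nat_lit 10,nat_lit 11,nat_lit 9,nat_lit 8,nat_lit 44,nat_lit 45,nat_lit 46,nat_lit 47] (Top.lw (nat_lit 0) (nat_lit 2) (nat_lit 1) (Top.cut (nat_lit 1)))))) (Top.base (Cert.rep (nat_lit 104) [] [] [] (Cert.er (Cert.ro (nat_lit 0) [nat_lit 1,nat_lit 8,nat_lit 16] [nat_lit 8,nat_lit 9,nat_lit 16] [nat_lit 0,nat_lit 1,nat_lit 68,nat_lit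 69,nat_lit 10,nat_lit 11,nat_lit 78,nat_lit 79] (Cert.ro (nat_lit 1) [nat_lit 1,nat_lit 2,nat_lit 14,nat_lit 16] [nat_lit 1,nat_lit 14,nat_lit 12,nat_lit 16] [nat_lit 0,nat_lit 1,nat_lit 3,nat_lit 2,nat_lit 46,nat_lit 47,nat_lit 44,nat_lit 45,nat_lit 10,nat_lit 11,nat_lit 8,nat_lit 9,nat_lit 36,nat_lit 37,nat_lit 39,nat_lit 38] (Cert.fu (nat_lit 10) (nat_lit 2) (nat_lit 10) (nat_lit 1) [nat_lit 1] [nat_lit 1,nat_lit 45,nat_lit 16] [] [] [nat_lit 64,nat_lit 32,nat_lit 16,nat_lit 8,nat_lit 4,nat_lit 2,nat_lit 1] [nat_lit 1] [[nat_lit 3,nat_lit 1]] [[nat_lit 1],[nat_lit 10,nat_lit 1],[nat_lit 45,nat_lit 1]] [Ins.fr [nat_lit 0],Ins.ts (nat_lit 3) [nat_lit 0] [],Ins.ts (nat_lit 4) [nat_lit 0] [nat_lit 0,nat_lit 0,nat_lit 0],Ins.ts (nat_lit 1) [nat_lit 0] [],Ins.fr [nat_lit 1],Ins.ts (nat_lit 4) [nat_lit 0] [nat_lit 0,nat_lit 0,nat_lit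 2],Ins.ts (nat_lit 1) [nat_lit 0] [],Ins.ts (nat_lit 0) [nat_lit 0,nat_lit 0] [nat_lit 1],Ins.fr [nat_lit 2],Ins.ts (nat_lit 2) [nat_lit 0] [],Ins.ts (nat_lit 0) [nat_lit 0,nat_lit 0] [],Ins.ts (nat_lit 3) [nat_lit 1,nat_lit 0] [],Ins.ts (nat_lit 1) [nat_lit 0] [],Ins.ts (nat_lit 0) [nat_lit 1,nat_lit 0,nat_lit 1] [nat_lit 0]] [] (Cert.rep (nat_lit 10) [] [nat_lit 68,nat_lit 36,nat_lit 16,nat_lit 8,nat_lit 2,nat_lit 1] [nat_lit 4] (Cert.rep (nat_lit 1) [nat_lit 36] [] [] (Cert.rep (nat_lit 2) [] [] [] Cert.nil Cert.nil) Cert.nil) Cert.nil))))) Cert.nil))) (Top.rep (nat_lit 76) [nat_lit 16,nat_lit 70] [] [] (Top.base (Cert.rep (nat_lit 96) [] [] [] (Cert.er (Cert.ro (nat_lit 0) [nat_lit 1,nat_lit 8,nat_lit 16] [nat_lit 8,nat_lit 9,nat_lit 16] [nat_lit 0,nat_lit 1,nat_lit 76,nat_lit 77,nat_lit 10,nat_lit 11,nat_lit 71,nat_lit 70] (Cert.ro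 (nat_lit 1) [nat_lit 1,nat_lit 2,nat_lit 14,nat_lit 16] [nat_lit 1,nat_lit 14,nat_lit 12,nat_lit 16] [nat_lit 0,nat_lit 1,nat_lit 2,nat_lit 3,nat_lit 47,nat_lit 46,nat_lit 44,nat_lit 45,nat_lit 10,nat_lit 11,nat_lit 9,nat_lit 8,nat_lit 37,nat_lit 36,nat_lit 39,nat_lit 38] (Cert.lf (Leaf.st (nat_lit 2) (nat_lit 1) (nat_lit 1) (Leaf.cf (nat_lit 1))))))) (Cert.rep (nat_lit 104) [] [] [] (Cert.er (Cert.ro (nat_lit 0) [nat_lit 1,nat_lit 8,nat_lit 16] [nat_lit 8,nat_lit 9,nat_lit 16] [nat_lit 0,nat_lit 1,nat_lit 76,nat_lit 77,nat_lit 10,nat_lit 11,nat_lit 71,nat_lit 70] (Cert.ro (nat_lit 1) [nat_lit 1,nat_lit 2,nat_lit 14,nat_lit 16] [nat_lit 1,nat_lit 14,nat_lit 12,nat_lit 16] [nat_lit 0,nat_lit 1,nat_lit 3,nat_lit 2,nat_lit 39,nat_lit 38,nat_lit 37,nat_lit 36,nat_lit 10,nat_lit 11,nat_lit 8,nat_lit 9,nat_lit 44,nat_lit 45,nat_lit 47,nat_lit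 46] (Cert.lf (Leaf.st (nat_lit 2) (nat_lit 1) (nat_lit 1) (Leaf.cf (nat_lit 1))))))) Cert.nil))) (Top.rep (nat_lit 84) [nat_lit 16,nat_lit 68] [] [] (Top.base (Cert.rep (nat_lit 112) [] [] [] (Cert.er (Cert.ro (nat_lit 0) [nat_lit 1,nat_lit 8,nat_lit 16] [nat_lit 8,nat_lit 9,nat_lit 16] [nat_lit 0,nat_lit 1,nat_lit 84,nat_lit 85,nat_lit 10,nat_lit 11,nat_lit 94,nat_lit 95] (Cert.ro (nat_lit 1) [nat_lit 1,nat_lit 2,nat_lit 14,nat_lit 16] [nat_lit 1,nat_lit 14,nat_lit 12,nat_lit 16] [nat_lit 0,nat_lit 1,nat_lit 3,nat_lit 2,nat_lit 39,nat_lit 38,nat_lit 37,nat_lit 36,nat_lit 10,nat_lit 11,nat_lit 8,nat_lit 9,nat_lit 44,nat_lit 45,nat_lit 47,nat_lit 46] (Cert.lf (Leaf.st (nat_lit 2) (nat_lit 1) (nat_lit 1) (Leaf.cf (nat_lit 1))))))) (Cert.rep (nat_lit 120) [] [] [] (Cert.er (Cert.ro (nat_lit 0) [nat_lit 1,nat_lit 8,nat_lit 16] [nat_lit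 8,nat_lit 9,nat_lit 16] [nat_lit 0,nat_lit 1,nat_lit 84,nat_lit 85,nat_lit 10,nat_lit 11,nat_lit 94,nat_lit 95] (Cert.ro (nat_lit 1) [nat_lit 1,nat_lit 2,nat_lit 14,nat_lit 16] [nat_lit 1,nat_lit 14,nat_lit 12,nat_lit 16] [nat_lit 0,nat_lit 1,nat_lit 2,nat_lit 3,nat_lit 46,nat_lit 47,nat_lit 45,nat_lit 44,nat_lit 10,nat_lit 11,nat_lit 9,nat_lit 8,nat_lit 36,nat_lit 37,nat_lit 38,nat_lit 39] (Cert.lf (Leaf.st (nat_lit 2) (nat_lit 1) (nat_lit 1) (Leaf.cf (nat_lit 1))))))) Cert.nil))) (Top.rep (nat_lit 92) [nat_lit 16,nat_lit 70] [] [] (Top.rep (nat_lit 112) [] [] [] (Top.base (Cert.er (Cert.ro (nat_lit 0) [nat_lit 1,nat_lit 8,nat_lit 16] [nat_lit 8,nat_lit 9,nat_lit 16] [nat_lit 0,nat_lit 1,nat_lit 92,nat_lit 93,nat_lit 10,nat_lit 11,nat_lit 87,nat_lit 86] (Cert.ro (nat_lit 1) [nat_lit 1,nat_lit 2,nat_lit 14,nat_lit 16] [nat_lit 1,nat_lit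 14,nat_lit 12,nat_lit 16] [nat_lit 0,nat_lit 1,nat_lit 3,nat_lit 2,nat_lit 47,nat_lit 46,nat_lit 45,nat_lit 44,nat_lit 10,nat_lit 11,nat_lit 8,nat_lit 9,nat_lit 37,nat_lit 36,nat_lit 38,nat_lit 39] (Cert.fu (nat_lit 10) (nat_lit 2) (nat_lit 10) (nat_lit 1) [nat_lit 1] [nat_lit 1,nat_lit 44,nat_lit 16] [] [] [nat_lit 64,nat_lit 32,nat_lit 16,nat_lit 8,nat_lit 4,nat_lit 2,nat_lit 1] [nat_lit 1] [[nat_lit 3,nat_lit 1]] [[nat_lit 1],[nat_lit 10,nat_lit 1],[nat_lit 44,nat_lit 1]] [Ins.fr [nat_lit 0],Ins.ts (nat_lit 3) [nat_lit 0] [],Ins.ts (nat_lit 4) [nat_lit 0] [nat_lit 0,nat_lit 0,nat_lit 0],Ins.ts (nat_lit 1) [nat_lit 0] [],Ins.fr [nat_lit 1],Ins.ts (nat_lit 4) [nat_lit 0] [nat_lit 0,nat_lit 0,nat_lit 2],Ins.ts (nat_lit 1) [nat_lit 0] [],Ins.ts (nat_lit 0) [nat_lit 0,nat_lit 0] [nat_lit 1],Ins.fr [nat_lit 2],Ins.ts (nat_lit 2) [nat_lit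 0] [],Ins.ts (nat_lit 0) [nat_lit 0,nat_lit 0] [],Ins.ts (nat_lit 3) [nat_lit 1,nat_lit 0] [],Ins.ts (nat_lit 1) [nat_lit 0] [],Ins.ts (nat_lit 0) [nat_lit 1,nat_lit 0,nat_lit 1] [nat_lit 0]] [] (Cert.rep (nat_lit 10) [] [nat_lit 68,nat_lit 36,nat_lit 16,nat_lit 8,nat_lit 2,nat_lit 1] [nat_lit 4] (Cert.rep (nat_lit 1) [nat_lit 36] [] [] (Cert.rep (nat_lit 2) [] [] [] Cert.nil Cert.nil) Cert.nil) Cert.nil)))))) (Top.rep (nat_lit 120) [] [] [] (Top.er (Top.ro (nat_lit 0) [nat_lit 1,nat_lit 8,nat_lit 16] [nat_lit 8,nat_lit 9,nat_lit 16] [nat_lit 0,nat_lit 1,nat_lit 92,nat_lit 93,nat_lit 10,nat_lit 11,nat_lit 87,nat_lit 86] (Top.ro (nat_lit 1) [nat_lit 1,nat_lit 2,nat_lit 14,nat_lit 16] [nat_lit 1,nat_lit 14,nat_lit 12,nat_lit 16] [nat_lit 0,nat_lit 1,nat_lit 2,nat_lit 3,nat_lit 39,nat_lit 38,nat_lit 36,nat_lit 37,nat_lit 10,nat_lit 11,nat_lit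 9,nat_lit 8,nat_lit 44,nat_lit 45,nat_lit 46,nat_lit 47] (Top.lw (nat_lit 0) (nat_lit 2) (nat_lit 1) (Top.cut (nat_lit 3)))))) (Top.base Cert.nil))) (Top.base Cert.nil))))
noncomputable def g102_4 : Top :=
  (Top.st (nat_lit 0) (nat_lit 10) (nat_lit 0) (Top.sp (nat_lit 1) (Top.base (Cert.lf (Leaf.pt (nat_lit 9) (nat_lit 1) [nat_lit 10]))) (Top.sp (nat_lit 26) (Top.base (Cert.lf (Leaf.pt (nat_lit 9) (nat_lit 26) [nat_lit 10]))) (Top.st (nat_lit 0) (nat_lit 26) (nat_lit 0) (Top.sp (nat_lit 28) (Top.base (Cert.lf (Leaf.pt (nat_lit 9) (nat_lit 28) [nat_lit 12]))) (Top.st (nat_lit 0) (nat_lit 28) (nat_lit 0) (Top.sp (nat_lit 32) (Top.base (Cert.lf (Leaf.pt (nat_lit 12) (nat_lit 32) [nat_lit 26,nat_lit 196]))) (Top.st (nat_lit 0) (nat_lit 32) (nat_lit 0) (Top.sp (nat_lit 68) (Top.base (Cert.lf (Leaf.pt (nat_lit 9) (nat_lit 68) [nat_lit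 10]))) (Top.st (nat_lit 0) (nat_lit 68) (nat_lit 0) (Top.sp (nat_lit 92) (Top.base (Cert.lf (Leaf.pt (nat_lit 9) (nat_lit 92) [nat_lit 10]))) (Top.st (nat_lit 0) (nat_lit 92) (nat_lit 0) (Top.sp (nat_lit 132) (Top.base (Cert.lf (Leaf.pt (nat_lit 26) (nat_lit 132) [nat_lit 1,nat_lit 26,nat_lit 32,nat_lit 256]))) (Top.st (nat_lit 0) (nat_lit 132) (nat_lit 0) (Top.sp (nat_lit 256) (Top.base (Cert.lf (Leaf.pt (nat_lit 13) (nat_lit 256) [nat_lit 68]))) (Top.st (nat_lit 0) (nat_lit 256) (nat_lit 0) (Top.sp (nat_lit 257) (Top.base (Cert.lf (Leaf.pt (nat_lit 13) (nat_lit 257) [nat_lit 1]))) (Top.st (nat_lit 0) (nat_lit 257) (nat_lit 0) (Top.sp (nat_lit 584) (Top.base (Cert.lf (Leaf.pt (nat_lit 19) (nat_lit 584) [nat_lit 24,nat_lit 192]))) (Top.st (nat_lit 0) (nat_lit 584) (nat_lit 0) (Top.sp (nat_lit 648) (Top.base (Cert.lf (Leaf.pt (nat_lit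 12) (nat_lit 648) [nat_lit 28,nat_lit 258]))) (Top.st (nat_lit 0) (nat_lit 648) (nat_lit 0) (Top.sp (nat_lit 1030) (Top.base (Cert.lf (Leaf.pt (nat_lit 12) (nat_lit 1030) [nat_lit 26,nat_lit 590]))) (Top.st (nat_lit 0) (nat_lit 1030) (nat_lit 0) (Top.sp (nat_lit 1031) (Top.base (Cert.lf (Leaf.pt (nat_lit 12) (nat_lit 1031) [nat_lit 26,nat_lit 590]))) (Top.st (nat_lit 0) (nat_lit 1031) (nat_lit 0) (Top.sp (nat_lit 1052) (Top.base (Cert.lf (Leaf.pt (nat_lit 13) (nat_lit 1052) [nat_lit 26]))) (Top.st (nat_lit 0) (nat_lit 1052) (nat_lit 0) (Top.sp (nat_lit 1152) (Top.base (Cert.lf (Leaf.pt (nat_lit 13) (nat_lit 1152) [nat_lit 132]))) (Top.st (nat_lit 0) (nat_lit 1152) (nat_lit 0) (Top.sp (nat_lit 1178) (Top.base (Cert.lf (Leaf.pt (nat_lit 12) (nat_lit 1178) [nat_lit 26,nat_lit 586]))) (Top.st (nat_lit 0) (nat_lit 1178) (nat_lit 0) (Top.sp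 (nat_lit 1179) (Top.base (Cert.lf (Leaf.pt (nat_lit 12) (nat_lit 1179) [nat_lit 26,nat_lit 586]))) (Top.st (nat_lit 0) (nat_lit 1179) (nat_lit 0) (Top.nl (nat_lit 1) (Top.sy (nat_lit 0) (Top.root (nat_lit 32) [] [nat_lit 8,nat_lit 4] [nat_lit 0,nat_lit 1,nat_lit 2,nat_lit 3,nat_lit 4] [Ins.fr [nat_lit 0],Ins.ts (nat_lit 0) [nat_lit 0,nat_lit 0] [],Ins.ts (nat_lit 1) [nat_lit 0] [],Ins.ts (nat_lit 1) [nat_lit 0,nat_lit 1] [],Ins.fr [nat_lit 1],Ins.ts (nat_lit 1) [nat_lit 0,nat_lit 0] [],Ins.ts (nat_lit 0) [nat_lit 1,nat_lit 0,nat_lit 1] [nat_lit 0,nat_lit 0,nat_lit 0],Ins.ts (nat_lit 1) [nat_lit 0,nat_lit 0,nat_lit 0,nat_lit 0] [],Ins.df [nat_lit 0,nat_lit 0],Ins.df [nat_lit 0,nat_lit 0]] (Top.rep (nat_lit 10) [nat_lit 2,nat_lit 16,nat_lit 36,nat_lit 68] [nat_lit 68,nat_lit 36,nat_lit 16,nat_lit 8,nat_lit 2,nat_lit 1] [nat_lit 1024,nat_lit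 512,nat_lit 256,nat_lit 128,nat_lit 4] (Top.rep (nat_lit 1) [] [] [] (Top.base Cert.nil) (Top.rep (nat_lit 11) [] [] [] (Top.base Cert.nil) (Top.rep (nat_lit 16) [] [] [] (Top.base Cert.nil) (Top.rep (nat_lit 26) [] [] [] (Top.base Cert.nil) (Top.rep (nat_lit 52) [] [] [] (Top.base Cert.nil) (Top.rep (nat_lit 60) [] [] [] (Top.base Cert.nil) g102_4_0)))))) (Top.base Cert.nil)))))))))))))))))))))))))))))))))))))))
theorem top102_4 : topOK DB PT 88 t88 102 t102 (nat_lit 0x300000c0300000c00c0000030c0000030c0000030c000003300000c0300000c0300000c0300000c00c0000030c0000030c0000030c000003300000c0300000c000000000000000000000c3000000c30000c0030000c0030000000000000000000000000000000000003003000030030000003300000033000000000000000000f0000000f0000000f00c0cf0f00303f0f00000f0f00000f00c0000030c0000030000000000000000f00000f0f00000f0f00000f0f0f0f0f0fcfc0303fc03fc03)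 s102 4 g102_4 = true := by
  decide +kernel

end Cfsg.Agent.L3S.Dat
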