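import Mathlib
import Cfsg.Agent.L3S.GB

/-!
Certificates for the Sylow subgroups.
-/

set_option autoImplicit false
set_option maxRecDepth 100000

namespace Cfsg.Agent.L3S.Dat

open Cfsg.Agent.L33 Cfsg.Agent.L33.Dat Cfsg.Agent.L3S

noncomputable def g102_0 : Top :=
  (Top.base (Cert.o1 (nat_lit 0) (nat_lit 68) (Cert.fu (nat_lit 68) (nat_lit 1) (nat_lit 0) (nat_lit 0) [nat_lit 0] [nat_lit 1079,nat_lit 42,nat_lit 266] [] [] [] [nat_lit 1] [[nat_lit 1]] [[nat_lit 68]] [Ins.ts (nat_lit 1) [nat_lit 0] [],Ins.fr [nat_lit 0],Ins.ts (nat_lit 0) [nat_lit 0,nat_lit 0,nat_lit 0,nat_lit 0] [],Ins.ts (nat_lit 1) [nat_lit 0,nat_lit 0] [],Ins.ts (nat_lit 4) [nat_lit 0,nat_lit 0] [nat_lit 0,nat_lit 0,nat_lit 1],Ins.ts (nat_lit 1) [nat_lit 0,nat_lit 0,nat_lit 1] [],Ins.fr [nat_lit 1],Ins.ts (nat_lit 0) [nat_lit 1,nat_lit 2,nat_lit 1] [nat_lit 0,nat_lit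 0],Ins.ts (nat_lit 4) [nat_lit 1,nat_lit 0] [nat_lit 0,nat_lit 0,nat_lit 2],Ins.ts (nat_lit 0) [nat_lit 1,nat_lit 2,nat_lit 0] [nat_lit 0,nat_lit 1],Ins.ts (nat_lit 4) [nat_lit 0,nat_lit 0,nat_lit 1,nat_lit 0] [nat_lit 0,nat_lit 0,nat_lit 2],Ins.fr [nat_lit 2],Ins.ts (nat_lit 0) [nat_lit 0,nat_lit 2,nat_lit 0,nat_lit 2] [],Ins.ts (nat_lit 0) [nat_lit 2,nat_lit 2,nat_lit 0] [nat_lit 0,nat_lit 2,nat_lit 2],Ins.ts (nat_lit 1) [nat_lit 0,nat_lit 0] [],Ins.ts (nat_lit 1) [nat_lit 0,nat_lit 0,nat_lit 3] [],Ins.ts (nat_lit 4) [nat_lit 0,nat_lit 0,nat_lit 2,nat_lit 1] [nat_lit 0,nat_lit 0,nat_lit 2],Ins.ts (nat_lit 4) [nat_lit 0,nat_lit 0,nat_lit 1,nat_lit 0,nat_lit 2,nat_lit 0] [nat_lit 0,nat_lit 0,nat_lit 2],Ins.ts (nat_lit 0) [nat_lit 0,nat_lit 0,nat_lit 0,nat_lit 0] [],Ins.ts (nat_lit 1) [nat_lit 0,nat_lit 0,nat_lit 2,nat_lit 2] [],Ins.ts (nat_lit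 1) [nat_lit 0,nat_lit 0,nat_lit 1,nat_lit 1] []] [(nat_lit 2,nat_lit 0),(nat_lit 3,nat_lit 0)] (Cert.rep (nat_lit 1) [nat_lit 2,nat_lit 4,nat_lit 8,nat_lit 16,nat_lit 32,nat_lit 64,nat_lit 128,nat_lit 256,nat_lit 512,nat_lit 1024] [nat_lit 1024,nat_lit 512,nat_lit 256,nat_lit 128,nat_lit 64,nat_lit 32,nat_lit 16,nat_lit 8,nat_lit 4,nat_lit 2,nat_lit 1] [] (Cert.rep (nat_lit 136) [nat_lit 136] [] [] (Cert.rep (nat_lit 146) [] [] [] Cert.nil (Cert.rep (nat_lit 168) [] [] [] Cert.nil Cert.nil)) (Cert.rep (nat_lit 640) [nat_lit 640] [] [] (Cert.rep (nat_lit 672) [] [] [] Cert.nil (Cert.rep (nat_lit 700) [] [] [] Cert.nil Cert.nil)) (Cert.rep (nat_lit 1032) [nat_lit 1032] [] [] (Cert.rep (nat_lit 1042) [] [] [] Cert.nil (Cert.rep (nat_lit 1428) [] [] [] Cert.nil Cert.nil)) (Cert.rep (nat_lit 1160) [nat_lit 1160] [] [] (Cert.rep (nat_lit 1192)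 [] [] [] Cert.nil (Cert.rep (nat_lit 1236) [] [] [] Cert.nil Cert.nil)) Cert.nil)))) Cert.nil))))
theorem top102_0 : topOK DB PT 88 t88 102 t102 (nat_lit 0x300000c0300000c00c0000030c0000030c0000030c000003300000c0300000c0300000c0300000c00c0000030c0000030c0000030c000003300000c0300000c000000000000000000000c3000000c30000c0030000c0030000000000000000000000000000000000003003000030030000003300000033000000000000000000f0000000f0000000f00c0cf0f00303f0f00000f0f00000f00c0000030c0000030000000000000000f00000f0f00000f0f00000f0f0f0f0f0fcfc0303fc03fc03) s102 0 g102_0 = true := by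
  decide +kernel
noncomputable def g102_3 : Top :=
  (Top.s2 (nat_lit 0) (nat_lit 32) (Top.base (Cert.o1 (nat_lit 0) (nat_lit 32) (Cert.fu (nat_lit 32) (nat_lit 1) (nat_lit 0) (nat_lit 0) [nat_lit 0] [nat_lit 1940,nat_lit 714] [] [] [] [nat_lit 1] [[nat_lit 1]] [[nat_lit 32]] [Ins.ts (nat_lit 1) [nat_lit 0] [],Ins.fr [nat_lit 0],Ins.ts (nat_lit 0) [nat_lit 0,nat_lit 0,nat_lit 0,nat_lit 0] [nat_lit 1],Ins.fr [nat_lit 1],Ins.ts (nat_lit 0) [nat_lit 1,nat_lit 1,nat_lit 0,nat_lit 1,nat_lit 1] [nat_lit 0],Ins.ts (nat_lit 1) [nat_lit 0,nat_lit 0,nat_lit 0,nat_lit 0] [],Ins.ts (nat_lit 0) [nat_lit 0,nat_lit 0,nat_lit 1,nat_lit 0,nat_lit 1,nat_lit 0] [nat_lit 2],Ins.ts (nat_lit 1) [nat_lit 0,nat_lit 0,nat_lit 0,nat_lit 0,nat_lit 2] []] [] (Cert.rep (nat_lit 1) [nat_lit 2,nat_lit 4,nat_lit 8,nat_lit 16,nat_lit 32,nat_lit 64,nat_lit 128,nat_lit 256,nat_lit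 512,nat_lit 1024] [nat_lit 1024,nat_lit 512,nat_lit 256,nat_lit 128,nat_lit 64,nat_lit 32,nat_lit 16,nat_lit 8,nat_lit 4,nat_lit 2,nat_lit 1] [] (Cert.rep (nat_lit 64) [] [] [] Cert.nil (Cert.rep (nat_lit 72) [] [] [] Cert.nil (Cert.rep (nat_lit 88) [] [] [] Cert.nil (Cert.rep (nat_lit 128) [] [] [] Cert.nil (Cert.rep (nat_lit 140) [] [] [] Cert.nil (Cert.rep (nat_lit 512) [] [] [] Cert.nil Cert.nil)))))) Cert.nil)))) (Top.s2 (nat_lit 0) (nat_lit 1152) (Top.base (Cert.o1 (nat_lit 0) (nat_lit 1152) (Cert.fu (nat_lit 1152) (nat_lit 1) (nat_lit 0) (nat_lit 0) [nat_lit 0] [nat_lit 251,nat_lit 93] [] [] [] [nat_lit 1] [[nat_lit 1]] [[nat_lit 1152]] [Ins.ts (nat_lit 1) [nat_lit 0] [],Ins.fr [nat_lit 0],Ins.ts (nat_lit 0) [nat_lit 0,nat_lit 0,nat_lit 0,nat_lit 0] [],Ins.ts (nat_lit 1) [nat_lit 0,nat_lit 0] [],Ins.ts (nat_lit 4) [nat_lit 0,nat_lit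 0] [nat_lit 0,nat_lit 0,nat_lit 1],Ins.ts (nat_lit 4) [nat_lit 0,nat_lit 0,nat_lit 1] [nat_lit 0,nat_lit 0,nat_lit 2],Ins.fr [nat_lit 1],Ins.ts (nat_lit 0) [nat_lit 0,nat_lit 0] [],Ins.ts (nat_lit 3) [nat_lit 0] [],Ins.ts (nat_lit 0) [nat_lit 1,nat_lit 0,nat_lit 1] [nat_lit 0],Ins.ts (nat_lit 3) [nat_lit 1,nat_lit 0] []] [(nat_lit 3,nat_lit 0),(nat_lit 2,nat_lit 0)] (Cert.rep (nat_lit 1) [nat_lit 2,nat_lit 4,nat_lit 8,nat_lit 16,nat_lit 32,nat_lit 64,nat_lit 128,nat_lit 256,nat_lit 512,nat_lit 1024] [nat_lit 1024,nat_lit 512,nat_lit 256,nat_lit 128,nat_lit 64,nat_lit 32,nat_lit 16,nat_lit 8,nat_lit 4,nat_lit 2,nat_lit 1] [] (Cert.rep (nat_lit 136) [] [] [] Cert.nil (Cert.rep (nat_lit 640) [] [] [] Cert.nil (Cert.rep (nat_lit 1032) [] [] [] Cert.nil Cert.nil))) Cert.nil)))) (Top.s2 (nat_lit 0) (nat_lit 1178) (Top.base (Cert.o1 (nat_lit 0)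 (nat_lit 1178) (Cert.fu (nat_lit 1178) (nat_lit 1) (nat_lit 0) (nat_lit 0) [nat_lit 0] [nat_lit 907,nat_lit 449] [] [] [] [nat_lit 1] [[nat_lit 1]] [[nat_lit 1178]] [Ins.ts (nat_lit 1) [nat_lit 0] [],Ins.fr [nat_lit 0],Ins.ts (nat_lit 0) [nat_lit 0,nat_lit 0,nat_lit 0,nat_lit 0] [],Ins.ts (nat_lit 1) [nat_lit 0,nat_lit 0] [],Ins.ts (nat_lit 4) [nat_lit 0,nat_lit 0] [nat_lit 0,nat_lit 0,nat_lit 1],Ins.ts (nat_lit 4) [nat_lit 0,nat_lit 0,nat_lit 1] [nat_lit 0,nat_lit 0,nat_lit 2],Ins.fr [nat_lit 1],Ins.ts (nat_lit 0) [nat_lit 0,nat_lit 1,nat_lit 0] [nat_lit 1],Ins.ts (nat_lit 1) [nat_lit 0,nat_lit 0] [],Ins.ts (nat_lit 1) [nat_lit 0,nat_lit 0,nat_lit 2] []] [(nat_lit 3,nat_lit 0),(nat_lit 2,nat_lit 0)] (Cert.rep (nat_lit 1) [nat_lit 2,nat_lit 4,nat_lit 8,nat_lit 16,nat_lit 32,nat_lit 64,nat_lit 128,nat_lit 256,nat_lit 512,nat_lit 1024] [nat_lit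 1024,nat_lit 512,nat_lit 256,nat_lit 128,nat_lit 64,nat_lit 32,nat_lit 16,nat_lit 8,nat_lit 4,nat_lit 2,nat_lit 1] [] (Cert.rep (nat_lit 136) [] [] [] Cert.nil (Cert.rep (nat_lit 640) [] [] [] Cert.nil (Cert.rep (nat_lit 1032) [] [] [] Cert.nil Cert.nil))) Cert.nil)))) (Top.s2 (nat_lit 0) (nat_lit 1179) (Top.base (Cert.o1 (nat_lit 0) (nat_lit 1179) (Cert.fu (nat_lit 1179) (nat_lit 1) (nat_lit 0) (nat_lit 0) [nat_lit 0] [nat_lit 907,nat_lit 449] [] [] [] [nat_lit 1] [[nat_lit 1]] [[nat_lit 1179]] [Ins.ts (nat_lit 1) [nat_lit 0] [],Ins.fr [nat_lit 0],Ins.ts (nat_lit 0) [nat_lit 0,nat_lit 0,nat_lit 0,nat_lit 0] [],Ins.ts (nat_lit 1) [nat_lit 0,nat_lit 0] [],Ins.ts (nat_lit 4) [nat_lit 0,nat_lit 0] [nat_lit 0,nat_lit 0,nat_lit 1],Ins.ts (nat_lit 4) [nat_lit 0,nat_lit 0,nat_lit 1] [nat_lit 0,nat_lit 0,nat_lit 2],Ins.fr [nat_lit 1],Ins.ts (nat_lit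 0) [nat_lit 0,nat_lit 1,nat_lit 0] [nat_lit 1],Ins.ts (nat_lit 1) [nat_lit 0,nat_lit 0] [],Ins.ts (nat_lit 1) [nat_lit 0,nat_lit 0,nat_lit 2] []] [(nat_lit 3,nat_lit 0),(nat_lit 2,nat_lit 0)] (Cert.rep (nat_lit 1) [nat_lit 2,nat_lit 4,nat_lit 8,nat_lit 16,nat_lit 32,nat_lit 64,nat_lit 128,nat_lit 256,nat_lit 512,nat_lit 1024] [nat_lit 1024,nat_lit 512,nat_lit 256,nat_lit 128,nat_lit 64,nat_lit 32,nat_lit 16,nat_lit 8,nat_lit 4,nat_lit 2,nat_lit 1] [] (Cert.rep (nat_lit 136) [] [] [] Cert.nil (Cert.rep (nat_lit 640) [] [] [] Cert.nil (Cert.rep (nat_lit 1032) [] [] [] Cert.nil Cert.nil))) Cert.nil)))) (Top.cut (nat_lit 2))))))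
theorem top102_3 : topOK DB PT 88 t88 102 t102 (nat_lit 0x300000c0300000c00c0000030c0000030c0000030c000003300000c0300000c0300000c0300000c00c0000030c0000030c0000030c000003300000c0300000c000000000000000000000c3000000c30000c0030000c0030000000000000000000000000000000000003003000030030000003300000033000000000000000000f0000000f0000000f00c0cf0f00303f0f00000f0f00000f00c0000030c0000030000000000000000f00000f0f00000f0f00000f0f0f0f0f0fcfc0303fc03fc03) s102 3 g102_3 = true := by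
  decide +kernel

end Cfsg.Agent.L3S.Dat
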