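import Mathlib
import Cfsg.Agent.L33.Core
import Cfsg.Agent.L3S.F0
import Cfsg.Agent.L3S.F1
import Cfsg.Agent.L3S.F2
import Cfsg.Agent.L3S.F3
import Cfsg.Agent.L3S.F4
import Cfsg.Agent.L3S.F5
import Cfsg.Agent.L3S.F6
import Cfsg.Agent.L3S.F7
import Cfsg.Agent.L3S.GA0
import Cfsg.Agent.L3S.GA1
import Cfsg.Agent.L3S.GA2
import Cfsg.Agent.L3S.GA3
import Cfsg.Agent.L3S.GA4
import Cfsg.Agent.L3S.GB0
import Cfsg.Agent.L3S.GB1

/-!
All labelled presentations give the conclusion.
-/

set_option autoImplicit false
set_option maxRecDepth 100000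

namespace Cfsg.Agent.L3S

open Cfsg.Agent.L33 Cfsg.Agent.L33.Dat Cfsg.Agent.L3S.Dat

variable {G : Type*} [Group G] [Finite G] {X : Subgroup G} {t : G} {lam : SL3 →* G} {g0 σ0 : ℕ → G}

theorem chain0 (hc : Ctx X t lam (env1 DB PT t34 (DB 34) 0 0 false) g0 σ0)
    (h0 : ∀ j < 0, Val (Out X t lam) PT t (DB j)) : ∀ j < 35, Val (Out X t lam) PT t (DB j) := by
  have h1 : ∀ j < 1, Val (Out X t lam) PT t (DB j) := val_succ ok0 (fun _ => fin_sound hc ok0 fin0) h0
  have h2 : ∀ j < 2, Val (Out X t lam) PT t (DB j) := val_succ ok1 (fun _ => fin_sound hc ok1 fin1) h1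
  have h3 : ∀ j < 3, Val (Out X t lam) PT t (DB j) := val_succ ok2 (fun _ => fin_sound hc ok2 fin2) h2
  have h4 : ∀ j < 4, Val (Out X t lam) PT t (DB j) := val_succ ok3 (fun _ => fin_sound hc ok3 fin3) h3
  have h5 : ∀ j < 5, Val (Out X t lam) PT t (DB j) := val_succ ok4 (fun _ => fin_sound hc ok4 fin4) h4
  have h6 : ∀ j < 6, Val (Out X t lam) PT t (DB j) := val_succ ok5 (fun _ => fin_sound hc ok5 fin5) h5
  have h7 : ∀ j < 7, Val (Out X t lam) PT t (DB j) := val_succ ok6 (fun _ => fin_sound hc ok6 fin6) h6
  have h8 : ∀ j < 8, Val (Out X t lam) PT t (DB j) := val_succ ok7 (fun _ => fin_sound hc ok7 fin7) h7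
  have h9 : ∀ j < 9, Val (Out X t lam) PT t (DB j) := val_succ ok8 (fun _ => fin_sound hc ok8 fin8) h8
  have h10 : ∀ j < 10, Val (Out X t lam) PT t (DB j) := val_succ ok9 (fun _ => fin_sound hc ok9 fin9) h9
  have h11 : ∀ j < 11, Val (Out X t lam) PT t (DB j) := val_succ ok10 (fun _ => fin_sound hc ok10 fin10) h10
  have h12 : ∀ j < 12, Val (Out X t lam) PT t (DB j) := val_succ ok11 (fun e => absurd e (by decide +kernel)) h11
  have h13 : ∀ j < 13, Val (Out X t lam) PT t (DB j) := val_succ ok12 (fun e => absurd e (by decide +kernel)) h12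
  have h14 : ∀ j < 14, Val (Out X t lam) PT t (DB j) := val_succ ok13 (fun _ => fin_sound hc ok13 fin13) h13
  have h15 : ∀ j < 15, Val (Out X t lam) PT t (DB j) := val_succ ok14 (fun _ => fin_sound hc ok14 fin14) h14
  have h16 : ∀ j < 16, Val (Out X t lam) PT t (DB j) := val_succ ok15 (fun _ => fin_sound hc ok15 fin15) h15
  have h17 : ∀ j < 17, Val (Out X t lam) PT t (DB j) := val_succ ok16 (fun _ => fin_sound hc ok16 fin16) h16
  have h18 : ∀ j < 18, Val (Out X t lam) PT t (DB j) := val_succ ok17 (fun _ => fin_sound hc ok17 fin17) h17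
  have h19 : ∀ j < 19, Val (Out X t lam) PT t (DB j) := val_succ ok18 (fun _ => fin_sound hc ok18 fin18) h18
  have h20 : ∀ j < 20, Val (Out X t lam) PT t (DB j) := val_succ ok19 (fun _ => fin_sound hc ok19 fin19) h19
  have h21 : ∀ j < 21, Val (Out X t lam) PT t (DB j) := val_succ ok20 (fun _ => fin_sound hc ok20 fin20) h20
  have h22 : ∀ j < 22, Val (Out X t lam) PT t (DB j) := val_succ ok21 (fun _ => fin_sound hc ok21 fin21) h21
  have h23 : ∀ j < 23, Val (Out X t lam) PT t (DB j) := val_succ ok22 (fun _ => fin_sound hc ok22 fin22) h22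
  have h24 : ∀ j < 24, Val (Out X t lam) PT t (DB j) := val_succ ok23 (fun _ => fin_sound hc ok23 fin23) h23
  have h25 : ∀ j < 25, Val (Out X t lam) PT t (DB j) := val_succ ok24 (fun _ => fin_sound hc ok24 fin24) h24
  have h26 : ∀ j < 26, Val (Out X t lam) PT t (DB j) := val_succ ok25 (fun _ => fin_sound hc ok25 fin25) h25
  have h27 : ∀ j < 27, Val (Out X t lam) PT t (DB j) := val_succ ok26 (fun _ => fin_sound hc ok26 fin26) h26
  have h28 : ∀ j < 28, Val (Out X t lam) PT t (DB j) := val_succ ok27 (fun _ => fin_sound hc ok27 fin27) h27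
  have h29 : ∀ j < 29, Val (Out X t lam) PT t (DB j) := val_succ ok28 (fun e => absurd e (by decide +kernel)) h28
  have h30 : ∀ j < 30, Val (Out X t lam) PT t (DB j) := val_succ ok29 (fun e => absurd e (by decide +kernel)) h29
  have h31 : ∀ j < 31, Val (Out X t lam) PT t (DB j) := val_succ ok30 (fun e => absurd e (by decide +kernel)) h30
  have h32 : ∀ j < 32, Val (Out X t lam) PT t (DB j) := val_succ ok31 (fun e => absurd e (by decide +kernel)) h31
  have h33 : ∀ j < 33, Val (Out X t lam) PT t (DB j) := val_succ ok32 (fun _ => fin_sound hc ok32 fin32) h32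
  have h34 : ∀ j < 34, Val (Out X t lam) PT t (DB j) := val_succ ok33 (fun e => absurd e (by decide +kernel)) h33
  have h35 : ∀ j < 35, Val (Out X t lam) PT t (DB j) := val_succ ok34 (fun _ => fin_sound hc ok34 fin34) h34
  exact h35

theorem chain1 (hc : Ctx X t lam (env1 DB PT t88 (DB 88) 0 0 false) g0 σ0)
    (h35 : ∀ j < 35, Val (Out X t lam) PT t (DB j)) : ∀ j < 258, Val (Out X t lam) PT t (DB j) := by
  have h36 : ∀ j < 36, Val (Out X t lam) PT t (DB j) := val_succ ok35 (fun _ => fin_sound hc ok35 fin35) h35
  have h37 : ∀ j < 37, Val (Out X t lam) PT t (DB j) := val_succ ok36 (fun _ => fin_sound hc ok36 fin36) h36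
  have h38 : ∀ j < 38, Val (Out X t lam) PT t (DB j) := val_succ ok37 (fun _ => fin_sound hc ok37 fin37) h37
  have h39 : ∀ j < 39, Val (Out X t lam) PT t (DB j) := val_succ ok38 (fun _ => fin_sound hc ok38 fin38) h38
  have h40 : ∀ j < 40, Val (Out X t lam) PT t (DB j) := val_succ ok39 (fun _ => fin_sound hc ok39 fin39) h39
  have h41 : ∀ j < 41, Val (Out X t lam) PT t (DB j) := val_succ ok40 (fun _ => fin_sound hc ok40 fin40) h40
  have h42 : ∀ j < 42, Val (Out X t lam) PT t (DB j) := val_succ ok41 (fun _ => fin_sound hc ok41 fin41) h41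
  have h43 : ∀ j < 43, Val (Out X t lam) PT t (DB j) := val_succ ok42 (fun _ => fin_sound hc ok42 fin42) h42
  have h44 : ∀ j < 44, Val (Out X t lam) PT t (DB j) := val_succ ok43 (fun _ => fin_sound hc ok43 fin43) h43
  have h45 : ∀ j < 45, Val (Out X t lam) PT t (DB j) := val_succ ok44 (fun _ => fin_sound hc ok44 fin44) h44
  have h46 : ∀ j < 46, Val (Out X t lam) PT t (DB j) := val_succ ok45 (fun _ => fin_sound hc ok45 fin45) h45
  have h47 : ∀ j < 47, Val (Out X t lam) PT t (DB j) := val_succ ok46 (fun _ => fin_sound hc ok46 fin46) h46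
  have h48 : ∀ j < 48, Val (Out X t lam) PT t (DB j) := val_succ ok47 (fun _ => fin_sound hc ok47 fin47) h47
  have h49 : ∀ j < 49, Val (Out X t lam) PT t (DB j) := val_succ ok48 (fun _ => fin_sound hc ok48 fin48) h48
  have h50 : ∀ j < 50, Val (Out X t lam) PT t (DB j) := val_succ ok49 (fun _ => fin_sound hc ok49 fin49) h49
  have h51 : ∀ j < 51, Val (Out X t lam) PT t (DB j) := val_succ ok50 (fun _ => fin_sound hc ok50 fin50) h50
  have h52 : ∀ j < 52, Val (Out X t lam) PT t (DB j) := val_succ ok51 (fun _ => fin_sound hc ok51 fin51) h51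
  have h53 : ∀ j < 53, Val (Out X t lam) PT t (DB j) := val_succ ok52 (fun _ => fin_sound hc ok52 fin52) h52
  have h54 : ∀ j < 54, Val (Out X t lam) PT t (DB j) := val_succ ok53 (fun _ => fin_sound hc ok53 fin53) h53
  have h55 : ∀ j < 55, Val (Out X t lam) PT t (DB j) := val_succ ok54 (fun _ => fin_sound hc ok54 fin54) h54
  have h56 : ∀ j < 56, Val (Out X t lam) PT t (DB j) := val_succ ok55 (fun e => absurd e (by decide +kernel)) h55
  have h57 : ∀ j < 57, Val (Out X t lam) PT t (DB j) := val_succ ok56 (fun e => absurd e (by decide +kernel)) h56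
  have h58 : ∀ j < 58, Val (Out X t lam) PT t (DB j) := val_succ ok57 (fun e => absurd e (by decide +kernel)) h57
  have h59 : ∀ j < 59, Val (Out X t lam) PT t (DB j) := val_succ ok58 (fun e => absurd e (by decide +kernel)) h58
  have h60 : ∀ j < 60, Val (Out X t lam) PT t (DB j) := val_succ ok59 (fun e => absurd e (by decide +kernel)) h59
  have h61 : ∀ j < 61, Val (Out X t lam) PT t (DB j) := val_succ ok60 (fun _ => fin_sound hc ok60 fin60) h60
  have h62 : ∀ j < 62, Val (Out X t lam) PT t (DB j) := val_succ ok61 (fun _ => fin_sound hc ok61 fin61) h61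
  have h63 : ∀ j < 63, Val (Out X t lam) PT t (DB j) := val_succ ok62 (fun _ => fin_sound hc ok62 fin62) h62
  have h64 : ∀ j < 64, Val (Out X t lam) PT t (DB j) := val_succ ok63 (fun _ => fin_sound hc ok63 fin63) h63
  have h65 : ∀ j < 65, Val (Out X t lam) PT t (DB j) := val_succ ok64 (fun _ => fin_sound hc ok64 fin64) h64
  have h66 : ∀ j < 66, Val (Out X t lam) PT t (DB j) := val_succ ok65 (fun _ => fin_sound hc ok65 fin65) h65
  have h67 : ∀ j < 67, Val (Out X t lam) PT t (DB j) := val_succ ok66 (fun _ => fin_sound hc ok66 fin66) h66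
  have h68 : ∀ j < 68, Val (Out X t lam) PT t (DB j) := val_succ ok67 (fun _ => fin_sound hc ok67 fin67) h67
  have h69 : ∀ j < 69, Val (Out X t lam) PT t (DB j) := val_succ ok68 (fun _ => fin_sound hc ok68 fin68) h68
  have h70 : ∀ j < 70, Val (Out X t lam) PT t (DB j) := val_succ ok69 (fun _ => fin_sound hc ok69 fin69) h69
  have h71 : ∀ j < 71, Val (Out X t lam) PT t (DB j) := val_succ ok70 (fun _ => fin_sound hc ok70 fin70) h70
  have h72 : ∀ j < 72, Val (Out X t lam) PT t (DB j) := val_succ ok71 (fun _ => fin_sound hc ok71 fin71) h71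
  have h73 : ∀ j < 73, Val (Out X t lam) PT t (DB j) := val_succ ok72 (fun _ => fin_sound hc ok72 fin72) h72
  have h74 : ∀ j < 74, Val (Out X t lam) PT t (DB j) := val_succ ok73 (fun _ => fin_sound hc ok73 fin73) h73
  have h75 : ∀ j < 75, Val (Out X t lam) PT t (DB j) := val_succ ok74 (fun _ => fin_sound hc ok74 fin74) h74
  have h76 : ∀ j < 76, Val (Out X t lam) PT t (DB j) := val_succ ok75 (fun _ => fin_sound hc ok75 fin75) h75
  have h77 : ∀ j < 77, Val (Out X t lam) PT t (DB j) := val_succ ok76 (fun _ => fin_sound hc ok76 fin76) h76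
  have h78 : ∀ j < 78, Val (Out X t lam) PT t (DB j) := val_succ ok77 (fun _ => fin_sound hc ok77 fin77) h77
  have h79 : ∀ j < 79, Val (Out X t lam) PT t (DB j) := val_succ ok78 (fun _ => fin_sound hc ok78 fin78) h78
  have h80 : ∀ j < 80, Val (Out X t lam) PT t (DB j) := val_succ ok79 (fun e => absurd e (by decide +kernel)) h79
  have h81 : ∀ j < 81, Val (Out X t lam) PT t (DB j) := val_succ ok80 (fun e => absurd e (by decide +kernel)) h80
  have h82 : ∀ j < 82, Val (Out X t lam) PT t (DB j) := val_succ ok81 (fun e => absurd e (by decide +kernel)) h81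
  have h83 : ∀ j < 83, Val (Out X t lam) PT t (DB j) := val_succ ok82 (fun e => absurd e (by decide +kernel)) h82
  have h84 : ∀ j < 84, Val (Out X t lam) PT t (DB j) := val_succ ok83 (fun e => absurd e (by decide +kernel)) h83
  have h85 : ∀ j < 85, Val (Out X t lam) PT t (DB j) := val_succ ok84 (fun e => absurd e (by decide +kernel)) h84
  have h86 : ∀ j < 86, Val (Out X t lam) PT t (DB j) := val_succ ok85 (fun e => absurd e (by decide +kernel)) h85
  have h87 : ∀ j < 87, Val (Out X t lam) PT t (DB j) := val_succ ok86 (fun _ => fin_sound hc ok86 fin86) h86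
  have h88 : ∀ j < 88, Val (Out X t lam) PT t (DB j) := val_succ ok87 (fun e => absurd e (by decide +kernel)) h87
  have h89 : ∀ j < 89, Val (Out X t lam) PT t (DB j) := val_succ ok88 (fun _ => fin_sound hc ok88 fin88) h88
  have h90 : ∀ j < 90, Val (Out X t lam) PT t (DB j) := val_succ ok89 (fun _ => fin_sound hc ok89 fin89) h89
  have h91 : ∀ j < 91, Val (Out X t lam) PT t (DB j) := val_succ ok90 (fun e => absurd e (by decide +kernel)) h90
  have h92 : ∀ j < 92, Val (Out X t lam) PT t (DB j) := val_succ ok91 (fun _ => fin_sound hc ok91 fin91) h91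
  have h93 : ∀ j < 93, Val (Out X t lam) PT t (DB j) := val_succ ok92 (fun _ => fin_sound hc ok92 fin92) h92
  have h94 : ∀ j < 94, Val (Out X t lam) PT t (DB j) := val_succ ok93 (fun _ => fin_sound hc ok93 fin93) h93
  have h95 : ∀ j < 95, Val (Out X t lam) PT t (DB j) := val_succ ok94 (fun _ => fin_sound hc ok94 fin94) h94
  have h96 : ∀ j < 96, Val (Out X t lam) PT t (DB j) := val_succ ok95 (fun _ => fin_sound hc ok95 fin95) h95
  have h97 : ∀ j < 97, Val (Out X t lam) PT t (DB j) := val_succ ok96 (fun _ => fin_sound hc ok96 fin96) h96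
  have h98 : ∀ j < 98, Val (Out X t lam) PT t (DB j) := val_succ ok97 (fun _ => fin_sound hc ok97 fin97) h97
  have h99 : ∀ j < 99, Val (Out X t lam) PT t (DB j) := val_succ ok98 (fun _ => fin_sound hc ok98 fin98) h98
  have h100 : ∀ j < 100, Val (Out X t lam) PT t (DB j) := val_succ ok99 (fun _ => fin_sound hc ok99 fin99) h99
  have h101 : ∀ j < 101, Val (Out X t lam) PT t (DB j) := val_succ ok100 (fun _ => top_sound ok100 lnk100 (gds_succ hc top100_10 (gds_succ hc top100_9 (gds_succ hc top100_8 (gds_succ hc top100_7 (gds_succ hc top100_6 (gds_succ hc top100_5 (gds_succ hc top100_4 (gds_succ hc top100_3 (gds_succ hc top100_2 (gds_succ hc top100_1 (gds_succ hc top100_0 gds_zero)))))))))))) h100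
  have h102 : ∀ j < 102, Val (Out X t lam) PT t (DB j) := val_succ ok101 (fun _ => fin_sound hc ok101 fin101) h101
  have h103 : ∀ j < 103, Val (Out X t lam) PT t (DB j) := val_succ ok102 (fun _ => top_sound ok102 lnk102 (gds_succ hc top102_4 (gds_succ hc top102_3 (gds_succ hc top102_2 (gds_succ hc top102_1 (gds_succ hc top102_0 gds_zero)))))) h102
  have h104 : ∀ j < 104, Val (Out X t lam) PT t (DB j) := val_succ ok103 (fun _ => fin_sound hc ok103 fin103) h103
  have h105 : ∀ j < 105, Val (Out X t lam) PT t (DB j) := val_succ ok104 (fun _ => fin_sound hc ok104 fin104) h104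
  have h106 : ∀ j < 106, Val (Out X t lam) PT t (DB j) := val_succ ok105 (fun _ => fin_sound hc ok105 fin105) h105
  have h107 : ∀ j < 107, Val (Out X t lam) PT t (DB j) := val_succ ok106 (fun _ => fin_sound hc ok106 fin106) h106
  have h108 : ∀ j < 108, Val (Out X t lam) PT t (DB j) := val_succ ok107 (fun _ => fin_sound hc ok107 fin107) h107
  have h109 : ∀ j < 109, Val (Out X t lam) PT t (DB j) := val_succ ok108 (fun e => absurd e (by decide +kernel)) h108
  have h110 : ∀ j < 110, Val (Out X t lam) PT t (DB j) := val_succ ok109 (fun e => absurd e (by decide +kernel)) h109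
  have h111 : ∀ j < 111, Val (Out X t lam) PT t (DB j) := val_succ ok110 (fun e => absurd e (by decide +kernel)) h110
  have h112 : ∀ j < 112, Val (Out X t lam) PT t (DB j) := val_succ ok111 (fun e => absurd e (by decide +kernel)) h111
  have h113 : ∀ j < 113, Val (Out X t lam) PT t (DB j) := val_succ ok112 (fun e => absurd e (by decide +kernel)) h112
  have h114 : ∀ j < 114, Val (Out X t lam) PT t (DB j) := val_succ ok113 (fun e => absurd e (by decide +kernel)) h113
  have h115 : ∀ j < 115, Val (Out X t lam) PT t (DB j) := val_succ ok114 (fun e => absurd e (by decide +kernel)) h114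
  have h116 : ∀ j < 116, Val (Out X t lam) PT t (DB j) := val_succ ok115 (fun _ => fin_sound hc ok115 fin115) h115
  have h117 : ∀ j < 117, Val (Out X t lam) PT t (DB j) := val_succ ok116 (fun _ => fin_sound hc ok116 fin116) h116
  have h118 : ∀ j < 118, Val (Out X t lam) PT t (DB j) := val_succ ok117 (fun _ => fin_sound hc ok117 fin117) h117
  have h119 : ∀ j < 119, Val (Out X t lam) PT t (DB j) := val_succ ok118 (fun _ => fin_sound hc ok118 fin118) h118
  have h120 : ∀ j < 120, Val (Out X t lam) PT t (DB j) := val_succ ok119 (fun _ => fin_sound hc ok119 fin119) h119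
  have h121 : ∀ j < 121, Val (Out X t lam) PT t (DB j) := val_succ ok120 (fun e => absurd e (by decide +kernel)) h120
  have h122 : ∀ j < 122, Val (Out X t lam) PT t (DB j) := val_succ ok121 (fun e => absurd e (by decide +kernel)) h121
  have h123 : ∀ j < 123, Val (Out X t lam) PT t (DB j) := val_succ ok122 (fun e => absurd e (by decide +kernel)) h122
  have h124 : ∀ j < 124, Val (Out X t lam) PT t (DB j) := val_succ ok123 (fun e => absurd e (by decide +kernel)) h123
  have h125 : ∀ j < 125, Val (Out X t lam) PT t (DB j) := val_succ ok124 (fun e => absurd e (by decide +kernel)) h124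
  have h126 : ∀ j < 126, Val (Out X t lam) PT t (DB j) := val_succ ok125 (fun _ => fin_sound hc ok125 fin125) h125
  have h127 : ∀ j < 127, Val (Out X t lam) PT t (DB j) := val_succ ok126 (fun _ => fin_sound hc ok126 fin126) h126
  have h128 : ∀ j < 128, Val (Out X t lam) PT t (DB j) := val_succ ok127 (fun _ => fin_sound hc ok127 fin127) h127
  have h129 : ∀ j < 129, Val (Out X t lam) PT t (DB j) := val_succ ok128 (fun _ => fin_sound hc ok128 fin128) h128
  have h130 : ∀ j < 130, Val (Out X t lam) PT t (DB j) := val_succ ok129 (fun _ => fin_sound hc ok129 fin129) h129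
  have h131 : ∀ j < 131, Val (Out X t lam) PT t (DB j) := val_succ ok130 (fun _ => fin_sound hc ok130 fin130) h130
  have h132 : ∀ j < 132, Val (Out X t lam) PT t (DB j) := val_succ ok131 (fun _ => fin_sound hc ok131 fin131) h131
  have h133 : ∀ j < 133, Val (Out X t lam) PT t (DB j) := val_succ ok132 (fun _ => fin_sound hc ok132 fin132) h132
  have h134 : ∀ j < 134, Val (Out X t lam) PT t (DB j) := val_succ ok133 (fun _ => fin_sound hc ok133 fin133) h133
  have h135 : ∀ j < 135, Val (Out X t lam) PT t (DB j) := val_succ ok134 (fun _ => fin_sound hc ok134 fin134) h134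
  have h136 : ∀ j < 136, Val (Out X t lam) PT t (DB j) := val_succ ok135 (fun _ => fin_sound hc ok135 fin135) h135
  have h137 : ∀ j < 137, Val (Out X t lam) PT t (DB j) := val_succ ok136 (fun _ => fin_sound hc ok136 fin136) h136
  have h138 : ∀ j < 138, Val (Out X t lam) PT t (DB j) := val_succ ok137 (fun _ => fin_sound hc ok137 fin137) h137
  have h139 : ∀ j < 139, Val (Out X t lam) PT t (DB j) := val_succ ok138 (fun _ => fin_sound hc ok138 fin138) h138
  have h140 : ∀ j < 140, Val (Out X t lam) PT t (DB j) := val_succ ok139 (fun _ => fin_sound hc ok139 fin139) h139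
  have h141 : ∀ j < 141, Val (Out X t lam) PT t (DB j) := val_succ ok140 (fun _ => fin_sound hc ok140 fin140) h140
  have h142 : ∀ j < 142, Val (Out X t lam) PT t (DB j) := val_succ ok141 (fun _ => fin_sound hc ok141 fin141) h141
  have h143 : ∀ j < 143, Val (Out X t lam) PT t (DB j) := val_succ ok142 (fun e => absurd e (by decide +kernel)) h142
  have h144 : ∀ j < 144, Val (Out X t lam) PT t (DB j) := val_succ ok143 (fun e => absurd e (by decide +kernel)) h143
  have h145 : ∀ j < 145, Val (Out X t lam) PT t (DB j) := val_succ ok144 (fun e => absurd e (by decide +kernel)) h144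
  have h146 : ∀ j < 146, Val (Out X t lam) PT t (DB j) := val_succ ok145 (fun e => absurd e (by decide +kernel)) h145
  have h147 : ∀ j < 147, Val (Out X t lam) PT t (DB j) := val_succ ok146 (fun e => absurd e (by decide +kernel)) h146
  have h148 : ∀ j < 148, Val (Out X t lam) PT t (DB j) := val_succ ok147 (fun _ => fin_sound hc ok147 fin147) h147
  have h149 : ∀ j < 149, Val (Out X t lam) PT t (DB j) := val_succ ok148 (fun _ => fin_sound hc ok148 fin148) h148
  have h150 : ∀ j < 150, Val (Out X t lam) PT t (DB j) := val_succ ok149 (fun _ => fin_sound hc ok149 fin149) h149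
  have h151 : ∀ j < 151, Val (Out X t lam) PT t (DB j) := val_succ ok150 (fun _ => fin_sound hc ok150 fin150) h150
  have h152 : ∀ j < 152, Val (Out X t lam) PT t (DB j) := val_succ ok151 (fun _ => fin_sound hc ok151 fin151) h151
  have h153 : ∀ j < 153, Val (Out X t lam) PT t (DB j) := val_succ ok152 (fun e => absurd e (by decide +kernel)) h152
  have h154 : ∀ j < 154, Val (Out X t lam) PT t (DB j) := val_succ ok153 (fun e => absurd e (by decide +kernel)) h153
  have h155 : ∀ j < 155, Val (Out X t lam) PT t (DB j) := val_succ ok154 (fun e => absurd e (by decide +kernel)) h154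
  have h156 : ∀ j < 156, Val (Out X t lam) PT t (DB j) := val_succ ok155 (fun e => absurd e (by decide +kernel)) h155
  have h157 : ∀ j < 157, Val (Out X t lam) PT t (DB j) := val_succ ok156 (fun e => absurd e (by decide +kernel)) h156
  have h158 : ∀ j < 158, Val (Out X t lam) PT t (DB j) := val_succ ok157 (fun e => absurd e (by decide +kernel)) h157
  have h159 : ∀ j < 159, Val (Out X t lam) PT t (DB j) := val_succ ok158 (fun e => absurd e (by decide +kernel)) h158
  have h160 : ∀ j < 160, Val (Out X t lam) PT t (DB j) := val_succ ok159 (fun e => absurd e (by decide +kernel)) h159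
  have h161 : ∀ j < 161, Val (Out X t lam) PT t (DB j) := val_succ ok160 (fun e => absurd e (by decide +kernel)) h160
  have h162 : ∀ j < 162, Val (Out X t lam) PT t (DB j) := val_succ ok161 (fun e => absurd e (by decide +kernel)) h161
  have h163 : ∀ j < 163, Val (Out X t lam) PT t (DB j) := val_succ ok162 (fun e => absurd e (by decide +kernel)) h162
  have h164 : ∀ j < 164, Val (Out X t lam) PT t (DB j) := val_succ ok163 (fun e => absurd e (by decide +kernel)) h163
  have h165 : ∀ j < 165, Val (Out X t lam) PT t (DB j) := val_succ ok164 (fun e => absurd e (by decide +kernel)) h164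
  have h166 : ∀ j < 166, Val (Out X t lam) PT t (DB j) := val_succ ok165 (fun e => absurd e (by decide +kernel)) h165
  have h167 : ∀ j < 167, Val (Out X t lam) PT t (DB j) := val_succ ok166 (fun e => absurd e (by decide +kernel)) h166
  have h168 : ∀ j < 168, Val (Out X t lam) PT t (DB j) := val_succ ok167 (fun e => absurd e (by decide +kernel)) h167
  have h169 : ∀ j < 169, Val (Out X t lam) PT t (DB j) := val_succ ok168 (fun e => absurd e (by decide +kernel)) h168
  have h170 : ∀ j < 170, Val (Out X t lam) PT t (DB j) := val_succ ok169 (fun e => absurd e (by decide +kernel)) h169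
  have h171 : ∀ j < 171, Val (Out X t lam) PT t (DB j) := val_succ ok170 (fun e => absurd e (by decide +kernel)) h170
  have h172 : ∀ j < 172, Val (Out X t lam) PT t (DB j) := val_succ ok171 (fun e => absurd e (by decide +kernel)) h171
  have h173 : ∀ j < 173, Val (Out X t lam) PT t (DB j) := val_succ ok172 (fun e => absurd e (by decide +kernel)) h172
  have h174 : ∀ j < 174, Val (Out X t lam) PT t (DB j) := val_succ ok173 (fun e => absurd e (by decide +kernel)) h173
  have h175 : ∀ j < 175, Val (Out X t lam) PT t (DB j) := val_succ ok174 (fun e => absurd e (by decide +kernel)) h174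
  have h176 : ∀ j < 176, Val (Out X t lam) PT t (DB j) := val_succ ok175 (fun e => absurd e (by decide +kernel)) h175
  have h177 : ∀ j < 177, Val (Out X t lam) PT t (DB j) := val_succ ok176 (fun e => absurd e (by decide +kernel)) h176
  have h178 : ∀ j < 178, Val (Out X t lam) PT t (DB j) := val_succ ok177 (fun e => absurd e (by decide +kernel)) h177
  have h179 : ∀ j < 179, Val (Out X t lam) PT t (DB j) := val_succ ok178 (fun e => absurd e (by decide +kernel)) h178
  have h180 : ∀ j < 180, Val (Out X t lam) PT t (DB j) := val_succ ok179 (fun e => absurd e (by decide +kernel)) h179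
  have h181 : ∀ j < 181, Val (Out X t lam) PT t (DB j) := val_succ ok180 (fun e => absurd e (by decide +kernel)) h180
  have h182 : ∀ j < 182, Val (Out X t lam) PT t (DB j) := val_succ ok181 (fun e => absurd e (by decide +kernel)) h181
  have h183 : ∀ j < 183, Val (Out X t lam) PT t (DB j) := val_succ ok182 (fun e => absurd e (by decide +kernel)) h182
  have h184 : ∀ j < 184, Val (Out X t lam) PT t (DB j) := val_succ ok183 (fun e => absurd e (by decide +kernel)) h183
  have h185 : ∀ j < 185, Val (Out X t lam) PT t (DB j) := val_succ ok184 (fun e => absurd e (by decide +kernel)) h184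
  have h186 : ∀ j < 186, Val (Out X t lam) PT t (DB j) := val_succ ok185 (fun e => absurd e (by decide +kernel)) h185
  have h187 : ∀ j < 187, Val (Out X t lam) PT t (DB j) := val_succ ok186 (fun e => absurd e (by decide +kernel)) h186
  have h188 : ∀ j < 188, Val (Out X t lam) PT t (DB j) := val_succ ok187 (fun e => absurd e (by decide +kernel)) h187
  have h189 : ∀ j < 189, Val (Out X t lam) PT t (DB j) := val_succ ok188 (fun e => absurd e (by decide +kernel)) h188
  have h190 : ∀ j < 190, Val (Out X t lam) PT t (DB j) := val_succ ok189 (fun _ => fin_sound hc ok189 fin189) h189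
  have h191 : ∀ j < 191, Val (Out X t lam) PT t (DB j) := val_succ ok190 (fun e => absurd e (by decide +kernel)) h190
  have h192 : ∀ j < 192, Val (Out X t lam) PT t (DB j) := val_succ ok191 (fun e => absurd e (by decide +kernel)) h191
  have h193 : ∀ j < 193, Val (Out X t lam) PT t (DB j) := val_succ ok192 (fun e => absurd e (by decide +kernel)) h192
  have h194 : ∀ j < 194, Val (Out X t lam) PT t (DB j) := val_succ ok193 (fun e => absurd e (by decide +kernel)) h193
  have h195 : ∀ j < 195, Val (Out X t lam) PT t (DB j) := val_succ ok194 (fun e => absurd e (by decide +kernel)) h194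
  have h196 : ∀ j < 196, Val (Out X t lam) PT t (DB j) := val_succ ok195 (fun e => absurd e (by decide +kernel)) h195
  have h197 : ∀ j < 197, Val (Out X t lam) PT t (DB j) := val_succ ok196 (fun e => absurd e (by decide +kernel)) h196
  have h198 : ∀ j < 198, Val (Out X t lam) PT t (DB j) := val_succ ok197 (fun e => absurd e (by decide +kernel)) h197
  have h199 : ∀ j < 199, Val (Out X t lam) PT t (DB j) := val_succ ok198 (fun _ => fin_sound hc ok198 fin198) h198
  have h200 : ∀ j < 200, Val (Out X t lam) PT t (DB j) := val_succ ok199 (fun e => absurd e (by decide +kernel)) h199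
  have h201 : ∀ j < 201, Val (Out X t lam) PT t (DB j) := val_succ ok200 (fun e => absurd e (by decide +kernel)) h200
  have h202 : ∀ j < 202, Val (Out X t lam) PT t (DB j) := val_succ ok201 (fun e => absurd e (by decide +kernel)) h201
  have h203 : ∀ j < 203, Val (Out X t lam) PT t (DB j) := val_succ ok202 (fun e => absurd e (by decide +kernel)) h202
  have h204 : ∀ j < 204, Val (Out X t lam) PT t (DB j) := val_succ ok203 (fun e => absurd e (by decide +kernel)) h203
  have h205 : ∀ j < 205, Val (Out X t lam) PT t (DB j) := val_succ ok204 (fun _ => fin_sound hc ok204 fin204) h204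
  have h206 : ∀ j < 206, Val (Out X t lam) PT t (DB j) := val_succ ok205 (fun e => absurd e (by decide +kernel)) h205
  have h207 : ∀ j < 207, Val (Out X t lam) PT t (DB j) := val_succ ok206 (fun e => absurd e (by decide +kernel)) h206
  have h208 : ∀ j < 208, Val (Out X t lam) PT t (DB j) := val_succ ok207 (fun e => absurd e (by decide +kernel)) h207
  have h209 : ∀ j < 209, Val (Out X t lam) PT t (DB j) := val_succ ok208 (fun e => absurd e (by decide +kernel)) h208
  have h210 : ∀ j < 210, Val (Out X t lam) PT t (DB j) := val_succ ok209 (fun e => absurd e (by decide +kernel)) h209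
  have h211 : ∀ j < 211, Val (Out X t lam) PT t (DB j) := val_succ ok210 (fun e => absurd e (by decide +kernel)) h210
  have h212 : ∀ j < 212, Val (Out X t lam) PT t (DB j) := val_succ ok211 (fun e => absurd e (by decide +kernel)) h211
  have h213 : ∀ j < 213, Val (Out X t lam) PT t (DB j) := val_succ ok212 (fun e => absurd e (by decide +kernel)) h212
  have h214 : ∀ j < 214, Val (Out X t lam) PT t (DB j) := val_succ ok213 (fun _ => fin_sound hc ok213 fin213) h213
  have h215 : ∀ j < 215, Val (Out X t lam) PT t (DB j) := val_succ ok214 (fun e => absurd e (by decide +kernel)) h214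
  have h216 : ∀ j < 216, Val (Out X t lam) PT t (DB j) := val_succ ok215 (fun e => absurd e (by decide +kernel)) h215
  have h217 : ∀ j < 217, Val (Out X t lam) PT t (DB j) := val_succ ok216 (fun e => absurd e (by decide +kernel)) h216
  have h218 : ∀ j < 218, Val (Out X t lam) PT t (DB j) := val_succ ok217 (fun e => absurd e (by decide +kernel)) h217
  have h219 : ∀ j < 219, Val (Out X t lam) PT t (DB j) := val_succ ok218 (fun e => absurd e (by decide +kernel)) h218
  have h220 : ∀ j < 220, Val (Out X t lam) PT t (DB j) := val_succ ok219 (fun e => absurd e (by decide +kernel)) h219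
  have h221 : ∀ j < 221, Val (Out X t lam) PT t (DB j) := val_succ ok220 (fun e => absurd e (by decide +kernel)) h220
  have h222 : ∀ j < 222, Val (Out X t lam) PT t (DB j) := val_succ ok221 (fun e => absurd e (by decide +kernel)) h221
  have h223 : ∀ j < 223, Val (Out X t lam) PT t (DB j) := val_succ ok222 (fun e => absurd e (by decide +kernel)) h222
  have h224 : ∀ j < 224, Val (Out X t lam) PT t (DB j) := val_succ ok223 (fun e => absurd e (by decide +kernel)) h223
  have h225 : ∀ j < 225, Val (Out X t lam) PT t (DB j) := val_succ ok224 (fun e => absurd e (by decide +kernel)) h224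
  have h226 : ∀ j < 226, Val (Out X t lam) PT t (DB j) := val_succ ok225 (fun e => absurd e (by decide +kernel)) h225
  have h227 : ∀ j < 227, Val (Out X t lam) PT t (DB j) := val_succ ok226 (fun e => absurd e (by decide +kernel)) h226
  have h228 : ∀ j < 228, Val (Out X t lam) PT t (DB j) := val_succ ok227 (fun e => absurd e (by decide +kernel)) h227
  have h229 : ∀ j < 229, Val (Out X t lam) PT t (DB j) := val_succ ok228 (fun e => absurd e (by decide +kernel)) h228
  have h230 : ∀ j < 230, Val (Out X t lam) PT t (DB j) := val_succ ok229 (fun e => absurd e (by decide +kernel)) h229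
  have h231 : ∀ j < 231, Val (Out X t lam) PT t (DB j) := val_succ ok230 (fun e => absurd e (by decide +kernel)) h230
  have h232 : ∀ j < 232, Val (Out X t lam) PT t (DB j) := val_succ ok231 (fun e => absurd e (by decide +kernel)) h231
  have h233 : ∀ j < 233, Val (Out X t lam) PT t (DB j) := val_succ ok232 (fun e => absurd e (by decide +kernel)) h232
  have h234 : ∀ j < 234, Val (Out X t lam) PT t (DB j) := val_succ ok233 (fun e => absurd e (by decide +kernel)) h233
  have h235 : ∀ j < 235, Val (Out X t lam) PT t (DB j) := val_succ ok234 (fun e => absurd e (by decide +kernel)) h234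
  have h236 : ∀ j < 236, Val (Out X t lam) PT t (DB j) := val_succ ok235 (fun e => absurd e (by decide +kernel)) h235
  have h237 : ∀ j < 237, Val (Out X t lam) PT t (DB j) := val_succ ok236 (fun e => absurd e (by decide +kernel)) h236
  have h238 : ∀ j < 238, Val (Out X t lam) PT t (DB j) := val_succ ok237 (fun e => absurd e (by decide +kernel)) h237
  have h239 : ∀ j < 239, Val (Out X t lam) PT t (DB j) := val_succ ok238 (fun e => absurd e (by decide +kernel)) h238
  have h240 : ∀ j < 240, Val (Out X t lam) PT t (DB j) := val_succ ok239 (fun e => absurd e (by decide +kernel)) h239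
  have h241 : ∀ j < 241, Val (Out X t lam) PT t (DB j) := val_succ ok240 (fun e => absurd e (by decide +kernel)) h240
  have h242 : ∀ j < 242, Val (Out X t lam) PT t (DB j) := val_succ ok241 (fun e => absurd e (by decide +kernel)) h241
  have h243 : ∀ j < 243, Val (Out X t lam) PT t (DB j) := val_succ ok242 (fun e => absurd e (by decide +kernel)) h242
  have h244 : ∀ j < 244, Val (Out X t lam) PT t (DB j) := val_succ ok243 (fun e => absurd e (by decide +kernel)) h243
  have h245 : ∀ j < 245, Val (Out X t lam) PT t (DB j) := val_succ ok244 (fun e => absurd e (by decide +kernel)) h244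
  have h246 : ∀ j < 246, Val (Out X t lam) PT t (DB j) := val_succ ok245 (fun e => absurd e (by decide +kernel)) h245
  have h247 : ∀ j < 247, Val (Out X t lam) PT t (DB j) := val_succ ok246 (fun e => absurd e (by decide +kernel)) h246
  have h248 : ∀ j < 248, Val (Out X t lam) PT t (DB j) := val_succ ok247 (fun e => absurd e (by decide +kernel)) h247
  have h249 : ∀ j < 249, Val (Out X t lam) PT t (DB j) := val_succ ok248 (fun e => absurd e (by decide +kernel)) h248
  have h250 : ∀ j < 250, Val (Out X t lam) PT t (DB j) := val_succ ok249 (fun e => absurd e (by decide +kernel)) h249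
  have h251 : ∀ j < 251, Val (Out X t lam) PT t (DB j) := val_succ ok250 (fun e => absurd e (by decide +kernel)) h250
  have h252 : ∀ j < 252, Val (Out X t lam) PT t (DB j) := val_succ ok251 (fun e => absurd e (by decide +kernel)) h251
  have h253 : ∀ j < 253, Val (Out X t lam) PT t (DB j) := val_succ ok252 (fun _ => fin_sound hc ok252 fin252) h252
  have h254 : ∀ j < 254, Val (Out X t lam) PT t (DB j) := val_succ ok253 (fun _ => fin_sound hc ok253 fin253) h253
  have h255 : ∀ j < 255, Val (Out X t lam) PT t (DB j) := val_succ ok254 (fun e => absurd e (by decide +kernel)) h254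
  have h256 : ∀ j < 256, Val (Out X t lam) PT t (DB j) := val_succ ok255 (fun _ => fin_sound hc ok255 fin255) h255
  have h257 : ∀ j < 257, Val (Out X t lam) PT t (DB j) := val_succ ok256 (fun e => absurd e (by decide +kernel)) h256
  have h258 : ∀ j < 258, Val (Out X t lam) PT t (DB j) := val_succ ok257 (fun _ => fin_sound hc ok257 fin257) h257
  exact h258

end Cfsg.Agent.L3S
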