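import Mathlib
import Cfsg.Agent.L3S.Defs2
import Cfsg.Agent.S1347
import Cfsg.Agent.GT.FourGroup

/-! The trichotomy for a standard subgroup of a group without odd core. -/

set_option autoImplicit false
set_option linter.unusedSectionVars false

namespace Cfsg.Agent.L3S.Red0

open Cfsg Cfsg.Agent.Loc.Mss Subgroup

variable {G : Type*} [Group G]

theorem sq_of {t : G} (h : orderOf t = 2) : t * t = 1 := by rw [← pow_two, ← h, pow_orderOf_eq_one]

theorem sup_equiv_prod {M L : Subgroup G}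
    (hc : L ≤ centralizer (M : Set G)) (hi : M ⊓ L = ⊥) : Nonempty (↥(M ⊔ L) ≃* M × L) := by
  let f : M × L →* G := M.subtype.noncommCoprod L.subtype fun m l => hc l.2 m m.2
  have hf : Function.Injective f := (injective_iff_map_eq_one f).2 fun ⟨m, l⟩ h => by
    have h1 : (m : G) * l = 1 := h
    have h3 : (m : G) ∈ L := by rw [eq_inv_of_mul_eq_one_left h1]; exact inv_mem l.2
    have h2 : (m : G) = 1 := mem_bot.1 (hi ▸ mem_inf.2 ⟨m.2, h3⟩)
    rw [h2, one_mul] at h1
    exact Prod.ext (Subtype.ext h2) (Subtype.ext h1)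
  have hr : f.range = M ⊔ L :=
    (MonoidHom.noncommCoprod_range _ _ _).trans (by rw [range_subtype, range_subtype])
  exact ⟨((MonoidHom.ofInjective hf).trans (MulEquiv.subgroupCongr hr)).symm⟩

theorem simple_cases {X N : Subgroup G} (hs : IsSimpleGroup X) (h : X ≤ normalizer (N : Set G)) :
    (∀ a ∈ X, a ∈ N → a = 1) ∨ X ≤ N :=
  (normal_subgroupOf_of_le_normalizer h).eq_bot_or_eq_top.imp
    (fun e a ha k => congrArg Subtype.val (mem_bot.1 (e.le (show (⟨a, ha⟩ : X) ∈ N.subgroupOf X from k))))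
    subgroupOf_eq_top.1

theorem comm_of_com {a b : G} (h : a * b * a⁻¹ * b⁻¹ = 1) : a * b = b * a := by
  rw [mul_inv_eq_one, mul_inv_eq_iff_eq_mul] at h
  exact h

theorem mulComm_of {X : Subgroup G} (h : ∀ a ∈ X, ∀ b ∈ X, a * b = b * a) : IsMulCommutative X :=
  ⟨⟨fun a b => Subtype.ext (h a a.2 b b.2)⟩⟩

variable [Finite G]

/-- The second case of the trichotomy for standard subgroups. -/
theorem diag {A X : Subgroup G} (hA : Cfsg.IsStandardSubgroup A) {t : G} (ht : orderOf t = 2)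
    (hs : IsSimpleGroup X) (hn : ¬ IsMulCommutative X) (hc : ∀ a ∈ X, ∀ b ∈ cj(t, X), a * b = b * a)
    (hd : X ⊓ cj(t, X) = ⊥) (hE : X ⊔ cj(t, X) = Cfsg.layer G) (hC : centralizer (A : Set G) = zpowers t) :
    (∀ a ∈ A, ∃ k ∈ X, k * (t * k * t) = a) ∧ (∀ k ∈ X, k * (t * k * t) ∈ A) ∧
      ∀ N : Subgroup G, N.Normal → A ≤ N → Cfsg.layer G ≤ N := by
  have tt := sq_of ht
  have ti := inv_eq_of_mul_eq_one_right tt
  have h0 : ∀ k ∈ X, t * k * t ∈ cj(t, X) := fun k hk => by simpa only [ti] using conj_mem_cj (g := t) hk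
  have h1 : ∀ a ∈ X, ∀ b ∈ X, a * (t * b * t) = t * b * t * a := fun a ha b hb => hc a ha _ (h0 b hb)
  have h2 : ∀ a ∈ X, ∀ b ∈ X, a = t * b * t → a = 1 := fun a ha b hb e =>
    mem_bot.1 (hd ▸ (⟨ha, e ▸ h0 b hb⟩ : a ∈ X ⊓ cj(t, X)))
  let φ : X →* G := MonoidHom.mk' (fun k => k * (t * k * t)) fun a b => by
    calc _ = a * (b * (t * a * t)) * (t * b * t) := by
          simp only [coe_mul, mul_assoc]
          rw [← mul_assoc t t, tt, one_mul]
      _ = _ := by rw [h1 b b.2 a a.2]; simp only [mul_assoc]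
  have hφ : Function.Injective φ := (injective_iff_map_eq_one φ).2 fun k e => Subtype.ext (h2 k k.2 _ (inv_mem k.2) (by
    refine (eq_inv_of_mul_eq_one_left e).trans ?_
    rw [mul_inv_rev, mul_inv_rev, ti, mul_assoc]))
  have hN := GT.layer_normal (G := G)
  have hD : ∀ y, y ∈ φ.range ↔ y ∈ Cfsg.layer G ∧ y * t = t * y := fun y => by
    constructor
    · rintro ⟨k, rfl⟩
      refine ⟨hE ▸ mul_mem (mem_sup_left k.2) (mem_sup_right (h0 k k.2)), ?_⟩
      change k * (t * k * t) * t = t * (k * (t * k * t))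
      conv_rhs => rw [h1 k k.2 k k.2]
      simp only [mul_assoc, ← mul_assoc t t, tt, one_mul, mul_one]
    · rintro ⟨k1, k2⟩
      obtain ⟨a, ha, c, hc', rfl⟩ := (mem_sup_norm ((cent_comm fun a ha => mem_cent.2 fun b hb => (hc a ha b hb).symm).trans
        (cent_le_norm X))).1 (hE ▸ k1)
      have hb := mem_cj.1 hc'
      rw [ti] at hb
      have e : c = t * (t * c * t) * t := by simp only [mul_assoc, ← mul_assoc t t, tt, one_mul, mul_one]
      generalize t * c * t = b at hb e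
      subst e
      have e1 : b⁻¹ * a = t * (a * b⁻¹) * t := by
        have e2 : a * (t * b * t) = b * (t * a * t) := by
          rw [h1 b hb a ha]
          calc _ = t * (t * (a * (t * b * t))) := by rw [← mul_assoc t t, tt, one_mul]
            _ = t * (a * (t * b * (t * t))) := by rw [← k2]; simp only [mul_assoc]
            _ = _ := by rw [tt, mul_one]; simp only [mul_assoc]
        calc _ = b⁻¹ * (a * (t * b * t)) * (t * b * t)⁻¹ := by group
          _ = t * a * (t * t⁻¹) * b⁻¹ * t⁻¹ := by rw [e2]; group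
          _ = _ := by rw [mul_inv_cancel, ti]; simp only [mul_assoc, one_mul]
      exact ⟨⟨a, ha⟩, by
        rw [inv_mul_eq_one.1 (h2 _ (mul_mem (inv_mem hb) ha) _ (mul_mem ha (inv_mem hb)) e1)]; rfl⟩
  have htA : t ∈ centralizer (A : Set G) := hC ▸ mem_zpowers t
  have h3 : ∀ a ∈ A, ∀ y ∈ φ.range, a * y * a⁻¹ ∈ φ.range := fun a ha y hy =>
    (hD _).2 ⟨hN.conj_mem _ ((hD y).1 hy).1 a, (Commute.mul_left (Commute.mul_left (htA a ha) ((hD y).1 hy).2)
      (Commute.inv_left (htA a ha))).eq⟩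
  have h4 : φ.range ≤ normalizer (A : Set G) := fun y hy => hA.centralizer_le ht htA (GW.mem_Cen.2 ((hD y).1 hy).2.symm)
  have h5 : ¬ ∀ a ∈ φ.range, ∀ b ∈ φ.range, a * b = b * a := fun h => hn ⟨⟨fun a b => hφ (by
    rw [map_mul, map_mul, h _ ⟨a, rfl⟩ _ ⟨b, rfl⟩])⟩⟩
  have h6 : φ.range ≤ A := by
    refine (simple_cases (MonoidHom.ofInjective hφ).symm.isSimpleGroup h4).resolve_left fun h => h5 fun a ha b hb => ?_
    have k : ∀ y ∈ φ.range, y ∈ zpowers t := fun y hy => hC ▸ fun a ha => (comm_of_com (h _ (by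
      rw [mul_assoc, mul_assoc]
      exact mul_mem hy (by simpa only [mul_assoc] using h3 a ha _ (inv_mem hy)))
      (mul_mem (conj_mem_of_norm (h4 hy) ha) (inv_mem ha)))).symm
    obtain ⟨i, rfl⟩ := k a ha
    obtain ⟨j, rfl⟩ := k b hb
    exact zpow_mul_comm t i j
  have h7 : A ≤ φ.range := by
    have : (φ.range.subgroupOf A).Normal := ⟨fun y hy a => h3 a a.2 y hy⟩
    refine subgroupOf_eq_top.1 ((hA.1.normal_eq_top_or_le_center _).resolve_right fun h => h5 fun a ha b hb => ?_)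
    exact congrArg Subtype.val (mem_center_iff.1 (h (show (⟨b, h6 hb⟩ : A) ∈ _ from hb)) ⟨a, h6 ha⟩)
  refine ⟨fun a ha => (h7 ha).elim fun k e => ⟨k, k.2, e⟩, fun k hk => h6 ⟨⟨k, hk⟩, rfl⟩, fun N hN' h => ?_⟩
  have h8 : X ≤ N := by
    refine (simple_cases hs le_normalizer_of_normal).resolve_left fun k => hn (mulComm_of fun a ha b hb =>
      comm_of_com (k _ (mul_mem (mul_mem (mul_mem ha hb) (inv_mem ha)) (inv_mem hb)) ?_))
    have h9 := h (h6 ⟨⟨a, ha⟩, rfl⟩)
    have h10 := mul_mem h9 (hN'.conj_mem _ (inv_mem h9) b)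
    change a * (t * a * t) * (b * (a * (t * a * t))⁻¹ * b⁻¹) ∈ N at h10
    rwa [show a * (t * a * t) * (b * (a * (t * a * t))⁻¹ * b⁻¹) = a * (t * a * t * b) * (t * a * t)⁻¹ * a⁻¹ * b⁻¹ by
      group, ← h1 b hb a ha, ← mul_assoc a, mul_inv_cancel_right] at h10
  exact hE ▸ sup_le h8 (cj_le_iff.2 fun a ha => hN'.conj_mem _ (h8 ha) t)

theorem exInv {K : Subgroup G} (h : Even (Nat.card K)) : ∃ u ∈ K, orderOf u = 2 := by
  obtain ⟨⟨u, hu⟩, e⟩ := exists_prime_orderOf_dvd_card' 2 (even_iff_two_dvd.1 h)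
  exact ⟨u, hu, by rwa [← orderOf_coe] at e⟩

theorem red0 (hO : oddCore G = ⊥) {A : Subgroup G} (hA : IsStandardSubgroup A) (hn : ¬ A.Normal) {t : G}
    (ht : orderOf t = 2) (htA : t ∈ 𝐂[A]) :
    normalClosure (A : Set G) = generalizedFittingSubgroup G ∧
      ((Nonempty (generalizedFittingSubgroup G ≃* A × A) ∧ 𝐂[A] = zpowers t) ∨
        (IsSimpleGroup (generalizedFittingSubgroup G) ∧ ¬ IsMulCommutative (generalizedFittingSubgroup G))) := by
  have t2 := sq_of ht
  have hE := GT.layer_normal (G := G)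
  have key : A ≤ layer G → generalizedFittingSubgroup G = layer G := fun hle => by
    have hC : 𝐂[layer G] = ⊥ := by
      have hN : (𝐂[layer G]).Normal := inferInstance
      by_cases ho : Odd (Nat.card 𝐂[layer G])
      · exact le_bot_iff.1 (hO ▸ GT.le_oddCore ho)
      · refine absurd (normal_of_top fun g _ => ?_) hn
        rw [hA.2.2.2]
        by_contra hg
        refine ho ((hA.2.1.2 g hg).of_dvd_nat (card_dvd_of_le (le_inf (cent_anti hle) fun u hu => ?_)))
        exact mem_cj.2 (cent_anti hle (hN.conj_mem' u hu g))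
    exact le_antisymm (GT.genFitting_le le_rfl
      (GT.fitting_le_centralizer_layer.trans (hC.le.trans bot_le))) GT.layer_le_genFitting
  rcases S1347.result A hA hO t ht htA with h | ⟨X, hX, hna, ⟨e⟩, hc, hd, hs, hC⟩ | ⟨h1, h2, h3⟩
  · exact absurd h hn
  · obtain ⟨d1, -, d3⟩ := diag hA ht hX hna hc hd hs hC
    have hle : A ≤ layer G := fun a ha => by
      obtain ⟨k, hk, rfl⟩ := d1 a ha
      have h1 : k ∈ layer G := hs ▸ mem_sup_left hk
      have h2 := hE.conj_mem k h1 t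
      rw [inv_eq_of_mul_eq_one_right t2] at h2
      exact mul_mem h1 h2
    obtain ⟨f⟩ := sup_equiv_prod (M := X) (L := cj(t, X))
      (fun b hb => mem_cent.2 fun a ha => hc a ha b hb) hd
    rw [key hle]
    exact ⟨le_antisymm (normalClosure_le_normal hle) (d3 _ inferInstance le_normalClosure),
      Or.inl ⟨⟨((MulEquiv.subgroupCongr hs.symm).trans f).trans
        (e.prodCongr ((equivMapOfInjective _ _ (cj_inj t)).symm.trans e))⟩, hC⟩⟩
  · rw [key h1]
    refine ⟨le_antisymm (normalClosure_le_normal h1) ?_, Or.inr ⟨h2, h3⟩⟩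
    rcases (inferInstance : ((normalClosure (A : Set G)).subgroupOf (layer G)).Normal).eq_bot_or_eq_top
      with h | h
    · rw [subgroupOf_eq_bot, disjoint_iff] at h
      exact absurd (le_bot_iff.1 (h ▸ le_inf le_normalClosure h1)) hA.1.ne_bot
    · exact subgroupOf_eq_top.1 h

end Cfsg.Agent.L3S.Red0
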